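import Groth.Prelude.Def_FlatMod2
import Groth.Agent.Lib.lead.SheafModRestrict
import Mathlib
set_option backward.isDefEq.respectTransparency.types false
set_option autoImplicit false
universe u
open AlgebraicGeometry CategoryTheory Opposite TopologicalSpace CategoryTheory.Limits

namespace Groth.Agent.Lib.Helper17.StalkExact

variable {X : Scheme.{u}}

/-- The stalk functor on `O_X`-modules with values in abelian groups. -/
noncomputable def stalkFunctor (x : X) : X.Modules ⥤ Ab.{u} :=
  SheafOfModules.toSheaf.{u} X.ringCatSheaf ⋙ (TopCat.Sheaf.forget Ab.{u} X.toTopCat ⋙ TopCat.Presheaf.stalkFunctor Ab.{u} x)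

theorem stalkFunctor_obj (x : X) (F : X.Modules) : (stalkFunctor x).obj F = F.presheaf.stalk x := rfl

instance toSheaf_preservesFiniteColimits : PreservesFiniteColimits (SheafOfModules.toSheaf.{u} X.ringCatSheaf) := by
  constructor
  intro J _ _
  haveI := Groth.Agent.Lib.lead.SheafModRestrict.toSheaf_preservesColimitsOfShape X.ringCatSheaf
    (ULiftHom.{u} (ULift.{u} J))
  exact preservesColimitsOfShape_of_equiv (ULiftHomULiftCategory.equiv.{u, u} J).symm _

instance (x : X) : PreservesFiniteLimits (stalkFunctor (X := X) x) := by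
  unfold stalkFunctor
  haveI h1 : PreservesFiniteLimits (SheafOfModules.toSheaf.{u} X.ringCatSheaf) := inferInstance
  haveI h2 : PreservesFiniteLimits (TopCat.Sheaf.forget Ab.{u} X.toTopCat ⋙ TopCat.Presheaf.stalkFunctor Ab.{u} x) := inferInstance
  exact @comp_preservesFiniteLimits _ _ _ _ _ _ _ _ h1 h2

instance (x : X) : PreservesFiniteColimits (stalkFunctor (X := X) x) := by
  unfold stalkFunctor
  haveI h1 : PreservesFiniteColimits (SheafOfModules.toSheaf.{u} X.ringCatSheaf) := toSheaf_preservesFiniteColimits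
  haveI h2 : PreservesFiniteColimits (TopCat.Sheaf.forget Ab.{u} X.toTopCat ⋙ TopCat.Presheaf.stalkFunctor Ab.{u} x) := inferInstance
  exact @comp_preservesFiniteColimits _ _ _ _ _ _ _ _ h1 h2

instance (x : X) : (stalkFunctor (X := X) x).Additive := by
  unfold stalkFunctor
  haveI h1 : (SheafOfModules.toSheaf.{u} X.ringCatSheaf).Additive := inferInstance
  haveI h2 : (TopCat.Sheaf.forget Ab.{u} X.toTopCat ⋙ TopCat.Presheaf.stalkFunctor Ab.{u} x).Additive := inferInstance
  exact ⟨fun {A B f g} => by
    have e1 : (SheafOfModules.toSheaf.{u} X.ringCatSheaf).map (f + g) =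
      (SheafOfModules.toSheaf.{u} X.ringCatSheaf).map f + (SheafOfModules.toSheaf.{u} X.ringCatSheaf).map g :=
      h1.map_add
    change (TopCat.Sheaf.forget Ab.{u} X.toTopCat ⋙ TopCat.Presheaf.stalkFunctor Ab.{u} x).map
      ((SheafOfModules.toSheaf.{u} X.ringCatSheaf).map (f + g)) = _
    rw [e1]
    exact h2.map_add⟩

variable {F G : X.Modules}

/-- the stalk map of a morphism of modules, as a map of abelian groups -/
noncomputable def stalkHom (φ : F ⟶ G) (x : X) : F.presheaf.stalk x →+ G.presheaf.stalk x :=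
  ((stalkFunctor x).map φ).hom

theorem stalkHom_germ (φ : F ⟶ G) (x : X) (U : X.Opens) (hx : x ∈ U) (m : Γ(F, U)) :
    stalkHom φ x (F.presheaf.germ U x hx m) = G.presheaf.germ U x hx (φ.app U m) := by
  exact TopCat.Presheaf.stalkFunctor_map_germ_apply U x hx
    ((SheafOfModules.toSheaf.{u} X.ringCatSheaf).map φ).hom m

theorem germ_smul' (F : X.Modules) (U : X.Opens) (x : X) (hx : x ∈ U) (r : Γ(X, U)) (m : Γ(F, U)) :
    F.presheaf.germ U x hx (r • m) = X.presheaf.germ U x hx r • F.presheaf.germ U x hx m :=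
  PresheafOfModules.germ_smul (R := X.presheaf) F.val x U hx r m

theorem stalkHom_smul (φ : F ⟶ G) (x : X) (a : X.presheaf.stalk x) (n : F.presheaf.stalk x) :
    stalkHom φ x (a • n) = a • stalkHom φ x n := by
  obtain ⟨U, hxU, r, rfl⟩ := TopCat.Presheaf.exists_germ_eq X.presheaf a
  obtain ⟨V, hxV, m, rfl⟩ := TopCat.Presheaf.exists_germ_eq F.presheaf n
  have hW : x ∈ U ⊓ V := ⟨hxU, hxV⟩
  have h1 : X.presheaf.germ U x hxU r = X.presheaf.germ (U ⊓ V) x hW (X.presheaf.map (homOfLE inf_le_left).op r) :=
    (TopCat.Presheaf.germ_res_apply X.presheaf (homOfLE inf_le_left) x hW r).symm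
  have h2 : F.presheaf.germ V x hxV m = F.presheaf.germ (U ⊓ V) x hW (F.presheaf.map (homOfLE inf_le_right).op m) :=
    (TopCat.Presheaf.germ_res_apply F.presheaf (homOfLE inf_le_right) x hW m).symm
  rw [h1, h2]
  rw [← germ_smul', stalkHom_germ, stalkHom_germ, ← germ_smul']
  congr 1
  exact (φ.val.app (op (U ⊓ V))).hom.map_smul _ _

/-- the stalk map of a morphism of modules, as an `O_{X,x}`-linear map -/
noncomputable def stalkLinearMap (φ : F ⟶ G) (x : X) : F.presheaf.stalk x →ₗ[X.presheaf.stalk x] G.presheaf.stalk x :=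
  { stalkHom φ x with
    map_smul' := fun a n => stalkHom_smul φ x a n }

theorem stalkHom_injective_of_mono (φ : F ⟶ G) [Mono φ] (x : X) : Function.Injective (stalkHom φ x) := by
  haveI : Mono ((stalkFunctor x).map φ) := inferInstance
  exact (AddCommGrpCat.mono_iff_injective _).1 this

theorem stalkHom_surjective_of_epi (φ : F ⟶ G) [Epi φ] (x : X) : Function.Surjective (stalkHom φ x) := by
  haveI : Epi ((stalkFunctor x).map φ) := inferInstance
  exact (AddCommGrpCat.epi_iff_surjective _).1 this

theorem stalkHom_exact_of_exact (S : ShortComplex X.Modules) (hS : S.Exact) (x : X) :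
    Function.Exact (stalkHom S.f x) (stalkHom S.g x) := by
  have h := (hS.map (stalkFunctor x))
  exact (ShortComplex.ab_exact_iff_function_exact _).1 h

/-- the stalk map as a linear map over the local ring of the base -/
noncomputable def stalkLinearOver {Y : Scheme.{u}} (f : X ⟶ Y) (φ : F ⟶ G) (x : X) :
    letI := FlatMod.moduleStalkOver f F x
    letI := FlatMod.moduleStalkOver f G x
    F.presheaf.stalk x →ₗ[Y.presheaf.stalk (f x)] G.presheaf.stalk x :=
  letI := FlatMod.moduleStalkOver f F x
  letI := FlatMod.moduleStalkOver f G x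
  { stalkHom φ x with
    map_smul' := fun a n => stalkHom_smul φ x ((f.stalkMap x).hom a) n }

end Groth.Agent.Lib.Helper17.StalkExact
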