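import Groth.Agent.Lib.Helper17.FinTypeConv
import Groth.Agent.Lib.Helper29.QCohExact
import Mathlib
set_option backward.isDefEq.respectTransparency.types false
set_option autoImplicit false
universe u
open CategoryTheory CategoryTheory.Limits AlgebraicGeometry Opposite TopologicalSpace

namespace Groth.Agent.Lib.Helper17.CohKer

open Groth.Agent.Lib.Helper28.QCohLoc Groth.Agent.Lib.Helper28.FinType Groth.Agent.Lib.Helper29.QCohStalk
open Groth.Agent.Lib.Helper17.FinTypeConv

section spec
variable {R : CommRingCat.{u}}

/-- on an affine scheme the cokernel of a morphism of quasi-coherent modules is quasi-coherent -/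
theorem isQuasicoherent_cokernel_spec {F G : (Spec R).Modules} [F.IsQuasicoherent] [G.IsQuasicoherent]
    (φ : F ⟶ G) : (cokernel φ).IsQuasicoherent := by
  let eF := asIso F.fromTildeΓ
  let eG := asIso G.fromTildeΓ
  let a := (tilde.functor R).preimage (eF.hom ≫ φ ≫ eG.inv)
  let iso : cokernel ((tilde.functor R).map a) ≅ cokernel φ :=
    cokernel.mapIso _ _ eF eG (by
      change (tilde.functor R).map a ≫ eG.hom = eF.hom ≫ φ
      rw [Functor.map_preimage]
      simp
      rfl)
  rw [isQuasicoherent_iff_isIso_fromTildeΓ, isIso_fromTildeΓ_iff]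
  exact ⟨cokernel a, ⟨PreservesCokernel.iso (tilde.functor R) a ≪≫ iso⟩⟩

end spec

variable {X : Scheme.{u}}

/-- quasi-coherence can be checked after restriction to the spectra of the members of an affine open cover -/
theorem isQuasicoherent_of_restrict_fromSpec (M : X.Modules) {ι : Type u} (U : ι → X.Opens) (hcov : IsOpenCover U)
    (hU : ∀ i, IsAffineOpen (U i)) (h : ∀ i, (M.restrict (hU i).fromSpec).IsQuasicoherent) :
    M.IsQuasicoherent := by
  refine isQuasicoherent_of_presentation_cover M U hcov fun i => ?_
  haveI := h i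
  exact presentationOfFromSpec M (hU i) (presentationOfIsIsoFromTildeΓ _ inferInstance)

/-- the cokernel of a morphism of quasi-coherent modules is quasi-coherent -/
theorem isQuasicoherent_cokernel {F G : X.Modules} [F.IsQuasicoherent] [G.IsQuasicoherent] (φ : F ⟶ G) :
    (cokernel φ).IsQuasicoherent := by
  refine isQuasicoherent_of_restrict_fromSpec _ (fun U : X.affineOpens => U.1) (iSup_affineOpens_eq_top X)
    (fun U => U.2) (fun U => ?_)
  let Rj := Scheme.Modules.restrictFunctor U.2.fromSpec
  haveI : PreservesColimitsOfSize.{u, u} Rj := inferInstance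
  haveI : (Rj.obj F).IsQuasicoherent := inferInstance
  haveI : (Rj.obj G).IsQuasicoherent := inferInstance
  haveI := isQuasicoherent_cokernel_spec (Rj.map φ)
  exact (SheafOfModules.isQuasicoherent.{u} (Spec Γ(X, U.1)).ringCatSheaf).prop_of_iso
    (PreservesCokernel.iso Rj φ).symm (isQuasicoherent_cokernel_spec (Rj.map φ))

/-- left exactness of sections: a section killed by `φ` comes from the kernel -/
theorem exists_kernel_app_eq {F G : X.Modules} (φ : F ⟶ G) (U : X.Opens) (y : Γ(F, U))
    (hy : φ.app U y = 0) : ∃ k : Γ(kernel φ, U), (kernel.ι φ).app U k = y := by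
  let S : ShortComplex (SheafOfModules.{u} X.ringCatSheaf) := ShortComplex.mk (kernel.ι φ) φ (kernel.condition φ)
  have hS : S.Exact := ShortComplex.exact_of_f_is_kernel _ (kernelIsKernel φ)
  haveI : (SheafOfModules.evaluation.{u} X.ringCatSheaf (op U)).PreservesZeroMorphisms :=
    ⟨fun _ _ => rfl⟩
  haveI : Mono S.f := inferInstanceAs (Mono (kernel.ι φ))
  have hex := hS.map_of_mono_of_preservesKernel
    (SheafOfModules.evaluation.{u} X.ringCatSheaf (op U)) inferInstance inferInstance
  rw [ShortComplex.moduleCat_exact_iff] at hex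
  exact hex y hy

theorem kernel_ι_app_injective {F G : X.Modules} (φ : F ⟶ G) (U : X.Opens) :
    Function.Injective ((kernel.ι φ).app U) :=
  injective_app_of_mono _ inferInstance U

theorem app_kernel_ι_app {F G : X.Modules} (φ : F ⟶ G) (U : X.Opens) (k : Γ(kernel φ, U)) :
    φ.app U ((kernel.ι φ).app U k) = 0 := by
  have h := congrArg (fun ψ : (kernel φ ⟶ G) => ψ.app U k) (kernel.condition φ)
  exact h

/-- the kernel of a morphism of modules with the localization property has it -/
theorem isLocOn_kernel {F G : X.Modules} (φ : F ⟶ G) {U : X.Opens} (hF : IsLocOn F U) (hG : IsLocOn G U) :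
    IsLocOn (kernel φ) U := by
  refine ⟨fun r y => ?_, fun r x hx => ?_⟩
  · -- surjectivity
    obtain ⟨n, x, hx⟩ := hF.surj r ((kernel.ι φ).app _ y)
    -- φ x restricts to zero
    have h1 : res G (X.basicOpen_le r) (φ.app U x) = 0 := by
      rw [← app_res, ← hx, Scheme.Modules.Hom.app_smul, app_kernel_ι_app, smul_zero]
    obtain ⟨m, hm⟩ := hG.inj r _ h1
    have h2 : φ.app U (r ^ m • x) = 0 := by rw [Scheme.Modules.Hom.app_smul, hm]
    obtain ⟨k, hk⟩ := exists_kernel_app_eq φ U _ h2
    refine ⟨m + n, k, ?_⟩
    apply kernel_ι_app_injective φ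
    rw [app_res, hk, res_smul, ← hx, Scheme.Modules.Hom.app_smul, resO_pow, pow_add, mul_smul]
  · have h1 : res F (X.basicOpen_le r) ((kernel.ι φ).app U x) = 0 := by
      rw [← app_res, hx, map_zero]
    obtain ⟨n, hn⟩ := hF.inj r _ h1
    refine ⟨n, ?_⟩
    apply kernel_ι_app_injective φ
    rw [Scheme.Modules.Hom.app_smul, hn, map_zero]

/-- the kernel of a morphism of quasi-coherent modules is quasi-coherent -/
theorem isQuasicoherent_kernel {F G : X.Modules} [F.IsQuasicoherent] [G.IsQuasicoherent] (φ : F ⟶ G) :
    (kernel φ).IsQuasicoherent :=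
  isQuasicoherent_of_forall_isLocOn _ fun U =>
    isLocOn_kernel φ (isLocOn_of_isQuasicoherent F U.2) (isLocOn_of_isQuasicoherent G U.2)

/-- a quotient of a module of finite type is of finite type -/
theorem isFiniteType_of_epi {M N : X.Modules} (p : M ⟶ N) [Epi p]
    [SheafOfModules.IsFiniteType.{u} (R := X.ringCatSheaf) M] :
    SheafOfModules.IsFiniteType.{u} (R := X.ringCatSheaf) N := by
  obtain ⟨ι, U, σ, hσ, hcov, hU⟩ := exists_isOpenCover_generatingSections M
  have hepi : ∀ i, Epi ((Scheme.Modules.restrictFunctor (U i).ι).map p) := fun i => by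
    haveI : PreservesColimitsOfSize.{u, u} (Scheme.Modules.restrictFunctor (U i).ι) := inferInstance
    haveI : (Scheme.Modules.restrictFunctor (U i).ι).PreservesEpimorphisms :=
      preservesEpimorphisms_of_preservesColimitsOfShape _
    infer_instance
  refine isFiniteType_of_generatingSections_cover N U hcov
    (fun i => @SheafOfModules.GeneratingSections.ofEpi _ _ _ _ _ _ _ _ (σ i) ((Scheme.Modules.restrictFunctor (U i).ι).map p) (hepi i)) ?_
  intro i
  haveI := hσ i
  haveI := hepi i
  infer_instance

/-- the cokernel of a morphism of coherent modules is coherent -/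
theorem isFiniteType_cokernel {F G : X.Modules} (φ : F ⟶ G)
    [SheafOfModules.IsFiniteType.{u} (R := X.ringCatSheaf) G] :
    SheafOfModules.IsFiniteType.{u} (R := X.ringCatSheaf) (cokernel φ) := by
  have h : Epi (cokernel.π φ) := coequalizer.π_epi
  exact @isFiniteType_of_epi _ _ _ (cokernel.π φ) h _

/-- a quasi-coherent submodule of a coherent module on a locally Noetherian scheme is of finite type -/
theorem isFiniteType_of_mono [IsLocallyNoetherian X] {K F : X.Modules} (ι : K ⟶ F) [Mono ι]
    [K.IsQuasicoherent] [F.IsQuasicoherent] [SheafOfModules.IsFiniteType.{u} (R := X.ringCatSheaf) F] :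
    SheafOfModules.IsFiniteType.{u} (R := X.ringCatSheaf) K := by
  refine isFiniteType_of_forall_finite_sections K fun U => ?_
  haveI : IsNoetherianRing Γ(X, U.1) := IsLocallyNoetherian.component_noetherian U
  haveI : Module.Finite Γ(X, U.1) Γ(F, U.1) := finite_of_isAffineOpen F U.2
  let ℓ : Γ(K, U.1) →ₗ[Γ(X, U.1)] Γ(F, U.1) :=
    { toFun := fun k => ι.app U.1 k
      map_add' := fun a b => map_add _ a b
      map_smul' := fun r a => Scheme.Modules.Hom.app_smul ι r a }
  exact Module.Finite.of_injective ℓ (injective_app_of_mono ι inferInstance U.1)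

/-- on a locally Noetherian scheme the kernel of a morphism of coherent modules is coherent -/
theorem isFiniteType_kernel [IsLocallyNoetherian X] {F G : X.Modules} (φ : F ⟶ G)
    [F.IsQuasicoherent] [G.IsQuasicoherent] [SheafOfModules.IsFiniteType.{u} (R := X.ringCatSheaf) F] :
    SheafOfModules.IsFiniteType.{u} (R := X.ringCatSheaf) (kernel φ) := by
  haveI := isQuasicoherent_kernel φ
  have h : Mono (kernel.ι φ) := equalizer.ι_mono
  exact @isFiniteType_of_mono _ _ _ _ (kernel.ι φ) h (isQuasicoherent_kernel φ) _ _

end Groth.Agent.Lib.Helper17.CohKer
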