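import Groth.Agent.Lib.Helper28.FinType
import Groth.Agent.Lib.Helper28.QCohGen
import Mathlib
set_option backward.isDefEq.respectTransparency.types false
set_option autoImplicit false
universe u
open CategoryTheory CategoryTheory.Limits AlgebraicGeometry Opposite TopologicalSpace

namespace Groth.Agent.Lib.Helper17.FinTypeConv

open Groth.Agent.Lib.Helper28.QCohLoc

variable {X : Scheme.{u}} (M : X.Modules)

open Scheme.Modules in
/-- from generating sections of the restriction `M|_U` to generating sections of `M.over U` -/
noncomputable def generatingSectionsOver (U : X.Opens) (G : (M.restrict U.ι).GeneratingSections) :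
    (SheafOfModules.over M U).GeneratingSections :=
  let e := overEquiv U
  let iso2 : e.inverse.obj (M.restrict U.ι) ≅ SheafOfModules.over M U :=
    e.inverse.mapIso ((overFunctorEquiv U).app M).symm ≪≫ (e.unitIso.app (SheafOfModules.over M U)).symm
  (G.map e.inverse (U.sheafOfModulesEquivOverInverseUnit X.ringCatSheaf).symm).ofEpi iso2.hom

instance (U : X.Opens) (G : (M.restrict U.ι).GeneratingSections) [G.IsFiniteType] :
    (generatingSectionsOver M U G).IsFiniteType := by
  unfold generatingSectionsOver
  infer_instance

/-- A module whose restrictions to the members of an open cover have finite generating sections is of finite type. -/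
theorem isFiniteType_of_generatingSections_cover {ι : Type u} (U : ι → X.Opens) (hcov : IsOpenCover U)
    (G : ∀ i, (M.restrict (U i).ι).GeneratingSections) (hG : ∀ i, (G i).IsFiniteType) :
    SheafOfModules.IsFiniteType.{u} (R := X.ringCatSheaf) M := by
  let q : SheafOfModules.LocalGeneratorsData.{u} M :=
    { I := ι
      X := U
      coversTop := by rw [Opens.coversTop_iff]; exact hcov
      generators := fun i => generatingSectionsOver M (U i) (G i) }
  have hq : q.IsFiniteType := by
    refine @SheafOfModules.LocalGeneratorsData.IsFiniteType.mk _ _ _ _ _ _ _ q (fun (i : ι) => ?_)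
    haveI := hG i
    exact inferInstanceAs (generatingSectionsOver M (U i) (G i)).IsFiniteType
  constructor
  exact ⟨q, hq⟩

section generate

variable {M}

/-- the morphism from a free module given by a family of global sections -/
noncomputable def fromFreeFamily (F : X.Modules) {J : Type u} (m : J → F.val.obj (op ⊤)) :
    (SheafOfModules.free J : X.Modules) ⟶ F :=
  (SheafOfModules.freeHomEquiv _).symm (fun j => globalSection F (m j))

theorem globalSection_val (F : X.Modules) (m : F.val.obj (op ⊤)) (V : X.Opens) :
    (globalSection F m).1 (op V) = F.val.map (homOfLE (le_top : V ≤ ⊤)).op m := rfl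

/-- On a quasi-affine scheme, a family of global sections spanning `Γ(F, ⊤)` generates the quasi-coherent module `F`. -/
theorem epi_fromFreeFamily [X.IsQuasiAffine] (F : X.Modules) [F.IsQuasicoherent] {J : Type u}
    (m : J → F.val.obj (op ⊤)) (hm : Submodule.span (X.ringCatSheaf.obj.obj (op ⊤)) (Set.range m) = ⊤) :
    Epi (fromFreeFamily F m) := by
  haveI hall := epi_fromFree_of_isQuasiAffine F
  apply Preadditive.epi_of_cancel_zero
  intro C g hg
  -- g kills the m j on global sections
  have h1 : ∀ j, g.val.app (op ⊤) (m j) = 0 := by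
    intro j
    have h2 : SheafOfModules.freeHomEquiv C (fromFreeFamily F m ≫ g) j = SheafOfModules.freeHomEquiv C 0 j := by
      rw [hg]
    rw [SheafOfModules.freeHomEquiv_comp_apply] at h2
    have h3 := congrArg (fun s : C.sections => s.1 (op ⊤)) h2
    have h4 : SheafOfModules.freeHomEquiv F (fromFreeFamily F m) j = globalSection F (m j) := by
      unfold fromFreeFamily
      rw [Equiv.apply_symm_apply]
    rw [h4] at h3
    have h5 : (globalSection F (m j)).1 (op ⊤) = m j := by
      rw [globalSection_val]
      have : (homOfLE (le_top : (⊤ : X.Opens) ≤ ⊤)).op = 𝟙 (op (⊤ : X.Opens)) := rfl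
      rw [this, F.val.map_id]
      rfl
    have h6 : (SheafOfModules.sectionsMap g (globalSection F (m j))).1 (op ⊤) =
        g.val.app (op ⊤) ((globalSection F (m j)).1 (op ⊤)) := rfl
    have h7 : (SheafOfModules.freeHomEquiv C (0 : (SheafOfModules.free J : X.Modules) ⟶ C) j).1 (op ⊤) = 0 := by
      change (C.unitHomEquiv (SheafOfModules.ιFree j ≫ 0)).1 (op ⊤) = 0
      rw [Limits.comp_zero]
      rfl
    change (SheafOfModules.sectionsMap g (globalSection F (m j))).1 (op ⊤) = _ at h3
    rw [h6, h5] at h3
    rw [h3]
    exact h7
  -- hence g vanishes on all global sections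
  have h2 : ∀ x : F.val.obj (op ⊤), g.val.app (op ⊤) x = 0 := by
    intro x
    have hx : x ∈ Submodule.span (X.ringCatSheaf.obj.obj (op ⊤)) (Set.range m) := by rw [hm]; trivial
    induction hx using Submodule.span_induction with
    | mem y hy => obtain ⟨j, rfl⟩ := hy; exact h1 j
    | zero => exact map_zero _
    | add a b _ _ ha hb => rw [map_add, ha, hb, add_zero]
    | smul c a _ ha => rw [(g.val.app (op ⊤)).hom.map_smul, ha, smul_zero]
  -- so the composite with the map from all global sections vanishes
  have h3 : fromFree F ≫ g = 0 := by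
    apply (SheafOfModules.freeHomEquiv C).injective
    funext x
    rw [SheafOfModules.freeHomEquiv_comp_apply]
    have h4 : SheafOfModules.freeHomEquiv F (fromFree F) x = globalSection F x := by
      unfold fromFree
      rw [Equiv.apply_symm_apply]
    rw [h4]
    apply Subtype.ext
    funext V
    change g.val.app V ((globalSection F x).1 V) = (C.unitHomEquiv (SheafOfModules.ιFree x ≫ 0)).1 V
    rw [Limits.comp_zero]
    have h5 : (globalSection F x).1 V = F.val.map (homOfLE (le_top : V.unop ≤ ⊤)).op x := rfl
    rw [h5]
    have hnat := congrArg (fun φ => φ x) (g.val.naturality (homOfLE (le_top : V.unop ≤ ⊤)).op)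
    have h6 : g.val.app V (F.val.map (homOfLE (le_top : V.unop ≤ ⊤)).op x) =
        C.val.map (homOfLE (le_top : V.unop ≤ ⊤)).op (g.val.app (op ⊤) x) := hnat
    rw [h6, h2 x, map_zero]
    rfl
  exact (cancel_epi (fromFree F)).1 (h3.trans Limits.comp_zero.symm)

/-- finite global generation on a quasi-affine scheme -/
theorem exists_generatingSections_of_finite [X.IsQuasiAffine] (F : X.Modules) [F.IsQuasicoherent]
    (hfin : Module.Finite (X.ringCatSheaf.obj.obj (op ⊤)) (F.val.obj (op ⊤))) :
    ∃ G : F.GeneratingSections, G.IsFiniteType := by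
  obtain ⟨s, hs⟩ := hfin.fg_top
  let J : Type u := ↥s
  let m : J → F.val.obj (op ⊤) := Subtype.val
  have hm : Submodule.span (X.ringCatSheaf.obj.obj (op ⊤)) (Set.range m) = ⊤ := by
    rw [Subtype.range_val]
    exact hs
  refine ⟨{ I := J, s := fun j => globalSection F (m j), epi := epi_fromFreeFamily F m hm }, ⟨?_⟩⟩
  exact inferInstanceAs (Finite ↥s)

end generate

section restrict

/-- finite generation of sections over an affine open gives finite generating sections of the restriction -/
theorem exists_generatingSections_restrict [M.IsQuasicoherent] {U : X.Opens} (hU : IsAffineOpen U)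
    (hfin : Module.Finite Γ(X, U) Γ(M, U)) :
    ∃ G : (M.restrict U.ι).GeneratingSections, G.IsFiniteType := by
  haveI : IsAffine (U : Scheme.{u}) := hU
  haveI : (M.restrict U.ι).IsQuasicoherent := inferInstance
  apply exists_generatingSections_of_finite (X := (U : Scheme.{u})) (M.restrict U.ι)
  -- transport finiteness
  have e : U.ι ''ᵁ ⊤ = U := by simp
  have hfin' : Module.Finite Γ(X, U.ι ''ᵁ ⊤) Γ(M, U.ι ''ᵁ ⊤) :=
    Groth.Agent.Lib.Helper28.FinType.finite_congr e.symm hfin
  obtain ⟨s, hs⟩ := hfin'.fg_top
  let toN : Γ(M, U.ι ''ᵁ ⊤) → (M.restrict U.ι).val.obj (op ⊤) := fun a => a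
  have key : ∀ a : Γ(M, U.ι ''ᵁ ⊤), toN a ∈
      Submodule.span ((U : Scheme.{u}).ringCatSheaf.obj.obj (op ⊤)) (toN '' (s : Set Γ(M, U.ι ''ᵁ ⊤))) := by
    intro a
    have hx : a ∈ Submodule.span Γ(X, U.ι ''ᵁ ⊤) (s : Set Γ(M, U.ι ''ᵁ ⊤)) := by
      rw [hs]; trivial
    induction hx using Submodule.span_induction with
    | mem y hy => exact Submodule.subset_span ⟨y, hy, rfl⟩
    | zero => exact zero_mem _
    | add a b _ _ ha hb => exact add_mem ha hb
    | smul c a _ ha =>
      have := Submodule.smul_mem _ (show ((U : Scheme.{u}).ringCatSheaf.obj.obj (op ⊤)) from c) ha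
      have hsm : toN (c • a) =
          ((show ((U : Scheme.{u}).ringCatSheaf.obj.obj (op ⊤)) from c) • toN a) := by
        change c • a = ((U.ι.appIso ⊤).inv c) • a
        rw [Scheme.Opens.ι_appIso]
        rfl
      rw [hsm]
      exact this
  classical
  refine ⟨⟨s.image toN, ?_⟩⟩
  rw [eq_top_iff]
  intro x _
  have := key x
  rw [Finset.coe_image]
  exact this

/-- **Converse finite type dictionary**: a quasi-coherent module whose sections over the members of an affine open
cover are finitely generated is of finite type. -/
theorem isFiniteType_of_finite_sections [M.IsQuasicoherent] {ι : Type u} (U : ι → X.Opens) (hcov : IsOpenCover U)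
    (hU : ∀ i, IsAffineOpen (U i)) (hfin : ∀ i, Module.Finite Γ(X, U i) Γ(M, U i)) :
    SheafOfModules.IsFiniteType.{u} (R := X.ringCatSheaf) M := by
  choose G hG using fun i => exists_generatingSections_restrict M (hU i) (hfin i)
  exact isFiniteType_of_generatingSections_cover M U hcov G hG

/-- version with all affine opens -/
theorem isFiniteType_of_forall_finite_sections [M.IsQuasicoherent]
    (hfin : ∀ U : X.affineOpens, Module.Finite Γ(X, U.1) Γ(M, U.1)) :
    SheafOfModules.IsFiniteType.{u} (R := X.ringCatSheaf) M := by
  refine isFiniteType_of_finite_sections M (fun U : X.affineOpens => U.1) ?_ (fun U => U.2) hfin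
  exact iSup_affineOpens_eq_top X

end restrict

end Groth.Agent.Lib.Helper17.FinTypeConv
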