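import Groth.Agent.S2265
import Groth.Agent.Lib.Helper28.QCohLoc
import Groth.Agent.Lib.Helper28.QCohGlobal
import Groth.Agent.Lib.Helper28.QCohConv
import Mathlib
set_option backward.isDefEq.respectTransparency.types false
set_option autoImplicit false
universe u
open AlgebraicGeometry CategoryTheory Opposite TopologicalSpace TensorProduct CategoryTheory.Limits

namespace Groth.Agent.Lib.Helper17.ModPullback

open Scheme.Modules

variable {X Y : Scheme.{u}}

/-- Pullback commutes with restriction to affine charts. -/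
noncomputable def pullbackFromSpecIso (f : X ⟶ Y) {U : X.Opens} (hU : IsAffineOpen U)
    {V : Y.Opens} (hV : IsAffineOpen V) (e : U ≤ f ⁻¹ᵁ V) :
    Scheme.Modules.pullback f ⋙ restrictFunctor hU.fromSpec ≅
      restrictFunctor hV.fromSpec ⋙ Scheme.Modules.pullback (Spec.map (f.appLE V U e)) :=
  Functor.isoWhiskerLeft _ (restrictFunctorIsoPullback _) ≪≫ pullbackComp _ _ ≪≫
    pullbackCongr (hV.SpecMap_appLE_fromSpec f hU e).symm ≪≫ (pullbackComp _ _).symm ≪≫
    Functor.isoWhiskerRight (restrictFunctorIsoPullback _).symm _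

theorem fromSpec_image_top {U : X.Opens} (hU : IsAffineOpen U) : hU.fromSpec ''ᵁ ⊤ = U := by
  rw [Scheme.Hom.image_top_eq_opensRange, hU.opensRange_fromSpec]

theorem smul_map_eqToHom (M : X.Modules) {W U : X.Opens} (e : W = U) (h : W ≤ U) (i : op W ⟶ op U)
    (a : Γ(X, U)) (y : Γ(M, W)) :
    M.presheaf.map i ((X.presheaf.map (homOfLE h).op a) • y) = a • M.presheaf.map i y := by
  subst e
  have h1 : X.presheaf.map (homOfLE h).op = 𝟙 _ := X.presheaf.map_id _
  have h2 : M.presheaf.map i = 𝟙 _ := by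
    rw [Subsingleton.elim i (𝟙 _)]; exact M.presheaf.map_id _
  rw [h1, h2]
  rfl

/-- Global sections of the restriction of `M` to the affine chart `Spec Γ(X,U)`, as a `Γ(X,U)`-module,
are `Γ(M, U)`. -/
noncomputable def sectionsRestrictEquiv (M : X.Modules) {U : X.Opens} (hU : IsAffineOpen U) :
    (moduleSpecΓFunctor.obj (M.restrict hU.fromSpec)) ≃ₗ[Γ(X, U)] Γ(M, U) :=
  let φ : Γ(M, hU.fromSpec ''ᵁ ⊤) ≃+ Γ(M, U) :=
    (M.presheaf.mapIso (eqToIso (congrArg op (fromSpec_image_top hU)))).addCommGroupIsoToAddEquiv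
  { toFun := fun y => φ y
    invFun := fun y => φ.symm y
    map_add' := fun x y => φ.map_add x y
    map_smul' := fun a y => by
      have h3 := Groth.Agent.Lib.Helper28.QCohLoc.smul_restrict_eq M hU ⊤
        (Groth.Agent.Lib.Helper28.QCohLoc.image_le hU ⊤) a y
      simp only [RingHom.id_apply]
      refine (congrArg φ h3).trans ?_
      exact smul_map_eqToHom M (fromSpec_image_top hU) (Groth.Agent.Lib.Helper28.QCohLoc.image_le hU ⊤) _ a _
    left_inv := fun y => φ.symm_apply_apply y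
    right_inv := fun y => φ.apply_symm_apply y }

/-- The module of global sections on the chart of `V`, as a sheaf iso. -/
noncomputable def restrictIsoTilde (G : Y.Modules) [G.IsQuasicoherent] {V : Y.Opens} (hV : IsAffineOpen V) :
    G.restrict hV.fromSpec ≅ tilde (moduleSpecΓFunctor.obj (G.restrict hV.fromSpec)) :=
  (asIso (G.restrict hV.fromSpec).fromTildeΓ).symm

/-- Main iso on the level of sheaves on `Spec Γ(X,U)`. -/
noncomputable def pullbackRestrictIsoTilde (f : X ⟶ Y) (G : Y.Modules) [G.IsQuasicoherent]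
    {U : X.Opens} (hU : IsAffineOpen U) {V : Y.Opens} (hV : IsAffineOpen V) (e : U ≤ f ⁻¹ᵁ V) :
    ((Scheme.Modules.pullback f).obj G).restrict hU.fromSpec ≅
      tilde ((ModuleCat.extendScalars.{u, u, u} (f.appLE V U e).hom).obj
        (moduleSpecΓFunctor.obj (G.restrict hV.fromSpec))) :=
  (pullbackFromSpecIso f hU hV e).app G ≪≫
    (Scheme.Modules.pullback (Spec.map (f.appLE V U e))).mapIso (restrictIsoTilde G hV) ≪≫
    (Groth.Agent.S2265.leftIso (f.appLE V U e)).app _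


/-- Sections over `⊤` of the previous iso. -/
noncomputable def pullbackSectionsIso (f : X ⟶ Y) (G : Y.Modules) [G.IsQuasicoherent]
    {U : X.Opens} (hU : IsAffineOpen U) {V : Y.Opens} (hV : IsAffineOpen V) (e : U ≤ f ⁻¹ᵁ V) :
    moduleSpecΓFunctor.obj (((Scheme.Modules.pullback f).obj G).restrict hU.fromSpec) ≅
      (ModuleCat.extendScalars.{u, u, u} (f.appLE V U e).hom).obj
        (moduleSpecΓFunctor.obj (G.restrict hV.fromSpec)) :=
  moduleSpecΓFunctor.mapIso (pullbackRestrictIsoTilde f G hU hV e) ≪≫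
    (tilde.toTildeΓNatIso.app _).symm

/-- **Sections of a pullback over affine opens**: for quasi-coherent `G` on `Y`, affine opens `U ⊆ X`, `V ⊆ Y`
with `U ≤ f⁻¹ V`, the sections `Γ(f^*G, U)` are the base change `Γ(X,U) ⊗_{Γ(Y,V)} Γ(G,V)`. -/
theorem nonempty_linearEquiv_pullback_sections (f : X ⟶ Y) (G : Y.Modules) [G.IsQuasicoherent]
    {U : X.Opens} (hU : IsAffineOpen U) {V : Y.Opens} (hV : IsAffineOpen V) (e : U ≤ f ⁻¹ᵁ V) :
    letI := (f.appLE V U e).hom.toAlgebra
    Nonempty (Γ((Scheme.Modules.pullback f).obj G, U) ≃ₗ[Γ(X, U)] (Γ(X, U) ⊗[Γ(Y, V)] Γ(G, V))) := by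
  letI := (f.appLE V U e).hom.toAlgebra
  let e1 := (sectionsRestrictEquiv ((Scheme.Modules.pullback f).obj G) hU).symm
  let e2 := (pullbackSectionsIso f G hU hV e).toLinearEquiv
  let e3 := (Groth.Agent.S2265.extendIso Γ(Y, V) Γ(X, U)
    (moduleSpecΓFunctor.obj (G.restrict hV.fromSpec))).toLinearEquiv
  let e4 : (Γ(X, U) ⊗[Γ(Y, V)] (moduleSpecΓFunctor.obj (G.restrict hV.fromSpec))) ≃ₗ[Γ(X, U)]
      (Γ(X, U) ⊗[Γ(Y, V)] Γ(G, V)) :=
    TensorProduct.AlgebraTensorModule.congr (LinearEquiv.refl Γ(X, U) Γ(X, U)) (sectionsRestrictEquiv G hV)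
  exact ⟨e1 ≪≫ₗ e2 ≪≫ₗ e3 ≪≫ₗ e4⟩

theorem subsingleton_sections_of_isZero (M : X.Modules) (h : IsZero M) (U : X.Opens) :
    Subsingleton Γ(M, U) := by
  have h0 : (𝟙 M : M ⟶ M) = 0 := h.eq_of_src _ _
  refine ⟨fun x y => ?_⟩
  have key : ∀ z : Γ(M, U), z = 0 := by
    intro z
    have h1 : (Scheme.Modules.Hom.app (𝟙 M) U) z = z := by
      simp
    rw [← h1, h0]
    rfl
  rw [key x, key y]

theorem isZero_of_subsingleton_sections_affine (M : X.Modules)
    (h : ∀ U ∈ X.affineOpens, Subsingleton Γ(M, U)) : IsZero M := by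
  rw [IsZero.iff_id_eq_zero]
  apply Scheme.Modules.hom_ext
  intro U
  ext x
  have hx : x = 0 := by
    refine Groth.Agent.Lib.Helper28.QCohLoc.eq_of_locally_eq M
      (fun V : {V : X.affineOpens // V.1 ≤ U} => V.1.1) U (fun V => V.2) ?_ x 0 (fun V => ?_)
    · intro y hy
      obtain ⟨W, hW, hyW, hWU⟩ := Opens.isBasis_iff_nbhd.mp X.isBasis_affineOpens hy
      exact Opens.mem_iSup.mpr ⟨⟨⟨W, hW⟩, hWU⟩, hyW⟩
    · haveI := h V.1.1 V.1.2
      exact Subsingleton.elim _ _
  rw [hx, map_zero, map_zero]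


/-- Every point of `X` has an affine open neighbourhood mapping into an affine open of `Y`. -/
theorem exists_affine_pair (f : X ⟶ Y) (x : X) :
    ∃ (U : X.Opens) (V : Y.Opens), IsAffineOpen U ∧ IsAffineOpen V ∧ x ∈ U ∧ U ≤ f ⁻¹ᵁ V := by
  obtain ⟨V, hV, hyV, -⟩ := Opens.isBasis_iff_nbhd.mp Y.isBasis_affineOpens
    (show f x ∈ (⊤ : Y.Opens) from trivial)
  obtain ⟨U, hU, hxU, hUV⟩ := Opens.isBasis_iff_nbhd.mp X.isBasis_affineOpens
    (show x ∈ f ⁻¹ᵁ V from hyV)
  exact ⟨U, V, hU, hV, hxU, hUV⟩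

/-- The pullback of a quasi-coherent module is quasi-coherent. -/
instance isQuasicoherent_pullback (f : X ⟶ Y) (G : Y.Modules) [G.IsQuasicoherent] :
    ((Scheme.Modules.pullback f).obj G).IsQuasicoherent := by
  let ι := {p : X.Opens × Y.Opens // IsAffineOpen p.1 ∧ IsAffineOpen p.2 ∧ p.1 ≤ f ⁻¹ᵁ p.2}
  refine Groth.Agent.Lib.Helper28.QCohLoc.isQuasicoherent_of_isLocalizing _ (fun i : ι => i.1.1) ?_
    (fun i => i.2.1) (fun i => ?_)
  · refine IsOpenCover.mk (eq_top_iff.mpr fun x _ => ?_)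
    obtain ⟨U, V, hU, hV, hxU, hUV⟩ := exists_affine_pair f x
    exact Opens.mem_iSup.mpr ⟨⟨(U, V), hU, hV, hUV⟩, hxU⟩
  · have e := pullbackRestrictIsoTilde f G i.2.1 i.2.2.1 i.2.2.2
    have hq : (((Scheme.Modules.pullback f).obj G).restrict i.2.1.fromSpec).IsQuasicoherent := by
      have h0 : (tilde ((ModuleCat.extendScalars (Scheme.Hom.appLE f i.1.2 i.1.1 i.2.2.2).hom).obj
        (moduleSpecΓFunctor.obj (G.restrict i.2.2.1.fromSpec)))).IsQuasicoherent := inferInstance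
      exact (SheafOfModules.isQuasicoherent (Spec Γ(X, i.1.1)).ringCatSheaf).prop_of_iso e.symm h0
    exact (isIso_fromTildeΓ_iff_isLocalizing _).1 inferInstance

end Groth.Agent.Lib.Helper17.ModPullback
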