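import Groth.Agent.Lib.Helper17.Serre2
import Groth.Agent.Lib.Helper17.ModPullback
import Groth.Agent.Lib.Helper17.CohKer
import Groth.Agent.Lib.Helper17.FinTypeConv
import Groth.Agent.Lib.Helper28.QCohPush
import Groth.Agent.Lib.Helper28.FinType
import Groth.Agent.Lib.Helper28.TensorGen
import Groth.Agent.Lib.Helper28.RelTildeMap
import Groth.Agent.Lib.Helper28.ModAffineExt
import Groth.Agent.Lib.Helper29.QCohExact
import Groth.Agent.Lib.Helper28.QCohGen
import Groth.Agent.Lib.Helper17.MV2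
import Mathlib
set_option backward.isDefEq.respectTransparency.types false
set_option autoImplicit false
universe u

namespace Groth.Agent.Lib.Helper17.FTExt
open CategoryTheory CategoryTheory.Limits Opposite TopologicalSpace AlgebraicGeometry
open Groth.Agent.Lib.Helper28.QCohLoc Groth.Agent.Lib.Helper28.TensorGen
open Groth.Agent.Lib.Helper17.FinTypeConv

variable {X Y : Scheme.{u}}

/-- the free module, as an object of `Y.Modules` -/
noncomputable abbrev freeMod (Y : Scheme.{u}) (J : Type u) : Y.Modules := SheafOfModules.free.{u} J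

/-- the morphism from the free module defined by a family of global sections -/
noncomputable def fam (A : Y.Modules) {J : Type u} (n : J → A.val.obj (op ⊤)) : freeMod Y J ⟶ A :=
  fromFreeFamily A n

/-- L1: finitely many sections over `U` whose restrictions span the sections over `D(f)` -/
theorem exists_finset_res_span (A : Y.Modules) {U : Y.Opens} (h : IsLocOn A U) (f : Γ(Y, U))
    (hfin : Module.Finite Γ(Y, Y.basicOpen f) Γ(A, Y.basicOpen f)) :
    ∃ S : Finset Γ(A, U), Submodule.span Γ(Y, Y.basicOpen f)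
      ((fun m => res A (Y.basicOpen_le f) m) '' (S : Set Γ(A, U))) = ⊤ := by
  classical
  obtain ⟨G, hG⟩ := hfin.fg_top
  choose n c hc using h.surj f
  refine ⟨G.image c, ?_⟩
  rw [eq_top_iff, ← hG, Submodule.span_le]
  intro g hg
  obtain ⟨w, hw⟩ := (Groth.Agent.Lib.Helper28.QCohLoc.isUnit_ur f).pow (n g)
  have h1 : g = ((w⁻¹ : (Γ(Y, Y.basicOpen f))ˣ) : Γ(Y, Y.basicOpen f)) • res A (Y.basicOpen_le f) (c g) := by
    rw [← hc g, ← hw, ← mul_smul, Units.inv_mul, one_smul]
  rw [h1]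
  refine Submodule.smul_mem _ _ (Submodule.subset_span ⟨c g, ?_, rfl⟩)
  exact Finset.mem_coe.2 (Finset.mem_image_of_mem c hg)

/-- the cokernel projection of a morphism of quasi-coherent modules is surjective over affine opens -/
theorem cokernel_π_app_surjective {A B : X.Modules} [A.IsQuasicoherent] [B.IsQuasicoherent] (φ : A ⟶ B)
    {U : X.Opens} (hU : IsAffineOpen U) : Function.Surjective ((cokernel.π φ).app U) := by
  let S : ShortComplex X.Modules :=
    ShortComplex.mk (kernel.ι (cokernel.π φ)) (cokernel.π φ) (kernel.condition _)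
  have hS : S.ShortExact :=
    { exact := ShortComplex.exact_of_f_is_kernel _ (kernelIsKernel _)
      mono_f := inferInstanceAs (Mono (kernel.ι (cokernel.π φ)))
      epi_g := inferInstanceAs (Epi (cokernel.π φ)) }
  haveI : (cokernel φ).IsQuasicoherent := Groth.Agent.Lib.Helper17.CohKer.isQuasicoherent_cokernel φ
  haveI : S.X₁.IsQuasicoherent := Groth.Agent.Lib.Helper17.CohKer.isQuasicoherent_kernel (cokernel.π φ)
  exact Groth.Agent.Lib.Helper17.AffineSurj.surjective_app_of_shortExact S hS hU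

/-- exactness over affine opens: a section killed by the cokernel projection is in the image -/
theorem exists_app_eq_of_cokernel_π_app_eq_zero {A B : X.Modules} [A.IsQuasicoherent] [B.IsQuasicoherent]
    (φ : A ⟶ B) {U : X.Opens} (hU : IsAffineOpen U) (b : Γ(B, U)) (hb : (cokernel.π φ).app U b = 0) :
    ∃ a : Γ(A, U), φ.app U a = b := by
  obtain ⟨k, hk⟩ := Groth.Agent.Lib.Helper17.CohKer.exists_kernel_app_eq (cokernel.π φ) U b hb
  let S : ShortComplex X.Modules :=
    ShortComplex.mk (kernel.ι φ) (Abelian.factorThruImage φ)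
      (by rw [← cancel_mono (Abelian.image.ι φ), Category.assoc, Abelian.image.fac, kernel.condition, zero_comp])
  have hS : S.ShortExact :=
    { exact := by
        apply ShortComplex.exact_of_f_is_kernel
        exact isKernelOfComp (Abelian.image.ι φ) φ (kernelIsKernel φ) _ (Abelian.image.fac φ)
      mono_f := inferInstanceAs (Mono (kernel.ι φ))
      epi_g := inferInstanceAs (Epi (Abelian.factorThruImage φ)) }
  haveI : S.X₁.IsQuasicoherent := Groth.Agent.Lib.Helper17.CohKer.isQuasicoherent_kernel φ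
  obtain ⟨a, ha⟩ := Groth.Agent.Lib.Helper17.AffineSurj.surjective_app_of_shortExact S hS hU k
  refine ⟨a, ?_⟩
  rw [← hk]
  have h2 : (Abelian.image.ι φ).app U ((Abelian.factorThruImage φ).app U a) = φ.app U a := by
    have := congrArg (fun ψ : (A ⟶ B) => ψ.app U a) (Abelian.image.fac φ)
    exact this
  rw [← h2]
  congr 1


/-- L2: the basis sections of the free module are sent to the given sections -/
theorem exists_fromFreeFamily_app_eq (A : Y.Modules) {J : Type u} (n : J → A.val.obj (op ⊤)) (D : Y.Opens)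
    (j : J) : ∃ e : Γ(freeMod Y J, D),
      (fam A n).app D e = res A (le_top : D ≤ ⊤) (n j) := by
  refine ⟨(SheafOfModules.freeSection (R := Y.ringCatSheaf) j).val (op D), ?_⟩
  have h := SheafOfModules.sectionsMap_freeHomEquiv_symm_freeSection (M := A)
    (fun j => globalSection A (n j)) j
  have h2 := congrArg (fun s : A.sections => s.val (op D)) h
  exact h2

/-- L3 -/
theorem exists_fromFreeFamily_app_eq_of_span (A : Y.Modules) {J : Type u} (n : J → A.val.obj (op ⊤))
    (D : Y.Opens)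
    (hspan : Submodule.span Γ(Y, D) (Set.range fun j => res A (le_top : D ≤ ⊤) (n j)) = ⊤) (a : Γ(A, D)) :
    ∃ σ : Γ(freeMod Y J, D), (fam A n).app D σ = a := by
  have h1 : Submodule.span Γ(Y, D) (Set.range fun j => res A (le_top : D ≤ ⊤) (n j)) ≤
      LinearMap.range (appLin (fam A n) D) := by
    rw [Submodule.span_le]
    rintro _ ⟨j, rfl⟩
    obtain ⟨e, he⟩ := exists_fromFreeFamily_app_eq A n D j
    exact ⟨e, he⟩
  have h2 : a ∈ LinearMap.range (appLin (fam A n) D) := h1 (hspan ▸ Submodule.mem_top)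
  obtain ⟨σ, hσ⟩ := h2
  exact ⟨σ, hσ⟩

/-- L4 -/
theorem cokernel_sections_eq_zero (A : Y.Modules) [A.IsQuasicoherent] {J : Type u}
    (n : J → A.val.obj (op ⊤)) {D : Y.Opens} (hD : IsAffineOpen D)
    (hspan : Submodule.span Γ(Y, D) (Set.range fun j => res A (le_top : D ≤ ⊤) (n j)) = ⊤)
    (t : Γ(cokernel (fam A n), D)) : t = 0 := by
  obtain ⟨a, rfl⟩ := cokernel_π_app_surjective (fam A n) hD t
  obtain ⟨σ, rfl⟩ := exists_fromFreeFamily_app_eq_of_span A n D hspan a
  have := congrArg (fun ψ : (freeMod Y J ⟶ cokernel (fam A n)) => ψ.app D σ)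
    (cokernel.condition (fam A n))
  exact this

/-- L5: a module with the localization property on the affine open `U` whose sections over some basic opens
`D(f k)` vanish has no nonzero sections over the opens contained in the union of the `D(f k)`. -/
theorem sections_eq_zero_of_basicOpen (Q : Y.Modules) {U : Y.Opens} (hU : IsAffineOpen U) (h : IsLocOn Q U)
    {K : Type*} (f : K → Γ(Y, U)) (h0 : ∀ k, ∀ t : Γ(Q, Y.basicOpen (f k)), t = 0)
    (T : Y.Opens) (hT : T ≤ ⨆ k, Y.basicOpen (f k)) (t : Γ(Q, T)) : t = 0 := by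
  have hTU : T ≤ U := hT.trans (iSup_le fun k => Y.basicOpen_le (f k))
  have key : ∀ x : T, ∃ g : Γ(Y, U), Y.basicOpen g ≤ T ∧ x.1 ∈ Y.basicOpen g ∧
      ∀ y : Γ(Q, Y.basicOpen g), y = 0 := by
    intro x
    obtain ⟨k, hk⟩ := Opens.mem_iSup.1 (hT x.2)
    obtain ⟨g, hg, hxg⟩ := hU.exists_basicOpen_le (V := T ⊓ Y.basicOpen (f k)) ⟨x.1, ⟨x.2, hk⟩⟩ (hTU x.2)
    refine ⟨g, hg.trans inf_le_left, hxg, fun y => ?_⟩
    obtain ⟨n, q, hq⟩ := h.surj g y
    have hq0 : res Q (Y.basicOpen_le g) q = 0 := by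
      have h1 := res_res Q (Y.basicOpen_le (f k)) (hg.trans inf_le_right) q
      rw [← h1, h0 k (res Q (Y.basicOpen_le (f k)) q), res_zero]
    rw [hq0] at hq
    obtain ⟨w, hw⟩ := (Groth.Agent.Lib.Helper28.QCohLoc.isUnit_ur g).pow n
    have h2 : y = ((w⁻¹ : (Γ(Y, Y.basicOpen g))ˣ) : Γ(Y, Y.basicOpen g)) • ((w : Γ(Y, Y.basicOpen g)) • y) := by
      rw [← mul_smul, Units.inv_mul, one_smul]
    rw [h2, hw, hq, smul_zero]
  choose g hgT hxg hg0 using key
  refine eq_of_locally_eq Q (fun x : T => Y.basicOpen (g x)) T hgT ?_ t 0 ?_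
  · intro x hx
    exact Opens.mem_iSup.2 ⟨⟨x, hx⟩, hxg ⟨x, hx⟩⟩
  · intro x
    rw [res_zero]
    exact hg0 x _

/-- L6: over an affine scheme, the sections of `A` killed by the cokernel projection of a finite family of
sections form a finitely generated submodule. -/
theorem fg_ker_cokernel_π [IsAffine Y] (A : Y.Modules) [A.IsQuasicoherent] {J : Type u} [Finite J]
    (n : J → A.val.obj (op ⊤)) :
    (LinearMap.ker (appLin (cokernel.π (fam A n)) ⊤)).FG := by
  have h1 : LinearMap.ker (appLin (cokernel.π (fam A n)) ⊤) = LinearMap.range (appLin (fam A n) ⊤) := by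
    ext a
    constructor
    · intro ha
      obtain ⟨σ, hσ⟩ := exists_app_eq_of_cokernel_π_app_eq_zero (fam A n) (isAffineOpen_top Y) a ha
      exact ⟨σ, hσ⟩
    · rintro ⟨σ, rfl⟩
      have := congrArg (fun ψ : (freeMod Y J ⟶ cokernel (fam A n)) => ψ.app ⊤ σ)
        (cokernel.condition (fam A n))
      exact this
  rw [h1, LinearMap.range_eq_map]
  haveI : SheafOfModules.IsFiniteType.{u} (R := Y.ringCatSheaf) (freeMod Y J) := by
    haveI : (SheafOfModules.free.generatingSections (R := Y.ringCatSheaf) J).IsFiniteType :=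
      ⟨inferInstanceAs (Finite J)⟩
    let q : SheafOfModules.LocalGeneratorsData.{u} (freeMod Y J) :=
      (SheafOfModules.free.generatingSections (R := Y.ringCatSheaf) J).localGeneratorsData
    have hq : q.IsFiniteType := by
      refine @SheafOfModules.LocalGeneratorsData.IsFiniteType.mk _ _ _ _ _ _ _ q (fun x => ?_)
      exact inferInstanceAs (((SheafOfModules.free.generatingSections (R := Y.ringCatSheaf) J).map
        (SheafOfModules.pushforward (𝟙 (Y.ringCatSheaf.over x))) (Iso.refl _))).IsFiniteType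
    constructor
    exact ⟨q, hq⟩
  have hfin : Module.Finite Γ(Y, ⊤) Γ(freeMod Y J, ⊤) :=
    Groth.Agent.Lib.Helper28.FinType.finite_of_isAffineOpen (freeMod Y J) (isAffineOpen_top Y)
  exact Submodule.FG.map _ hfin.fg_top

section transport

theorem fg_transport {R R' M M' : Type*} [CommRing R] [CommRing R'] [AddCommGroup M] [AddCommGroup M']
    [Module R M] [Module R' M'] (ρ : R → R') (e : M →+ M') (hsmul : ∀ r m, e (r • m) = ρ r • e m)
    (N : Submodule R M) (N' : Submodule R' M') (hNN' : ∀ m', m' ∈ N' ↔ ∃ m ∈ N, e m = m') (hN : N.FG) :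
    N'.FG := by
  classical
  obtain ⟨s, hs⟩ := hN
  refine ⟨s.image e, ?_⟩
  apply le_antisymm
  · rw [Submodule.span_le]
    intro m' hm'
    obtain ⟨m, hm, rfl⟩ := Finset.mem_image.1 (Finset.mem_coe.1 hm')
    exact (hNN' _).2 ⟨m, hs ▸ Submodule.subset_span hm, rfl⟩
  · have key : ∀ m, m ∈ Submodule.span R (s : Set M) → e m ∈ Submodule.span R' ((s.image e : Finset M') : Set M') := by
      intro m hm
      induction hm using Submodule.span_induction with
      | mem x hx => exact Submodule.subset_span (Finset.mem_coe.2 (Finset.mem_image_of_mem e hx))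
      | zero => rw [map_zero]; exact zero_mem _
      | add x y _ _ hx hy => rw [map_add]; exact add_mem hx hy
      | smul r x _ hx => rw [hsmul]; exact Submodule.smul_mem _ _ hx
    intro m' hm'
    obtain ⟨m, hm, rfl⟩ := (hNN' m').1 hm'
    rw [← hs] at hm
    exact key m hm

theorem finite_transport {R R' M M' : Type*} [CommRing R] [CommRing R'] [AddCommGroup M] [AddCommGroup M']
    [Module R M] [Module R' M'] (ρ : R → R') (e : M →+ M') (hsmul : ∀ r m, e (r • m) = ρ r • e m)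
    (he : Function.Surjective e) (h : Module.Finite R M) : Module.Finite R' M' := by
  refine ⟨fg_transport ρ e hsmul ⊤ ⊤ (fun m' => ?_) h.fg_top⟩
  constructor
  · intro _
    obtain ⟨m, rfl⟩ := he m'
    exact ⟨m, Submodule.mem_top, rfl⟩
  · intro _; exact Submodule.mem_top

variable (O : X.Opens) (M : X.Modules)

theorem restrict_smul_eq (D' : (O : Scheme.{u}).Opens) (r : Γ((O : Scheme.{u}), D'))
    (a : Γ(M.restrict O.ι, D')) :
    (r • a : Γ(M.restrict O.ι, D')) =
      (show Γ(M.restrict O.ι, D') from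
        ((show Γ(X, O.ι ''ᵁ D') from r) • (show Γ(M, O.ι ''ᵁ D') from a))) := by
  have h : (r • a : Γ(M.restrict O.ι, D')) =
      (show Γ(M.restrict O.ι, D') from
        (((O.ι.appIso D').inv r : Γ(X, O.ι ''ᵁ D')) • (show Γ(M, O.ι ''ᵁ D') from a))) := rfl
  rw [h]
  have h2 : (O.ι.appIso D').inv r = (show Γ(X, O.ι ''ᵁ D') from r) := by
    simp; rfl
  rw [h2]

/-- finiteness of the sections of `M` over the image of `D'` gives finiteness for the restriction -/
theorem finite_restrict_of_finite (D' : (O : Scheme.{u}).Opens)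
    (h : Module.Finite Γ(X, O.ι ''ᵁ D') Γ(M, O.ι ''ᵁ D')) :
    Module.Finite Γ((O : Scheme.{u}), D') Γ(M.restrict O.ι, D') :=
  finite_transport (R := Γ(X, O.ι ''ᵁ D')) (R' := Γ((O : Scheme.{u}), D')) (M := Γ(M, O.ι ''ᵁ D'))
    (M' := Γ(M.restrict O.ι, D')) (fun r => r) (AddMonoidHom.id _)
    (fun r m => (restrict_smul_eq O M D' r m).symm) (fun m => ⟨m, rfl⟩) h

theorem finite_of_finite_restrict (D' : (O : Scheme.{u}).Opens)
    (h : Module.Finite Γ((O : Scheme.{u}), D') Γ(M.restrict O.ι, D')) :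
    Module.Finite Γ(X, O.ι ''ᵁ D') Γ(M, O.ι ''ᵁ D') :=
  finite_transport (R' := Γ(X, O.ι ''ᵁ D')) (R := Γ((O : Scheme.{u}), D')) (M' := Γ(M, O.ι ''ᵁ D'))
    (M := Γ(M.restrict O.ι, D')) (fun r => r) (AddMonoidHom.id _)
    (fun r m => (restrict_smul_eq O M D' r m)) (fun m => ⟨m, rfl⟩) h

end transport

/-- the submodule of `M` of the sections whose restriction to the open `O` is killed by `π` -/
noncomputable def subK (O : X.Opens) (M : X.Modules) {Q : (O : Scheme.{u}).Modules}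
    (π : M.restrict O.ι ⟶ Q) : X.Modules :=
  kernel ((Scheme.Modules.restrictAdjunction O.ι).unit.app M ≫ (Scheme.Modules.pushforward O.ι).map π)

noncomputable def subKι (O : X.Opens) (M : X.Modules) {Q : (O : Scheme.{u}).Modules}
    (π : M.restrict O.ι ⟶ Q) : subK O M π ⟶ M :=
  kernel.ι _

instance (O : X.Opens) (M : X.Modules) {Q : (O : Scheme.{u}).Modules}
    (π : M.restrict O.ι ⟶ Q) : Mono (subKι O M π) :=
  Groth.Agent.Lib.Helper28.QCohLoc.mono_of_injective _ fun T =>
    Groth.Agent.Lib.Helper17.CohKer.kernel_ι_app_injective _ T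

theorem subKι_app_injective (O : X.Opens) (M : X.Modules) {Q : (O : Scheme.{u}).Modules}
    (π : M.restrict O.ι ⟶ Q) (T : X.Opens) : Function.Injective ((subKι O M π).app T) :=
  Groth.Agent.Lib.Helper17.CohKer.kernel_ι_app_injective _ T

/-- the restriction of a section of `M` over `T` to `O ∩ T`, as a section of `M.restrict O.ι`. -/
noncomputable def resO' (O : X.Opens) (M : X.Modules) (T : X.Opens) (m : Γ(M, T)) :
    Γ(M.restrict O.ι, O.ι ⁻¹ᵁ T) :=
  res M (O.ι.image_preimage_le T) m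

theorem mem_subK_iff (O : X.Opens) (M : X.Modules) {Q : (O : Scheme.{u}).Modules}
    (π : M.restrict O.ι ⟶ Q) (T : X.Opens) (m : Γ(M, T)) :
    (∃ k : Γ(subK O M π, T), (subKι O M π).app T k = m) ↔ π.app (O.ι ⁻¹ᵁ T) (resO' O M T m) = 0 := by
  constructor
  · rintro ⟨k, rfl⟩
    exact Groth.Agent.Lib.Helper17.CohKer.app_kernel_ι_app
      ((Scheme.Modules.restrictAdjunction O.ι).unit.app M ≫ (Scheme.Modules.pushforward O.ι).map π) T k
  · intro h
    exact Groth.Agent.Lib.Helper17.CohKer.exists_kernel_app_eq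
      ((Scheme.Modules.restrictAdjunction O.ι).unit.app M ≫ (Scheme.Modules.pushforward O.ι).map π) T m h

theorem isQuasicoherent_subK (O : X.Opens) [QuasiCompact O.ι] (M : X.Modules) [M.IsQuasicoherent]
    {Q : (O : Scheme.{u}).Modules} [Q.IsQuasicoherent] (π : M.restrict O.ι ⟶ Q) :
    (subK O M π).IsQuasicoherent := by
  haveI : ((Scheme.Modules.pushforward O.ι).obj Q).IsQuasicoherent :=
    Groth.Agent.Lib.Helper28.QCohLoc.isQuasicoherent_pushforward O.ι Q
  haveI : ((𝟭 X.Modules).obj M).IsQuasicoherent := ‹M.IsQuasicoherent›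
  exact Groth.Agent.Lib.Helper17.CohKer.isQuasicoherent_kernel _

section affineStep

theorem resO'_eq (O : X.Opens) (M : X.Modules) (T : X.Opens) (m : Γ(M, T)) :
    resO' O M T m = res M (O.ι.image_preimage_le T) m := rfl

theorem isCompact_preimage_ι (W V : X.Opens) (hWV : IsCompact ((W ⊓ V : X.Opens) : Set X)) :
    IsCompact ((V.ι ⁻¹ᵁ W : (V : Scheme.{u}).Opens) : Set (V : Scheme.{u})) := by
  rw [V.ι.isOpenEmbedding.isEmbedding.isCompact_iff]
  have : (⇑V.ι '' ((V.ι ⁻¹ᵁ W : (V : Scheme.{u}).Opens) : Set ↥(V : Scheme.{u}))) =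
      ((W ⊓ V : X.Opens) : Set X) := by
    ext x
    constructor
    · rintro ⟨y, hy, rfl⟩
      refine ⟨hy, ?_⟩
      have : V.ι y ∈ Set.range V.ι := ⟨y, rfl⟩
      rw [Scheme.Opens.range_ι] at this
      exact this
    · rintro ⟨hxW, hxV⟩
      have : x ∈ Set.range V.ι := by rw [Scheme.Opens.range_ι]; exact hxV
      obtain ⟨y, rfl⟩ := this
      exact ⟨y, hxW, rfl⟩
  rw [this]
  exact hWV

/-- membership in the kernel part over `V.ι ''ᵁ ⊤` -/
theorem mem_range_subKι_top (V : X.Opens) (H : X.Modules) {Q : (V : Scheme.{u}).Modules}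
    (π : H.restrict V.ι ⟶ Q) (m : Γ(H, V.ι ''ᵁ ⊤)) :
    (∃ k : Γ(subK V H π, V.ι ''ᵁ ⊤), (subKι V H π).app (V.ι ''ᵁ ⊤) k = m) ↔
      π.app ⊤ (show Γ(H.restrict V.ι, ⊤) from m) = 0 := by
  rw [mem_subK_iff]
  have e1 : V.ι ⁻¹ᵁ (V.ι ''ᵁ ⊤) = ⊤ := V.ι.preimage_image_eq ⊤
  have h1 : resO' V H (V.ι ''ᵁ ⊤) m =
      res (H.restrict V.ι) (le_top : V.ι ⁻¹ᵁ (V.ι ''ᵁ ⊤) ≤ ⊤) (show Γ(H.restrict V.ι, ⊤) from m) := rfl
  rw [h1, app_res]
  constructor
  · intro h
    have h2 := congrArg (res Q (e1.ge : ⊤ ≤ V.ι ⁻¹ᵁ (V.ι ''ᵁ ⊤))) h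
    rw [res_res, res_zero, res_self] at h2
    exact h2
  · intro h
    rw [h, res_zero]

end affineStep

/-- `subK O M π` is saturated with respect to `O` -/
theorem subK_saturated (O : X.Opens) (M : X.Modules) {Q : (O : Scheme.{u}).Modules}
    (π : M.restrict O.ι ⟶ Q) (T : X.Opens) (m : Γ(M, T))
    (h : ∃ k : Γ(subK O M π, T ⊓ O), (subKι O M π).app (T ⊓ O) k = res M inf_le_left m) :
    ∃ k : Γ(subK O M π, T), (subKι O M π).app T k = m := by
  rw [mem_subK_iff] at h ⊢
  have e1 : O.ι ⁻¹ᵁ (T ⊓ O) = O.ι ⁻¹ᵁ T := by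
    ext x
    simp only [Scheme.Hom.coe_preimage, Set.mem_preimage, SetLike.mem_coe]
    constructor
    · intro hx; exact hx.1
    · intro hx
      refine ⟨hx, ?_⟩
      have : O.ι x ∈ Set.range O.ι := ⟨x, rfl⟩
      rw [Scheme.Opens.range_ι] at this
      exact this
  have h1 : resO' O M (T ⊓ O) (res M inf_le_left m) =
      res (M.restrict O.ι) (e1.le : O.ι ⁻¹ᵁ (T ⊓ O) ≤ O.ι ⁻¹ᵁ T) (resO' O M T m) := by
    have a1 : res (M.restrict O.ι) (e1.le : O.ι ⁻¹ᵁ (T ⊓ O) ≤ O.ι ⁻¹ᵁ T) (resO' O M T m) =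
        res M (O.ι.image_mono e1.le) (res M (O.ι.image_preimage_le T) m) := rfl
    have a2 : resO' O M (T ⊓ O) (res M inf_le_left m) =
        res M (O.ι.image_preimage_le (T ⊓ O)) (res M inf_le_left m) := rfl
    rw [a1, a2, res_res, res_res]
  rw [h1, app_res] at h
  have h2 := congrArg (res Q (e1.ge : O.ι ⁻¹ᵁ T ≤ O.ι ⁻¹ᵁ (T ⊓ O))) h
  rw [res_res, res_zero, res_self] at h2
  exact h2

section affineStepMain
open Groth.Agent.Lib.Helper28.FinType Groth.Agent.Lib.Helper17.MV

theorem affine_step (H : X.Modules) [H.IsQuasicoherent] (W V : X.Opens) (hV : IsAffineOpen V)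
    [QuasiCompact V.ι] (hWV : IsCompact ((W ⊓ V : X.Opens) : Set X))
    (hfin : ∀ T : X.Opens, IsAffineOpen T → T ≤ W → Module.Finite Γ(X, T) Γ(H, T)) :
    ∃ (H₂ : X.Modules) (κ : H₂ ⟶ H), Mono κ ∧ H₂.IsQuasicoherent ∧
      (∀ T : X.Opens, T ≤ W → Function.Surjective (κ.app T)) ∧
      (∀ T : X.Opens, IsAffineOpen T → T ≤ W ⊔ V → Module.Finite Γ(X, T) Γ(H₂, T)) ∧
      (∀ (T : X.Opens) (m : Γ(H, T)), (∃ k : Γ(H₂, T ⊓ V), κ.app (T ⊓ V) k = res H inf_le_left m) →
        ∃ k : Γ(H₂, T), κ.app T k = m) := by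
  classical
  haveI : IsAffine (V : Scheme.{u}) := hV
  obtain ⟨Y, hY⟩ : ∃ Y : Scheme.{u}, Y = (V : Scheme.{u}) := ⟨_, rfl⟩
  let A : (V : Scheme.{u}).Modules := H.restrict V.ι
  haveI : A.IsQuasicoherent := inferInstance
  let W' : (V : Scheme.{u}).Opens := V.ι ⁻¹ᵁ W
  have hW'c : IsCompact (W' : Set (V : Scheme.{u})) := isCompact_preimage_ι W V hWV
  have hTop : IsAffineOpen (⊤ : (V : Scheme.{u}).Opens) := isAffineOpen_top _
  obtain ⟨s, hs⟩ := exists_finset_basicOpen_eq hTop W' le_top hW'c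
  have hsle : ∀ g ∈ s, (V : Scheme.{u}).basicOpen g ≤ W' := by
    intro g hg
    rw [hs]
    exact le_biSup (fun g : Γ((V : Scheme.{u}), ⊤) => (V : Scheme.{u}).basicOpen g) hg
  have hfinY : ∀ g ∈ s, Module.Finite Γ((V : Scheme.{u}), (V : Scheme.{u}).basicOpen g)
      Γ(A, (V : Scheme.{u}).basicOpen g) := by
    intro g hg
    apply finite_restrict_of_finite V H ((V : Scheme.{u}).basicOpen g)
    apply hfin
    · exact (hTop.basicOpen g).image_of_isOpenImmersion V.ι
    · exact (Scheme.Hom.image_mono V.ι (hsle g hg)).trans (V.ι.image_preimage_le W)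
  have hloc : IsLocOn A ⊤ := isLocOn_of_isQuasicoherent A hTop
  have hex : ∀ g : Γ((V : Scheme.{u}), ⊤), ∃ S : Finset Γ(A, ⊤), g ∈ s →
      Submodule.span Γ((V : Scheme.{u}), (V : Scheme.{u}).basicOpen g)
        ((fun m => res A ((V : Scheme.{u}).basicOpen_le g) m) '' (S : Set Γ(A, ⊤))) = ⊤ := by
    intro g
    by_cases hg : g ∈ s
    · obtain ⟨S, hS⟩ := exists_finset_res_span A hloc g (hfinY g hg)
      exact ⟨S, fun _ => hS⟩
    · exact ⟨∅, fun h => absurd h hg⟩
  choose S hS using hex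
  let SS : Finset Γ(A, ⊤) := s.biUnion S
  let n : (↥SS) → A.val.obj (op ⊤) := fun j => j.1
  have hspan : ∀ g ∈ s, Submodule.span Γ((V : Scheme.{u}), (V : Scheme.{u}).basicOpen g)
      (Set.range fun j : ↥SS => res A (le_top : (V : Scheme.{u}).basicOpen g ≤ ⊤) (n j)) = ⊤ := by
    intro g hg
    rw [eq_top_iff, ← hS g hg]
    apply Submodule.span_mono
    rintro _ ⟨m, hm, rfl⟩
    exact ⟨⟨m, Finset.mem_biUnion.2 ⟨g, hg, hm⟩⟩, rfl⟩
  haveI : (cokernel (fam A n)).IsQuasicoherent :=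
    Groth.Agent.Lib.Helper17.CohKer.isQuasicoherent_cokernel (fam A n)
  let π : A ⟶ cokernel (fam A n) := cokernel.π (fam A n)
  have hQ0 : ∀ (T' : (V : Scheme.{u}).Opens), T' ≤ W' → ∀ t : Γ(cokernel (fam A n), T'), t = 0 := by
    intro T' hT' t
    refine sections_eq_zero_of_basicOpen (cokernel (fam A n)) hTop
      (isLocOn_of_isQuasicoherent _ hTop) (fun g : s => g.1)
      (fun g t => cokernel_sections_eq_zero A n (hTop.basicOpen g.1) (hspan g.1 g.2) t) T' ?_ t
    refine hT'.trans ?_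
    rw [hs]
    exact iSup₂_le fun g hg => le_iSup (fun g : s => (V : Scheme.{u}).basicOpen g.1) ⟨g, hg⟩
  have hsurj : ∀ T : X.Opens, T ≤ W → Function.Surjective ((subKι V H π).app T) := by
    intro T hT m
    apply (mem_subK_iff V H π T m).2
    exact hQ0 (V.ι ⁻¹ᵁ T) (Scheme.Hom.preimage_mono V.ι hT) _
  -- finiteness over `V`
  have hfinV0 : Module.Finite Γ(X, V.ι ''ᵁ ⊤) Γ(subK V H π, V.ι ''ᵁ ⊤) := by
    haveI : Finite ↥SS := inferInstance
    have hfg := fg_ker_cokernel_π A n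
    have hfg' : (LinearMap.range (appLin (subKι V H π) (V.ι ''ᵁ ⊤))).FG := by
      refine fg_transport (R := Γ((V : Scheme.{u}), ⊤)) (R' := Γ(X, V.ι ''ᵁ ⊤)) (M := Γ(A, ⊤))
        (M' := Γ(H, V.ι ''ᵁ ⊤)) (fun r => r) (AddMonoidHom.id _)
        (fun r m => restrict_smul_eq V H ⊤ r m) _ _ (fun m' => ?_) hfg
      constructor
      · rintro ⟨k, rfl⟩
        refine ⟨(subKι V H π).app (V.ι ''ᵁ ⊤) k, ?_, rfl⟩
        exact (mem_range_subKι_top V H π _).1 ⟨k, rfl⟩
      · rintro ⟨m, hm, rfl⟩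
        obtain ⟨k, hk⟩ := (mem_range_subKι_top V H π m).2 hm
        exact ⟨k, hk⟩
    haveI : Module.Finite Γ(X, V.ι ''ᵁ ⊤) (LinearMap.range (appLin (subKι V H π) (V.ι ''ᵁ ⊤))) :=
      Module.Finite.of_fg hfg'
    exact Module.Finite.equiv
      (LinearEquiv.ofInjective (appLin (subKι V H π) (V.ι ''ᵁ ⊤)) (subKι_app_injective V H π _)).symm
  have e0 : V.ι ''ᵁ ⊤ = V := by
    rw [Scheme.Hom.image_top_eq_opensRange, Scheme.Opens.opensRange_ι]
  have hfinV : Module.Finite Γ(X, V) Γ(subK V H π, V) := finite_congr e0 hfinV0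
  haveI hq2 : (subK V H π).IsQuasicoherent := isQuasicoherent_subK V H π
  refine ⟨subK V H π, subKι V H π, inferInstance, hq2, hsurj, ?_, subK_saturated V H π⟩
  intro T hT hTWV
  refine finite_of_locally hT (isLocOn_of_isQuasicoherent _ hT) ?_
  intro x hxT
  rcases (hTWV hxT) with hxW | hxV
  · obtain ⟨r, hr, hxr⟩ := hT.exists_basicOpen_le (V := T ⊓ W) ⟨x, ⟨hxT, hxW⟩⟩ hxT
    refine ⟨r, hxr, ?_⟩
    haveI := hfin (X.basicOpen r) (hT.basicOpen r) (hr.trans inf_le_right)
    have hbij : Function.Bijective (appLin (subKι V H π) (X.basicOpen r)) :=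
      ⟨subKι_app_injective V H π _, hsurj _ (hr.trans inf_le_right)⟩
    exact Module.Finite.equiv (LinearEquiv.ofBijective _ hbij).symm
  · obtain ⟨f, g, hfg, hxf⟩ := exists_basicOpen_le_affine_inter hT hV x ⟨hxT, hxV⟩
    refine ⟨f, hxf, ?_⟩
    exact finite_congr hfg.symm (finite_basicOpen (isLocOn_of_isQuasicoherent _ hV) g hfinV)

end affineStepMain

end Groth.Agent.Lib.Helper17.FTExt
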