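import Mathlib
set_option autoImplicit false
universe u
open TensorProduct

namespace Groth.Agent.Lib.Helper17.LocBC

/-- Localization of a base change is the base change of the localization. -/
theorem nonempty_linearEquiv_localized_baseChange
    {B A Bq Ap : Type u} [CommRing B] [CommRing A] [CommRing Bq] [CommRing Ap]
    [Algebra B A] [Algebra B Bq] [Algebra A Ap] [Algebra Bq Ap] [Algebra B Ap]
    [IsScalarTower B A Ap] [IsScalarTower B Bq Ap]
    (q : Submonoid B) (p : Submonoid A) [IsLocalization q Bq] [IsLocalization p Ap]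
    {M Mq N Np : Type u} [AddCommGroup M] [AddCommGroup Mq] [AddCommGroup N] [AddCommGroup Np]
    [Module B M] [Module B Mq] [Module Bq Mq] [IsScalarTower B Bq Mq]
    [Module A N] [Module A Np] [Module Ap Np] [IsScalarTower A Ap Np]
    (gM : M →ₗ[B] Mq) [IsLocalizedModule q gM]
    (gN : N →ₗ[A] Np) [IsLocalizedModule p gN]
    (e : N ≃ₗ[A] A ⊗[B] M) :
    Nonempty (Np ≃ₗ[Ap] Ap ⊗[Bq] Mq) := by
  letI : Module B N := Module.compHom N (algebraMap B A)
  haveI : IsScalarTower B A N := IsScalarTower.of_compHom B A N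
  letI : Module B Np := Module.compHom Np (algebraMap B Ap)
  haveI : IsScalarTower B Ap Np := IsScalarTower.of_compHom B Ap Np
  haveI : IsScalarTower B A Np := by
    refine ⟨fun b a n => ?_⟩
    change (b • a) • n = algebraMap B Ap b • (a • n)
    rw [← algebraMap_smul Ap (b • a) n, ← algebraMap_smul Ap a n, ← mul_smul, Algebra.smul_def, map_mul,
      ← IsScalarTower.algebraMap_apply]
  -- base change M → N along B → A
  have h3 : IsBaseChange A ((e.symm.toLinearMap.restrictScalars B).comp (TensorProduct.mk B A M 1)) := by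
    refine IsBaseChange.of_equiv e.symm (fun x => ?_)
    rfl
  have h4 : IsBaseChange Ap gN := IsLocalizedModule.isBaseChange p Ap gN
  have h34 := IsBaseChange.comp h3 h4
  have h1 : IsBaseChange Bq gM := IsLocalizedModule.isBaseChange q Bq gM
  have h2 : IsBaseChange Ap (TensorProduct.mk Bq Ap Mq 1) := TensorProduct.isBaseChange Bq Mq Ap
  have h12 := IsBaseChange.comp h1 h2
  exact ⟨h34.equiv.symm ≪≫ₗ h12.equiv⟩

end Groth.Agent.Lib.Helper17.LocBC
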