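import Groth.Prelude.Def_FlatMod2
import Groth.Agent.Lib.Helper29.QCohStalk
import Groth.Agent.Lib.Helper17.ModPullback
import Groth.Agent.Lib.Helper17.LocBC
import Mathlib
set_option backward.isDefEq.respectTransparency.types false
set_option autoImplicit false
universe u
open AlgebraicGeometry CategoryTheory Opposite TopologicalSpace TensorProduct CategoryTheory.Limits

namespace Groth.Agent.Lib.Helper17.ModStalk

open Groth.Agent.Lib.Helper28.QCohLoc Groth.Agent.Lib.Helper29.QCohStalk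

variable {X : Scheme.{u}} (F : X.Modules)

/-- The stalk of a module at `x ∈ U`, as a module over `Γ(X, U)` through the germ map. -/
noncomputable abbrev moduleStalkSections (U : X.Opens) (x : X) (hx : x ∈ U) :
    Module Γ(X, U) (F.presheaf.stalk x) :=
  Module.compHom (F.presheaf.stalk x) (X.presheaf.germ U x hx).hom

/-- The germ map as a `Γ(X,U)`-linear map. -/
noncomputable def germLinear (U : X.Opens) (x : X) (hx : x ∈ U) :
    letI := moduleStalkSections F U x hx
    Γ(F, U) →ₗ[Γ(X, U)] F.presheaf.stalk x :=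
  letI := moduleStalkSections F U x hx
  { toFun := fun m => gm F U x hx m
    map_add' := fun a b => map_add _ a b
    map_smul' := fun r m => gm_smul F U x hx r m }

theorem isLocalizedModule_germLinear [F.IsQuasicoherent] {U : X.Opens} (hU : IsAffineOpen U) (x : X) (hx : x ∈ U) :
    letI := moduleStalkSections F U x hx
    IsLocalizedModule (hU.primeIdealOf ⟨x, hx⟩).asIdeal.primeCompl (germLinear F U x hx) := by
  letI := moduleStalkSections F U x hx
  letI := X.presheaf.algebra_section_stalk ⟨x, hx⟩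
  haveI := hU.isLocalization_stalk ⟨x, hx⟩
  have hloc := isLocOn_of_isQuasicoherent F hU
  have hunit : ∀ s : Γ(X, U), IsUnit (X.presheaf.germ U x hx s) ↔
      s ∈ (hU.primeIdealOf ⟨x, hx⟩).asIdeal.primeCompl :=
    fun s => IsLocalization.AtPrime.isUnit_to_map_iff (X.presheaf.stalk x)
      (hU.primeIdealOf ⟨x, hx⟩).asIdeal s
  refine ⟨fun s => ?_, fun μ => ?_, fun {m₁ m₂} h => ?_⟩
  · rw [Module.End.isUnit_iff]
    obtain ⟨v, hv⟩ := (hunit s.1).2 s.2
    refine ⟨fun a b hab => ?_, fun b => ⟨(↑v⁻¹ : X.presheaf.stalk x) • b, ?_⟩⟩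
    · have h1 : (X.presheaf.germ U x hx s.1) • a = (X.presheaf.germ U x hx s.1) • b := hab
      rw [← hv] at h1
      have := congrArg (fun t => (↑v⁻¹ : X.presheaf.stalk x) • t) h1
      simpa [smul_smul] using this
    · change (X.presheaf.germ U x hx s.1) • ((↑v⁻¹ : X.presheaf.stalk x) • b) = b
      rw [← hv, smul_smul, Units.mul_inv, one_smul]
  · obtain ⟨s, m, hs, hsm⟩ := exists_germ_smul_eq F hU hloc x hx μ
    exact ⟨⟨m, ⟨s, (hunit s).1 hs⟩⟩, hsm⟩
  · have h0 : gm F U x hx (m₁ - m₂) = 0 := by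
      have h1 : gm F U x hx (m₁ - m₂) = gm F U x hx m₁ - gm F U x hx m₂ := map_sub _ _ _
      rw [h1, sub_eq_zero]; exact h
    obtain ⟨s, hs, hsm⟩ := exists_smul_eq_zero_of_gm_eq_zero F hU hloc x hx _ h0
    refine ⟨⟨s, (hunit s).1 hs⟩, ?_⟩
    change s • m₁ = s • m₂
    rw [← sub_eq_zero, ← smul_sub]
    exact hsm


open Groth.Agent.Lib.Helper17.ModPullback in
/-- **Stalk of a pullback**: for quasi-coherent `G` on `Y` and `x : X`,
`(f^*G)_x ≃ O_{X,x} ⊗_{O_{Y,f x}} G_{f x}`. -/
theorem nonempty_linearEquiv_stalk_pullback {Y : Scheme.{u}} (f : X ⟶ Y) (G : Y.Modules) [G.IsQuasicoherent]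
    (x : X) :
    letI := (f.stalkMap x).hom.toAlgebra
    Nonempty (((Scheme.Modules.pullback f).obj G).presheaf.stalk x ≃ₗ[X.presheaf.stalk x]
      (X.presheaf.stalk x) ⊗[Y.presheaf.stalk (f x)] (G.presheaf.stalk (f x))) := by
  obtain ⟨U, V, hU, hV, hxU, hUV⟩ := exists_affine_pair f x
  have hyV : f x ∈ V := hUV hxU
  letI algBA : Algebra Γ(Y, V) Γ(X, U) := (f.appLE V U hUV).hom.toAlgebra
  letI algAAp : Algebra Γ(X, U) (X.presheaf.stalk x) := (X.presheaf.germ U x hxU).hom.toAlgebra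
  letI algBBq : Algebra Γ(Y, V) (Y.presheaf.stalk (f x)) := (Y.presheaf.germ V (f x) hyV).hom.toAlgebra
  letI algBqAp : Algebra (Y.presheaf.stalk (f x)) (X.presheaf.stalk x) := (f.stalkMap x).hom.toAlgebra
  letI algBAp : Algebra Γ(Y, V) (X.presheaf.stalk x) :=
    ((algebraMap Γ(X, U) (X.presheaf.stalk x)).comp (algebraMap Γ(Y, V) Γ(X, U))).toAlgebra
  haveI : IsScalarTower Γ(Y, V) Γ(X, U) (X.presheaf.stalk x) := IsScalarTower.of_algebraMap_eq (fun _ => rfl)
  haveI : IsScalarTower Γ(Y, V) (Y.presheaf.stalk (f x)) (X.presheaf.stalk x) := by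
    refine IsScalarTower.of_algebraMap_eq (fun b => ?_)
    change X.presheaf.germ U x hxU (f.appLE V U hUV b) = f.stalkMap x (Y.presheaf.germ V (f x) hyV b)
    rw [Scheme.Hom.germ_stalkMap_apply, Scheme.Hom.appLE]
    exact (TopCat.Presheaf.germ_res_apply X.presheaf (homOfLE hUV) x hxU _)
  haveI : IsLocalization (hV.primeIdealOf ⟨f x, hyV⟩).asIdeal.primeCompl (Y.presheaf.stalk (f x)) :=
    hV.isLocalization_stalk ⟨f x, hyV⟩
  haveI : IsLocalization (hU.primeIdealOf ⟨x, hxU⟩).asIdeal.primeCompl (X.presheaf.stalk x) :=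
    hU.isLocalization_stalk ⟨x, hxU⟩
  letI m1 := moduleStalkSections G V (f x) hyV
  letI m2 := moduleStalkSections ((Scheme.Modules.pullback f).obj G) U x hxU
  haveI : IsScalarTower Γ(Y, V) (Y.presheaf.stalk (f x)) (G.presheaf.stalk (f x)) :=
    IsScalarTower.of_compHom _ _ _
  haveI : IsScalarTower Γ(X, U) (X.presheaf.stalk x) (((Scheme.Modules.pullback f).obj G).presheaf.stalk x) :=
    IsScalarTower.of_compHom _ _ _
  haveI := isLocalizedModule_germLinear G hV (f x) hyV
  haveI := isLocalizedModule_germLinear ((Scheme.Modules.pullback f).obj G) hU x hxU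
  obtain ⟨e⟩ := nonempty_linearEquiv_pullback_sections f G hU hV hUV
  exact Groth.Agent.Lib.Helper17.LocBC.nonempty_linearEquiv_localized_baseChange
    (hV.primeIdealOf ⟨f x, hyV⟩).asIdeal.primeCompl (hU.primeIdealOf ⟨x, hxU⟩).asIdeal.primeCompl
    (germLinear G V (f x) hyV) (germLinear ((Scheme.Modules.pullback f).obj G) U x hxU) e

end Groth.Agent.Lib.Helper17.ModStalk
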