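import Groth.Agent.Lib.Helper17.CechAffine
import Groth.Agent.Lib.Helper17.StalkExact
import Groth.Agent.Lib.Helper6.CechFamTop
import Groth.Agent.Lib.Helper28.QCohGen
import Groth.Agent.Lib.Helper28.ModAffineExt
import Groth.Agent.Lib.Helper29.QCohExact
import Mathlib
set_option backward.isDefEq.respectTransparency.types false
set_option autoImplicit false
universe u
open CategoryTheory CategoryTheory.Limits Opposite TopologicalSpace AlgebraicGeometry

namespace Groth.Agent.Lib.Helper17.AffineSurj

open Groth.Agent.Lib.Helper17.CechAffine Groth.Agent.Lib.Helper17.StalkExact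
open Groth.Agent.Lib.Helper28.QCohLoc Groth.Agent.Lib.Helper29.QCohStalk

variable {X : Scheme.{u}}

/-- every open cover of an affine open is refined by a finite family of basic opens generating the unit ideal -/
theorem exists_basicOpen_refinement {U : X.Opens} (hU : IsAffineOpen U) {ι : Type u} (V : ι → X.Opens)
    (hV : iSup V = U) :
    ∃ (t : Finset Γ(X, U)) (i : {g // g ∈ t} → ι), Ideal.span (t : Set Γ(X, U)) = ⊤ ∧
      ∀ k : {g // g ∈ t}, X.basicOpen k.1 ≤ V (i k) := by
  have h1 : ∀ x : U, ∃ (i : ι) (f : Γ(X, U)), X.basicOpen f ≤ V i ∧ x.1 ∈ X.basicOpen f := by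
    intro x
    have hx : x.1 ∈ iSup V := by rw [hV]; exact x.2
    obtain ⟨i, hi⟩ := Opens.mem_iSup.1 hx
    obtain ⟨f, hf, hxf⟩ := hU.exists_basicOpen_le (V := V i) ⟨x.1, hi⟩ x.2
    exact ⟨i, f, hf, hxf⟩
  choose i f hf hxf using h1
  have hs : Ideal.span (Set.range f) = ⊤ := by
    rw [← hU.self_le_iSup_basicOpen_iff]
    intro x hx
    exact Opens.mem_iSup.2 ⟨⟨f ⟨x, hx⟩, ⟨x, hx⟩, rfl⟩, hxf ⟨x, hx⟩⟩
  obtain ⟨t, ht, htop⟩ := (Ideal.span_eq_top_iff_finite _).1 hs
  have h2 : ∀ k : {g // g ∈ t}, ∃ x : U, f x = k.1 := fun k => ht k.2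
  choose x hx using h2
  refine ⟨t, fun k => i (x k), htop, fun k => ?_⟩
  rw [← hx k]
  exact hf (x k)

/-- **Sections of an epimorphism with quasi-coherent kernel are surjective over affine opens.** -/
theorem surjective_app_of_shortExact_aux (S : ShortComplex (SheafOfModules.{u} X.ringCatSheaf)) (hS : S.ShortExact)
    (hq : SheafOfModules.IsQuasicoherent.{u} (R := X.ringCatSheaf) S.X₁)
    {U : X.Opens} (hU : IsAffineOpen U) : Function.Surjective (S.g.val.app (op U)).hom := by
  haveI : SheafOfModules.IsQuasicoherent.{u} (R := X.ringCatSheaf) S.X₁ := hq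
  have hS' : (S.map (SheafOfModules.toSheaf.{u} X.ringCatSheaf)).ShortExact :=
    hS.map_of_exact (SheafOfModules.toSheaf.{u} X.ringCatSheaf)
  have key := Groth.Agent.Lib.Helper6.CechFamTop.surjective_sections_of_cech_h1 (X := X.toTopCat)
    (S.map (SheafOfModules.toSheaf.{u} X.ringCatSheaf)) hS' U ?_
  · exact key
  · intro ι V hV
    obtain ⟨t, i, htop, hle⟩ := exists_basicOpen_refinement hU V hV
    refine ⟨{g // g ∈ t}, fun k => X.basicOpen k.1, i, ?_, hle, ?_⟩
    · apply le_antisymm
      · exact iSup_le fun k => X.basicOpen_le k.1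
      · have := (hU.self_le_iSup_basicOpen_iff (s := (t : Set Γ(X, U)))).2 htop
        exact this
    · have hcov : Ideal.span (Set.range (fun k : {g // g ∈ t} => k.1)) = ⊤ := by
        rw [Subtype.range_coe_subtype]
        exact htop
      exact isZero_cechH S.X₁ (fun k : {g // g ∈ t} => k.1) hU hcov 0

/-- **Sections of an epimorphism with quasi-coherent kernel are surjective over affine opens.** -/
theorem surjective_app_of_shortExact (S : ShortComplex X.Modules) (hS : S.ShortExact) [hq : S.X₁.IsQuasicoherent]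
    {U : X.Opens} (hU : IsAffineOpen U) : Function.Surjective (S.g.app U) :=
  surjective_app_of_shortExact_aux S hS hq hU

theorem app_comp_zero (S : ShortComplex X.Modules) (W : X.Opens) (k : Γ(S.X₁, W)) :
    S.g.app W (S.f.app W k) = 0 := by
  have := congrArg (fun ψ : (S.X₁ ⟶ S.X₃) => ψ.app W k) S.zero
  exact this

/-- the localization property passes to extensions (over an affine open) -/
theorem isLocOn_of_extension (S : ShortComplex X.Modules) (hS : S.ShortExact) [S.X₁.IsQuasicoherent]
    {U : X.Opens} (hU : IsAffineOpen U) (h1 : IsLocOn S.X₁ U) (h3 : IsLocOn S.X₃ U) : IsLocOn S.X₂ U := by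
  have hinj : ∀ W : X.Opens, Function.Injective (S.f.app W) := fun W =>
    injective_app_of_mono S.f hS.mono_f W
  refine ⟨fun r y => ?_, fun r x hx => ?_⟩
  · -- surjectivity
    obtain ⟨n, h, hh⟩ := h3.surj r (S.g.app _ y)
    obtain ⟨x', hx'⟩ := surjective_app_of_shortExact S hS hU h
    -- the difference comes from the kernel
    have hd : S.g.app (X.basicOpen r) (res S.X₂ (X.basicOpen_le r) x' - (resO (X.basicOpen_le r) r) ^ n • y) = 0 := by
      rw [map_sub, app_res, hx', Scheme.Modules.Hom.app_smul, hh, sub_self]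
    obtain ⟨k', hk'⟩ := exists_app_eq_of_shortExact S hS _ _ hd
    obtain ⟨m, k, hk⟩ := h1.surj r k'
    refine ⟨m + n, r ^ m • x' - S.f.app U k, ?_⟩
    rw [res_sub, res_smul, ← app_res, ← hk, Scheme.Modules.Hom.app_smul, hk', smul_sub, resO_pow,
      sub_sub_cancel, smul_smul, ← pow_add]
  · -- injectivity
    have h0 : res S.X₃ (X.basicOpen_le r) (S.g.app U x) = 0 := by
      rw [← app_res, hx, map_zero]
    obtain ⟨n, hn⟩ := h3.inj r _ h0
    have h2 : S.g.app U (r ^ n • x) = 0 := by rw [Scheme.Modules.Hom.app_smul, hn]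
    obtain ⟨k, hk⟩ := exists_app_eq_of_shortExact S hS U _ h2
    have h4 : res S.X₁ (X.basicOpen_le r) k = 0 := by
      apply hinj
      rw [app_res, hk, res_smul, hx, smul_zero, map_zero]
    obtain ⟨m, hm⟩ := h1.inj r k h4
    refine ⟨m + n, ?_⟩
    rw [pow_add, mul_smul, ← hk, ← Scheme.Modules.Hom.app_smul, hm, map_zero]

/-- **Quasi-coherent modules are closed under extensions.** -/
theorem isQuasicoherent_of_extension (S : ShortComplex X.Modules) (hS : S.ShortExact) [S.X₁.IsQuasicoherent]
    [S.X₃.IsQuasicoherent] : S.X₂.IsQuasicoherent :=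
  isQuasicoherent_of_forall_isLocOn _ fun U =>
    isLocOn_of_extension S hS U.2 (isLocOn_of_isQuasicoherent S.X₁ U.2) (isLocOn_of_isQuasicoherent S.X₃ U.2)

end Groth.Agent.Lib.Helper17.AffineSurj
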