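import Groth.Agent.Lib.Helper17.AffineSurj
import Groth.Agent.Lib.Helper6.CechFamTop
import Mathlib
set_option backward.isDefEq.respectTransparency.types false
set_option autoImplicit false
universe u
open CategoryTheory CategoryTheory.Limits Opposite TopologicalSpace AlgebraicGeometry Abelian

namespace Groth.Agent.Lib.Helper17.AffineVanish

open Groth.Agent.Lib.Helper6 Groth.Agent.Lib.Helper6.CechFamThin Groth.Agent.Lib.Helper6.SheafCoh
  Groth.Agent.Lib.Helper6.CechFamTop

/-- **Cartan's criterion for the cohomology of the whole space**: variant of Helper6's S0493 for `Sheaf.H`. -/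
theorem H_subsingleton_of_cech_acyclic_on_basis {X : TopCat.{u}} (F : CohTop.Ab X)
    (B : Set (Opens X)) (Cov : ∀ (ι : Type u), (ι → Opens X) → Prop)
    (h1 : ∀ (ι : Type u) (V : ι → Opens X), Cov ι V →
      iSup V ∈ B ∧ ∀ (p : ℕ) (a : Fin (p + 1) → ι), (iInf fun k => V (a k)) ∈ B)
    (h2 : ∀ U ∈ B, ∀ (κ : Type u) (W : κ → Opens X), iSup W = U →
      ∃ (ι : Type u) (V : ι → Opens X), Cov ι V ∧ iSup V = U ∧ ∀ i, ∃ k, V i ≤ W k)
    (h3 : ∀ (ι : Type u) (V : ι → Opens X), Cov ι V → ∀ p : ℕ, IsZero (CohTop.cechH F.obj V (p + 1)))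
    (hTop : (⊤ : Opens X) ∈ B) (p : ℕ) : Subsingleton (CohTop.H F (p + 1)) := by
  let Cov' : ∀ (U : Opens X) (ι : Type u), (ι → Over U) → Prop :=
    fun U ι Y => Cov ι (fun i => (Y i).left) ∧ iSup (fun i => (Y i).left) = U
  have h1' : ∀ (U : Opens X) (ι : Type u) (Y : ι → Over U), Cov' U ι Y → U ∈ B ∧
      Sieve.ofArrows (fun i => (Y i).left) (fun i => (Y i).hom) ∈ Opens.grothendieckTopology X U ∧
      ∀ (p : ℕ) (a : Fin (p + 1) → ι), (∏ᶜ fun k => Y (a k)).left ∈ B := by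
    intro U ι Y hc
    refine ⟨hc.2 ▸ (h1 _ _ hc.1).1, covering' U Y hc.2, fun p a => ?_⟩
    rw [left_prod_eq' U Y a]
    exact (h1 _ _ hc.1).2 p a
  have h2' : ∀ U ∈ B, ∀ T ∈ Opens.grothendieckTopology X U, ∃ (ι : Type u) (Y : ι → Over U),
      Cov' U ι Y ∧ ∀ i, T.arrows (Y i).hom := by
    intro U hU T hT
    obtain ⟨ι, V, hCov, hVU, href⟩ := h2 U hU _ _ (iSup_sieve T hT)
    have hV : ∀ i, V i ≤ U := fun i => hVU ▸ le_iSup V i
    refine ⟨ι, YO U V hV, ⟨hCov, hVU⟩, fun i => ?_⟩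
    obtain ⟨k, hk⟩ := href i
    have : (YO U V hV i).hom = homOfLE hk ≫ k.2.1 := Subsingleton.elim _ _
    rw [this]
    exact T.downward_closed k.2.2 _
  have h3' : CechFamCartan.CechAcyc (Opens.grothendieckTopology X) Cov' F := by
    intro U ι Y hc p
    exact (h3 _ _ hc.1 p).of_iso (cechHIso' U Y F.obj (p + 1))
  refine ⟨fun a b => ?_⟩
  have hv := ExtAcyc.ext_succ_eq_zero_of_class
    ((constantSheaf (Opens.grothendieckTopology X) AddCommGrpCat.{u}).obj (AddCommGrpCat.of (ULift ℤ)))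
    (CechFamCartan.CechAcyc (Opens.grothendieckTopology X) Cov') ?_ p F h3'
  · exact (hv a).trans (hv b).symm
  · intro S hS hP hInj
    haveI := hInj
    refine ⟨CechFamCartan.cechAcyc_X₃ (Opens.grothendieckTopology X) B Cov' h1' h2' hS hP, ?_⟩
    exact H_zero_surj_of_sections_surj (Opens.grothendieckTopology X) isTerminalTop S.g
      (CechFamCartan.surj (Opens.grothendieckTopology X) B Cov' h1' h2' hS hP ⊤ hTop)

open Groth.Agent.Lib.Helper17.CechAffine Groth.Agent.Lib.Helper17.AffineSurj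

variable {X : Scheme.{u}}

/-- the covering families used for Cartan's criterion: finite families of basic opens of an affine open generating
the unit ideal -/
def StdCov (X : Scheme.{u}) (ι : Type u) (V : ι → X.Opens) : Prop :=
  Finite ι ∧ ∃ (U : X.Opens) (_ : IsAffineOpen U) (r : ι → Γ(X, U)),
    V = (fun i => X.basicOpen (r i)) ∧ Ideal.span (Set.range r) = ⊤

theorem iSup_basicOpen_eq {U : X.Opens} (hU : IsAffineOpen U) {ι : Type u} (r : ι → Γ(X, U))
    (hr : Ideal.span (Set.range r) = ⊤) : (⨆ i, X.basicOpen (r i)) = U := by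
  apply le_antisymm
  · exact iSup_le fun i => X.basicOpen_le _
  · have h := (hU.self_le_iSup_basicOpen_iff (s := Set.range r)).2 hr
    refine h.trans (iSup_le fun f => ?_)
    obtain ⟨i, hi⟩ := f.2
    rw [← hi]
    exact le_iSup (fun i => X.basicOpen (r i)) i

theorem iInf_basicOpen_eq {U : X.Opens} {ι : Type u} (r : ι → Γ(X, U)) {p : ℕ} (a : Fin (p + 1) → ι) :
    (⨅ k, X.basicOpen (r (a k))) = X.basicOpen (∏ k, r (a k)) := by
  apply le_antisymm
  · intro z hz
    have hk : ∀ k, z ∈ X.basicOpen (r (a k)) := fun k => (iInf_le (fun k => X.basicOpen (r (a k))) k) hz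
    exact (mem_basicOpen_prod Finset.univ (fun k => r (a k)) z).2
      ⟨X.basicOpen_le _ (hk 0), fun k _ => hk k⟩
  · refine le_iInf fun k z hz => ?_
    exact ((mem_basicOpen_prod Finset.univ (fun k => r (a k)) z).1 hz).2 k (Finset.mem_univ k)

theorem stdCov_h1 (ι : Type u) (V : ι → X.Opens) (hc : StdCov X ι V) :
    iSup V ∈ {U : X.Opens | IsAffineOpen U} ∧
      ∀ (p : ℕ) (a : Fin (p + 1) → ι), (iInf fun k => V (a k)) ∈ {U : X.Opens | IsAffineOpen U} := by
  obtain ⟨_, U, hU, r, rfl, hr⟩ := hc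
  refine ⟨?_, fun p a => ?_⟩
  · change IsAffineOpen (⨆ i, X.basicOpen (r i))
    rw [iSup_basicOpen_eq hU r hr]
    exact hU
  · change IsAffineOpen (⨅ k, X.basicOpen (r (a k)))
    rw [iInf_basicOpen_eq]
    exact hU.basicOpen _

theorem stdCov_h2 (U : X.Opens) (hU : U ∈ {U : X.Opens | IsAffineOpen U}) (κ : Type u) (W : κ → X.Opens)
    (hW : iSup W = U) :
    ∃ (ι : Type u) (V : ι → X.Opens), StdCov X ι V ∧ iSup V = U ∧ ∀ i, ∃ k, V i ≤ W k := by
  obtain ⟨t, i, htop, hle⟩ := exists_basicOpen_refinement hU W hW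
  have hr : Ideal.span (Set.range (fun k : {g // g ∈ t} => k.1)) = ⊤ := by
    rw [Subtype.range_coe_subtype]
    exact htop
  refine ⟨{g // g ∈ t}, fun k => X.basicOpen k.1, ⟨inferInstance, U, hU, fun k => k.1, rfl, hr⟩, ?_,
    fun k => ⟨i k, hle k⟩⟩
  exact iSup_basicOpen_eq hU (fun k : {g // g ∈ t} => k.1) hr

theorem stdCov_h3 (M : X.Modules) [M.IsQuasicoherent] (ι : Type u) (V : ι → X.Opens) (hc : StdCov X ι V) (p : ℕ) :
    IsZero (CohTop.cechH ((SheafOfModules.toSheaf.{u} X.ringCatSheaf).obj M).obj V (p + 1)) := by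
  obtain ⟨hfin, U, hU, r, rfl, hr⟩ := hc
  exact isZero_cechH M r hU hr p

/-- **Vanishing of the higher cohomology of a quasi-coherent module over an affine open** -/
theorem subsingleton_HU_of_isAffineOpen (M : X.Modules) [M.IsQuasicoherent] {U : X.Opens} (hU : IsAffineOpen U)
    (p : ℕ) : Subsingleton (CohTop.HU ((SheafOfModules.toSheaf.{u} X.ringCatSheaf).obj M) (p + 1) U) :=
  acyclic_of_cech_acyclic_on_basis (X := X.toTopCat) _ {U : X.Opens | IsAffineOpen U} (StdCov X)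
    stdCov_h1 stdCov_h2 (stdCov_h3 M) U hU p

/-- **Affine Serre vanishing** -/
theorem subsingleton_H_of_isAffine [IsAffine X] (M : X.Modules) [M.IsQuasicoherent] (p : ℕ) :
    Subsingleton (CohTop.H (X := X.toTopCat) ((SheafOfModules.toSheaf.{u} X.ringCatSheaf).obj M) (p + 1)) :=
  H_subsingleton_of_cech_acyclic_on_basis (X := X.toTopCat) _ {U : X.Opens | IsAffineOpen U} (StdCov X)
    stdCov_h1 stdCov_h2 (stdCov_h3 M) (isAffineOpen_top X) p

end Groth.Agent.Lib.Helper17.AffineVanish
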