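import Groth.Agent.Lib.Helper8.CechContr
import Mathlib
set_option backward.isDefEq.respectTransparency.types false
set_option autoImplicit false
universe u
open CategoryTheory CategoryTheory.Limits Opposite TopologicalSpace Simplicial

namespace Groth.Agent.Lib.Helper17.CechElem

variable {X : TopCat.{u}} {ι : Type u} (V : ι → Opens X) (P : (Opens X)ᵒᵖ ⥤ AddCommGrpCat.{u})

/-- the intersection of the members indexed by a tuple, in the form used by the Čech complex -/
noncomputable abbrev W {n : ℕ} (x : Fin (n + 1) → ι) : Opens X := ∏ᶜ (V ∘ x)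

theorem W_le {n : ℕ} (x : Fin (n + 1) → ι) (a : Fin (n + 1)) : W V x ≤ V (x a) :=
  leOfHom (Pi.π (V ∘ x) a)

theorem le_W {n : ℕ} (x : Fin (n + 1) → ι) (T : Opens X) (h : ∀ a, T ≤ V (x a)) : T ≤ W V x :=
  leOfHom (Pi.lift (f := V ∘ x) fun a => homOfLE (h a))

theorem W_face_le {n : ℕ} (y : Fin (n + 2) → ι) (i : Fin (n + 2)) : W V y ≤ W V (y ∘ Fin.succAbove i) :=
  le_W V _ _ fun a => W_le V y (Fin.succAbove i a)

/-- the Čech complex -/
noncomputable abbrev K : CochainComplex AddCommGrpCat.{u} ℕ := (cechComplexFunctor V).obj P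

/-- the components of a cochain -/
noncomputable def comp {n : ℕ} (α : (K V P).X n) (x : Fin (n + 1) → ι) : P.obj (op (W V x)) :=
  Pi.π (fun x : Fin (n + 1) → ι => P.obj (op (∏ᶜ (V ∘ x)))) x α

/-- a cochain with given components -/
noncomputable def mk {n : ℕ} (f : ∀ x : Fin (n + 1) → ι, P.obj (op (W V x))) : (K V P).X n :=
  (Concrete.productEquiv (fun x : Fin (n + 1) → ι => P.obj (op (∏ᶜ (V ∘ x))))).symm f

theorem comp_mk {n : ℕ} (f : ∀ x : Fin (n + 1) → ι, P.obj (op (W V x))) (x : Fin (n + 1) → ι) :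
    comp V P (mk V P f) x = f x :=
  Concrete.productEquiv_symm_apply_π _ f x

theorem ext {n : ℕ} (α β : (K V P).X n) (h : ∀ x, comp V P α x = comp V P β x) : α = β := by
  apply (Concrete.productEquiv (fun x : Fin (n + 1) → ι => P.obj (op (∏ᶜ (V ∘ x))))).injective
  funext x
  rw [Concrete.productEquiv_apply_apply, Concrete.productEquiv_apply_apply]
  exact h x

theorem comp_zero {n : ℕ} (x : Fin (n + 1) → ι) : comp V P (0 : (K V P).X n) x = 0 := map_zero _

theorem sum_hom_apply {A B : AddCommGrpCat.{u}} {J : Type*} (s : Finset J) (f : J → (A ⟶ B)) (a : A) :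
    (∑ i ∈ s, f i).hom a = ∑ i ∈ s, (f i).hom a := by
  classical
  induction s using Finset.induction_on with
  | empty => simp
  | insert i s hi ih =>
    rw [Finset.sum_insert hi, Finset.sum_insert hi, AddCommGrpCat.hom_add, AddMonoidHom.add_apply, ih]

theorem apply_sum_comp {A B C : AddCommGrpCat.{u}} {J : Type*} (s : Finset J) (c : J → ℤ) (f : J → (A ⟶ B))
    (g : B ⟶ C) (a : A) :
    g.hom ((∑ i ∈ s, c i • f i).hom a) = ∑ i ∈ s, c i • (f i ≫ g).hom a := by
  rw [sum_hom_apply, map_sum]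
  refine Finset.sum_congr rfl fun i _ => ?_
  rw [AddCommGrpCat.hom_zsmul, AddMonoidHom.smul_apply, map_zsmul]
  rfl

open Groth.Agent.Lib.Helper8.CechContr in
/-- the components of the differential -/
theorem comp_d {n : ℕ} (α : (K V P).X n) (y : Fin (n + 2) → ι) :
    comp V P ((K V P).d n (n + 1) α) y =
      ∑ i : Fin (n + 2), (-1 : ℤ) ^ (i : ℕ) •
        P.map (homOfLE (W_face_le V y i)).op (comp V P α (y ∘ Fin.succAbove i)) := by
  have hd : (K V P).d n (n + 1) = ∑ i : Fin (n + 2), (-1 : ℤ) ^ (i : ℕ) •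
      ((FormalCoproduct.cosimplicialObjectFunctor (FormalCoproduct.mk _ V).cech).obj P).δ i := obj_d _ n
  have h0 : comp V P ((K V P).d n (n + 1) α) y =
      (Pi.π (fun x : Fin (n + 2) → ι => P.obj (op (∏ᶜ (V ∘ x)))) y).hom
        ((∑ i : Fin (n + 2), (-1 : ℤ) ^ (i : ℕ) •
          ((FormalCoproduct.cosimplicialObjectFunctor (FormalCoproduct.mk _ V).cech).obj P).δ i).hom α) := by
    rw [← hd]
    rfl
  refine h0.trans ((apply_sum_comp _ _ _ _ α).trans ?_)
  refine Finset.sum_congr rfl fun i _ => ?_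
  congr 1
  have h2 : ((FormalCoproduct.cosimplicialObjectFunctor (FormalCoproduct.mk _ V).cech).obj P).δ i ≫
      Pi.π (fun x : Fin (n + 2) → ι => P.obj (op (∏ᶜ (V ∘ x)))) y =
      Pi.π (fun x : Fin (n + 1) → ι => P.obj (op (∏ᶜ (V ∘ x)))) (y ∘ Fin.succAbove i) ≫
      P.map (Pi.lift (fun b => Pi.π (V ∘ y) (Fin.succAbove i b)) : ∏ᶜ (V ∘ y) ⟶ ∏ᶜ (V ∘ (y ∘ Fin.succAbove i))).op :=
    Pi.lift_π _ _
  exact congrArg (fun φ => φ.hom α) h2

/-- exactness criterion in elementwise form -/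
theorem isZero_homology_succ (p : ℕ)
    (h : ∀ α : (K V P).X (p + 1), (K V P).d (p + 1) (p + 2) α = 0 →
      ∃ β : (K V P).X p, (K V P).d p (p + 1) β = α) :
    IsZero ((K V P).homology (p + 1)) := by
  rw [← HomologicalComplex.exactAt_iff_isZero_homology,
    HomologicalComplex.exactAt_iff' (K V P) p (p + 1) (p + 2) (by simp) (by simp),
    ShortComplex.ab_exact_iff]
  intro x hx
  exact h x hx

end Groth.Agent.Lib.Helper17.CechElem
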