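import Mathlib

/-!
# Local criterion of flatness for a nilpotent ideal (Tor-free)

`flat_of_nilpotent`: if `I` is a nilpotent ideal of `A`, `(A ⧸ I) ⊗[A] M` is flat over `A ⧸ I`
and `I ⊗ M → A ⊗ M` is injective, then `M` is flat over `A`.
-/

namespace Groth.Agent.Lib.Helper17.LocalFlat

open TensorProduct Function

universe u v w w'

variable {A : Type u} [CommRing A] (M : Type v) [AddCommGroup M] [Module A M]

section calculus

variable {N' : Type*} {N : Type*} {Q' : Type*} {Q : Type*}
  [AddCommGroup N'] [Module A N'] [AddCommGroup N] [Module A N]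
  [AddCommGroup Q'] [Module A Q'] [AddCommGroup Q] [Module A Q]

/-- quotient step -/
theorem good_quot (f : N' →ₗ[A] N) (hf : Injective (f.rTensor M))
    (p' : N' →ₗ[A] Q') (hp' : Surjective p') (p : N →ₗ[A] Q) (hp : Surjective p)
    (q : Q' →ₗ[A] Q) (hq : q ∘ₗ p' = p ∘ₗ f)
    (hker : ∀ x ∈ LinearMap.ker p, ∃ y ∈ LinearMap.ker p', f y = x) :
    Injective (q.rTensor M) := by
  rw [injective_iff_map_eq_zero]
  intro z hz
  obtain ⟨z', rfl⟩ := LinearMap.rTensor_surjective M hp' z
  have h1 : p.rTensor M (f.rTensor M z') = 0 := by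
    rw [← LinearMap.comp_apply, ← LinearMap.rTensor_comp, ← hq, LinearMap.rTensor_comp,
      LinearMap.comp_apply, hz]
  have hex : Exact ((LinearMap.ker p).subtype.rTensor M) (p.rTensor M) :=
    rTensor_exact M (LinearMap.exact_subtype_ker_map p) hp
  obtain ⟨w, hw⟩ := (hex _).1 h1
  -- the restriction of `f` to kernels
  let k : LinearMap.ker p' →ₗ[A] LinearMap.ker p :=
    (f.comp (LinearMap.ker p').subtype).codRestrict (LinearMap.ker p) (by
      intro y
      have := LinearMap.congr_fun hq y.1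
      simp only [LinearMap.comp_apply] at this
      rw [LinearMap.mem_ker, LinearMap.comp_apply, Submodule.subtype_apply, ← this, y.2, map_zero])
  have hk : Surjective k := by
    intro x
    obtain ⟨y, hy, hxy⟩ := hker x.1 x.2
    exact ⟨⟨y, hy⟩, Subtype.ext hxy⟩
  obtain ⟨w', rfl⟩ := LinearMap.rTensor_surjective M hk w
  have h2 : f.rTensor M z' = f.rTensor M ((LinearMap.ker p').subtype.rTensor M w') := by
    rw [← hw, ← LinearMap.comp_apply, ← LinearMap.comp_apply, ← LinearMap.rTensor_comp,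
      ← LinearMap.rTensor_comp]
    rfl
  rw [hf h2, ← LinearMap.comp_apply, ← LinearMap.rTensor_comp]
  have : p' ∘ₗ (LinearMap.ker p').subtype = 0 := by
    ext y; exact y.2
  rw [this, LinearMap.rTensor_zero, LinearMap.zero_apply]

/-- extension step -/
theorem good_ext {K' : Type*} [AddCommGroup K'] [Module A K']
    (f : N' →ₗ[A] N) (i' : K' →ₗ[A] N') (p' : N' →ₗ[A] Q') (hex : Exact i' p') (hp' : Surjective p')
    (p : N →ₗ[A] Q) (q : Q' →ₗ[A] Q) (hq : q ∘ₗ p' = p ∘ₗ f)
    (hfi : Injective ((f ∘ₗ i').rTensor M)) (hqg : Injective (q.rTensor M)) :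
    Injective (f.rTensor M) := by
  rw [injective_iff_map_eq_zero]
  intro z hz
  have h1 : q.rTensor M (p'.rTensor M z) = 0 := by
    rw [← LinearMap.comp_apply, ← LinearMap.rTensor_comp, hq, LinearMap.rTensor_comp,
      LinearMap.comp_apply, hz, map_zero]
  have h2 : p'.rTensor M z = 0 := hqg (by rw [h1, map_zero])
  obtain ⟨w, rfl⟩ := (rTensor_exact M hex hp' z).1 h2
  rw [← LinearMap.comp_apply, ← LinearMap.rTensor_comp] at hz
  have : w = 0 := hfi (by rw [hz, map_zero])
  rw [this, map_zero]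

end calculus


section torsion

variable (I : Ideal A)
variable {N' : Type*} {N : Type*} [AddCommGroup N'] [Module A N'] [AddCommGroup N] [Module A N]

/-- Injections of modules killed by `I` stay injective after `⊗ M`, if `M/IM` is flat over `A/I`. -/
theorem good_of_torsion [Module.Flat (A ⧸ I) ((A ⧸ I) ⊗[A] M)]
    (hN : ∀ a ∈ I, ∀ x : N, a • x = 0) (f : N' →ₗ[A] N) (hf : Injective f) :
    Injective (f.rTensor M) := by
  have hN' : ∀ a ∈ I, ∀ x : N', a • x = 0 := fun a ha x =>
    hf (by rw [map_smul, hN a ha, map_zero])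
  have tN : Module.IsTorsionBySet A N I := fun x a => hN a a.2 x
  have tN' : Module.IsTorsionBySet A N' I := fun x a => hN' a a.2 x
  letI mN : Module (A ⧸ I) N := tN.module
  letI mN' : Module (A ⧸ I) N' := tN'.module
  haveI : IsScalarTower A (A ⧸ I) N := tN.isScalarTower
  haveI : IsScalarTower A (A ⧸ I) N' := tN'.isScalarTower
  let f' : N' →ₗ[A ⧸ I] N :=
    { toFun := f
      map_add' := f.map_add
      map_smul' := by
        intro c x
        obtain ⟨a, rfl⟩ := Ideal.Quotient.mk_surjective c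
        exact f.map_smul a x }
  have h1 : Injective (f'.rTensor ((A ⧸ I) ⊗[A] M)) :=
    Module.Flat.rTensor_preserves_injective_linearMap f' hf
  let eN := AlgebraTensorModule.cancelBaseChange A (A ⧸ I) (A ⧸ I) N M
  let eN' := AlgebraTensorModule.cancelBaseChange A (A ⧸ I) (A ⧸ I) N' M
  have hcomm : ∀ z, f.rTensor M (eN' z) = eN (f'.rTensor ((A ⧸ I) ⊗[A] M) z) := by
    intro z
    induction z using TensorProduct.induction_on with
    | zero => simp
    | add x y hx hy => simp only [map_add, hx, hy]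
    | tmul x y =>
      induction y using TensorProduct.induction_on with
      | zero => simp
      | add y₁ y₂ h₁ h₂ => simp only [tmul_add, map_add, h₁, h₂]
      | tmul c m =>
        obtain ⟨a, rfl⟩ := Ideal.Quotient.mk_surjective c
        simp only [eN, eN', AlgebraTensorModule.cancelBaseChange_tmul, LinearMap.rTensor_tmul]
        show f (Ideal.Quotient.mk I a • x) ⊗ₜ[A] m = (Ideal.Quotient.mk I a • f x) ⊗ₜ[A] m
        congr 1
        exact f.map_smul a x
  intro z₁ z₂ h
  obtain ⟨w₁, rfl⟩ := eN'.surjective z₁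
  obtain ⟨w₂, rfl⟩ := eN'.surjective z₂
  rw [hcomm, hcomm] at h
  rw [h1 (eN.injective h)]

end torsion


section flat

variable (I : Ideal A) (F : Type*) [AddCommGroup F] [Module A F]

/-- the multiplication map `I ⊗ F → F`. -/
noncomputable def mulI : I ⊗[A] F →ₗ[A] F :=
  (TensorProduct.lid A F).toLinearMap ∘ₗ (I.subtype.rTensor F)

@[simp] theorem mulI_tmul (a : I) (x : F) : mulI I F (a ⊗ₜ x) = (a : A) • x := by
  simp [mulI]

theorem range_mulI : LinearMap.range (mulI I F) = I • (⊤ : Submodule A F) := by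
  apply le_antisymm
  · rintro _ ⟨z, rfl⟩
    induction z using TensorProduct.induction_on with
    | zero => simp
    | add x y hx hy => rw [map_add]; exact add_mem hx hy
    | tmul a x => rw [mulI_tmul]; exact Submodule.smul_mem_smul a.2 Submodule.mem_top
  · rw [Submodule.smul_le]
    intro a ha x _
    exact ⟨(⟨a, ha⟩ : I) ⊗ₜ x, by simp⟩

variable {I} in
/-- For flat `F`, `I ⊗ F → F` stays injective after `⊗ M` if `I ⊗ M → A ⊗ M` is injective. -/
theorem good_mulI [Module.Flat A F] (hIM : Injective (I.subtype.rTensor M)) :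
    Injective ((mulI I F).rTensor M) := by
  have h1 : Injective ((I.subtype.rTensor M).lTensor F) :=
    Module.Flat.lTensor_preserves_injective_linearMap _ hIM
  let e₁ : (I ⊗[A] F) ⊗[A] M ≃ₗ[A] F ⊗[A] (I ⊗[A] M) :=
    (LinearEquiv.rTensor M (TensorProduct.comm A I F)) ≪≫ₗ TensorProduct.assoc A F I M
  let e₂ : F ⊗[A] M ≃ₗ[A] F ⊗[A] (A ⊗[A] M) :=
    LinearEquiv.lTensor F (TensorProduct.lid A M).symm
  have hcomm : ∀ z, e₂ ((mulI I F).rTensor M z) = (I.subtype.rTensor M).lTensor F (e₁ z) := by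
    intro z
    induction z using TensorProduct.induction_on with
    | zero => simp
    | add x y hx hy => simp only [map_add, hx, hy]
    | tmul y m =>
      induction y using TensorProduct.induction_on with
      | zero => simp
      | add y₁ y₂ h₁ h₂ => simp only [add_tmul, map_add, h₁, h₂]
      | tmul a x =>
        simp only [e₁, e₂, LinearMap.rTensor_tmul, mulI_tmul, LinearEquiv.trans_apply,
          LinearEquiv.rTensor_tmul, TensorProduct.comm_tmul, TensorProduct.assoc_tmul,
          LinearMap.lTensor_tmul, LinearEquiv.lTensor_tmul, TensorProduct.lid_symm_apply,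
          Submodule.subtype_apply]
        rw [TensorProduct.smul_tmul, TensorProduct.smul_tmul', smul_eq_mul, mul_one]
  intro z₁ z₂ h
  apply e₁.injective
  apply h1
  rw [← hcomm, ← hcomm, h]

end flat


section main

variable {I : Ideal A}

/-- Claim 2: for flat `F` and a submodule `F' ⊇ IF`, `F' ⊗ M → F ⊗ M` is injective. -/
theorem good_of_flat_of_le [Module.Flat (A ⧸ I) ((A ⧸ I) ⊗[A] M)]
    (hIM : Injective (I.subtype.rTensor M))
    (F : Type*) [AddCommGroup F] [Module A F] [Module.Flat A F]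
    (F' : Submodule A F) (hF' : I • (⊤ : Submodule A F) ≤ F') :
    Injective (F'.subtype.rTensor M) := by
  have hmem : ∀ z, mulI I F z ∈ F' := fun z => hF' (by rw [← range_mulI]; exact ⟨z, rfl⟩)
  let i' : I ⊗[A] F →ₗ[A] F' := (mulI I F).codRestrict F' hmem
  have hi' : F'.subtype ∘ₗ i' = mulI I F := by ext; rfl
  have hle : LinearMap.range i' ≤ (LinearMap.range (mulI I F)).comap F'.subtype := by
    rintro _ ⟨z, rfl⟩
    exact ⟨z, rfl⟩
  let q : (F' ⧸ LinearMap.range i') →ₗ[A] (F ⧸ LinearMap.range (mulI I F)) :=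
    Submodule.mapQ _ _ F'.subtype hle
  have hq : Injective q := by
    rw [injective_iff_map_eq_zero]
    intro x hx
    obtain ⟨x, rfl⟩ := Submodule.Quotient.mk_surjective _ x
    rw [Submodule.mapQ_apply, Submodule.Quotient.mk_eq_zero] at hx
    obtain ⟨z, hz⟩ := hx
    rw [Submodule.Quotient.mk_eq_zero]
    exact ⟨z, Subtype.ext hz⟩
  have hQ : ∀ a ∈ I, ∀ x : F ⧸ LinearMap.range (mulI I F), a • x = 0 := by
    intro a ha x
    obtain ⟨x, rfl⟩ := Submodule.Quotient.mk_surjective _ x
    rw [← Submodule.Quotient.mk_smul, Submodule.Quotient.mk_eq_zero]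
    exact ⟨(⟨a, ha⟩ : I) ⊗ₜ x, by simp⟩
  refine good_ext M F'.subtype i' (Submodule.mkQ _) ?_ (Submodule.mkQ_surjective _)
    (Submodule.mkQ _) q ?_ ?_ (good_of_torsion M I hQ q hq)
  · intro x
    rw [Submodule.mkQ_apply, Submodule.Quotient.mk_eq_zero]
    rfl
  · ext x; rfl
  · rw [hi']
    exact good_mulI M F hIM

/-- (★): if `N' ≤ N` with `I N ≤ N'` then `N' ⊗ M → N ⊗ M` is injective. -/
theorem good_of_smul_le [Module.Flat (A ⧸ I) ((A ⧸ I) ⊗[A] M)]
    (hIM : Injective (I.subtype.rTensor M))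
    (N : Type*) [AddCommGroup N] [Module A N]
    (N' : Submodule A N) (hN' : I • (⊤ : Submodule A N) ≤ N') :
    Injective (N'.subtype.rTensor M) := by
  let π : (N →₀ A) →ₗ[A] N := Finsupp.linearCombination A id
  have hπ : Surjective π := Finsupp.linearCombination_id_surjective A N
  let F' : Submodule A (N →₀ A) := N'.comap π
  have hF' : I • (⊤ : Submodule A (N →₀ A)) ≤ F' := by
    rw [Submodule.smul_le]
    intro a ha x _
    show π (a • x) ∈ N'
    rw [map_smul]
    exact hN' (Submodule.smul_mem_smul ha Submodule.mem_top)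
  have h1 := good_of_flat_of_le M hIM (N →₀ A) F' hF'
  let p' : F' →ₗ[A] N' := π.restrict (fun x hx => hx)
  have hp' : Surjective p' := by
    intro y
    obtain ⟨x, hx⟩ := hπ y.1
    exact ⟨⟨x, by show π x ∈ N'; rw [hx]; exact y.2⟩, Subtype.ext hx⟩
  refine good_quot (N' := F') (N := N →₀ A) (Q' := N') (Q := N) M F'.subtype h1 p' hp' π hπ
    N'.subtype ?_ ?_
  · ext x; rfl
  · intro x hx
    have hxF : x ∈ F' := by
      show π x ∈ N'
      rw [LinearMap.mem_ker.1 hx]; exact N'.zero_mem
    refine ⟨⟨x, hxF⟩, ?_, rfl⟩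
    rw [LinearMap.mem_ker]
    exact Subtype.ext (LinearMap.mem_ker.1 hx)

theorem good_trans_sub {X : Type*} [AddCommGroup X] [Module A X] (P P' : Submodule A X) (h : P ≤ P')
    (h1 : Injective (P'.subtype.rTensor M))
    (h2 : Injective ((P.comap P'.subtype).subtype.rTensor M)) :
    Injective (P.subtype.rTensor M) := by
  have : P.subtype = P'.subtype ∘ₗ (P.comap P'.subtype).subtype ∘ₗ
      (Submodule.comapSubtypeEquivOfLe h).symm.toLinearMap := by
    ext x; rfl
  rw [this, LinearMap.rTensor_comp, LinearMap.rTensor_comp]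
  exact h1.comp (h2.comp (LinearEquiv.rTensor M (Submodule.comapSubtypeEquivOfLe h).symm).injective)

/-- **Local criterion of flatness, nilpotent case.** -/
theorem flat_of_nilpotent (hI : IsNilpotent I) [Module.Flat (A ⧸ I) ((A ⧸ I) ⊗[A] M)]
    (hIM : Injective (I.subtype.rTensor M)) : Module.Flat A M := by
  rw [Module.Flat.iff_rTensor_injective']
  intro 𝔞
  obtain ⟨n, hn⟩ := hI
  have key : ∀ k, Injective ((𝔞 ⊔ I ^ k).subtype.rTensor M) := by
    intro k
    induction k with
    | zero =>
      have h0 : 𝔞 ⊔ I ^ 0 = ⊤ := by rw [pow_zero, Ideal.one_eq_top, sup_top_eq]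
      have : ∀ J : Ideal A, J = ⊤ → Injective (J.subtype.rTensor M) := by
        rintro _ rfl
        have : (⊤ : Ideal A).subtype = (Submodule.topEquiv (R := A) (M := A)).toLinearMap := by
          ext x; rfl
        rw [this]
        exact (LinearEquiv.rTensor M (Submodule.topEquiv (R := A) (M := A))).injective
      exact this _ h0
    | succ k ih =>
      refine good_trans_sub M _ _ (sup_le_sup_left (Ideal.pow_le_pow_right (Nat.le_succ k)) _) ih ?_
      apply good_of_smul_le M hIM
      rw [Submodule.smul_le]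
      intro a ha x _
      show ((a • x : ↥(𝔞 ⊔ I ^ k)) : A) ∈ 𝔞 ⊔ I ^ (k + 1)
      obtain ⟨y, hy, z, hz, hyz⟩ := Submodule.mem_sup.1 x.2
      rw [Submodule.coe_smul, ← hyz, smul_add]
      refine Submodule.add_mem_sup (𝔞.mul_mem_left a hy) ?_
      rw [pow_succ', smul_eq_mul]
      exact Ideal.mul_mem_mul ha hz
  have := key n
  rw [hn, Ideal.zero_eq_bot, sup_bot_eq] at this
  exact this

end main


section algebra

/-- An `A`-linear equivalence between `A ⧸ I`-modules is `A ⧸ I`-linear. -/
noncomputable def quotLin (I : Ideal A) {X Y : Type*} [AddCommGroup X] [AddCommGroup Y]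
    [Module A X] [Module A Y] [Module (A ⧸ I) X] [Module (A ⧸ I) Y] [IsScalarTower A (A ⧸ I) X]
    [IsScalarTower A (A ⧸ I) Y] (e : X ≃ₗ[A] Y) : X ≃ₗ[A ⧸ I] Y :=
  { e with
    map_smul' := by
      intro c x
      obtain ⟨a, rfl⟩ := Ideal.Quotient.mk_surjective c
      have h1 : (Ideal.Quotient.mk I a) • x = a • x := algebraMap_smul (A ⧸ I) a x
      have h2 : (Ideal.Quotient.mk I a) • e x = a • e x := algebraMap_smul (A ⧸ I) a (e x)
      simp only [AddHom.toFun_eq_coe, LinearMap.coe_toAddHom, LinearEquiv.coe_coe, RingHom.id_apply]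
      rw [h1, h2, map_smul] }

/-- `(A ⧸ I) ⊗[A] B ≃ B ⧸ I B`, linearly over `A ⧸ I`. -/
noncomputable def tensorQuotEquiv (I : Ideal A) (B : Type*) [CommRing B] [Algebra A B] :
    ((A ⧸ I) ⊗[A] B) ≃ₗ[A ⧸ I] (B ⧸ I.map (algebraMap A B)) :=
  quotLin I ((TensorProduct.comm A (A ⧸ I) B) ≪≫ₗ
    ((Ideal.qoutMapEquivTensorQout (R := A) B (I := I)).symm.restrictScalars A))

/-- Local criterion of flatness (nilpotent ideal), algebra form. -/
theorem flat_of_nilpotent_algebra {I : Ideal A} (hI : IsNilpotent I) (B : Type*) [CommRing B] [Algebra A B]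
    [Module.Flat (A ⧸ I) (B ⧸ I.map (algebraMap A B))]
    (hIM : Injective (I.subtype.rTensor B)) : Module.Flat A B := by
  haveI : Module.Flat (A ⧸ I) ((A ⧸ I) ⊗[A] B) := Module.Flat.of_linearEquiv (tensorQuotEquiv I B)
  exact flat_of_nilpotent B hI hIM

/-- Local criterion of flatness (nilpotent kernel), for a surjection `A' → A`. -/
theorem flat_of_nilpotent_surj {A' : Type*} {A : Type*} [CommRing A'] [CommRing A] [Algebra A' A]
    (hsurj : Surjective (algebraMap A' A)) (hI : IsNilpotent (RingHom.ker (algebraMap A' A)))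
    (M : Type*) [AddCommGroup M] [Module A' M] [Module.Flat A (A ⊗[A'] M)]
    (hIM : Injective ((RingHom.ker (algebraMap A' A)).subtype.rTensor M)) : Module.Flat A' M := by
  let e : (A' ⧸ RingHom.ker (algebraMap A' A)) ≃+* A := RingHom.quotientKerEquivOfSurjective hsurj
  letI : Algebra A (A' ⧸ RingHom.ker (algebraMap A' A)) := e.symm.toRingHom.toAlgebra
  haveI : IsScalarTower A' A (A' ⧸ RingHom.ker (algebraMap A' A)) :=
    IsScalarTower.of_algebraMap_eq (fun a => by
      show _ = e.symm (algebraMap A' A a)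
      rw [RingEquiv.eq_symm_apply]
      rfl)
  haveI : Module.Flat (A' ⧸ RingHom.ker (algebraMap A' A))
      ((A' ⧸ RingHom.ker (algebraMap A' A)) ⊗[A] (A ⊗[A'] M)) := inferInstance
  haveI : Module.Flat (A' ⧸ RingHom.ker (algebraMap A' A))
      ((A' ⧸ RingHom.ker (algebraMap A' A)) ⊗[A'] M) :=
    Module.Flat.of_linearEquiv (AlgebraTensorModule.cancelBaseChange A' A
      (A' ⧸ RingHom.ker (algebraMap A' A)) (A' ⧸ RingHom.ker (algebraMap A' A)) M).symm
  exact flat_of_nilpotent M hI hIM

end algebra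

end Groth.Agent.Lib.Helper17.LocalFlat
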