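import Groth.Agent.Lib.Helper17.FTExt
import Mathlib
set_option backward.isDefEq.respectTransparency.types false
set_option autoImplicit false
universe u

namespace Groth.Agent.Lib.Helper17.FTExt
open CategoryTheory CategoryTheory.Limits Opposite TopologicalSpace AlgebraicGeometry
open Groth.Agent.Lib.Helper28.QCohLoc Groth.Agent.Lib.Helper28.TensorGen
open Groth.Agent.Lib.Helper17.FinTypeConv

variable {X : Scheme.{u}}

/-- (P-a) membership in the range of `subKι` over the image of an open of `O` -/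
theorem mem_range_subKι_image (O : X.Opens) (M : X.Modules) {Q : (O : Scheme.{u}).Modules}
    (π : M.restrict O.ι ⟶ Q) (T' : (O : Scheme.{u}).Opens) (m : Γ(M, O.ι ''ᵁ T')) :
    (∃ k : Γ(subK O M π, O.ι ''ᵁ T'), (subKι O M π).app (O.ι ''ᵁ T') k = m) ↔
      π.app T' (show Γ(M.restrict O.ι, T') from m) = 0 := by
  rw [mem_subK_iff]
  have e1 : O.ι ⁻¹ᵁ (O.ι ''ᵁ T') = T' := O.ι.preimage_image_eq T'
  have h1 : resO' O M (O.ι ''ᵁ T') m =
      res (M.restrict O.ι) (e1.le : O.ι ⁻¹ᵁ (O.ι ''ᵁ T') ≤ T') (show Γ(M.restrict O.ι, T') from m) := rfl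
  rw [h1, app_res]
  constructor
  · intro h
    have h2 := congrArg (res Q (e1.ge : T' ≤ O.ι ⁻¹ᵁ (O.ι ''ᵁ T'))) h
    rw [res_res, res_zero, res_self] at h2
    exact h2
  · intro h
    rw [h, res_zero]

/-- (P-b) a section killed by the cokernel projection of a monomorphism is in the image -/
theorem exists_app_eq_of_mono {A B : X.Modules} (i : A ⟶ B) [Mono i] (T : X.Opens) (b : Γ(B, T))
    (hb : (cokernel.π i).app T b = 0) : ∃ a : Γ(A, T), i.app T a = b := by
  let S : ShortComplex X.Modules := ShortComplex.mk i (cokernel.π i) (cokernel.condition i)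
  have hS : S.ShortExact :=
    { exact := ShortComplex.exact_of_g_is_cokernel _ (cokernelIsCokernel i)
      mono_f := ‹Mono i›
      epi_g := inferInstanceAs (Epi (cokernel.π i)) }
  exact Groth.Agent.Lib.Helper29.QCohStalk.exists_app_eq_of_shortExact S hS T b hb

theorem cokernel_π_app_app {A B : X.Modules} (i : A ⟶ B) (T : X.Opens) (a : Γ(A, T)) :
    (cokernel.π i).app T (i.app T a) = 0 := by
  have := congrArg (fun ψ : (A ⟶ cokernel i) => ψ.app T a) (cokernel.condition i)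
  exact this

/-- (P-c) two subobjects with the same sections are isomorphic -/
theorem exists_iso_of_range_eq {P P' R : X.Modules} (α : P ⟶ R) (β : P' ⟶ R) [Mono α] [Mono β]
    (h : ∀ (T : X.Opens) (r : Γ(R, T)), (∃ p, α.app T p = r) ↔ (∃ p', β.app T p' = r)) :
    ∃ e : P ≅ P', e.hom ≫ β = α := by
  have h1 : α ≫ cokernel.π β = 0 := by
    apply Scheme.Modules.hom_ext
    intro T
    ext p
    obtain ⟨p', hp'⟩ := (h T (α.app T p)).1 ⟨p, rfl⟩
    have : (α ≫ cokernel.π β).app T p = (cokernel.π β).app T (α.app T p) := rfl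
    rw [this, ← hp', cokernel_π_app_app]
    rfl
  have h2 : β ≫ cokernel.π α = 0 := by
    apply Scheme.Modules.hom_ext
    intro T
    ext p'
    obtain ⟨p, hp⟩ := (h T (β.app T p')).2 ⟨p', rfl⟩
    have : (β ≫ cokernel.π α).app T p' = (cokernel.π α).app T (β.app T p') := rfl
    rw [this, ← hp, cokernel_π_app_app]
    rfl
  let l : P ⟶ P' := Abelian.monoLift β α h1
  let l' : P' ⟶ P := Abelian.monoLift α β h2
  have hl : l ≫ β = α := Abelian.monoLift_comp β α h1
  have hl' : l' ≫ α = β := Abelian.monoLift_comp α β h2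
  refine ⟨⟨l, l', ?_, ?_⟩, hl⟩
  · rw [← cancel_mono α, Category.assoc, hl', hl, Category.id_comp]
  · rw [← cancel_mono β, Category.assoc, hl, hl', Category.id_comp]

section saturation
open Groth.Agent.Lib.Helper28.FinType

/-- the saturation of a subobject `F' ⊆ G|_U`: the largest subobject of `G` restricting to `F'`. -/
theorem exists_saturation (U : X.Opens) [QuasiCompact U.ι] (G : X.Modules) [G.IsQuasicoherent]
    (F' : (U : Scheme.{u}).Modules) [F'.IsQuasicoherent] (i' : F' ⟶ G.restrict U.ι) [Mono i'] :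
    ∃ (H : X.Modules) (ι : H ⟶ G), Mono ι ∧ H.IsQuasicoherent ∧
      ∀ (T' : (U : Scheme.{u}).Opens) (g : Γ(G, U.ι ''ᵁ T')),
        (∃ h : Γ(H, U.ι ''ᵁ T'), ι.app (U.ι ''ᵁ T') h = g) ↔
          (∃ b : Γ(F', T'), i'.app T' b = (show Γ(G.restrict U.ι, T') from g)) := by
  haveI : (G.restrict U.ι).IsQuasicoherent := inferInstance
  haveI : (cokernel i').IsQuasicoherent := Groth.Agent.Lib.Helper17.CohKer.isQuasicoherent_cokernel i'
  refine ⟨subK U G (cokernel.π i'), subKι U G (cokernel.π i'), inferInstance,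
    isQuasicoherent_subK U G (cokernel.π i'), fun T' g => ?_⟩
  rw [mem_range_subKι_image]
  constructor
  · intro h
    exact exists_app_eq_of_mono i' T' _ h
  · rintro ⟨b, hb⟩
    rw [← hb]
    exact cokernel_π_app_app i' T' b

/-- a subobject of `G` whose sections over the opens of `U` are those of a finite type module is of finite type
over `U`. -/
theorem finite_of_range_iff (U : X.Opens) (G : X.Modules)
    (F' : (U : Scheme.{u}).Modules) [F'.IsQuasicoherent]
    [SheafOfModules.IsFiniteType.{u} (R := (U : Scheme.{u}).ringCatSheaf) F']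
    (i' : F' ⟶ G.restrict U.ι) (H : X.Modules) (ι : H ⟶ G) [Mono ι]
    (hH : ∀ (T' : (U : Scheme.{u}).Opens) (g : Γ(G, U.ι ''ᵁ T')),
        (∃ h : Γ(H, U.ι ''ᵁ T'), ι.app (U.ι ''ᵁ T') h = g) ↔
          (∃ b : Γ(F', T'), i'.app T' b = (show Γ(G.restrict U.ι, T') from g)))
    (T : X.Opens) (hT : IsAffineOpen T) (hTU : T ≤ U) : Module.Finite Γ(X, T) Γ(H, T) := by
  have e0 : U.ι ''ᵁ (U.ι ⁻¹ᵁ T) = T := by
    rw [Scheme.Hom.image_preimage_eq_opensRange_inf, Scheme.Opens.opensRange_ι]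
    exact inf_eq_right.2 hTU
  refine finite_congr e0 ?_
  have hT' : IsAffineOpen (U.ι ⁻¹ᵁ T) := by
    rw [← U.ι.isAffineOpen_iff_of_isOpenImmersion, e0]
    exact hT
  have hfin : Module.Finite Γ((U : Scheme.{u}), U.ι ⁻¹ᵁ T) Γ(F', U.ι ⁻¹ᵁ T) :=
    finite_of_isAffineOpen F' hT'
  have hfg : (LinearMap.range (appLin i' (U.ι ⁻¹ᵁ T))).FG := by
    rw [LinearMap.range_eq_map]
    exact Submodule.FG.map _ hfin.fg_top
  have hfg' : (LinearMap.range (appLin ι (U.ι ''ᵁ (U.ι ⁻¹ᵁ T)))).FG := by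
    refine fg_transport (R := Γ((U : Scheme.{u}), U.ι ⁻¹ᵁ T)) (R' := Γ(X, U.ι ''ᵁ (U.ι ⁻¹ᵁ T)))
      (M := Γ(G.restrict U.ι, U.ι ⁻¹ᵁ T)) (M' := Γ(G, U.ι ''ᵁ (U.ι ⁻¹ᵁ T))) (fun r => r)
      (AddMonoidHom.id _) (fun r m => restrict_smul_eq U G (U.ι ⁻¹ᵁ T) r m) _ _ (fun m' => ?_) hfg
    constructor
    · rintro ⟨k, rfl⟩
      obtain ⟨b, hb⟩ := (hH (U.ι ⁻¹ᵁ T) (ι.app _ k)).1 ⟨k, rfl⟩
      exact ⟨_, ⟨b, hb⟩, rfl⟩
    · rintro ⟨m, ⟨b, hb⟩, rfl⟩
      obtain ⟨k, hk⟩ := (hH (U.ι ⁻¹ᵁ T) m).2 ⟨b, hb⟩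
      exact ⟨k, hk⟩
  haveI : Module.Finite Γ(X, U.ι ''ᵁ (U.ι ⁻¹ᵁ T)) (LinearMap.range (appLin ι (U.ι ''ᵁ (U.ι ⁻¹ᵁ T)))) :=
    Module.Finite.of_fg hfg'
  exact Module.Finite.equiv
    (LinearEquiv.ofInjective (appLin ι (U.ι ''ᵁ (U.ι ⁻¹ᵁ T)))
      (Groth.Agent.Lib.Helper29.QCohStalk.injective_app_of_mono ι inferInstance _)).symm

end saturation

theorem quasiCompact_ι_of_isCompact [QuasiSeparatedSpace X] (V : X.Opens) (hV : IsCompact (V : Set X)) :
    QuasiCompact V.ι := by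
  rw [quasiCompact_iff_forall_isAffineOpen]
  intro T hT
  exact isCompact_preimage_ι T V
    (QuasiSeparatedSpace.inter_isCompact _ _ T.2 hT.isCompact V.2 hV)

theorem isCompact_sup_biSup (U : X.Opens) (hU : IsCompact (U : Set X)) (s : Finset X.affineOpens) :
    IsCompact ((U ⊔ ⨆ a ∈ s, (a : X.Opens) : X.Opens) : Set X) := by
  have : ((U ⊔ ⨆ a ∈ s, (a : X.Opens) : X.Opens) : Set X) = (U : Set X) ∪ ⋃ a ∈ s, ((a : X.Opens) : Set X) := by
    simp
  rw [this]
  exact hU.union (s.isCompact_biUnion fun a _ => a.2.isCompact)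

/-- the quasi-compact quasi-separated induction -/
theorem exists_ft_sub [QuasiSeparatedSpace X] (H : X.Modules) [H.IsQuasicoherent] (U : X.Opens)
    (hU : IsCompact (U : Set X))
    (hfin : ∀ T : X.Opens, IsAffineOpen T → T ≤ U → Module.Finite Γ(X, T) Γ(H, T))
    (s : Finset X.affineOpens) :
    ∃ (H' : X.Modules) (κ : H' ⟶ H), Mono κ ∧ H'.IsQuasicoherent ∧
      (∀ T : X.Opens, T ≤ U → Function.Surjective (κ.app T)) ∧
      (∀ T : X.Opens, IsAffineOpen T → T ≤ U ⊔ ⨆ a ∈ s, (a : X.Opens) → Module.Finite Γ(X, T) Γ(H', T)) := by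
  classical
  induction s using Finset.induction_on with
  | empty =>
    refine ⟨H, 𝟙 H, inferInstance, inferInstance, fun T _ m => ⟨m, rfl⟩, fun T hT hTU => hfin T hT ?_⟩
    simpa using hTU
  | insert a s' ha ih =>
    obtain ⟨H₁, κ₁, hm₁, hq₁, hs₁, hf₁⟩ := ih
    haveI := hq₁
    haveI := hm₁
    haveI : QuasiCompact a.1.ι := quasiCompact_ι_of_isCompact a.1 a.2.isCompact
    have hWc := isCompact_sup_biSup U hU s'
    have hWV : IsCompact (((U ⊔ ⨆ b ∈ s', (b : X.Opens)) ⊓ a.1 : X.Opens) : Set X) :=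
      QuasiSeparatedSpace.inter_isCompact _ _ (U ⊔ ⨆ b ∈ s', (b : X.Opens)).2 hWc a.1.2 a.2.isCompact
    obtain ⟨H₂, κ₂, hm₂, hq₂, hs₂, hf₂, -⟩ := affine_step H₁ (U ⊔ ⨆ b ∈ s', (b : X.Opens)) a.1 a.2 hWV hf₁
    haveI := hm₂
    refine ⟨H₂, κ₂ ≫ κ₁, mono_comp _ _, hq₂, fun T hT m => ?_, fun T hT hTle => hf₂ T hT ?_⟩
    · obtain ⟨m₁, rfl⟩ := hs₁ T hT m
      obtain ⟨m₂, rfl⟩ := hs₂ T (hT.trans le_sup_left) m₁
      exact ⟨m₂, rfl⟩
    · refine hTle.trans ?_
      rw [Finset.iSup_insert]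
      apply sup_le
      · exact le_sup_left.trans le_sup_left
      · apply sup_le
        · exact le_sup_right
        · exact le_sup_right.trans le_sup_left

section main
open Groth.Agent.Lib.Helper28.FinType

theorem restrictFunctor_map_app (U : X.Opens) {A B : X.Modules} (i : A ⟶ B) (T' : (U : Scheme.{u}).Opens)
    (a : Γ(A, U.ι ''ᵁ T')) :
    ((Scheme.Modules.restrictFunctor U.ι).map i).app T' (show Γ(A.restrict U.ι, T') from a) =
      (show Γ(B.restrict U.ι, T') from i.app (U.ι ''ᵁ T') a) := rfl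

/-- **Extension of quasi-coherent submodules of finite type** (EGA I 9.4.7, quasi-compact quasi-separated case),
with an explicit finite family of affine opens covering the complement. -/
theorem exists_extension_of_finset [QuasiSeparatedSpace X] (U : X.Opens) (hU : IsCompact (U : Set X))
    (G : X.Modules) [G.IsQuasicoherent] (F' : (U : Scheme.{u}).Modules) [F'.IsQuasicoherent]
    [SheafOfModules.IsFiniteType.{u} (R := (U : Scheme.{u}).ringCatSheaf) F']
    (i' : F' ⟶ G.restrict U.ι) [Mono i'] (s : Finset X.affineOpens)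
    (hs : U ⊔ ⨆ a ∈ s, (a : X.Opens) = ⊤) :
    ∃ (F : X.Modules) (i : F ⟶ G) (e : F.restrict U.ι ≅ F'), Mono i ∧ F.IsQuasicoherent ∧
      SheafOfModules.IsFiniteType.{u} (R := X.ringCatSheaf) F ∧
      e.hom ≫ i' = (Scheme.Modules.restrictFunctor U.ι).map i := by
  haveI : QuasiCompact U.ι := quasiCompact_ι_of_isCompact U hU
  obtain ⟨H, ι, hι, hHq, hH⟩ := exists_saturation U G F' i'
  haveI := hι
  haveI := hHq
  have hfinU := finite_of_range_iff U G F' i' H ι hH
  obtain ⟨F, κ, hκ, hFq, hsurj, hfin⟩ := exists_ft_sub H U hU hfinU s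
  haveI := hκ
  haveI := hFq
  haveI hmono : Mono (κ ≫ ι) := mono_comp _ _
  haveI hmono' : Mono ((Scheme.Modules.restrictFunctor U.ι).map (κ ≫ ι)) := by
    refine mono_of_injective _ fun T' => ?_
    intro a b hab
    exact Groth.Agent.Lib.Helper29.QCohStalk.injective_app_of_mono (κ ≫ ι) hmono (U.ι ''ᵁ T') hab
  obtain ⟨e, he⟩ := exists_iso_of_range_eq ((Scheme.Modules.restrictFunctor U.ι).map (κ ≫ ι)) i' (by
    intro T' r
    constructor
    · rintro ⟨p, rfl⟩
      exact (hH T' _).1 ⟨κ.app (U.ι ''ᵁ T') p, rfl⟩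
    · rintro ⟨b, hb⟩
      obtain ⟨h, hh⟩ := (hH T' r).2 ⟨b, hb⟩
      obtain ⟨p, rfl⟩ := hsurj (U.ι ''ᵁ T') (U.ι.image_le_opensRange T' |>.trans (by
        rw [Scheme.Opens.opensRange_ι])) h
      exact ⟨p, hh⟩)
  refine ⟨F, κ ≫ ι, e, hmono, hFq, ?_, he⟩
  refine isFiniteType_of_forall_finite_sections F fun T => hfin T.1 T.2 ?_
  rw [hs]
  exact le_top

/-- **Extension of quasi-coherent submodules of finite type** on a quasi-compact quasi-separated scheme. -/
theorem exists_extension_qcqs [CompactSpace X] [QuasiSeparatedSpace X] (U : X.Opens)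
    (hU : IsCompact (U : Set X))
    (G : X.Modules) [G.IsQuasicoherent] (F' : (U : Scheme.{u}).Modules) [F'.IsQuasicoherent]
    [SheafOfModules.IsFiniteType.{u} (R := (U : Scheme.{u}).ringCatSheaf) F']
    (i' : F' ⟶ G.restrict U.ι) [Mono i'] :
    ∃ (F : X.Modules) (i : F ⟶ G) (e : F.restrict U.ι ≅ F'), Mono i ∧ F.IsQuasicoherent ∧
      SheafOfModules.IsFiniteType.{u} (R := X.ringCatSheaf) F ∧
      e.hom ≫ i' = (Scheme.Modules.restrictFunctor U.ι).map i := by
  obtain ⟨s, hs, e⟩ := (isCompact_iff_finite_and_eq_biUnion_affineOpens (U := (⊤ : X.Opens))).1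
    isCompact_univ
  refine exists_extension_of_finset U hU G F' i' hs.toFinset ?_
  rw [eq_top_iff, e]
  refine le_sup_of_le_right ?_
  exact iSup₂_le fun a ha => le_iSup₂_of_le a (hs.mem_toFinset.2 ha) le_rfl

end main

end Groth.Agent.Lib.Helper17.FTExt
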