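import Groth.Agent.Lib.Helper28.QCohGlobal
import Groth.Agent.Lib.Helper28.GenLocus
import Mathlib

/-!
# The invertible module attached to a unit Čech 1-cocycle

For an open cover `U i` of a scheme `X` and functions `η i j` on `U i ⊓ U j` we build the `O_X`-module whose
sections over `V` are the families `t i ∈ Γ(X, V ⊓ U i)` with `t j = t i * η i j` on `V ⊓ (U i ⊓ U j)`.
-/

set_option autoImplicit false
set_option backward.isDefEq.respectTransparency.types false
universe u
open CategoryTheory CategoryTheory.Limits AlgebraicGeometry Opposite TopologicalSpace TopCat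
noncomputable section

namespace Groth.Agent.Lib.Helper17.CocycleMod

open Groth.Agent.Lib.Helper28 Groth.Agent.Lib.Helper28.QCohLoc

variable {X : Scheme.{u}} {ι : Type u} (U : ι → X.Opens) (η : ∀ i j : ι, Γ(X, U i ⊓ U j))

theorem resO_self {W : X.Opens} (r : Γ(X, W)) : resO (le_refl W) r = r := by
  unfold resO
  have : (homOfLE (le_refl W)).op = 𝟙 (op W) := rfl
  rw [this, X.presheaf.map_id]
  rfl

theorem resO_mul {W W' : X.Opens} (h : W' ≤ W) (r s : Γ(X, W)) : resO h (r * s) = resO h r * resO h s :=
  map_mul _ _ _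

theorem resO_add {W W' : X.Opens} (h : W' ≤ W) (r s : Γ(X, W)) : resO h (r + s) = resO h r + resO h s :=
  map_add _ _ _

theorem resO_zero {W W' : X.Opens} (h : W' ≤ W) : resO h (0 : Γ(X, W)) = 0 := map_zero _

theorem resO_one {W W' : X.Opens} (h : W' ≤ W) : resO h (1 : Γ(X, W)) = 1 := map_one _

/-- equality of functions is local -/
theorem eqO_of_locally_eq {A : Type*} (V : A → X.Opens) (W : X.Opens) (hV : ∀ a, V a ≤ W) (hcover : W ≤ iSup V)
    (x y : Γ(X, W)) (h : ∀ a, resO (hV a) x = resO (hV a) y) : x = y :=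
  TopCat.Sheaf.eq_of_locally_eq' X.sheaf V W (fun a => homOfLE (hV a)) hcover x y h

/-- the ambient group: families of functions on the `V ⊓ U i` -/
def Amb (V : X.Opens) : Type u := ∀ i : ι, Γ(X, V ⊓ U i)

instance (V : X.Opens) : AddCommGroup (Amb U V) := inferInstanceAs (AddCommGroup (∀ i : ι, Γ(X, V ⊓ U i)))

instance (V : X.Opens) : SMul Γ(X, V) (Amb U V) := ⟨fun r t i => resO inf_le_left r * t i⟩

theorem smul_apply {V : X.Opens} (r : Γ(X, V)) (t : Amb U V) (i : ι) :
    (r • t) i = resO inf_le_left r * t i := rfl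

theorem add_apply {V : X.Opens} (s t : Amb U V) (i : ι) : (s + t) i = s i + t i := rfl

theorem zero_apply {V : X.Opens} (i : ι) : (0 : Amb U V) i = 0 := rfl

instance (V : X.Opens) : Module Γ(X, V) (Amb U V) where
  one_smul t := by funext i; rw [smul_apply, resO_one, one_mul]
  mul_smul r s t := by funext i; simp only [smul_apply]; rw [resO_mul, mul_assoc]
  smul_zero r := by funext i; rw [smul_apply, zero_apply, mul_zero]
  smul_add r s t := by funext i; simp only [smul_apply, add_apply]; rw [mul_add]
  add_smul r s t := by funext i; simp only [smul_apply, add_apply]; rw [resO_add, add_mul]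
  zero_smul t := by funext i; rw [smul_apply, resO_zero, zero_mul, zero_apply]

/-- the condition cutting out the sections -/
def IsSec (V : X.Opens) (t : Amb U V) : Prop :=
  ∀ i j : ι, resO (inf_le_inf_left V inf_le_right : V ⊓ (U i ⊓ U j) ≤ V ⊓ U j) (t j) =
    resO (inf_le_inf_left V inf_le_left : V ⊓ (U i ⊓ U j) ≤ V ⊓ U i) (t i) *
      resO (inf_le_right : V ⊓ (U i ⊓ U j) ≤ U i ⊓ U j) (η i j)

/-- the sections over `V` -/
def sect (V : X.Opens) : Submodule Γ(X, V) (Amb U V) where
  carrier := {t | IsSec U η V t}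
  zero_mem' := by
    intro i j
    rw [zero_apply, zero_apply, resO_zero, resO_zero, zero_mul]
  add_mem' := by
    intro s t hs ht i j
    rw [add_apply, add_apply, resO_add, resO_add, hs i j, ht i j, add_mul]
  smul_mem' := by
    intro r t ht i j
    rw [smul_apply, smul_apply, resO_mul, resO_mul, ht i j, resO_resO, resO_resO, mul_assoc]

/-- restriction in the ambient group -/
def resAmb {V W : X.Opens} (h : W ≤ V) (t : Amb U V) : Amb U W :=
  fun i => resO (inf_le_inf_right (U i) h) (t i)

theorem resAmb_apply {V W : X.Opens} (h : W ≤ V) (t : Amb U V) (i : ι) :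
    resAmb U h t i = resO (inf_le_inf_right (U i) h) (t i) := rfl

theorem isSec_res {V W : X.Opens} (h : W ≤ V) (t : Amb U V) (ht : IsSec U η V t) : IsSec U η W (resAmb U h t) := by
  intro i j
  have hle : W ⊓ (U i ⊓ U j) ≤ V ⊓ (U i ⊓ U j) := inf_le_inf_right _ h
  have := congrArg (resO hle) (ht i j)
  rw [resO_mul, resO_resO, resO_resO, resO_resO] at this
  rw [resAmb_apply, resAmb_apply, resO_resO, resO_resO]
  exact this

theorem resAmb_self {V : X.Opens} (t : Amb U V) : resAmb U (le_refl V) t = t := by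
  funext i
  rw [resAmb_apply]
  exact resO_self _

theorem resAmb_resAmb {V W W' : X.Opens} (h : W ≤ V) (h' : W' ≤ W) (t : Amb U V) :
    resAmb U h' (resAmb U h t) = resAmb U (h'.trans h) t := by
  funext i
  rw [resAmb_apply, resAmb_apply, resAmb_apply, resO_resO]

/-- restriction of sections -/
def resL {V W : X.Opens} (h : W ≤ V) (t : sect U η V) : sect U η W :=
  ⟨resAmb U h t.1, isSec_res U η h t.1 t.2⟩

/-- the presheaf of abelian groups -/
def LPre : TopCat.Presheaf AddCommGrpCat.{u} X.carrier where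
  obj W := AddCommGrpCat.of (sect U η W.unop)
  map {W W'} i := AddCommGrpCat.ofHom
    { toFun := resL U η i.unop.le
      map_zero' := by
        refine Subtype.ext (funext fun k => ?_)
        exact resO_zero _
      map_add' := fun s t => by
        refine Subtype.ext (funext fun k => ?_)
        exact resO_add _ _ _ }
  map_id W := by
    ext t
    exact resAmb_self U t.1
  map_comp {W W' W''} i j := by
    ext t
    exact (resAmb_resAmb U i.unop.le j.unop.le t.1).symm

/-- the presheaf of modules -/
def LPMod : PresheafOfModules.{u} (X.presheaf ⋙ forget₂ CommRingCat RingCat) :=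
  letI (W : (Opens X)ᵒᵖ) :
      Module ↑((X.presheaf ⋙ forget₂ CommRingCat RingCat).obj W) ↑((LPre U η).obj W) := by
    dsimp; exact (inferInstance : Module (X.presheaf.obj W) (sect U η W.unop))
  .ofPresheaf (LPre U η) fun W W' i r m => by
    refine Subtype.ext (funext fun k => ?_)
    change resO (inf_le_inf_right (U k) i.unop.le) (resO inf_le_left r * m.1 k) =
      resO inf_le_left (X.presheaf.map i r) * resO (inf_le_inf_right (U k) i.unop.le) (m.1 k)
    rw [resO_mul, resO_resO]
    congr 1
    exact (resO_resO i.unop.le inf_le_left r).symm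

theorem iSup_inf_le {A : Type*} (V : A → X.Opens) (W : X.Opens) : iSup V ⊓ W ≤ ⨆ a, V a ⊓ W := by
  rw [iSup_inf_eq]

/-- the sheaf condition -/
theorem isSheafUniqueGluing : TopCat.Presheaf.IsSheafUniqueGluing (LPre U η ⋙ forget AddCommGrpCat) := by
  intro A V sf hcompat
  -- the compatibility, componentwise
  have hc : ∀ (a b : A) (i : ι),
      resO (inf_le_inf_right (U i) inf_le_left : (V a ⊓ V b) ⊓ U i ≤ V a ⊓ U i) ((sf a).1 i) =
        resO (inf_le_inf_right (U i) inf_le_right : (V a ⊓ V b) ⊓ U i ≤ V b ⊓ U i) ((sf b).1 i) := by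
    intro a b i
    have := congrArg (fun t : sect U η (V a ⊓ V b) => t.1 i) (hcompat a b)
    exact this
  -- glue the components
  have hglue : ∀ i : ι, ∃! t : Γ(X, iSup V ⊓ U i), ∀ a,
      resO (inf_le_inf_right (U i) (le_iSup V a)) t = (sf a).1 i := by
    intro i
    refine X.sheaf.existsUnique_gluing' (fun a => V a ⊓ U i) (iSup V ⊓ U i)
      (fun a => homOfLE (inf_le_inf_right (U i) (le_iSup V a))) (iSup_inf_le V (U i))
      (fun a => (sf a).1 i) ?_
    intro a b
    have hle : (V a ⊓ U i) ⊓ (V b ⊓ U i) ≤ (V a ⊓ V b) ⊓ U i :=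
      le_inf (le_inf (inf_le_left.trans inf_le_left) (inf_le_right.trans inf_le_left)) (inf_le_left.trans inf_le_right)
    have := congrArg (resO hle) (hc a b i)
    rw [resO_resO, resO_resO] at this
    exact this
  choose t ht htu using hglue
  have hsec : IsSec U η (iSup V) t := by
    intro i j
    refine eqO_of_locally_eq (fun a => V a ⊓ (U i ⊓ U j)) _ (fun a => inf_le_inf_right _ (le_iSup V a))
      (iSup_inf_le V _) _ _ (fun a => ?_)
    rw [resO_mul, resO_resO, resO_resO, resO_resO]
    have h1 : resO ((inf_le_inf_right (U i ⊓ U j) (le_iSup V a)).trans (inf_le_inf_left (iSup V) inf_le_right) :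
        V a ⊓ (U i ⊓ U j) ≤ iSup V ⊓ U j) (t j) =
        resO (inf_le_inf_left (V a) inf_le_right : V a ⊓ (U i ⊓ U j) ≤ V a ⊓ U j) ((sf a).1 j) := by
      rw [← ht j a, resO_resO]
    have h2 : resO ((inf_le_inf_right (U i ⊓ U j) (le_iSup V a)).trans (inf_le_inf_left (iSup V) inf_le_left) :
        V a ⊓ (U i ⊓ U j) ≤ iSup V ⊓ U i) (t i) =
        resO (inf_le_inf_left (V a) inf_le_left : V a ⊓ (U i ⊓ U j) ≤ V a ⊓ U i) ((sf a).1 i) := by
      rw [← ht i a, resO_resO]
    rw [h1, h2]
    exact (sf a).2 i j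
  refine ⟨⟨t, hsec⟩, fun a => ?_, fun s' hs' => ?_⟩
  · refine Subtype.ext (funext fun i => ?_)
    exact ht i a
  · refine Subtype.ext (funext fun i => ?_)
    refine htu i (s'.1 i) (fun a => ?_)
    have := congrArg (fun t : sect U η (V a) => t.1 i) (hs' a)
    exact this

/-- the module attached to the cocycle -/
def L : X.Modules where
  val := LPMod U η
  isSheaf := (TopCat.Presheaf.isSheaf_iff_isSheaf_comp (forget AddCommGrpCat) _).2
    (TopCat.Presheaf.isSheaf_of_isSheafUniqueGluing_types _ (isSheafUniqueGluing U η))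

/-- sections of `L` are the families in `sect` -/
def toSect {V : X.Opens} (t : Γ(L U η, V)) : sect U η V := t

/-- sections of `L` from families in `sect` -/
def ofSect {V : X.Opens} (t : sect U η V) : Γ(L U η, V) := t

theorem toSect_ofSect {V : X.Opens} (t : sect U η V) : toSect U η (ofSect U η t) = t := rfl

theorem ofSect_toSect {V : X.Opens} (t : Γ(L U η, V)) : ofSect U η (toSect U η t) = t := rfl

theorem toSect_injective {V : X.Opens} : Function.Injective (toSect U η (V := V)) := fun _ _ h => h

theorem toSect_smul {V : X.Opens} (r : Γ(X, V)) (t : Γ(L U η, V)) :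
    toSect U η (r • t) = r • toSect U η t := rfl

theorem toSect_res {V W : X.Opens} (h : W ≤ V) (t : Γ(L U η, V)) :
    toSect U η (res (L U η) h t) = resL U η h (toSect U η t) := rfl

theorem toSect_smul_apply {V : X.Opens} (r : Γ(X, V)) (t : Γ(L U η, V)) (k : ι) :
    (toSect U η (r • t)).1 k = resO inf_le_left r * (toSect U η t).1 k := rfl

theorem toSect_res_apply {V W : X.Opens} (h : W ≤ V) (t : Γ(L U η, V)) (k : ι) :
    (toSect U η (res (L U η) h t)).1 k = resO (inf_le_inf_right (U k) h) ((toSect U η t).1 k) := rfl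

section gen

variable (hη : ∀ i j k : ι,
  resO (inf_le_inf_right (U k) inf_le_left : U i ⊓ U j ⊓ U k ≤ U i ⊓ U k) (η i k) =
    resO (inf_le_left : U i ⊓ U j ⊓ U k ≤ U i ⊓ U j) (η i j) *
      resO (inf_le_inf_right (U k) inf_le_right : U i ⊓ U j ⊓ U k ≤ U j ⊓ U k) (η j k))

include hη in
theorem isSec_gen (i : ι) : IsSec U η (U i) (fun j => η i j) := by
  intro j k
  have hle : U i ⊓ (U j ⊓ U k) ≤ U i ⊓ U j ⊓ U k := le_of_eq (inf_assoc _ _ _).symm
  have := congrArg (resO hle) (hη i j k)
  rw [resO_mul, resO_resO, resO_resO, resO_resO] at this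
  exact this

/-- the generator over `U i` -/
def gen (i : ι) : Γ(L U η, U i) := ofSect U η ⟨fun j => η i j, isSec_gen U η hη i⟩

theorem toSect_gen_apply (i k : ι) : (toSect U η (gen U η hη i)).1 k = η i k := rfl

include hη in
theorem eta_self (hunit : ∀ i j, IsUnit (η i j)) (i : ι) : η i i = 1 := by
  have h1 := hη i i i
  have hu : IsUnit (resO (inf_le_left : U i ⊓ U i ⊓ U i ≤ U i ⊓ U i) (η i i)) :=
    (hunit i i).map (X.presheaf.map (homOfLE (inf_le_left : U i ⊓ U i ⊓ U i ≤ U i ⊓ U i)).op).hom
  have h2 : resO (inf_le_left : U i ⊓ U i ⊓ U i ≤ U i ⊓ U i) (η i i) = 1 := by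
    have h3 : resO (inf_le_left : U i ⊓ U i ⊓ U i ≤ U i ⊓ U i) (η i i) * 1 =
        resO (inf_le_left : U i ⊓ U i ⊓ U i ≤ U i ⊓ U i) (η i i) *
          resO (inf_le_left : U i ⊓ U i ⊓ U i ≤ U i ⊓ U i) (η i i) := by
      rw [mul_one]; exact h1
    exact (hu.mul_left_cancel h3).symm
  have hle : U i ⊓ U i ≤ U i ⊓ U i ⊓ U i := le_inf le_rfl inf_le_left
  have := congrArg (resO hle) h2
  rw [resO_resO, resO_one, resO_self] at this
  exact this

include hη in
theorem gen_rel (i j : ι) :
    res (L U η) (inf_le_left : U i ⊓ U j ≤ U i) (gen U η hη i) =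
      (η i j • res (L U η) (inf_le_right : U i ⊓ U j ≤ U j) (gen U η hη j) : Γ(L U η, U i ⊓ U j)) := by
  apply toSect_injective
  refine Subtype.ext (funext fun k => ?_)
  rw [toSect_smul_apply, toSect_res_apply, toSect_res_apply, toSect_gen_apply, toSect_gen_apply]
  exact hη i j k

include hη in
theorem isGen_gen (hunit : ∀ i j, IsUnit (η i j)) (i : ι) : GenLocus.IsGen (L U η) (U i) (gen U η hη i) := by
  intro V hV
  have hVi : V ≤ V ⊓ U i := le_inf le_rfl hV
  constructor
  · intro r r' hrr'
    have h1 := congrArg (fun t => (toSect U η t).1 i) hrr'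
    simp only [toSect_smul_apply, toSect_res_apply, toSect_gen_apply] at h1
    rw [eta_self U η hη hunit i, resO_one, mul_one, mul_one] at h1
    have := congrArg (resO hVi) h1
    rw [resO_resO, resO_resO, resO_self, resO_self] at this
    exact this
  · intro t
    refine ⟨resO hVi ((toSect U η t).1 i), ?_⟩
    apply toSect_injective
    refine Subtype.ext (funext fun k => ?_)
    rw [toSect_smul_apply, toSect_res_apply, toSect_gen_apply, resO_resO]
    have h2 := (toSect U η t).2 i k
    have hle : V ⊓ U k ≤ V ⊓ (U i ⊓ U k) := le_inf inf_le_left (le_inf (inf_le_left.trans hV) inf_le_right)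
    have := congrArg (resO hle) h2
    rw [resO_mul, resO_resO, resO_resO, resO_resO, resO_self] at this
    exact this.symm

end gen

end Groth.Agent.Lib.Helper17.CocycleMod
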