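import Groth.Agent.Lib.Helper28.RestrictGen
import Groth.Agent.Lib.Helper28.GenIso
import Groth.Agent.Lib.Helper29.FreeIso2
import Groth.Agent.Lib.Helper17.CocycleMod
import Mathlib

/-!
# Gluing an invertible module across a discrete complement

* `nonempty_restrict_iso`: matching generators over a cover of `U` give `M|_U ≅ M'|_U`.
* `exists_glue`: the gluing theorem.
-/
set_option autoImplicit false
set_option backward.isDefEq.respectTransparency.types false
universe u
open CategoryTheory CategoryTheory.Limits AlgebraicGeometry Opposite TopologicalSpace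
noncomputable section
namespace Groth.Agent.Lib.Helper17.GlueDisc

open Groth.Agent.Lib.Helper28 Groth.Agent.Lib.Helper28.QCohLoc Groth.Agent.Lib.Helper28.GenLocus
open Groth.Agent.Lib.Helper17

variable {X : Scheme.{u}}

/-- two modules with matching local generators and transition functions over a cover of `U` have isomorphic
restrictions to `U` -/
theorem nonempty_restrict_iso (U : X.Opens) (M M' : X.Modules) {ι : Type*} (V : ι → X.Opens)
    (hcov : ∀ x ∈ U, ∃ i, x ∈ V i) (g : ∀ i, Γ(M, V i)) (h : ∀ i, Γ(M', V i))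
    (hg : ∀ i, IsGen M (V i) (g i)) (hh : ∀ i, IsGen M' (V i) (h i))
    (hcoc : ∀ i j, ∃ u : Γ(X, V i ⊓ V j),
      res M inf_le_left (g i) = (u • res M inf_le_right (g j) : Γ(M, V i ⊓ V j)) ∧
      res M' inf_le_left (h i) = (u • res M' inf_le_right (h j) : Γ(M', V i ⊓ V j))) :
    Nonempty (M.restrict U.ι ≅ M'.restrict U.ι) := by
  let T : ι → (↑U : Scheme.{u}).Opens := fun i => U.ι ⁻¹ᵁ V i
  have hle : ∀ i, U.ι ''ᵁ T i ≤ V i := fun i => Groth.Agent.Lib.Helper29.FreeIso.image_preimage_le U (V i)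
  let g' : ∀ i, Γ(M.restrict U.ι, T i) := fun i => (show Γ(M, U.ι ''ᵁ T i) from res M (hle i) (g i))
  let h' : ∀ i, Γ(M'.restrict U.ι, T i) := fun i => (show Γ(M', U.ι ''ᵁ T i) from res M' (hle i) (h i))
  have hg' : ∀ i, IsGen (M.restrict U.ι) (T i) (g' i) := fun i =>
    isGen_restrict_of_isGen M U _ ((hg i).res (hle i))
  have hh' : ∀ i, IsGen (M'.restrict U.ι) (T i) (h' i) := fun i =>
    isGen_restrict_of_isGen M' U _ ((hh i).res (hle i))
  have hcov' : ∀ x : (↑U : Scheme.{u}), ∃ i, x ∈ T i := by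
    intro x
    obtain ⟨i, hi⟩ := hcov x.1 x.2
    exact ⟨i, hi⟩
  have hcoc' : ∀ i j, ∃ u' : Γ((↑U : Scheme.{u}), T i ⊓ T j),
      res (M.restrict U.ι) inf_le_left (g' i) =
        (u' • res (M.restrict U.ι) inf_le_right (g' j) : Γ(M.restrict U.ι, T i ⊓ T j)) ∧
      res (M'.restrict U.ι) inf_le_left (h' i) =
        (u' • res (M'.restrict U.ι) inf_le_right (h' j) : Γ(M'.restrict U.ι, T i ⊓ T j)) := by
    intro i j
    obtain ⟨u, hu1, hu2⟩ := hcoc i j
    have hle2 : U.ι ''ᵁ (T i ⊓ T j) ≤ V i ⊓ V j :=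
      le_inf ((U.ι.image_mono inf_le_left).trans (hle i)) ((U.ι.image_mono inf_le_right).trans (hle j))
    refine ⟨(U.ι.appIso (T i ⊓ T j)).hom (resO hle2 u), ?_, ?_⟩
    · rw [restrict_res, restrict_res, restrict_smul]
      have : (U.ι.appIso (T i ⊓ T j)).inv ((U.ι.appIso (T i ⊓ T j)).hom (resO hle2 u)) = resO hle2 u := by
        rw [← CommRingCat.comp_apply, Iso.hom_inv_id]; rfl
      rw [this]
      have h3 := congrArg (res M hle2) hu1
      rw [res_smul, res_res, res_res] at h3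
      show res M _ (res M (hle i) (g i)) = (resO hle2 u • res M _ (res M (hle j) (g j)) : Γ(M, U.ι ''ᵁ (T i ⊓ T j)))
      rw [res_res, res_res]
      exact h3
    · rw [restrict_res, restrict_res, restrict_smul]
      have : (U.ι.appIso (T i ⊓ T j)).inv ((U.ι.appIso (T i ⊓ T j)).hom (resO hle2 u)) = resO hle2 u := by
        rw [← CommRingCat.comp_apply, Iso.hom_inv_id]; rfl
      rw [this]
      have h3 := congrArg (res M' hle2) hu2
      rw [res_smul, res_res, res_res] at h3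
      show res M' _ (res M' (hle i) (h i)) = (resO hle2 u • res M' _ (res M' (hle j) (h j)) : Γ(M', U.ι ''ᵁ (T i ⊓ T j)))
      rw [res_res, res_res]
      exact h3
  obtain ⟨ψ, -⟩ := exists_iso_of_cocycle_gen T g' h' hg' hh' hcov' hcoc'
  exact ⟨ψ⟩


section Coef

variable {U : X.Opens} {M : X.Modules} {ι : Type u} {W : ι → X.Opens} {σ : ∀ i, Γ(M, W i ⊓ U)}
  (hσ : ∀ i, IsGen M (W i ⊓ U) (σ i))

/-- the transition coefficient of `σ i` with respect to `σ j` over an open inside `U` -/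
def cc (i j : ι) (T : X.Opens) (hi : T ≤ W i ⊓ U) (hj : T ≤ W j ⊓ U) : Γ(X, T) :=
  (hσ j).coef hj (res M hi (σ i))

theorem cc_spec (i j : ι) (T : X.Opens) (hi : T ≤ W i ⊓ U) (hj : T ≤ W j ⊓ U) :
    res M hi (σ i) = (cc hσ i j T hi hj • res M hj (σ j) : Γ(M, T)) :=
  ((hσ j).coef_smul hj _).symm

theorem cc_eq (i j : ι) (T : X.Opens) (hi : T ≤ W i ⊓ U) (hj : T ≤ W j ⊓ U) (u : Γ(X, T))
    (hu : res M hi (σ i) = (u • res M hj (σ j) : Γ(M, T))) : cc hσ i j T hi hj = u :=
  (hσ j).coef_eq hj _ u hu.symm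

theorem cc_res (i j : ι) (T T' : X.Opens) (h : T' ≤ T) (hi : T ≤ W i ⊓ U) (hj : T ≤ W j ⊓ U) :
    resO h (cc hσ i j T hi hj) = cc hσ i j T' (h.trans hi) (h.trans hj) := by
  unfold cc
  rw [← (hσ j).coef_res hj h, res_res]

theorem cc_self (i : ι) (T : X.Opens) (hi hi' : T ≤ W i ⊓ U) : cc hσ i i T hi hi' = 1 :=
  (hσ i).coef_res_self hi

theorem cc_mul (i j k : ι) (T : X.Opens) (hi : T ≤ W i ⊓ U) (hj : T ≤ W j ⊓ U) (hk : T ≤ W k ⊓ U) :
    cc hσ i k T hi hk = cc hσ i j T hi hj * cc hσ j k T hj hk := by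
  apply cc_eq
  rw [mul_smul, ← cc_spec hσ j k, ← cc_spec hσ i j]

end Coef

open Classical in
/-- **gluing across a discrete complement**: local generators of `M` over the parts inside `U` of a cover of `X`
whose pairwise intersections lie in `U` give an invertible module on `X` restricting to `M` on `U` -/
theorem exists_glue (U : X.Opens) (M : X.Modules) {ι : Type u} (W : ι → X.Opens)
    (hcov : ∀ x : X, ∃ i, x ∈ W i) (hW : ∀ i j, i ≠ j → W i ⊓ W j ≤ U)
    (σ : ∀ i, Γ(M, W i ⊓ U)) (hσ : ∀ i, IsGen M (W i ⊓ U) (σ i)) :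
    ∃ (L : X.Modules) (g : ∀ i, Γ(L, W i)), (∀ i, IsGen L (W i) (g i)) ∧
      (∀ i j (hij : i ≠ j) (u : Γ(X, W i ⊓ W j)),
        res M (le_inf inf_le_left (hW i j hij)) (σ i) =
          (u • res M (le_inf inf_le_right (hW i j hij)) (σ j) : Γ(M, W i ⊓ W j)) →
        res L inf_le_left (g i) = (u • res L inf_le_right (g j) : Γ(L, W i ⊓ W j))) ∧
      Nonempty (L.restrict U.ι ≅ M.restrict U.ι) := by
  obtain ⟨η, hηdef⟩ : ∃ η : ∀ i j : ι, Γ(X, W i ⊓ W j), ∀ i j, η i j =
      if h : i = j then 1 else cc hσ i j (W i ⊓ W j) (le_inf inf_le_left (hW i j h))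
        (le_inf inf_le_right (hW i j h)) := ⟨_, fun _ _ => rfl⟩
  have hη_self : ∀ i, η i i = 1 := fun i => by rw [hηdef, dif_pos rfl]
  have hη_ne : ∀ i j (h : i ≠ j), η i j = cc hσ i j (W i ⊓ W j) (le_inf inf_le_left (hW i j h))
      (le_inf inf_le_right (hW i j h)) := fun i j h => by rw [hηdef, dif_neg h]
  have hη_res : ∀ i j (T : X.Opens) (hT : T ≤ W i ⊓ W j) (hTU : T ≤ U),
      resO hT (η i j) = cc hσ i j T (le_inf (hT.trans inf_le_left) hTU) (le_inf (hT.trans inf_le_right) hTU) := by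
    intro i j T hT hTU
    by_cases h : i = j
    · subst h
      rw [hη_self, CocycleMod.resO_one, cc_self]
    · rw [hη_ne i j h, cc_res]
  have hη : ∀ i j k : ι,
      resO (inf_le_inf_right (W k) inf_le_left : W i ⊓ W j ⊓ W k ≤ W i ⊓ W k) (η i k) =
        resO (inf_le_left : W i ⊓ W j ⊓ W k ≤ W i ⊓ W j) (η i j) *
          resO (inf_le_inf_right (W k) inf_le_right : W i ⊓ W j ⊓ W k ≤ W j ⊓ W k) (η j k) := by
    intro i j k
    by_cases hall : i = j ∧ j = k
    · obtain ⟨rfl, rfl⟩ := hall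
      rw [hη_self, CocycleMod.resO_one, one_mul]
    · have hTU : W i ⊓ W j ⊓ W k ≤ U := by
        by_cases hij : i = j
        · have hjk : j ≠ k := fun h => hall ⟨hij, h⟩
          exact (inf_le_inf_right (W k) inf_le_right).trans (hW j k hjk)
        · exact inf_le_left.trans (hW i j hij)
      rw [hη_res i k _ _ hTU, hη_res i j _ _ hTU, hη_res j k _ _ hTU]
      exact cc_mul hσ i j k _ _ _ _
  have hunit : ∀ i j, IsUnit (η i j) := by
    intro i j
    have h1 := hη i j i
    rw [hη_self, CocycleMod.resO_one] at h1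
    have hle : W i ⊓ W j ≤ W i ⊓ W j ⊓ W i := le_inf le_rfl inf_le_left
    have h2 := congrArg (resO hle) h1
    rw [CocycleMod.resO_one, CocycleMod.resO_mul, resO_resO, resO_resO, CocycleMod.resO_self] at h2
    exact IsUnit.of_mul_eq_one _ h2.symm
  refine ⟨CocycleMod.L W η, fun i => CocycleMod.gen W η hη i, fun i => CocycleMod.isGen_gen W η hη hunit i,
    ?_, ?_⟩
  · intro i j hij u hu
    have h1 := cc_eq hσ i j (W i ⊓ W j) _ _ u hu
    rw [← hη_ne i j hij] at h1
    rw [← h1]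
    exact CocycleMod.gen_rel W η hη i j
  · refine nonempty_restrict_iso U (CocycleMod.L W η) M (fun i => W i ⊓ U) ?_
      (fun i => res (CocycleMod.L W η) inf_le_left (CocycleMod.gen W η hη i)) σ
      (fun i => (CocycleMod.isGen_gen W η hη hunit i).res inf_le_left) hσ ?_
    · intro x hx
      obtain ⟨i, hi⟩ := hcov x
      exact ⟨i, hi, hx⟩
    · intro i j
      refine ⟨cc hσ i j ((W i ⊓ U) ⊓ (W j ⊓ U)) inf_le_left inf_le_right, ?_, cc_spec hσ i j _ _ _⟩
      have hT : (W i ⊓ U) ⊓ (W j ⊓ U) ≤ W i ⊓ W j := inf_le_inf inf_le_left inf_le_left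
      have hTU : (W i ⊓ U) ⊓ (W j ⊓ U) ≤ U := inf_le_left.trans inf_le_right
      have h1 := congrArg (res (CocycleMod.L W η) hT) (CocycleMod.gen_rel W η hη i j)
      rw [res_smul, res_res, res_res, hη_res i j _ hT hTU] at h1
      rw [res_res, res_res]
      exact h1

end Groth.Agent.Lib.Helper17.GlueDisc
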