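import Groth.Agent.Lib.Helper17.FTExt2
import Mathlib
set_option backward.isDefEq.respectTransparency.types false
set_option autoImplicit false
universe u

namespace Groth.Agent.Lib.Helper17.FTExt
open CategoryTheory CategoryTheory.Limits Opposite TopologicalSpace AlgebraicGeometry
open Groth.Agent.Lib.Helper28.QCohLoc Groth.Agent.Lib.Helper28.TensorGen

variable {X : Scheme.{u}}

/-- a section of a product all of whose components vanish is zero -/
theorem pi_section_ext {ι : Type u} (Q : ι → X.Modules) (T : X.Opens) (t : Γ(∏ᶜ Q, T))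
    (h : ∀ a, (Pi.π Q a).app T t = 0) : t = 0 := by
  let E := SheafOfModules.evaluation.{u} X.ringCatSheaf (op T)
  have hlim : IsLimit (E.mapCone (limit.cone (Discrete.functor Q))) :=
    isLimitOfPreserves E (limit.isLimit _)
  refine Concrete.isLimit_ext _ hlim t 0 ?_
  rintro ⟨a⟩
  have h0 : ((E.mapCone (limit.cone (Discrete.functor Q))).π.app ⟨a⟩) (0 : E.obj (∏ᶜ Q)) = 0 := map_zero _
  exact (h a).trans h0.symm

/-- the intersection of a family of subobjects of `H` -/
noncomputable def infSub {ι : Type u} (H : X.Modules) (K : ι → X.Modules) (κ : ∀ a, K a ⟶ H) : X.Modules :=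
  kernel (Pi.lift (fun a => cokernel.π (κ a)))

noncomputable def infSubι {ι : Type u} (H : X.Modules) (K : ι → X.Modules) (κ : ∀ a, K a ⟶ H) :
    infSub H K κ ⟶ H :=
  kernel.ι _

instance {ι : Type u} (H : X.Modules) (K : ι → X.Modules) (κ : ∀ a, K a ⟶ H) : Mono (infSubι H K κ) :=
  mono_of_injective _ fun T => Groth.Agent.Lib.Helper17.CohKer.kernel_ι_app_injective _ T

theorem infSubι_app_injective {ι : Type u} (H : X.Modules) (K : ι → X.Modules) (κ : ∀ a, K a ⟶ H)
    (T : X.Opens) : Function.Injective ((infSubι H K κ).app T) :=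
  Groth.Agent.Lib.Helper17.CohKer.kernel_ι_app_injective _ T

theorem pi_lift_π_app {ι : Type u} (H : X.Modules) (Q : ι → X.Modules) (f : ∀ a, H ⟶ Q a) (a : ι)
    (T : X.Opens) (m : Γ(H, T)) : (Pi.π Q a).app T ((Pi.lift f).app T m) = (f a).app T m := by
  have := congrArg (fun ψ : (H ⟶ Q a) => ψ.app T m) (Pi.lift_π f a)
  exact this

theorem mem_infSub_iff {ι : Type u} (H : X.Modules) (K : ι → X.Modules) (κ : ∀ a, K a ⟶ H)
    [∀ a, Mono (κ a)] (T : X.Opens) (m : Γ(H, T)) :
    (∃ k : Γ(infSub H K κ, T), (infSubι H K κ).app T k = m) ↔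
      ∀ a, ∃ k : Γ(K a, T), (κ a).app T k = m := by
  constructor
  · rintro ⟨k, rfl⟩ a
    apply exists_app_eq_of_mono (κ a) T
    have h1 := Groth.Agent.Lib.Helper17.CohKer.app_kernel_ι_app
      (Pi.lift (fun a => cokernel.π (κ a))) T k
    have h2 := pi_lift_π_app H (fun a => cokernel (κ a)) (fun a => cokernel.π (κ a)) a T
      ((infSubι H K κ).app T k)
    rw [← h2]
    have h3 : (Pi.lift (fun a => cokernel.π (κ a))).app T ((infSubι H K κ).app T k) = 0 := h1
    rw [h3, map_zero]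
  · intro h
    apply Groth.Agent.Lib.Helper17.CohKer.exists_kernel_app_eq
    apply pi_section_ext
    intro a
    rw [pi_lift_π_app]
    obtain ⟨k, rfl⟩ := h a
    exact cokernel_π_app_app (κ a) T k

section transfer

theorem isLocOn_of_range_eq {K K' H : X.Modules} (κ : K ⟶ H) (κ' : K' ⟶ H) [Mono κ] [Mono κ']
    (T : X.Opens)
    (h : ∀ T' : X.Opens, T' ≤ T → ∀ m : Γ(H, T'), (∃ k, κ.app T' k = m) ↔ (∃ k', κ'.app T' k' = m))
    (hloc : IsLocOn K' T) : IsLocOn K T := by
  have hinj : ∀ T', Function.Injective (κ.app T') := fun T' =>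
    Groth.Agent.Lib.Helper29.QCohStalk.injective_app_of_mono κ inferInstance T'
  have hinj' : ∀ T', Function.Injective (κ'.app T') := fun T' =>
    Groth.Agent.Lib.Helper29.QCohStalk.injective_app_of_mono κ' inferInstance T'
  refine ⟨fun r y => ?_, fun r x hx => ?_⟩
  · obtain ⟨y', hy'⟩ := (h _ (X.basicOpen_le r) (κ.app _ y)).1 ⟨y, rfl⟩
    obtain ⟨n, x', hx'⟩ := hloc.surj r y'
    obtain ⟨x, hx⟩ := (h T le_rfl (κ'.app T x')).2 ⟨x', rfl⟩
    refine ⟨n, x, ?_⟩
    apply hinj
    rw [Scheme.Modules.Hom.app_smul, ← hy', ← Scheme.Modules.Hom.app_smul, hx', app_res, app_res, hx]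
  · obtain ⟨x', hx'⟩ := (h T le_rfl (κ.app T x)).1 ⟨x, rfl⟩
    have h0 : res K' (X.basicOpen_le r) x' = 0 := by
      apply hinj'
      rw [app_res, hx', ← app_res, hx, map_zero, map_zero]
    obtain ⟨n, hn⟩ := hloc.inj r x' h0
    refine ⟨n, ?_⟩
    apply hinj
    rw [Scheme.Modules.Hom.app_smul, ← hx', ← Scheme.Modules.Hom.app_smul, hn, map_zero, map_zero]

theorem finite_of_range_eq {K K' H : X.Modules} (κ : K ⟶ H) (κ' : K' ⟶ H) [Mono κ] [Mono κ']
    (T : X.Opens) (h : ∀ m : Γ(H, T), (∃ k, κ.app T k = m) ↔ (∃ k', κ'.app T k' = m))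
    (hfin : Module.Finite Γ(X, T) Γ(K', T)) : Module.Finite Γ(X, T) Γ(K, T) := by
  have hinj : Function.Injective (appLin κ T) :=
    Groth.Agent.Lib.Helper29.QCohStalk.injective_app_of_mono κ inferInstance T
  have hinj' : Function.Injective (appLin κ' T) :=
    Groth.Agent.Lib.Helper29.QCohStalk.injective_app_of_mono κ' inferInstance T
  have hr : LinearMap.range (appLin κ T) = LinearMap.range (appLin κ' T) := by
    ext m
    exact h m
  let e1 := LinearEquiv.ofInjective (appLin κ T) hinj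
  let e2 := LinearEquiv.ofInjective (appLin κ' T) hinj'
  let e3 : LinearMap.range (appLin κ T) ≃ₗ[Γ(X, T)] LinearMap.range (appLin κ' T) := LinearEquiv.ofEq _ _ hr
  exact Module.Finite.equiv (e1.trans (e3.trans e2.symm)).symm

end transfer

section zorn

/-- every open subset of an affine open is quasi-compact (the affine opens are Noetherian spaces) -/
def AffNoeth (X : Scheme.{u}) : Prop :=
  ∀ V : X.Opens, IsAffineOpen V → ∀ W : X.Opens, IsCompact ((W ⊓ V : X.Opens) : Set X)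

theorem AffNoeth.quasiCompact_ι (hN : AffNoeth X) (U : X.Opens) : QuasiCompact U.ι := by
  rw [quasiCompact_iff_forall_isAffineOpen]
  intro T hT
  refine isCompact_preimage_ι T U ?_
  have := hN T hT U
  rwa [inf_comm] at this

variable (H : X.Modules) (U : X.Opens)

/-- a partial finite type extension -/
structure Ext where
  W : X.Opens
  K : X.Modules
  κ : K ⟶ H
  mono : Mono κ
  qc : K.IsQuasicoherent
  hU : U ≤ W
  surjU : ∀ T : X.Opens, T ≤ U → Function.Surjective (κ.app T)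
  fin : ∀ T : X.Opens, IsAffineOpen T → T ≤ W → Module.Finite Γ(X, T) Γ(K, T)
  sat : ∀ (T : X.Opens) (m : Γ(H, T)),
    (∃ k : Γ(K, T ⊓ W), κ.app (T ⊓ W) k = res H inf_le_left m) → ∃ k : Γ(K, T), κ.app T k = m

variable {H U}

def Ext.Mem (a : Ext H U) (T : X.Opens) (m : Γ(H, T)) : Prop := ∃ k : Γ(a.K, T), a.κ.app T k = m

theorem Ext.mem_res (a : Ext H U) {T T' : X.Opens} (h : T' ≤ T) {m : Γ(H, T)} (hm : a.Mem T m) :
    a.Mem T' (res H h m) := by
  obtain ⟨k, rfl⟩ := hm
  exact ⟨res a.K h k, app_res a.κ h k⟩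

def Ext.rel (a b : Ext H U) : Prop :=
  a.W ≤ b.W ∧ ∀ T : X.Opens, T ≤ a.W → ∀ m : Γ(H, T), b.Mem T m ↔ a.Mem T m

theorem Ext.rel_anti {a b : Ext H U} (h : a.rel b) (T : X.Opens) (m : Γ(H, T)) (hm : b.Mem T m) :
    a.Mem T m := by
  apply a.sat T m
  exact (h.2 (T ⊓ a.W) inf_le_right _).1 (b.mem_res inf_le_left hm)

theorem Ext.rel_trans {a b c : Ext H U} (h1 : a.rel b) (h2 : b.rel c) : a.rel c :=
  ⟨h1.1.trans h2.1, fun T hT m => (h2.2 T (hT.trans h1.1) m).trans (h1.2 T hT m)⟩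

theorem Ext.rel_refl (a : Ext H U) : a.rel a := ⟨le_rfl, fun _ _ _ => Iff.rfl⟩

/-- the upper bound of a nonempty chain -/
theorem Ext.exists_bound (hN : AffNoeth X) (c : Set (Ext H U)) (hc : IsChain Ext.rel c)
    (hne : c.Nonempty) : ∃ ub : Ext H U, ∀ a ∈ c, a.rel ub := by
  classical
  obtain ⟨a₀, ha₀⟩ := hne
  -- comparability
  have hcomp : ∀ a ∈ c, ∀ b ∈ c, a.rel b ∨ b.rel a := by
    intro a ha b hb
    by_cases hab : a = b
    · subst hab; exact Or.inl a.rel_refl
    · exact hc ha hb hab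
  -- the index type
  let ι : Type u := {W : X.Opens // ∃ a ∈ c, a.W = W}
  choose rep hrepc hrepW using fun w : ι => w.2
  let Kinf : X.Modules := infSub H (fun w : ι => (rep w).K) (fun w => (rep w).κ)
  let κinf : Kinf ⟶ H := infSubι H (fun w : ι => (rep w).K) (fun w => (rep w).κ)
  haveI : ∀ w : ι, Mono ((rep w).κ) := fun w => (rep w).mono
  have hmem : ∀ (T : X.Opens) (m : Γ(H, T)), (∃ k, κinf.app T k = m) ↔ ∀ a ∈ c, a.Mem T m := by
    intro T m
    rw [mem_infSub_iff]
    constructor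
    · intro h a ha
      let w : ι := ⟨a.W, a, ha, rfl⟩
      have hw : (rep w).Mem T m := h w
      rcases hcomp (rep w) (hrepc w) a ha with h1 | h1
      · apply a.sat T m
        have h2 : (rep w).W = a.W := hrepW w
        exact (h1.2 (T ⊓ a.W) (inf_le_right.trans h2.ge) _).2 ((rep w).mem_res inf_le_left hw)
      · exact Ext.rel_anti h1 T m hw
    · intro h w
      exact h (rep w) (hrepc w)
  let Winf : X.Opens := ⨆ a : c, a.1.W
  have hle : ∀ a ∈ c, a.W ≤ Winf := fun a ha => le_iSup (fun a : c => a.1.W) ⟨a, ha⟩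
  -- local comparison with a member of the chain
  have hloc : ∀ T : X.Opens, IsAffineOpen T → ∃ a ∈ c, T ⊓ Winf ≤ a.W ∧
      ∀ T' : X.Opens, T' ≤ T → ∀ m : Γ(H, T'), (∃ k, κinf.app T' k = m) ↔ a.Mem T' m := by
    intro T hT
    have hcpt : IsCompact ((Winf ⊓ T : X.Opens) : Set X) := hN T hT Winf
    haveI : Nonempty c := ⟨⟨a₀, ha₀⟩⟩
    obtain ⟨a, ha⟩ := hcpt.elim_directed_cover (fun a : c => (a.1.W : Set X)) (fun a => a.1.W.2)
      (by
        intro x hx
        have hx' : x ∈ Winf := hx.1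
        obtain ⟨a, hxa⟩ := Opens.mem_iSup.1 hx'
        exact Set.mem_iUnion.2 ⟨a, hxa⟩)
      (by
        intro a b
        rcases hcomp a.1 a.2 b.1 b.2 with h | h
        · exact ⟨b, h.1, le_rfl⟩
        · exact ⟨a, le_rfl, h.1⟩)
    have haW : T ⊓ Winf ≤ a.1.W := by
      intro x hx
      exact ha ⟨hx.2, hx.1⟩
    refine ⟨a.1, a.2, haW, fun T' hT' m => ?_⟩
    rw [hmem]
    constructor
    · intro h; exact h a.1 a.2
    · intro h b hb
      rcases hcomp b hb a.1 a.2 with h1 | h1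
      · exact Ext.rel_anti h1 T' m h
      · apply b.sat T' m
        have h2 : T' ⊓ b.W ≤ a.1.W := (inf_le_inf hT' (hle b hb)).trans haW
        exact (h1.2 (T' ⊓ b.W) h2 _).2 (a.1.mem_res inf_le_left h)
  refine ⟨
    { W := Winf
      K := Kinf
      κ := κinf
      mono := inferInstance
      qc := ?_
      hU := a₀.hU.trans (hle a₀ ha₀)
      surjU := ?_
      fin := ?_
      sat := ?_ }, ?_⟩
  · refine isQuasicoherent_of_forall_isLocOn _ fun T => ?_
    obtain ⟨a, ha, -, hiff⟩ := hloc T.1 T.2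
    haveI := a.mono
    haveI := a.qc
    exact isLocOn_of_range_eq κinf a.κ T.1 hiff (isLocOn_of_isQuasicoherent a.K T.2)
  · intro T hT m
    rw [hmem]
    intro a ha
    exact a.surjU T hT m
  · intro T hT hTW
    obtain ⟨a, ha, haW, hiff⟩ := hloc T hT
    haveI := a.mono
    exact finite_of_range_eq κinf a.κ T (hiff T le_rfl) (a.fin T hT ((le_inf le_rfl hTW).trans haW))
  · intro T m hm
    rw [hmem] at hm ⊢
    intro a ha
    apply a.sat T m
    have h1 := a.mem_res (inf_le_inf le_rfl (hle a ha) : T ⊓ a.W ≤ T ⊓ Winf) (hm a ha)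
    rw [res_res] at h1
    exact h1
  · intro a ha
    refine ⟨hle a ha, fun T hT m => ?_⟩
    change (∃ k, κinf.app T k = m) ↔ a.Mem T m
    rw [hmem]
    constructor
    · intro h; exact h a ha
    · intro h b hb
      rcases hcomp b hb a ha with h1 | h1
      · exact Ext.rel_anti h1 T m h
      · exact (h1.2 T hT m).2 h

end zorn

section zornMain

variable {H : X.Modules} {U : X.Opens}

/-- the extension step: a partial extension can be enlarged by an affine open -/
theorem Ext.exists_step (hN : AffNoeth X) (M : Ext H U) (V : X.Opens) (hV : IsAffineOpen V) :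
    ∃ N : Ext H U, M.rel N ∧ N.W = M.W ⊔ V := by
  haveI := M.mono
  haveI := M.qc
  haveI : QuasiCompact V.ι := hN.quasiCompact_ι V
  obtain ⟨H₂, κ₂, hm₂, hq₂, hs₂, hf₂, hsat₂⟩ := affine_step M.K M.W V hV (hN V hV M.W) M.fin
  haveI := hm₂
  have hinjM : ∀ T, Function.Injective (M.κ.app T) := fun T =>
    Groth.Agent.Lib.Helper29.QCohStalk.injective_app_of_mono M.κ inferInstance T
  refine ⟨
    { W := M.W ⊔ V
      K := H₂
      κ := κ₂ ≫ M.κ
      mono := mono_comp _ _
      qc := hq₂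
      hU := M.hU.trans le_sup_left
      surjU := ?_
      fin := hf₂
      sat := ?_ }, ⟨le_sup_left, ?_⟩, rfl⟩
  · intro T hT m
    obtain ⟨k, rfl⟩ := M.surjU T hT m
    obtain ⟨k₂, rfl⟩ := hs₂ T (hT.trans M.hU) k
    exact ⟨k₂, rfl⟩
  · intro T m hm
    obtain ⟨h, hh⟩ := hm
    -- step 1: `m` is in `M`
    have h1 : M.Mem T m := by
      apply M.sat T m
      refine ⟨res M.K (inf_le_inf le_rfl le_sup_left : T ⊓ M.W ≤ T ⊓ (M.W ⊔ V)) (κ₂.app _ h), ?_⟩
      rw [app_res]
      have : M.κ.app _ (κ₂.app _ h) = res H inf_le_left m := hh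
      rw [this, res_res]
    obtain ⟨k, rfl⟩ := h1
    -- step 2: `k` is in `H₂`
    obtain ⟨k₂, hk₂⟩ := hsat₂ T k (by
      refine ⟨res H₂ (inf_le_inf le_rfl le_sup_right : T ⊓ V ≤ T ⊓ (M.W ⊔ V)) h, ?_⟩
      apply hinjM
      rw [app_res, app_res, app_res]
      have : M.κ.app _ (κ₂.app _ h) = res H inf_le_left (M.κ.app T k) := hh
      rw [this, res_res])
    exact ⟨k₂, by rw [← hk₂]; rfl⟩
  · intro T hT m
    constructor
    · rintro ⟨k₂, rfl⟩
      exact ⟨κ₂.app T k₂, rfl⟩
    · rintro ⟨k, rfl⟩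
      obtain ⟨k₂, rfl⟩ := hs₂ T hT k
      exact ⟨k₂, rfl⟩

/-- **Zorn**: over a scheme whose affine opens are Noetherian spaces, a quasi-coherent module which is of finite
type over an open `U` contains a quasi-coherent submodule of finite type with the same sections over `U`. -/
theorem exists_ft_sub_top (hN : AffNoeth X) (H : X.Modules) [H.IsQuasicoherent] (U : X.Opens)
    (hfin : ∀ T : X.Opens, IsAffineOpen T → T ≤ U → Module.Finite Γ(X, T) Γ(H, T)) :
    ∃ (K : X.Modules) (κ : K ⟶ H), Mono κ ∧ K.IsQuasicoherent ∧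
      (∀ T : X.Opens, T ≤ U → Function.Surjective (κ.app T)) ∧
      (∀ T : X.Opens, IsAffineOpen T → Module.Finite Γ(X, T) Γ(K, T)) := by
  let base : Ext H U :=
    { W := U
      K := H
      κ := 𝟙 H
      mono := inferInstance
      qc := inferInstance
      hU := le_rfl
      surjU := fun T _ m => ⟨m, rfl⟩
      fin := hfin
      sat := fun T m _ => ⟨m, rfl⟩ }
  haveI : Nonempty (Ext H U) := ⟨base⟩
  obtain ⟨M, hM⟩ := exists_maximal_of_nonempty_chains_bounded (r := Ext.rel (H := H) (U := U))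
    (fun c hc hne => Ext.exists_bound hN c hc hne) (fun h1 h2 => Ext.rel_trans h1 h2)
  have hW : M.W = ⊤ := by
    rw [eq_top_iff]
    intro x _
    obtain ⟨_, ⟨V, (hV : IsAffineOpen V), rfl⟩, hxV, -⟩ := X.isBasis_affineOpens.exists_subset_of_mem_open
      (show x ∈ (⊤ : X.Opens) from trivial) (⊤ : X.Opens).2
    obtain ⟨N, hMN, hNW⟩ := Ext.exists_step hN M V hV
    have h := (hM N hMN).1
    rw [hNW] at h
    exact h (Or.inr hxV)
  exact ⟨M.K, M.κ, M.mono, M.qc, fun T hT => M.surjU T hT, fun T hT => M.fin T hT (hW ▸ le_top)⟩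

end zornMain

section locNoeth
open Groth.Agent.Lib.Helper28.FinType

theorem affNoeth_of_locallyNoetherianSpace
    (hX : ∀ x : X, ∃ U : X.Opens, x ∈ U ∧ TopologicalSpace.NoetherianSpace (U : Set X)) : AffNoeth X := by
  intro V hV W
  choose N hxN hN using hX
  obtain ⟨t, ht⟩ := hV.isCompact.elim_finite_subcover (fun x : X => (N x : Set X)) (fun x => (N x).2)
    (fun x _ => Set.mem_iUnion.2 ⟨x, hxN x⟩)
  haveI : ∀ x : t, TopologicalSpace.NoetherianSpace ((fun x : t => (N x.1 : Set X)) x) := fun x => hN x.1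
  have hNoeth : TopologicalSpace.NoetherianSpace (⋃ x : t, (N x.1 : Set X)) :=
    TopologicalSpace.NoetherianSpace.iUnion (fun x : t => (N x.1 : Set X))
  refine (TopologicalSpace.noetherianSpace_set_iff _).1 hNoeth _ ?_
  intro x hx
  have hxV : x ∈ (V : Set X) := hx.2
  obtain ⟨y, hy, hxy⟩ := Set.mem_iUnion₂.1 (ht hxV)
  exact Set.mem_iUnion.2 ⟨⟨y, hy⟩, hxy⟩

/-- **Extension of quasi-coherent submodules of finite type** (EGA I 9.4.7) over a scheme whose affine opens are
Noetherian spaces (e.g. a scheme with locally Noetherian underlying space). -/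
theorem exists_extension_affNoeth (hN : AffNoeth X) (U : X.Opens)
    (G : X.Modules) [G.IsQuasicoherent] (F' : (U : Scheme.{u}).Modules) [F'.IsQuasicoherent]
    [SheafOfModules.IsFiniteType.{u} (R := (U : Scheme.{u}).ringCatSheaf) F']
    (i' : F' ⟶ G.restrict U.ι) [Mono i'] :
    ∃ (F : X.Modules) (i : F ⟶ G) (e : F.restrict U.ι ≅ F'), Mono i ∧ F.IsQuasicoherent ∧
      SheafOfModules.IsFiniteType.{u} (R := X.ringCatSheaf) F ∧
      e.hom ≫ i' = (Scheme.Modules.restrictFunctor U.ι).map i := by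
  haveI : QuasiCompact U.ι := hN.quasiCompact_ι U
  obtain ⟨H, ι, hι, hHq, hH⟩ := exists_saturation U G F' i'
  haveI := hι
  haveI := hHq
  have hfinU := finite_of_range_iff U G F' i' H ι hH
  obtain ⟨F, κ, hκ, hFq, hsurj, hfin⟩ := exists_ft_sub_top hN H U hfinU
  haveI := hκ
  haveI := hFq
  haveI hmono : Mono (κ ≫ ι) := mono_comp _ _
  haveI hmono' : Mono ((Scheme.Modules.restrictFunctor U.ι).map (κ ≫ ι)) := by
    refine mono_of_injective _ fun T' => ?_
    intro a b hab
    exact Groth.Agent.Lib.Helper29.QCohStalk.injective_app_of_mono (κ ≫ ι) hmono (U.ι ''ᵁ T') hab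
  obtain ⟨e, he⟩ := exists_iso_of_range_eq ((Scheme.Modules.restrictFunctor U.ι).map (κ ≫ ι)) i' (by
    intro T' r
    constructor
    · rintro ⟨p, rfl⟩
      exact (hH T' _).1 ⟨κ.app (U.ι ''ᵁ T') p, rfl⟩
    · rintro ⟨b, hb⟩
      obtain ⟨h, hh⟩ := (hH T' r).2 ⟨b, hb⟩
      obtain ⟨p, rfl⟩ := hsurj (U.ι ''ᵁ T') (U.ι.image_le_opensRange T' |>.trans (by
        rw [Scheme.Opens.opensRange_ι])) h
      exact ⟨p, hh⟩)
  exact ⟨F, κ ≫ ι, e, hmono, hFq,
    Groth.Agent.Lib.Helper17.FinTypeConv.isFiniteType_of_forall_finite_sections F fun T => hfin T.1 T.2, he⟩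

end locNoeth

end Groth.Agent.Lib.Helper17.FTExt
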