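import Groth.Agent.Lib.Helper6.SheafCoh
import Mathlib
set_option backward.isDefEq.respectTransparency.types false
set_option autoImplicit false
universe w v u
open CategoryTheory CategoryTheory.Limits Opposite Abelian

namespace Groth.Agent.Lib.Helper17.HCompare

open Groth.Agent.Lib.Helper6.SheafCoh

variable {C : Type u} [Category.{v} C] (J : GrothendieckTopology C)
  [HasSheafify J AddCommGrpCat.{v}] [HasExt.{w} (Sheaf J AddCommGrpCat.{v})]
  {T : C} (hT : IsTerminal T)

/-- the constant sheaf `ℤ` -/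
noncomputable abbrev ZZ : Sheaf J AddCommGrpCat.{v} :=
  (constantSheaf J AddCommGrpCat.{v}).obj (AddCommGrpCat.of (ULift ℤ))

/-- `Hom(ℤ, F) ≃ F(T)` -/
noncomputable def constEquiv (F : Sheaf J AddCommGrpCat.{v}) : (ZZ J ⟶ F) ≃ F.obj.obj (op T) :=
  (Ext.addEquiv₀ (X := ZZ J) (Y := F)).symm.toEquiv.trans (Sheaf.H.equiv₀ F hT).toEquiv

theorem constEquiv_naturality {F G : Sheaf J AddCommGrpCat.{v}} (φ : ZZ J ⟶ F) (g : F ⟶ G) :
    constEquiv J hT G (φ ≫ g) = g.hom.app (op T) (constEquiv J hT F φ) := by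
  change Sheaf.H.equiv₀ G hT ((Ext.addEquiv₀ (X := ZZ J) (Y := G)).symm (φ ≫ g)) =
    g.hom.app (op T) (Sheaf.H.equiv₀ F hT ((Ext.addEquiv₀ (X := ZZ J) (Y := F)).symm φ))
  rw [Sheaf.H.equiv₀_naturality hT g]
  congr 1
  apply (Ext.addEquiv₀ (X := ZZ J) (Y := G)).injective
  rw [AddEquiv.apply_symm_apply, Sheaf.H.addEquiv₀_map, AddEquiv.apply_symm_apply]

/-- the constant sheaf `ℤ` is the free abelian sheaf on the terminal object -/
noncomputable def zzIso : ZZ J ≅ Zfree J T :=
  (Coyoneda.fullyFaithful.preimageIso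
    (NatIso.ofComponents
      (fun F => ((constEquiv J hT F).trans (homEquiv J T F).symm).toIso)
      (fun {F G} g => by
        ext φ
        change (homEquiv J T G).symm (constEquiv J hT G (φ ≫ g)) =
          (homEquiv J T F).symm (constEquiv J hT F φ) ≫ g
        apply (homEquiv J T G).injective
        rw [Equiv.apply_symm_apply, homEquiv_naturality_right, Equiv.apply_symm_apply,
          constEquiv_naturality]) :
      coyoneda.obj (op (ZZ J)) ≅ coyoneda.obj (op (Zfree J T)))).unop.symm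

/-- **`H^n(F) ≃+ H^n(T, F)` for a terminal object `T`** -/
noncomputable def HEquivH' (F : Sheaf J AddCommGrpCat.{v}) (n : ℕ) :
    Sheaf.H F n ≃+ (Sheaf.H' F n T : AddCommGrpCat.{w}) where
  toFun x := (Ext.mk₀ (zzIso J hT).inv).comp x (zero_add n)
  invFun y := (Ext.mk₀ (zzIso J hT).hom).comp y (zero_add n)
  left_inv x := by
    change (Ext.mk₀ (zzIso J hT).hom).comp ((Ext.mk₀ (zzIso J hT).inv).comp x (zero_add n)) (zero_add n) = x
    rw [Ext.mk₀_comp_mk₀_assoc, Iso.hom_inv_id, Ext.mk₀_id_comp]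
  right_inv y := by
    change (Ext.mk₀ (zzIso J hT).inv).comp ((Ext.mk₀ (zzIso J hT).hom).comp y (zero_add n)) (zero_add n) = y
    rw [Ext.mk₀_comp_mk₀_assoc, Iso.inv_hom_id, Ext.mk₀_id_comp]
  map_add' x y := Ext.comp_add _ _ _ _

/-- on a topological space: `H^n(X, F) ≃+ H^n(⊤, F)` -/
noncomputable def topHEquiv {X : TopCat.{u}} (F : CohTop.Ab X) (n : ℕ) :
    CohTop.H F n ≃+ CohTop.HU F n ⊤ :=
  HEquivH' (Opens.grothendieckTopology X) isTerminalTop F n

end Groth.Agent.Lib.Helper17.HCompare
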