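import Groth.Agent.Lib.Helper17.StalkExact
import Groth.Agent.Lib.Helper17.HCompare
import Groth.Agent.Lib.Helper17.CohKer
import Groth.Agent.Lib.Helper28.QCohConv
import Groth.Agent.Lib.Helper28.QCohGlobal
import Groth.Agent.Lib.Helper28.QCohGen
import Groth.Agent.Lib.Helper28.QCohPush
import Groth.Agent.Lib.Helper28.RelTildeMap
import Groth.Prelude.Def_Coh
import Groth.Prelude.Def_ClSub2
import Mathlib
set_option backward.isDefEq.respectTransparency.types false
set_option autoImplicit false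
universe u

namespace Groth.Agent.Lib.Helper17.Serre
open CategoryTheory CategoryTheory.Limits Opposite Abelian TopologicalSpace AlgebraicGeometry
open Groth.Agent.Lib.Helper28.QCohLoc

variable {X : Scheme.{u}}

/-- `toSheaf` of a short exact sequence of modules is short exact. -/
theorem shortExact_map_toSheaf' (S : ShortComplex (SheafOfModules.{u} X.ringCatSheaf)) (hS : S.ShortExact) :
    (S.map (SheafOfModules.toSheaf.{u} X.ringCatSheaf)).ShortExact := by
  haveI h1 : PreservesFiniteLimits (SheafOfModules.toSheaf.{u} X.ringCatSheaf) := inferInstance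
  haveI h2 : PreservesFiniteColimits (SheafOfModules.toSheaf.{u} X.ringCatSheaf) :=
    Groth.Agent.Lib.Helper17.StalkExact.toSheaf_preservesFiniteColimits
  exact hS.map_of_exact _

/-- **H¹ vanishing gives surjectivity on global sections.** -/
theorem surjective_app_top_of_H1' (S : ShortComplex (SheafOfModules.{u} X.ringCatSheaf)) (hS : S.ShortExact)
    (h : Subsingleton (Sheaf.H ((SheafOfModules.toSheaf.{u} X.ringCatSheaf).obj S.X₁) 1)) :
    Function.Surjective (((SheafOfModules.toSheaf.{u} X.ringCatSheaf).map S.g).hom.app (op (⊤ : Opens X.toTopCat))) := by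
  have hT := shortExact_map_toSheaf' S hS
  intro y
  have hterm : IsTerminal (⊤ : Opens X.toTopCat) := isTerminalTop
  let y' : Sheaf.H (S.map (SheafOfModules.toSheaf.{u} X.ringCatSheaf)).X₃ 0 :=
    (Sheaf.H.equiv₀ (S.map (SheafOfModules.toSheaf.{u} X.ringCatSheaf)).X₃ hterm).symm y
  obtain ⟨x₂, hx₂⟩ := Ext.covariant_sequence_exact₃ _ hT y' (rfl : 0 + 1 = 1) (h.elim _ _)
  refine ⟨Sheaf.H.equiv₀ (S.map (SheafOfModules.toSheaf.{u} X.ringCatSheaf)).X₂ hterm x₂, ?_⟩
  have := Sheaf.H.equiv₀_naturality hterm (S.map (SheafOfModules.toSheaf.{u} X.ringCatSheaf)).g x₂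
  rw [Sheaf.H.map_apply, hx₂] at this
  rw [AddEquiv.apply_symm_apply] at this
  exact this

theorem surjective_app_top_of_H1 (S : ShortComplex X.Modules) (hS : S.ShortExact)
    (h : Subsingleton (Coh.HH X S.X₁ 1)) : Function.Surjective (S.g.app ⊤) :=
  surjective_app_top_of_H1' S hS h

theorem structureModule_smul (V : X.Opens) (r : Γ(X, V)) (y : Γ(Coh.structureModule X, V)) :
    (r • y : Γ(Coh.structureModule X, V)) = (show Γ(X, V) from r * (show Γ(X, V) from y)) := rfl

theorem structureModule_res {U V : X.Opens} (h : V ≤ U) (y : Γ(Coh.structureModule X, U)) :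
    res (Coh.structureModule X) h y = (show Γ(X, V) from resO h (show Γ(X, U) from y)) := rfl

theorem isLocOn_structureModule {U : X.Opens} (hU : IsAffineOpen U) :
    IsLocOn (Coh.structureModule X) U where
  surj r y := by
    haveI := hU.isLocalization_basicOpen r
    obtain ⟨⟨x, ⟨_, n, rfl⟩⟩, h⟩ := IsLocalization.surj (Submonoid.powers r) (show Γ(X, X.basicOpen r) from y)
    refine ⟨n, x, ?_⟩
    have h' : (show Γ(X, X.basicOpen r) from y) * algebraMap Γ(X, U) Γ(X, X.basicOpen r) (r ^ n) =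
        algebraMap Γ(X, U) Γ(X, X.basicOpen r) x := h
    rw [map_pow] at h'
    change (resO (X.basicOpen_le r) r ^ n * (show Γ(X, X.basicOpen r) from y) : Γ(X, X.basicOpen r)) =
      resO (X.basicOpen_le r) x
    rw [mul_comm]
    exact h'
  inj r x hx := by
    haveI := hU.isLocalization_basicOpen r
    have h0 : algebraMap Γ(X, U) Γ(X, X.basicOpen r) (show Γ(X, U) from x) = 0 := hx
    obtain ⟨⟨_, n, rfl⟩, hc⟩ := (IsLocalization.map_eq_zero_iff (Submonoid.powers r) Γ(X, X.basicOpen r) _).1 h0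
    exact ⟨n, hc⟩

instance : (Coh.structureModule X).IsQuasicoherent :=
  isQuasicoherent_of_forall_isLocOn _ fun U => isLocOn_structureModule U.2

/-- on a scheme which is the disjoint union of two opens there is a function equal to `1` on the
first and `0` on the second. -/
theorem exists_indicator (Z : Scheme.{u}) (V₁ V₂ : Z.Opens) (hsup : V₁ ⊔ V₂ = ⊤) (hinf : V₁ ⊓ V₂ = ⊥) :
    ∃ e : Γ(Z, ⊤), Z.presheaf.map (homOfLE (le_top : V₁ ≤ ⊤)).op e = 1 ∧
      Z.presheaf.map (homOfLE (le_top : V₂ ≤ ⊤)).op e = 0 := by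
  let W : Bool → Z.Opens := fun b => cond b V₁ V₂
  let sf : ∀ b : Bool, Γ(Z, W b) := fun b => match b with
    | true => (1 : Γ(Z, V₁))
    | false => (0 : Γ(Z, V₂))
  have hbot : ∀ (T : Z.Opens), T = ⊥ → ∀ (a b : Γ(Z, T)), a = b := by
    rintro T rfl a b
    haveI : Subsingleton Γ(Z, (⊥ : Z.Opens)) :=
      CommRingCat.subsingleton_of_isTerminal Z.sheaf.isTerminalOfEmpty
    exact Subsingleton.elim a b
  have hcompat : TopCat.Presheaf.IsCompatible Z.sheaf.1 W sf := by
    intro a b
    cases a <;> cases b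
    · rfl
    · exact hbot _ (by rw [inf_comm]; exact hinf) _ _
    · exact hbot _ hinf _ _
    · rfl
  obtain ⟨e, he, -⟩ := Z.sheaf.existsUnique_gluing' W ⊤ (fun b => homOfLE le_top) (by
    rw [← hsup]
    exact sup_le (le_iSup W true) (le_iSup W false)) sf hcompat
  exact ⟨e, he true, he false⟩

variable (I : X.IdealSheafData)

theorem toSubscheme_app (V : X.Opens) (r : Γ(X, V)) :
    (ClSub.toSubscheme I).app V r = (show Γ(I.subscheme, I.subschemeι ⁻¹ᵁ V) from I.subschemeι.app V r) := rfl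

instance : Epi (ClSub.toSubscheme I) := by
  refine epi_of_locally_in_range _ ?_
  intro U x pt hpt
  obtain ⟨_, ⟨V, hV, rfl⟩, hptV, hVU⟩ := X.isBasis_affineOpens.exists_subset_of_mem_open hpt U.2
  obtain ⟨y, hy⟩ := I.subschemeι_app_surjective ⟨V, hV⟩
    (show Γ(I.subscheme, I.subschemeι ⁻¹ᵁ V) from res (ClSub.quotMod I) hVU x)
  exact ⟨V, hVU, hptV, y, hy⟩

instance : (ClSub.quotMod I).IsQuasicoherent :=
  isQuasicoherent_pushforward I.subschemeι (Coh.structureModule I.subscheme)

instance : (ClSub.idealMod I).IsQuasicoherent :=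
  Groth.Agent.Lib.Helper17.CohKer.isQuasicoherent_kernel (ClSub.toSubscheme I)

instance : Mono (ClSub.idealModι I) :=
  Groth.Agent.Lib.Helper28.QCohLoc.mono_of_injective _ fun U =>
    Groth.Agent.Lib.Helper17.CohKer.kernel_ι_app_injective (ClSub.toSubscheme I) U

/-- the short exact sequence `0 → I → O_X → O_X/I → 0`. -/
noncomputable def idealSES : ShortComplex X.Modules :=
  ShortComplex.mk (ClSub.idealModι I) (ClSub.toSubscheme I) (kernel.condition _)

theorem idealSES_shortExact : (idealSES I).ShortExact :=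
  { exact := ShortComplex.exact_of_f_is_kernel _ (kernelIsKernel (ClSub.toSubscheme I))
    mono_f := inferInstanceAs (Mono (ClSub.idealModι I))
    epi_g := inferInstanceAs (Epi (ClSub.toSubscheme I)) }

/-- the hypothesis of Serre's criterion -/
def SerreHyp (X : Scheme.{u}) : Prop :=
  ∀ (I : X.Modules) (i : I ⟶ Coh.structureModule X), Mono i → I.IsQuasicoherent →
    Subsingleton (Coh.HH X I 1)

theorem exists_basicOpen_mem_le (hserre : SerreHyp X) (x : X) (hx : IsClosed ({x} : Set X))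
    (U : X.Opens) (hxU : x ∈ U) :
    ∃ f : Γ(X, ⊤), x ∈ X.basicOpen f ∧ X.basicOpen f ≤ U := by
  let Y' : Closeds X := ⟨(U : Set X)ᶜ ∪ {x}, U.isOpen.isClosed_compl.union hx⟩
  let I' := Scheme.IdealSheafData.vanishingIdeal Y'
  have hrange : Set.range I'.subschemeι = (U : Set X)ᶜ ∪ {x} := by
    have := Scheme.IdealSheafData.range_subschemeι I'
    rw [Scheme.IdealSheafData.coe_support_vanishingIdeal] at this
    exact this
  have hsurj : Function.Surjective ((ClSub.toSubscheme I').app ⊤) :=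
    surjective_app_top_of_H1 (idealSES I') (idealSES_shortExact I')
      (hserre (ClSub.idealMod I') (ClSub.idealModι I') (inferInstanceAs (Mono (ClSub.idealModι I')))
        (inferInstanceAs ((ClSub.idealMod I').IsQuasicoherent)))
  let V₁ : I'.subscheme.Opens := I'.subschemeι ⁻¹ᵁ U
  let V₂ : I'.subscheme.Opens := I'.subschemeι ⁻¹ᵁ ⟨({x} : Set X)ᶜ, hx.isOpen_compl⟩
  have hmem : ∀ z : I'.subscheme, I'.subschemeι z ∉ U ∨ I'.subschemeι z = x := by
    intro z
    have : I'.subschemeι z ∈ (U : Set X)ᶜ ∪ {x} := hrange ▸ ⟨z, rfl⟩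
    exact this
  have hsup : V₁ ⊔ V₂ = ⊤ := by
    rw [eq_top_iff]
    intro z _
    rcases hmem z with h | h
    · right
      change I'.subschemeι z ∈ ({x} : Set X)ᶜ
      intro h'
      exact h (h' ▸ hxU)
    · left
      change I'.subschemeι z ∈ U
      rw [h]; exact hxU
  have hinf : V₁ ⊓ V₂ = ⊥ := by
    rw [eq_bot_iff]
    rintro z ⟨h1, h2⟩
    rcases hmem z with h | h
    · exact absurd h1 h
    · exact absurd h h2
  obtain ⟨e, he1, he0⟩ := exists_indicator I'.subscheme V₁ V₂ hsup hinf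
  obtain ⟨f, hf⟩ := hsurj e
  have hpre : I'.subschemeι ⁻¹ᵁ X.basicOpen f = I'.subscheme.basicOpen e := by
    rw [Scheme.preimage_basicOpen]
    congr 1
  have hV1 : V₁ ≤ I'.subscheme.basicOpen e := by
    have h1 := I'.subscheme.basicOpen_res e (homOfLE (le_top : V₁ ≤ ⊤)).op
    rw [he1, Scheme.basicOpen_one] at h1
    rw [h1]
    exact inf_le_right
  have hV2 : V₂ ⊓ I'.subscheme.basicOpen e = ⊥ := by
    have h1 := I'.subscheme.basicOpen_res e (homOfLE (le_top : V₂ ≤ ⊤)).op
    rw [he0, Scheme.basicOpen_zero] at h1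
    exact h1.symm
  refine ⟨f, ?_, ?_⟩
  · obtain ⟨z, hz⟩ : x ∈ Set.range I'.subschemeι := by rw [hrange]; right; rfl
    have hz1 : z ∈ V₁ := by change I'.subschemeι z ∈ U; rw [hz]; exact hxU
    have : z ∈ I'.subschemeι ⁻¹ᵁ X.basicOpen f := hpre ▸ hV1 hz1
    rw [← hz]
    exact this
  · intro y hy
    by_contra hyU
    obtain ⟨z, hz⟩ : y ∈ Set.range I'.subschemeι := by rw [hrange]; left; exact hyU
    have hz2 : z ∈ V₂ := by
      change I'.subschemeι z ∈ ({x} : Set X)ᶜ
      rw [hz]
      intro h'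
      exact hyU (h' ▸ hxU)
    have hz3 : z ∈ I'.subscheme.basicOpen e := by
      rw [← hpre]
      change I'.subschemeι z ∈ X.basicOpen f
      rw [hz]; exact hy
    have : z ∈ V₂ ⊓ I'.subscheme.basicOpen e := ⟨hz2, hz3⟩
    rw [hV2] at this
    exact this

/-- under Serre's hypothesis on a quasi-compact scheme, the affine opens of the form `X_f` cover. -/
theorem exists_affine_basicOpen_mem [CompactSpace X] (hserre : SerreHyp X) (y : X) :
    ∃ f : Γ(X, ⊤), IsAffineOpen (X.basicOpen f) ∧ y ∈ X.basicOpen f := by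
  let W : X.Opens := ⨆ f : {f : Γ(X, ⊤) // IsAffineOpen (X.basicOpen f)}, X.basicOpen f.1
  suffices hW : W = ⊤ by
    have hy : y ∈ W := hW ▸ trivial
    obtain ⟨f, hf⟩ := Opens.mem_iSup.1 hy
    exact ⟨f.1, f.2, hf⟩
  by_contra hne
  have hne' : ((W : Set X)ᶜ).Nonempty := by
    rw [Set.nonempty_compl]
    intro h
    exact hne (Opens.ext h)
  obtain ⟨x, hxW, hx⟩ := W.isOpen.isClosed_compl.exists_closed_singleton hne'
  obtain ⟨_, ⟨U, hU, rfl⟩, hxU, -⟩ :=
    X.isBasis_affineOpens.exists_subset_of_mem_open (Set.mem_univ x) isOpen_univ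
  obtain ⟨f, hxf, hfU⟩ := exists_basicOpen_mem_le hserre x hx U hxU
  have haff : IsAffineOpen (X.basicOpen f) := by
    have h1 := X.basicOpen_res f (homOfLE (le_top : U ≤ ⊤)).op
    rw [inf_eq_right.2 hfU] at h1
    rw [← h1]
    exact hU.basicOpen _
  exact hxW (Opens.mem_iSup.2 ⟨⟨f, haff⟩, hxf⟩)

end Groth.Agent.Lib.Helper17.Serre
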