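import Groth.Agent.Lib.Helper17.TensorQC
import Groth.Agent.Lib.Helper17.ModPullback
import Groth.Agent.Lib.Helper29.QCohStalk
import Mathlib
set_option backward.isDefEq.respectTransparency.types false
set_option autoImplicit false
universe u

namespace Groth.Agent.Lib.Helper17.TensorSupp
open CategoryTheory CategoryTheory.Limits Opposite TopologicalSpace AlgebraicGeometry TensorProduct
open Groth.Agent.Lib.Helper28.QCohLoc Groth.Agent.Lib.Helper28.TensorGen
open Groth.Agent.Lib.Helper17.TensorQC Groth.Agent.Lib.Helper29.QCohStalk

theorem nontrivial_tensor_field_iff {K V W : Type*} [Field K] [AddCommGroup V] [Module K V]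
    [AddCommGroup W] [Module K W] : Nontrivial (V ⊗[K] W) ↔ Nontrivial V ∧ Nontrivial W := by
  constructor
  · intro h
    constructor
    · by_contra hV
      rw [not_nontrivial_iff_subsingleton] at hV
      have : Subsingleton (V ⊗[K] W) := by
        refine ⟨fun a b => ?_⟩
        have h0 : ∀ x : V ⊗[K] W, x = 0 := by
          intro x
          induction x using TensorProduct.induction_on with
          | zero => rfl
          | tmul v w => rw [Subsingleton.elim v 0, zero_tmul]
          | add x y hx hy => rw [hx, hy, add_zero]
        rw [h0 a, h0 b]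
      exact not_subsingleton _ this
    · by_contra hW
      rw [not_nontrivial_iff_subsingleton] at hW
      have : Subsingleton (V ⊗[K] W) := by
        refine ⟨fun a b => ?_⟩
        have h0 : ∀ x : V ⊗[K] W, x = 0 := by
          intro x
          induction x using TensorProduct.induction_on with
          | zero => rfl
          | tmul v w => rw [Subsingleton.elim w 0, tmul_zero]
          | add x y hx hy => rw [hx, hy, add_zero]
        rw [h0 a, h0 b]
      exact not_subsingleton _ this
  · rintro ⟨hV, hW⟩
    exact (Module.FaithfullyFlat.nontrivial_tensorProduct_iff_right K V).2 hW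

/-- the support of a tensor product of finite modules is the intersection of the supports. -/
theorem support_tensorProduct {R M N : Type*} [CommRing R] [AddCommGroup M] [Module R M]
    [AddCommGroup N] [Module R N] [Module.Finite R M] [Module.Finite R N] :
    Module.support R (M ⊗[R] N) = Module.support R M ∩ Module.support R N := by
  ext p
  rw [Set.mem_inter_iff, Module.mem_support_iff_nontrivial_residueField_tensorProduct,
    Module.mem_support_iff_nontrivial_residueField_tensorProduct,
    Module.mem_support_iff_nontrivial_residueField_tensorProduct,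
    ← nontrivial_tensor_field_iff (K := p.asIdeal.ResidueField)]
  exact (AlgebraTensorModule.distribBaseChange R p.asIdeal.ResidueField M N).toEquiv.nontrivial_congr

variable {X : Scheme.{u}}

/-- the support of a quasi-coherent module in terms of the module of sections over an affine open. -/
theorem mem_support_iff_mem_moduleSupport (F : X.Modules) [F.IsQuasicoherent] {U : X.Opens}
    (hU : IsAffineOpen U) (x : X) (hx : x ∈ U) :
    x ∈ CohB1.support F ↔ (⟨germPrime U x hx, inferInstance⟩ : PrimeSpectrum Γ(X, U)) ∈
      Module.support Γ(X, U) Γ(F, U) := by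
  rw [mem_support_iff hU (isLocOn_of_isQuasicoherent F hU) x hx,
    Module.mem_support_iff_exists_annihilator]
  refine exists_congr fun m => ?_
  have : ann (R := Γ(X, U)) m = (Submodule.span Γ(X, U) {m}).annihilator := by
    ext a
    rw [mem_ann, Submodule.mem_annihilator_span_singleton]
  rw [this]


open Groth.Agent.Lib.Helper28.FinType Groth.Agent.Lib.Helper17.FinTypeConv Groth.Agent.Lib.Helper17.ModPullback in
/-- the pullback of a quasi-coherent module of finite type is of finite type. -/
theorem isFiniteType_pullback {Y : Scheme.{u}} (f : X ⟶ Y) (G : Y.Modules) [G.IsQuasicoherent]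
    [SheafOfModules.IsFiniteType.{u} (R := Y.ringCatSheaf) G] :
    SheafOfModules.IsFiniteType.{u} (R := X.ringCatSheaf) ((Scheme.Modules.pullback f).obj G) := by
  choose U V hU hV hxU hUV using exists_affine_pair f
  refine isFiniteType_of_finite_sections ((Scheme.Modules.pullback f).obj G) U ?_ hU fun x => ?_
  · exact eq_top_iff.2 fun x _ => Opens.mem_iSup.2 ⟨x, hxU x⟩
  · letI := (f.appLE (V x) (U x) (hUV x)).hom.toAlgebra
    obtain ⟨e⟩ := nonempty_linearEquiv_pullback_sections f G (hU x) (hV x) (hUV x)
    haveI := finite_of_isAffineOpen G (hV x)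
    exact Module.Finite.equiv e.symm

open Groth.Agent.Lib.Helper28.FinType in
/-- **The support of the tensor product of two quasi-coherent modules of finite type is the
intersection of their supports.** -/
theorem support_tensorMod (A B : X.Modules) [A.IsQuasicoherent] [B.IsQuasicoherent]
    [SheafOfModules.IsFiniteType.{u} (R := X.ringCatSheaf) A]
    [SheafOfModules.IsFiniteType.{u} (R := X.ringCatSheaf) B] :
    CohB1.support (CohB1.tensorMod A B) = CohB1.support A ∩ CohB1.support B := by
  ext z
  obtain ⟨_, ⟨U, hU, rfl⟩, hzU, -⟩ :=
    X.isBasis_affineOpens.exists_subset_of_mem_open (Set.mem_univ z) isOpen_univ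
  haveI := finite_of_isAffineOpen A hU
  haveI := finite_of_isAffineOpen B hU
  rw [Set.mem_inter_iff, mem_support_iff_mem_moduleSupport (CohB1.tensorMod A B) hU z hzU,
    mem_support_iff_mem_moduleSupport A hU z hzU, mem_support_iff_mem_moduleSupport B hU z hzU,
    ← Set.mem_inter_iff, ← support_tensorProduct]
  let e : PT A B U ≃ₗ[Γ(X, U)] Γ(TT A B, U) :=
    LinearEquiv.ofBijective (ηL A B U)
      ⟨(injective_iff_map_eq_zero _).2 fun ξ hξ => η_injective A B hU ξ hξ, η_surjective A B hU⟩
  rw [← LinearEquiv.support_eq e]
  exact Iff.rfl

end Groth.Agent.Lib.Helper17.TensorSupp
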