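import Groth.Agent.Lib.Helper17.ClosedUnit
import Groth.Agent.Lib.Helper17.TensorSupp
import Groth.Agent.Lib.Helper28.FinType
import Mathlib

/-!
# The annihilator ideal sheaf of a quasi-coherent module of finite type

* `annIdeal F`: the quasi-coherent ideal sheaf `U ↦ Ann Γ(F, U)`.
* `support_annIdeal`: its support is the support of `F`.
* `isIso_unit_annIdeal`: `F ⟶ j_* j^* F` is an isomorphism for the closed subscheme `j` cut out by `annIdeal F`.
-/

set_option backward.isDefEq.respectTransparency.types false
set_option autoImplicit false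
universe u
open AlgebraicGeometry CategoryTheory Opposite TopologicalSpace TensorProduct CategoryTheory.Limits

namespace Groth.Agent.Lib.Helper17.AnnIdeal
open Scheme.Modules
open Groth.Agent.Lib.Helper28.QCohLoc

/-- the annihilator of a finite module commutes with localization away from an element (unbundled form) -/
theorem map_annihilator_eq {A A' : Type u} [CommRing A] [CommRing A'] (φ : A →+* A') (f : A)
    (hu : IsUnit (φ f)) (hs : ∀ b : A', ∃ (n : ℕ) (a : A), b * φ f ^ n = φ a)
    {M M' : Type u} [AddCommGroup M] [Module A M] [Module.Finite A M] [AddCommGroup M'] [Module A' M']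
    (ρ : M →+ M') (hρ : ∀ (a : A) (m : M), ρ (a • m) = φ a • ρ m)
    (hsurj : ∀ y : M', ∃ (n : ℕ) (x : M), (φ f) ^ n • y = ρ x)
    (hinj : ∀ x : M, ρ x = 0 → ∃ n : ℕ, f ^ n • x = 0) :
    (Module.annihilator A M).map φ = Module.annihilator A' M' := by
  apply le_antisymm
  · rw [Ideal.map_le_iff_le_comap]
    intro a ha
    rw [Ideal.mem_comap, Module.mem_annihilator]
    intro y
    obtain ⟨n, x, hx⟩ := hsurj y
    have h1 : (φ f) ^ n • (φ a • y) = 0 := by
      rw [smul_comm, hx, ← hρ, Module.mem_annihilator.mp ha x, map_zero]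
    exact ((hu.pow n).smul_eq_zero).mp h1
  · intro b hb
    obtain ⟨k, a, hka⟩ := hs b
    have ha : ∀ m : M, ∃ n : ℕ, f ^ n • (a • m) = 0 := by
      intro m
      apply hinj
      rw [hρ, ← hka, mul_smul]
      rw [Module.mem_annihilator.mp hb, ]
    choose n hn using ha
    obtain ⟨s, hs⟩ := (Module.finite_def.mp (inferInstance : Module.Finite A M))
    let N := s.sup n
    have hN : f ^ N * a ∈ Module.annihilator A M := by
      rw [← Submodule.annihilator_top, ← hs, Submodule.mem_annihilator_span]
      rintro ⟨m, hm⟩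
      have hle : n m ≤ N := Finset.le_sup (f := n) hm
      change (f ^ N * a) • m = 0
      rw [← Nat.sub_add_cancel hle, pow_add, mul_assoc, mul_smul, mul_smul, hn m, smul_zero]
    have h2 : b * φ f ^ (k + N) = φ (f ^ N * a) := by
      rw [pow_add, ← mul_assoc, hka, map_mul, map_pow, mul_comm]
    have h3 : b = φ (f ^ N * a) * ((hu.pow (k + N)).unit⁻¹ : A'ˣ) := by
      rw [← h2, mul_assoc]
      have : φ f ^ (k + N) * ((hu.pow (k + N)).unit⁻¹ : A'ˣ) = 1 := (hu.pow (k + N)).mul_val_inv
      rw [this, mul_one]
    rw [h3]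
    exact Ideal.mul_mem_right _ _ (Ideal.mem_map_of_mem φ hN)

variable {X : Scheme.{u}} (F : X.Modules)

/-- the annihilator ideal sheaf of a quasi-coherent module of finite type -/
noncomputable def annIdeal [F.IsQuasicoherent] [SheafOfModules.IsFiniteType.{u} (R := X.ringCatSheaf) F] :
    X.IdealSheafData where
  ideal U := Module.annihilator Γ(X, U.1) Γ(F, U.1)
  map_ideal_basicOpen U f := by
    haveI : Module.Finite Γ(X, U.1) Γ(F, U.1) :=
      Groth.Agent.Lib.Helper28.FinType.finite_of_isAffineOpen F U.2
    have hloc := isLocOn_of_isQuasicoherent F U.2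
    haveI := U.2.isLocalization_basicOpen f
    change (Module.annihilator Γ(X, U.1) Γ(F, U.1)).map (X.presheaf.map (homOfLE (X.basicOpen_le f)).op).hom =
      Module.annihilator Γ(X, X.basicOpen f) Γ(F, X.basicOpen f)
    refine map_annihilator_eq (X.presheaf.map (homOfLE (X.basicOpen_le f)).op).hom f
      (isUnit_ur f) (fun b => IsLocalization.Away.surj f b)
      (AddMonoidHom.mk' (fun m => res F (X.basicOpen_le f) m) (fun a b => map_add _ a b))
      (fun a m => res_smul F (X.basicOpen_le f) a m)
      (fun y => hloc.surj f y) (fun x hx => hloc.inj f x hx)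

@[simp]
theorem annIdeal_ideal [F.IsQuasicoherent] [SheafOfModules.IsFiniteType.{u} (R := X.ringCatSheaf) F]
    (U : X.affineOpens) : (annIdeal F).ideal U = Module.annihilator Γ(X, U.1) Γ(F, U.1) := rfl

open Groth.Agent.Lib.Helper29.QCohStalk Groth.Agent.Lib.Helper17.TensorSupp in
/-- the support of the annihilator ideal sheaf is the support of the module -/
theorem support_annIdeal [F.IsQuasicoherent] [SheafOfModules.IsFiniteType.{u} (R := X.ringCatSheaf) F] :
    ((annIdeal F).support : Set X) = CohB1.support F := by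
  ext x
  obtain ⟨W, hW, hxW, -⟩ := Opens.isBasis_iff_nbhd.mp X.isBasis_affineOpens
    (show x ∈ (⊤ : X.Opens) from trivial)
  haveI : Module.Finite Γ(X, W) Γ(F, W) := Groth.Agent.Lib.Helper28.FinType.finite_of_isAffineOpen F hW
  rw [SetLike.mem_coe, Scheme.IdealSheafData.mem_support_iff_of_mem (U := ⟨W, hW⟩) hxW,
    mem_support_iff_mem_moduleSupport F hW x hxW, Module.support_eq_zeroLocus, PrimeSpectrum.mem_zeroLocus,
    Scheme.mem_zeroLocus_iff]
  constructor
  · intro h f hf
    exact (mem_germPrime_iff_notMem_basicOpen W x hxW f).mpr (h f hf)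
  · intro h f hf
    exact (mem_germPrime_iff_notMem_basicOpen W x hxW f).mp (h hf)

/-- the unit `F ⟶ j_* j^* F` is an isomorphism for the closed subscheme cut out by the annihilator -/
theorem isIso_unit_annIdeal [F.IsQuasicoherent] [SheafOfModules.IsFiniteType.{u} (R := X.ringCatSheaf) F] :
    IsIso ((Scheme.Modules.pullbackPushforwardAdjunction (annIdeal F).subschemeι).unit.app F) := by
  apply Groth.Agent.Lib.Helper17.ClosedUnit.isIso_unit_of_killed
  intro U a ha s
  rw [Scheme.IdealSheafData.ker_subschemeι] at ha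
  exact Module.mem_annihilator.mp ha s

end Groth.Agent.Lib.Helper17.AnnIdeal
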