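import Groth.Agent.Lib.Helper17.GV5
import Mathlib

/-!
# Grothendieck vanishing, part 6: the induction
-/

set_option autoImplicit false
set_option backward.isDefEq.respectTransparency.types false
universe u
open CategoryTheory CategoryTheory.Limits TopologicalSpace Opposite Abelian

namespace Groth.Agent.Lib.Helper17.GV

variable {X : TopCat.{u}}

/-- chains of irreducible closed subsets of a nowhere dense closed subset of a Noetherian space
extend by one step -/
theorem exists_ltSeries_succ [NoetherianSpace X] (W : Opens X) (hW : Dense (W : Set X))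
    (p : LTSeries (IrreducibleCloseds ↥((W : Set X)ᶜ))) :
    ∃ p' : LTSeries (IrreducibleCloseds X), p'.length = p.length + 1 := by
  have hind : Topology.IsInducing (Subtype.val : ↥((W : Set X)ᶜ) → X) :=
    Topology.IsInducing.subtypeVal
  let m := IrreducibleCloseds.map (Subtype.val : ↥((W : Set X)ᶜ) → X) continuous_subtype_val
  have hm : StrictMono m := IrreducibleCloseds.map_strictMono_of_isInducing hind
  let q := p.map m hm
  have hlast : ((q.last : IrreducibleCloseds X) : Set X) ⊆ (W : Set X)ᶜ := by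
    have h1 : q.last = m p.last := LTSeries.last_map p m hm
    rw [h1]
    change closure (Subtype.val '' (p.last : Set ↥((W : Set X)ᶜ))) ⊆ _
    refine closure_minimal ?_ W.2.isClosed_compl
    rintro _ ⟨y, -, rfl⟩
    exact y.2
  obtain ⟨t, ht, hst, hmax⟩ := exists_preirreducible (q.last : Set X)
    q.last.isIrreducible.isPreirreducible
  have htne : t.Nonempty := q.last.isIrreducible.nonempty.mono hst
  have htirr : IsIrreducible t := ⟨htne, ht⟩
  have htcomp : t ∈ irreducibleComponents X :=
    ⟨htirr, fun u hu htu => (hmax u hu.isPreirreducible htu).le⟩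
  have htcl : IsClosed t := isClosed_of_mem_irreducibleComponents t htcomp
  obtain ⟨o, ho, hone, hot⟩ :=
    NoetherianSpace.exists_isOpen_nonempty_subset_irreducibleComponent t htcomp
  obtain ⟨x, hxo, hxW⟩ := hW.inter_open_nonempty o ho hone
  let Y : IrreducibleCloseds X := ⟨t, htirr, htcl⟩
  have hlt : q.last < Y := by
    refine lt_of_le_of_ne (show (q.last : Set X) ⊆ t from hst) ?_
    intro heq
    have hx : x ∈ (q.last : Set X) := by
      rw [heq]
      exact hot hxo
    exact hlast hx hxW
  refine ⟨q.snoc Y hlt, ?_⟩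
  simp [q]

/-- the vanishing statement in terms of lengths of chains -/
def QQ (n : ℕ) : Prop :=
  ∀ (X : TopCat.{u}) [NoetherianSpace X],
    (∀ p : LTSeries (IrreducibleCloseds X), p.length < n) →
    ∀ (F : CohTop.Ab X) (q : ℕ), n ≤ q → Subsingleton (CohTop.H F q)

theorem subsingleton_H_of_isEmpty [IsEmpty X] (F : CohTop.Ab X) (q : ℕ) :
    Subsingleton (CohTop.H F q) := by
  have hid : 𝟙 F = 0 := by
    ext U s
    have hU : U.unop = ⊥ := by
      ext x
      exact isEmptyElim x
    exact eq_zero_of_bot F hU _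
  refine ⟨fun x y => ?_⟩
  have key : ∀ z : CohTop.H F q, z = 0 := by
    intro z
    have h1 : z.comp (Ext.mk₀ (𝟙 F)) (add_zero q) = z := Ext.comp_mk₀_id z
    rw [hid, Ext.mk₀_zero, Ext.comp_zero] at h1
    exact h1.symm
  rw [key x, key y]

theorem QQ_zero : QQ.{u} 0 := by
  intro X _ h F q _
  haveI : IsEmpty X := by
    by_contra hne
    rw [not_isEmpty_iff] at hne
    obtain ⟨x⟩ := hne
    let Y : IrreducibleCloseds X := ⟨closure {x}, isIrreducible_singleton.closure, isClosed_closure⟩
    exact absurd (h (RelSeries.singleton _ Y)) (by simp)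
  exact subsingleton_H_of_isEmpty F q

/-- long exact sequence: vanishing of the outer terms gives vanishing of the middle term -/
theorem subsingleton_H_middle (S : ShortComplex (CohTop.Ab X)) (hS : S.ShortExact) (q : ℕ)
    (h₁ : Subsingleton (CohTop.H S.X₁ q)) (h₃ : Subsingleton (CohTop.H S.X₃ q)) :
    Subsingleton (CohTop.H S.X₂ q) := by
  refine ⟨fun x y => ?_⟩
  have key : ∀ z : CohTop.H S.X₂ q, z = 0 := by
    intro z
    obtain ⟨x₁, hx₁⟩ := Ext.covariant_sequence_exact₂ _ hS z (Subsingleton.elim _ _)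
    rw [← hx₁, Subsingleton.elim x₁ 0, Ext.zero_comp]
  rw [key x, key y]

/-- long exact sequence: `H^{q+1}(X₂) = 0` and `H^q(X₃) = 0` give `H^{q+1}(X₁) = 0` -/
theorem subsingleton_H_left (S : ShortComplex (CohTop.Ab X)) (hS : S.ShortExact) (q : ℕ)
    (h₂ : Subsingleton (CohTop.H S.X₂ (q + 1))) (h₃ : Subsingleton (CohTop.H S.X₃ q)) :
    Subsingleton (CohTop.H S.X₁ (q + 1)) := by
  refine ⟨fun x y => ?_⟩
  have key : ∀ z : CohTop.H S.X₁ (q + 1), z = 0 := by
    intro z
    obtain ⟨x₃, hx₃⟩ := Ext.covariant_sequence_exact₁ _ hS z (Subsingleton.elim _ _) rfl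
    rw [← hx₃, Subsingleton.elim x₃ 0, Ext.zero_comp]
  rw [key x, key y]

section SES

variable {A B : CohTop.Ab X} (f : A ⟶ B)

/-- `0 → ker f → A → im f → 0` -/
noncomputable def sesKer : ShortComplex (CohTop.Ab X) :=
  ShortComplex.mk (kernel.ι f) (Abelian.factorThruImage f) (by
    rw [← cancel_mono (Abelian.image.ι f), Category.assoc, Abelian.image.fac, kernel.condition,
      zero_comp])

theorem sesKer_shortExact : (sesKer f).ShortExact := by
  haveI : Mono (sesKer f).f := inferInstanceAs (Mono (kernel.ι f))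
  haveI : Epi (sesKer f).g := inferInstanceAs (Epi (Abelian.factorThruImage f))
  refine ShortComplex.ShortExact.mk ?_
  apply ShortComplex.exact_of_f_is_kernel
  exact isKernelOfComp (Abelian.image.ι f) f (kernelIsKernel f) (sesKer f).zero
    (Abelian.image.fac f)

/-- `0 → im f → B → coker f → 0` -/
noncomputable def sesCoker : ShortComplex (CohTop.Ab X) :=
  ShortComplex.mk (Abelian.image.ι f) (cokernel.π f) (kernel.condition _)

theorem sesCoker_shortExact : (sesCoker f).ShortExact := by
  haveI : Mono (sesCoker f).f := inferInstanceAs (Mono (Abelian.image.ι f))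
  haveI : Epi (sesCoker f).g := inferInstanceAs (Epi (cokernel.π f))
  refine ShortComplex.ShortExact.mk ?_
  apply ShortComplex.exact_of_f_is_kernel
  exact kernelIsKernel (cokernel.π f)

end SES

theorem QQ_succ (n : ℕ) (hn : QQ.{u} n) : QQ.{u} (n + 1) := by
  intro X _ hX F q hq
  obtain ⟨q', rfl⟩ : ∃ q', q = q' + 1 := ⟨q - 1, by omega⟩
  have hq' : n ≤ q' := by omega
  have hIH : ∀ (r : ℕ), n ≤ r → ∀ W : Opens X, Dense (W : Set X) →
      ∀ G : CohTop.Ab (complSpace W), Subsingleton (CohTop.H G r) := by
    intro r hr W hW G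
    haveI : NoetherianSpace ↥((W : Set X)ᶜ) := inferInstance
    refine hn (complSpace W) ?_ G r hr
    intro p
    obtain ⟨p', hp'⟩ := exists_ltSeries_succ W hW p
    have := hX p'
    omega
  have hK : ∀ r, n ≤ r → Subsingleton (CohTop.H (kernel (toG F)) r) := fun r hr =>
    subsingleton_H_of_genZero _ (genZero_kernel F) r (hIH r hr)
  have hC : ∀ r, n ≤ r → Subsingleton (CohTop.H (cokernel (toG F)) r) := fun r hr =>
    subsingleton_H_of_genZero _ (genZero_cokernel F) r (hIH r hr)
  haveI := isFlasque_Ggen F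
  have hG : Subsingleton (CohTop.H (Ggen F) (q' + 1)) :=
    ⟨fun x y => (Groth.Agent.Lib.Helper6.SheafCoh.flasque_H_eq_zero (Ggen F) q' x).trans
      (Groth.Agent.Lib.Helper6.SheafCoh.flasque_H_eq_zero (Ggen F) q' y).symm⟩
  have hI : Subsingleton (CohTop.H (Abelian.image (toG F)) (q' + 1)) :=
    subsingleton_H_left (sesCoker (toG F)) (sesCoker_shortExact _) q' hG (hC q' hq')
  exact subsingleton_H_middle (sesKer (toG F)) (sesKer_shortExact _) (q' + 1)
    (hK (q' + 1) (by omega)) hI

theorem QQ_all (n : ℕ) : QQ.{u} n := by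
  induction n with
  | zero => exact QQ_zero
  | succ n ih => exact QQ_succ n ih

/-- **Grothendieck's vanishing theorem** for Noetherian topological spaces. -/
theorem grothendieck_vanishing {X : TopCat.{u}} [NoetherianSpace X] (d : ℕ)
    (hd : topologicalKrullDim X ≤ d) (F : CohTop.Ab X) (p : ℕ) (hp : d < p) :
    Subsingleton (CohTop.H F p) := by
  refine QQ_all (d + 1) X ?_ F p hp
  intro s
  have h1 : (s.length : WithBot ℕ∞) ≤ topologicalKrullDim X := Order.LTSeries.length_le_krullDim s
  have h2 : (s.length : WithBot ℕ∞) ≤ (d : WithBot ℕ∞) := h1.trans hd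
  have h3 : s.length ≤ d := by exact_mod_cast h2
  omega

end Groth.Agent.Lib.Helper17.GV
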