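import Groth.Agent.Lib.Helper17.TensorSupp
import Groth.Agent.Lib.Helper6.SheafCoh
import Mathlib
set_option backward.isDefEq.respectTransparency.types false
set_option autoImplicit false
universe u

namespace Groth.Agent.Lib.Helper17.ZeroSupp
open CategoryTheory CategoryTheory.Limits Opposite TopologicalSpace AlgebraicGeometry
open Groth.Agent.Lib.Helper28.QCohLoc Groth.Agent.Lib.Helper29.QCohStalk
open Groth.Agent.Lib.Helper17.TensorSupp

variable {X : Scheme.{u}} (M : X.Modules)

/-- a section over an open which does not meet the support vanishes. -/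
theorem eq_zero_of_forall_notMem_support {W : X.Opens} (s : Γ(M, W))
    (h : ∀ x ∈ W, x ∉ CohB1.support M) : s = 0 := by
  refine TopCat.Presheaf.section_ext (⟨M.presheaf, M.isSheaf⟩ : TopCat.Sheaf Ab X) W s 0 ?_
  intro x hx
  have hs : Subsingleton (M.presheaf.stalk x) := by
    have := h x hx
    unfold CohB1.support at this
    rw [Set.mem_ofPred_eq, not_not] at this
    exact this
  exact Subsingleton.elim _ _

theorem germPrime_eq_primeIdealOf {U : X.Opens} (hU : IsAffineOpen U) (x : X) (hx : x ∈ U) :
    germPrime U x hx = (hU.primeIdealOf ⟨x, hx⟩).asIdeal := by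
  rw [hU.primeIdealOf_eq_map_closedPoint]
  rfl

theorem primeIdealOf_fromSpec {U : X.Opens} (hU : IsAffineOpen U) (y : Spec Γ(X, U))
    (hy : hU.fromSpec y ∈ U) : hU.primeIdealOf ⟨hU.fromSpec y, hy⟩ = y := by
  apply hU.fromSpec.isOpenEmbedding.injective
  exact hU.fromSpec_primeIdealOf ⟨hU.fromSpec y, hy⟩

/-- over a Noetherian affine open, a module of finite type whose support consists of closed points
has only finitely many points of its support in that open. -/
theorem finite_support_inter [M.IsQuasicoherent] [SheafOfModules.IsFiniteType.{u} (R := X.ringCatSheaf) M]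
    (h0 : ∀ x ∈ CohB1.support M, IsClosed ({x} : Set X)) {U : X.Opens} (hU : IsAffineOpen U)
    [IsNoetherianRing Γ(X, U)] : (CohB1.support M ∩ (U : Set X)).Finite := by
  classical
  haveI := Groth.Agent.Lib.Helper28.FinType.finite_of_isAffineOpen M hU
  set I : Ideal Γ(X, U) := Module.annihilator Γ(X, U) Γ(M, U) with hI
  have hfin : I.minimalPrimes.Finite := Ideal.finite_minimalPrimes_of_isNoetherianRing _ I
  let g : X → Ideal Γ(X, U) := fun x => if hx : x ∈ U then germPrime U x hx else ⊥
  refine Set.Finite.of_finite_image (f := g) (hfin.subset ?_) ?_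
  · rintro _ ⟨x, ⟨hxS, hxU⟩, rfl⟩
    have hgx : g x = germPrime U x hxU := dif_pos hxU
    rw [hgx]
    have hmem := (mem_support_iff_mem_moduleSupport M hU x hxU).1 hxS
    rw [Module.support_eq_zeroLocus, PrimeSpectrum.mem_zeroLocus] at hmem
    have hle : I ≤ germPrime U x hxU := fun a ha => hmem ha
    obtain ⟨q, hq, hqle⟩ := Ideal.exists_minimalPrimes_le hle
    haveI hqp : q.IsPrime := hq.1.1
    -- the point of `q`
    let y : Spec Γ(X, U) := ⟨q, hqp⟩
    have hyU : hU.fromSpec y ∈ U := by
      have h : hU.fromSpec y ∈ Set.range hU.fromSpec := ⟨y, rfl⟩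
      rw [IsAffineOpen.range_fromSpec hU] at h
      exact h
    have hgy : germPrime U (hU.fromSpec y) hyU = q := by
      rw [germPrime_eq_primeIdealOf hU, primeIdealOf_fromSpec hU y hyU]
    have hyS : hU.fromSpec y ∈ CohB1.support M := by
      rw [mem_support_iff_mem_moduleSupport M hU _ hyU, Module.support_eq_zeroLocus,
        PrimeSpectrum.mem_zeroLocus]
      intro a ha
      change a ∈ germPrime U (hU.fromSpec y) hyU
      rw [hgy]
      exact hq.1.2 ha
    have hmax : q.IsMaximal := by
      have := hU.primeIdealOf_isMaximal_of_isClosed ⟨hU.fromSpec y, hyU⟩ (h0 _ hyS)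
      rw [primeIdealOf_fromSpec hU y hyU] at this
      exact this
    have hne : germPrime U x hxU ≠ ⊤ := Ideal.IsPrime.ne_top inferInstance
    rw [← hmax.eq_of_le hne hqle]
    exact hq
  · rintro x ⟨-, hxU⟩ x' ⟨-, hxU'⟩ hxx'
    have h1 : g x = germPrime U x hxU := dif_pos hxU
    have h2 : g x' = germPrime U x' hxU' := dif_pos hxU'
    rw [h1, h2, germPrime_eq_primeIdealOf hU, germPrime_eq_primeIdealOf hU] at hxx'
    have h3 : hU.primeIdealOf ⟨x, hxU⟩ = hU.primeIdealOf ⟨x', hxU'⟩ := PrimeSpectrum.ext hxx'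
    have h4 := congrArg hU.fromSpec h3
    rw [hU.fromSpec_primeIdealOf, hU.fromSpec_primeIdealOf] at h4
    exact h4


/-- on a locally Noetherian scheme, every subset of the support of a coherent module whose support consists of
closed points is closed. -/
theorem isClosed_of_subset_support [IsLocallyNoetherian X] [M.IsQuasicoherent]
    [SheafOfModules.IsFiniteType.{u} (R := X.ringCatSheaf) M]
    (h0 : ∀ x ∈ CohB1.support M, IsClosed ({x} : Set X)) (A : Set X) (hA : A ⊆ CohB1.support M) :
    IsClosed A := by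
  rw [← isOpen_compl_iff, isOpen_iff_forall_mem_open]
  intro x hx
  obtain ⟨_, ⟨U, hU, rfl⟩, hxU, -⟩ :=
    X.isBasis_affineOpens.exists_subset_of_mem_open (Set.mem_univ x) isOpen_univ
  haveI : IsNoetherianRing Γ(X, U) := IsLocallyNoetherian.component_noetherian ⟨U, hU⟩
  have hfin : (A ∩ (U : Set X)).Finite :=
    (finite_support_inter M h0 hU).subset (Set.inter_subset_inter_left _ hA)
  have hcl : IsClosed (A ∩ (U : Set X)) := by
    have h1 : A ∩ (U : Set X) = ⋃ a ∈ A ∩ (U : Set X), {a} := (Set.biUnion_of_singleton _).symm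
    rw [h1]
    exact hfin.isClosed_biUnion fun a ha => h0 a (hA ha.1)
  refine ⟨(U : Set X) ∩ (A ∩ (U : Set X))ᶜ, ?_, U.isOpen.inter hcl.isOpen_compl, hxU, ?_⟩
  · rintro y ⟨hyU, hyA⟩ hyA'
    exact hyA ⟨hyA', hyU⟩
  · intro hxA
    exact hx hxA.1

/-- a coherent module on a locally Noetherian scheme whose support consists of closed points is flasque. -/
theorem isFlasque_of_support_closedPoints [IsLocallyNoetherian X] [M.IsQuasicoherent]
    [SheafOfModules.IsFiniteType.{u} (R := X.ringCatSheaf) M]
    (h0 : ∀ x ∈ CohB1.support M, IsClosed ({x} : Set X)) :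
    TopCat.Sheaf.IsFlasque (Coh.toAb M) where
  epi {W' U'} i := by
    rw [AddCommGrpCat.epi_iff_surjective]
    intro s
    obtain ⟨W⟩ := W'
    obtain ⟨U⟩ := U'
    have hUW : U ≤ W := leOfHom i.unop
    obtain rfl : i = (homOfLE hUW).op := Subsingleton.elim _ _
    -- the part of the support in `U` is closed
    have hcl : IsClosed (CohB1.support M ∩ (U : Set X)) :=
      isClosed_of_subset_support M h0 _ Set.inter_subset_left
    let V : X.Opens := W ⊓ ⟨(CohB1.support M ∩ (U : Set X))ᶜ, hcl.isOpen_compl⟩
    let 𝒱 : Bool → X.Opens := fun b => cond b U V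
    have h𝒱 : ∀ b, 𝒱 b ≤ W := fun b => by
      cases b
      · exact inf_le_left
      · exact hUW
    have hcov : W ≤ iSup 𝒱 := by
      intro x hxW
      by_cases hx : x ∈ CohB1.support M ∩ (U : Set X)
      · exact Opens.mem_iSup.2 ⟨true, hx.2⟩
      · exact Opens.mem_iSup.2 ⟨false, ⟨hxW, hx⟩⟩
    let sf : ∀ b, Γ(M, 𝒱 b) := fun b => match b with
      | true => (show Γ(M, U) from s)
      | false => (0 : Γ(M, V))
    have hzero : ∀ (T : X.Opens) (t : Γ(M, T)), T ≤ U → T ≤ V → t = 0 := by
      intro T t hTU hTV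
      refine eq_zero_of_forall_notMem_support M t fun x hxT hxS => ?_
      exact (hTV hxT).2 ⟨hxS, hTU hxT⟩
    obtain ⟨t, ht⟩ := exists_gluing M 𝒱 W h𝒱 hcov sf (by
      intro a b
      cases a <;> cases b
      · rfl
      · exact (hzero _ _ inf_le_right inf_le_left).trans (hzero _ _ inf_le_right inf_le_left).symm
      · exact (hzero _ _ inf_le_left inf_le_right).trans (hzero _ _ inf_le_left inf_le_right).symm
      · rfl)
    exact ⟨t, ht true⟩

open Groth.Agent.Lib.Helper6.SheafCoh in
/-- **a coherent module on a locally Noetherian scheme whose support consists of closed points is acyclic.** -/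
theorem subsingleton_HH_of_support_closedPoints [IsLocallyNoetherian X] [M.IsQuasicoherent]
    [SheafOfModules.IsFiniteType.{u} (R := X.ringCatSheaf) M]
    (h0 : ∀ x ∈ CohB1.support M, IsClosed ({x} : Set X)) (n : ℕ) :
    Subsingleton (Coh.HH X M (n + 1)) := by
  haveI := isFlasque_of_support_closedPoints M h0
  refine ⟨fun a b => ?_⟩
  have h := flasque_H_eq_zero (X := X.toTopCat) (Coh.toAb M) n
  exact (h a).trans (h b).symm

end Groth.Agent.Lib.Helper17.ZeroSupp
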