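import Mathlib

/-!
# Pointwise descent of unramifiedness along arbitrary base change

If `B = S ⊗[R] A` (as an `Algebra.IsPushout`), `A` of finite type over `R`, `q'` a prime of `B`
and `B` is unramified over `S` at `q'`, then `A` is unramified over `R` at `q' ∩ A`.
-/

set_option autoImplicit false
set_option backward.isDefEq.respectTransparency.types false

namespace Groth.Agent.Lib.Helper17.UnramBaseChange

open TensorProduct

/-- The support of a base change contains the preimage of the support (finite modules). -/
theorem mem_support_baseChange {A B M : Type*} [CommRing A] [CommRing B] [Algebra A B]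
    [AddCommGroup M] [Module A M] [Module.Finite A M] (q' : PrimeSpectrum B)
    (h : PrimeSpectrum.comap (algebraMap A B) q' ∈ Module.support A M) :
    q' ∈ Module.support B (B ⊗[A] M) := by
  rw [Module.mem_support_iff_nontrivial_residueField_tensorProduct] at h ⊢
  set q := PrimeSpectrum.comap (algebraMap A B) q' with hq
  let K := q.asIdeal.ResidueField
  let K' := q'.asIdeal.ResidueField
  letI : Algebra K K' :=
    (Ideal.ResidueField.map q.asIdeal q'.asIdeal (algebraMap A B) rfl).toAlgebra
  haveI : IsScalarTower A K K' := IsScalarTower.of_algebraMap_eq fun a => by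
    rw [RingHom.algebraMap_toAlgebra, Ideal.ResidueField.map_algebraMap,
      ← IsScalarTower.algebraMap_apply]
  let e1 : K' ⊗[B] (B ⊗[A] M) ≃ₗ[K'] K' ⊗[A] M :=
    AlgebraTensorModule.cancelBaseChange A B K' K' M
  let e2 : K' ⊗[K] (K ⊗[A] M) ≃ₗ[K'] K' ⊗[A] M :=
    AlgebraTensorModule.cancelBaseChange A K K' K' M
  rw [e1.nontrivial_congr, ← e2.nontrivial_congr]
  haveI : Nontrivial (K ⊗[A] M) := h
  infer_instance

/-- Pointwise descent of unramifiedness along base change. -/
theorem isUnramifiedAt_of_isPushout (R S A B : Type*) [CommRing R] [CommRing S] [Algebra R S]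
    [CommRing A] [CommRing B] [Algebra R A] [Algebra R B] [Algebra A B] [Algebra S B]
    [IsScalarTower R A B] [IsScalarTower R S B] [Algebra.IsPushout R S A B]
    [Algebra.FiniteType R A] (q' : Ideal B) [q'.IsPrime] [Algebra.IsUnramifiedAt S q'] :
    Algebra.IsUnramifiedAt R (q'.comap (algebraMap A B)) := by
  have h1 : (⟨q', inferInstance⟩ : PrimeSpectrum B) ∈ Algebra.unramifiedLocus S B :=
    ‹Algebra.IsUnramifiedAt S q'›
  rw [Algebra.unramifiedLocus_eq_compl_support, Set.mem_compl_iff] at h1
  have h2 : PrimeSpectrum.comap (algebraMap A B) ⟨q', inferInstance⟩ ∈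
      Algebra.unramifiedLocus R A := by
    rw [Algebra.unramifiedLocus_eq_compl_support, Set.mem_compl_iff]
    intro hmem
    apply h1
    rw [← (KaehlerDifferential.tensorKaehlerEquiv R S A B).support_eq]
    exact mem_support_baseChange _ hmem
  exact h2

end Groth.Agent.Lib.Helper17.UnramBaseChange
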