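import Groth.Agent.Lib.Helper17.MV
import Mathlib
set_option backward.isDefEq.respectTransparency.types false
set_option autoImplicit false
universe u

namespace Groth.Agent.Lib.Helper17.MV
open CategoryTheory CategoryTheory.Limits Opposite Abelian TopologicalSpace AlgebraicGeometry
open Groth.Agent.Lib.Helper17.AffineVanish

variable {X : Scheme.{u}}

/-- union of `≤ k` basic opens of an affine open: no quasi-coherent cohomology in degrees `> k`. -/
theorem subsingleton_HU_biSup_basicOpen {U₀ : X.Opens} (hU₀ : IsAffineOpen U₀)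
    (M : X.Modules) [M.IsQuasicoherent] :
    ∀ (k : ℕ) (s : Finset Γ(X, U₀)), s.card ≤ k → ∀ n : ℕ, k + 1 ≤ n →
      Subsingleton (CohTop.HU (X := X.toTopCat) ((SheafOfModules.toSheaf.{u} X.ringCatSheaf).obj M) n
        (⨆ g ∈ s, X.basicOpen g)) := by
  classical
  intro k
  induction k with
  | zero =>
    intro s hs n hn
    obtain ⟨p, rfl⟩ : ∃ p, n = p + 1 := ⟨n - 1, by omega⟩
    have : s = ∅ := Finset.card_eq_zero.1 (by omega)
    subst this
    simp only [Finset.notMem_empty, iSup_false, iSup_bot]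
    exact subsingleton_HU_of_isAffineOpen M (isAffineOpen_bot X) p
  | succ k ih =>
    intro s hs n hn
    obtain ⟨p, rfl⟩ : ∃ p, n = p + 1 := ⟨n - 1, by omega⟩
    rcases s.eq_empty_or_nonempty with rfl | ⟨a, ha⟩
    · simp only [Finset.notMem_empty, iSup_false, iSup_bot]
      exact subsingleton_HU_of_isAffineOpen M (isAffineOpen_bot X) p
    · obtain ⟨s', has', rfl⟩ : ∃ s', a ∉ s' ∧ insert a s' = s :=
        ⟨s.erase a, Finset.notMem_erase a s, Finset.insert_erase ha⟩
      rw [Finset.card_insert_of_notMem has'] at hs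
      rw [Finset.iSup_insert]
      apply subsingleton_HU_sup
      · have e : X.basicOpen a ⊓ ⨆ g ∈ s', X.basicOpen g =
            ⨆ g ∈ s'.image (fun g => a * g), X.basicOpen g := by
          rw [Finset.iSup_finset_image, inf_iSup₂_eq]
          refine iSup_congr fun g => iSup_congr fun _ => ?_
          exact (X.basicOpen_mul a g).symm
        rw [e]
        exact ih _ (Finset.card_image_le.trans (by omega)) p (by omega)
      · exact subsingleton_HU_of_isAffineOpen M (hU₀.basicOpen a) p
      · exact ih s' (by omega) (p + 1) (by omega)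

/-- a quasi-compact open inside an affine open is a finite union of basic opens. -/
theorem exists_finset_basicOpen_eq {U₀ : X.Opens} (hU₀ : IsAffineOpen U₀) (W : X.Opens) (hW : W ≤ U₀)
    (hc : IsCompact (W : Set X)) :
    ∃ s : Finset Γ(X, U₀), W = ⨆ g ∈ s, X.basicOpen g := by
  classical
  have h1 : ∀ x : W, ∃ f : Γ(X, U₀), X.basicOpen f ≤ W ∧ x.1 ∈ X.basicOpen f := fun x =>
    hU₀.exists_basicOpen_le (V := W) x (hW x.2)
  choose f hf hxf using h1
  obtain ⟨t, ht⟩ := hc.elim_nhds_subcover' (fun x hx => (X.basicOpen (f ⟨x, hx⟩) : Set X))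
    (fun x hx => (X.basicOpen (f ⟨x, hx⟩)).isOpen.mem_nhds (hxf ⟨x, hx⟩))
  refine ⟨t.image f, ?_⟩
  apply le_antisymm
  · intro x hx
    obtain ⟨y, hy, hxy⟩ := Set.mem_iUnion₂.1 (ht hx)
    rw [Finset.iSup_finset_image]
    exact Opens.mem_iSup.2 ⟨y, Opens.mem_iSup.2 ⟨hy, hxy⟩⟩
  · rw [Finset.iSup_finset_image]
    exact iSup₂_le fun y _ => hf y

/-- a quasi-compact open inside an affine open has bounded quasi-coherent cohomological dimension. -/
theorem exists_vanishing_of_isCompact_le_affine {U₀ : X.Opens} (hU₀ : IsAffineOpen U₀) (W : X.Opens)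
    (hW : W ≤ U₀) (hc : IsCompact (W : Set X)) :
    ∃ d : ℕ, ∀ (M : X.Modules), M.IsQuasicoherent → ∀ p : ℕ, d ≤ p →
      Subsingleton (CohTop.HU (X := X.toTopCat) ((SheafOfModules.toSheaf.{u} X.ringCatSheaf).obj M) p W) := by
  obtain ⟨s, rfl⟩ := exists_finset_basicOpen_eq hU₀ W hW hc
  exact ⟨s.card + 1, fun M hM p hp => subsingleton_HU_biSup_basicOpen hU₀ M s.card s le_rfl p hp⟩

/-- on a quasi-separated scheme, a finite union of affine opens has bounded quasi-coherent
cohomological dimension. -/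
theorem exists_vanishing_biSup_affineOpens [QuasiSeparatedSpace X] (s : Finset X.affineOpens) :
    ∃ d : ℕ, ∀ (M : X.Modules), M.IsQuasicoherent → ∀ p : ℕ, d ≤ p →
      Subsingleton (CohTop.HU (X := X.toTopCat) ((SheafOfModules.toSheaf.{u} X.ringCatSheaf).obj M) p
        (⨆ i ∈ s, (i : X.Opens))) := by
  classical
  induction s using Finset.induction_on with
  | empty =>
    refine ⟨1, fun M hM p hp => ?_⟩
    obtain ⟨p, rfl⟩ : ∃ q, p = q + 1 := ⟨p - 1, by omega⟩
    simp only [Finset.notMem_empty, iSup_false, iSup_bot]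
    exact subsingleton_HU_of_isAffineOpen M (isAffineOpen_bot X) p
  | insert a s has ih =>
    obtain ⟨d₂, h₂⟩ := ih
    have hc : IsCompact (((a : X.Opens) ⊓ ⨆ i ∈ s, (i : X.Opens) : X.Opens) : Set X) := by
      rw [inf_iSup₂_eq]
      have : (((⨆ i ∈ s, (a : X.Opens) ⊓ (i : X.Opens)) : X.Opens) : Set X) =
          ⋃ i ∈ s, ((a : X.Opens) : Set X) ∩ ((i : X.Opens) : Set X) := by
        ext x
        simp
      rw [this]
      exact s.finite_toSet.isCompact_biUnion fun i _ =>
        QuasiSeparatedSpace.inter_isCompact _ _ a.1.2 a.2.isCompact i.1.2 i.2.isCompact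
    obtain ⟨d₁, h₁⟩ := exists_vanishing_of_isCompact_le_affine a.2 _ inf_le_left hc
    refine ⟨max (d₁ + 1) (max d₂ 1), fun M hM p hp => ?_⟩
    obtain ⟨p, rfl⟩ : ∃ q, p = q + 1 := ⟨p - 1, by omega⟩
    rw [Finset.iSup_insert]
    apply subsingleton_HU_sup
    · exact h₁ M hM p (by omega)
    · exact subsingleton_HU_of_isAffineOpen M a.2 p
    · exact h₂ M hM (p + 1) (by omega)

/-- **qcqs schemes have bounded quasi-coherent cohomological dimension** (for `HU … ⊤`). -/
theorem exists_vanishing_top [CompactSpace X] [QuasiSeparatedSpace X] :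
    ∃ d : ℕ, ∀ (M : X.Modules), M.IsQuasicoherent → ∀ p : ℕ, d ≤ p →
      Subsingleton (CohTop.HU (X := X.toTopCat) ((SheafOfModules.toSheaf.{u} X.ringCatSheaf).obj M) p ⊤) := by
  obtain ⟨s, hs, e⟩ := (isCompact_iff_finite_and_eq_biUnion_affineOpens (U := (⊤ : X.Opens))).1
    isCompact_univ
  obtain ⟨d, hd⟩ := exists_vanishing_biSup_affineOpens hs.toFinset
  refine ⟨d, fun M hM p hp => ?_⟩
  have := hd M hM p hp
  simp only [Set.Finite.mem_toFinset] at this
  rw [e]
  exact this

end Groth.Agent.Lib.Helper17.MV
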