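import Groth.Agent.Lib.Helper28.TensorGen
import Groth.Agent.Lib.Helper28.QCohConv
import Groth.Agent.Lib.Helper17.FinTypeConv
import Mathlib
set_option backward.isDefEq.respectTransparency.types false
set_option autoImplicit false
universe u

namespace Groth.Agent.Lib.Helper17.TensorQC
open CategoryTheory CategoryTheory.Limits Opposite TopologicalSpace AlgebraicGeometry TensorProduct
open Groth.Agent.Lib.Helper28.QCohLoc Groth.Agent.Lib.Helper28.TensorGen

theorem exists_pow_smul_eq_zero_of_map_eq_zero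
    {R R' M N M' N' : Type*} [CommRing R] [CommRing R'] [Algebra R R'] (r : R)
    [IsLocalization.Away r R']
    [AddCommGroup M] [Module R M] [AddCommGroup N] [Module R N]
    [AddCommGroup M'] [Module R M'] [Module R' M'] [IsScalarTower R R' M']
    [AddCommGroup N'] [Module R N'] [Module R' N'] [IsScalarTower R R' N']
    (f : M →ₗ[R] M') (g : N →ₗ[R] N') [IsLocalizedModule (Submonoid.powers r) f]
    [IsLocalizedModule (Submonoid.powers r) g]
    (φ : M ⊗[R] N →+ M' ⊗[R'] N') (hφ : ∀ m n, φ (m ⊗ₜ n) = f m ⊗ₜ g n) (ξ : M ⊗[R] N)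
    (h : φ ξ = 0) : ∃ k : ℕ, r ^ k • ξ = 0 := by
  have : CompatibleSMul R R' M' N' :=
    IsLocalization.tensorProduct_compatibleSMul (Submonoid.powers r) R' M' N'
  let e : M' ⊗[R'] N' ≃ₗ[R'] M' ⊗[R] N' := TensorProduct.equivOfCompatibleSMul R R' R' M' N'
  have h1 : ∀ ξ, e (φ ξ) = TensorProduct.map f g ξ := by
    intro ξ
    induction ξ using TensorProduct.induction_on with
    | zero => simp
    | tmul m n => rw [hφ]; rfl
    | add x y hx hy => rw [map_add, map_add, hx, hy, map_add]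
  have h2 : TensorProduct.map f g ξ = 0 := by rw [← h1, h, map_zero]
  obtain ⟨c, hc⟩ := IsLocalizedModule.exists_of_eq (S := Submonoid.powers r)
    (f := TensorProduct.map f g) (x₁ := ξ) (x₂ := 0) (by rw [h2, map_zero])
  obtain ⟨_, k, rfl⟩ := c
  refine ⟨k, ?_⟩
  rw [smul_zero] at hc
  exact hc

theorem isLocalizedModule_of {R R' M M' : Type*} [CommRing R] [CommRing R'] [Algebra R R'] (r : R)
    (hr : IsUnit (algebraMap R R' r))
    [AddCommGroup M] [Module R M] [AddCommGroup M'] [Module R M'] [Module R' M'] [IsScalarTower R R' M']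
    (f : M →ₗ[R] M')
    (hsurj : ∀ y : M', ∃ (n : ℕ) (x : M), (algebraMap R R' r) ^ n • y = f x)
    (hinj : ∀ x : M, f x = 0 → ∃ n : ℕ, r ^ n • x = 0) :
    IsLocalizedModule (Submonoid.powers r) f := by
  refine ⟨?_, ?_, ?_⟩
  · rintro ⟨_, k, rfl⟩
    rw [Module.End.isUnit_iff]
    have hu : IsUnit (algebraMap R R' (r ^ k)) := by rw [map_pow]; exact hr.pow k
    have hsm : ∀ m : M', (algebraMap R (Module.End R M') (r ^ k)) m = algebraMap R R' (r ^ k) • m := by
      intro m
      rw [Module.algebraMap_end_apply, algebraMap_smul]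
    constructor
    · intro m m' h
      rw [hsm, hsm] at h
      exact hu.smul_left_cancel.1 h
    · intro m
      obtain ⟨u, hu'⟩ := hu
      refine ⟨(↑u⁻¹ : R') • m, ?_⟩
      rw [hsm, ← hu', smul_smul, Units.mul_inv, one_smul]
  · intro y
    obtain ⟨n, x, hx⟩ := hsurj y
    refine ⟨(x, ⟨r ^ n, n, rfl⟩), ?_⟩
    change r ^ n • y = f x
    rw [← hx, ← map_pow, algebraMap_smul]
  · intro x₁ x₂ h
    have h0 : f (x₁ - x₂) = 0 := by rw [map_sub, h, sub_self]
    obtain ⟨n, hn⟩ := hinj _ h0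
    refine ⟨⟨r ^ n, n, rfl⟩, ?_⟩
    change r ^ n • x₁ = r ^ n • x₂
    rw [smul_sub, sub_eq_zero] at hn
    exact hn

variable {X : Scheme.{u}} (F G : X.Modules)

/-- the presheaf tensor product -/
noncomputable abbrev PP : X.PresheafOfModules := (show X.PresheafOfModules from CohB1.tensorPre F G)

/-- sections of the presheaf tensor product -/
abbrev PT (W : X.Opens) : Type u := ((PP F G).obj (op W) : Type u)

/-- restriction in the presheaf tensor product -/
noncomputable def resP {W W' : X.Opens} (h : W' ≤ W) (ξ : PT F G W) : PT F G W' :=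
  (PP F G).map (homOfLE h).op ξ

theorem resP_ptmul {W W' : X.Opens} (h : W' ≤ W) (m : Γ(F, W)) (n : Γ(G, W)) :
    resP F G h (ptmul F G m n) = ptmul F G (res F h m) (res G h n) := rfl

theorem resP_add {W W' : X.Opens} (h : W' ≤ W) (ξ ξ' : PT F G W) :
    resP F G h (ξ + ξ') = resP F G h ξ + resP F G h ξ' := map_add _ _ _

theorem resP_zero {W W' : X.Opens} (h : W' ≤ W) : resP F G h (0 : PT F G W) = 0 := map_zero _

theorem resP_smul {W W' : X.Opens} (h : W' ≤ W) (a : Γ(X, W)) (ξ : PT F G W) :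
    resP F G h (a • ξ : PT F G W) = (resO h a • resP F G h ξ : PT F G W') :=
  PresheafOfModules.map_smul (PP F G) (homOfLE h).op a ξ

theorem resP_resP {W W' W'' : X.Opens} (h : W' ≤ W) (h' : W'' ≤ W') (ξ : PT F G W) :
    resP F G h' (resP F G h ξ) = resP F G (h'.trans h) ξ := by
  unfold resP
  have := congrArg (fun φ => φ ξ) ((PP F G).map_comp (homOfLE h).op (homOfLE h').op)
  exact this.symm

theorem PT_induction {W : X.Opens} {motive : PT F G W → Prop} (zero : motive 0)
    (tmul : ∀ m n, motive (ptmul F G m n)) (add : ∀ x y, motive x → motive y → motive (x + y))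
    (ξ : PT F G W) : motive ξ := by
  have key : ∀ ξ' : Γ(F, W) ⊗[Γ(X, W)] Γ(G, W), motive ξ' := by
    intro ξ'
    induction ξ' using TensorProduct.induction_on with
    | zero => exact zero
    | tmul m n => exact tmul m n
    | add x y hx hy => exact add x y hx hy
  exact key ξ


section affine
variable [F.IsQuasicoherent] [G.IsQuasicoherent] {U : X.Opens} (hU : IsAffineOpen U) (r : Γ(X, U))
include hU

theorem PT_surj (ξ : PT F G (X.basicOpen r)) :
    ∃ (n : ℕ) (ξ' : PT F G U), ((resO (X.basicOpen_le r) r) ^ n • ξ : PT F G (X.basicOpen r)) =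
      resP F G (X.basicOpen_le r) ξ' := by
  refine PT_induction F G (motive := fun ξ => ∃ (n : ℕ) (ξ' : PT F G U),
    ((resO (X.basicOpen_le r) r) ^ n • ξ : PT F G (X.basicOpen r)) =
      resP F G (X.basicOpen_le r) ξ') ?_ ?_ ?_ ξ
  · exact ⟨0, 0, by rw [smul_zero, resP_zero]⟩
  · intro a b
    obtain ⟨k, a', ha⟩ := (isLocOn_of_isQuasicoherent F hU).surj r a
    obtain ⟨l, b', hb⟩ := (isLocOn_of_isQuasicoherent G hU).surj r b
    refine ⟨k + l, ptmul F G a' b', ?_⟩
    rw [resP_ptmul, ← ha, ← hb]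
    unfold ptmul
    rw [TensorProduct.smul_tmul_smul, pow_add]
    rfl
  · rintro x y ⟨n₁, x', hx⟩ ⟨n₂, y', hy⟩
    refine ⟨n₁ + n₂, (r ^ n₂ • x' + r ^ n₁ • y' : PT F G U), ?_⟩
    rw [resP_add, resP_smul, resP_smul, ← hx, ← hy, resO_pow, resO_pow, smul_smul, smul_smul,
      smul_add, pow_add, mul_comm (resO (X.basicOpen_le r) r ^ n₁)]

theorem PT_inj (ξ : PT F G U) (h : resP F G (X.basicOpen_le r) ξ = 0) :
    ∃ n : ℕ, (r ^ n • ξ : PT F G U) = 0 := by
  letI alg : Algebra Γ(X, U) Γ(X, X.basicOpen r) :=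
    (X.presheaf.map (homOfLE (X.basicOpen_le r)).op).hom.toAlgebra
  haveI : IsLocalization.Away r Γ(X, X.basicOpen r) := hU.isLocalization_basicOpen r
  letI mF : Module Γ(X, U) Γ(F, X.basicOpen r) :=
    Module.compHom _ (X.presheaf.map (homOfLE (X.basicOpen_le r)).op).hom
  letI mG : Module Γ(X, U) Γ(G, X.basicOpen r) :=
    Module.compHom _ (X.presheaf.map (homOfLE (X.basicOpen_le r)).op).hom
  haveI : IsScalarTower Γ(X, U) Γ(X, X.basicOpen r) Γ(F, X.basicOpen r) :=
    IsScalarTower.of_algebraMap_smul fun a m => rfl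
  haveI : IsScalarTower Γ(X, U) Γ(X, X.basicOpen r) Γ(G, X.basicOpen r) :=
    IsScalarTower.of_algebraMap_smul fun a m => rfl
  let f : Γ(F, U) →ₗ[Γ(X, U)] Γ(F, X.basicOpen r) :=
    { toFun := res F (X.basicOpen_le r)
      map_add' := map_add _
      map_smul' := fun a m => res_smul F (X.basicOpen_le r) a m }
  let g : Γ(G, U) →ₗ[Γ(X, U)] Γ(G, X.basicOpen r) :=
    { toFun := res G (X.basicOpen_le r)
      map_add' := map_add _
      map_smul' := fun a m => res_smul G (X.basicOpen_le r) a m }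
  have hr : IsUnit (algebraMap Γ(X, U) Γ(X, X.basicOpen r) r) := isUnit_ur r
  haveI : IsLocalizedModule (Submonoid.powers r) f :=
    isLocalizedModule_of r hr f
      (fun y => (isLocOn_of_isQuasicoherent F hU).surj r y)
      (fun x hx => (isLocOn_of_isQuasicoherent F hU).inj r x hx)
  haveI : IsLocalizedModule (Submonoid.powers r) g :=
    isLocalizedModule_of r hr g
      (fun y => (isLocOn_of_isQuasicoherent G hU).surj r y)
      (fun x hx => (isLocOn_of_isQuasicoherent G hU).inj r x hx)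
  let φ : Γ(F, U) ⊗[Γ(X, U)] Γ(G, U) →+
      Γ(F, X.basicOpen r) ⊗[Γ(X, X.basicOpen r)] Γ(G, X.basicOpen r) :=
    { toFun := fun ξ => resP F G (X.basicOpen_le r) ξ
      map_zero' := resP_zero F G _
      map_add' := resP_add F G _ }
  exact exists_pow_smul_eq_zero_of_map_eq_zero r f g φ (fun m n => rfl) ξ h

end affine


section sheaf

/-- the sheaf tensor product -/
noncomputable abbrev TT : X.Modules := CohB1.tensorMod F G

/-- the canonical map from the presheaf tensor product on sections -/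
noncomputable def η {W : X.Opens} (ξ : PT F G W) : Γ(TT F G, W) := (ηT F G).app (op W) ξ

theorem η_add {W : X.Opens} (ξ ξ' : PT F G W) : η F G (ξ + ξ') = η F G ξ + η F G ξ' :=
  map_add _ _ _

theorem η_zero {W : X.Opens} : η F G (0 : PT F G W) = 0 := map_zero _

theorem η_sub {W : X.Opens} (ξ ξ' : PT F G W) : η F G (ξ - ξ') = η F G ξ - η F G ξ' :=
  map_sub ((ηT F G).app (op W)).hom _ _

theorem η_smul {W : X.Opens} (a : Γ(X, W)) (ξ : PT F G W) :
    η F G (a • ξ : PT F G W) = (a • η F G ξ : Γ(TT F G, W)) :=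
  map_smul ((ηT F G).app (op W)).hom a ξ

theorem η_res {W W' : X.Opens} (h : W' ≤ W) (ξ : PT F G W) :
    res (TT F G) h (η F G ξ) = η F G (resP F G h ξ) := by
  have h1 := PresheafOfModules.naturality_apply (ηT F G) (homOfLE h).op ξ
  exact h1.symm

/-- `η` is locally surjective -/
theorem exists_η_eq {W : X.Opens} (t : Γ(TT F G, W)) (pt : X) (hpt : pt ∈ W) :
    ∃ (V : X.Opens) (hV : V ≤ W), pt ∈ V ∧ ∃ z : PT F G V, η F G z = res (TT F G) hV t :=
  exists_ηT_eq F G t pt hpt

/-- `η` is locally injective -/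
theorem exists_resP_eq_zero {W : X.Opens} (ξ : PT F G W) (h : η F G ξ = 0) (pt : X) (hpt : pt ∈ W) :
    ∃ (V : X.Opens) (hV : V ≤ W), pt ∈ V ∧ resP F G hV ξ = 0 := by
  have hli : Presheaf.IsLocallyInjective (Opens.grothendieckTopology X)
      (CategoryTheory.toSheafify (Opens.grothendieckTopology X) (PP F G).presheaf) := inferInstance
  have h1 := hli.equalizerSieve_mem (X := op W) ξ 0 (by
    rw [map_zero]
    exact h)
  rw [Opens.mem_grothendieckTopology] at h1
  obtain ⟨V, i, hz, hptV⟩ := h1 pt hpt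
  refine ⟨V, i.le, hptV, ?_⟩
  have hz' : (PP F G).presheaf.map i.op ξ = (PP F G).presheaf.map i.op 0 := hz
  rw [map_zero] at hz'
  exact hz'

end sheaf


section main
variable [F.IsQuasicoherent] [G.IsQuasicoherent] {U : X.Opens} (hU : IsAffineOpen U)
include hU

/-- on an affine open, the presheaf tensor product injects into the sheaf tensor product. -/
theorem η_injective (ξ : PT F G U) (h : η F G ξ = 0) : ξ = 0 := by
  let s : Set Γ(X, U) := {f | ∃ n : ℕ, (f ^ n • ξ : PT F G U) = 0}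
  have hs : Ideal.span s = ⊤ := by
    rw [← IsAffineOpen.self_le_iSup_basicOpen_iff hU]
    intro pt hpt
    obtain ⟨V, hV, hptV, hz⟩ := exists_resP_eq_zero F G ξ h pt hpt
    obtain ⟨f, hfV, hptf⟩ := hU.exists_basicOpen_le ⟨pt, hptV⟩ hpt
    have h0 : resP F G (X.basicOpen_le f) ξ = 0 := by
      rw [← resP_resP F G hV hfV, hz, resP_zero]
    exact Opens.mem_iSup.2 ⟨⟨f, PT_inj F G hU f ξ h0⟩, hptf⟩
  have h1 := Submodule.mem_of_span_eq_top_of_smul_pow_mem (⊥ : Submodule Γ(X, U) (PT F G U)) s hs ξ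
    (fun r => by
      obtain ⟨n, hn⟩ := r.2
      exact ⟨n, by rw [Submodule.mem_bot]; exact hn⟩)
  exact (Submodule.mem_bot _).1 h1

omit [F.IsQuasicoherent] [G.IsQuasicoherent] in
/-- sections of the sheaf tensor product over an affine open are locally in the image of `η`. -/
theorem span_range_η (t : Γ(TT F G, U)) :
    Ideal.span {g : Γ(X, U) | ∃ ζ : PT F G (X.basicOpen g),
      η F G ζ = res (TT F G) (X.basicOpen_le g) t} = ⊤ := by
  rw [← IsAffineOpen.self_le_iSup_basicOpen_iff hU]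
  intro pt hpt
  obtain ⟨V, hV, hptV, z, hz⟩ := exists_η_eq F G t pt hpt
  obtain ⟨g, hgV, hptg⟩ := hU.exists_basicOpen_le ⟨pt, hptV⟩ hpt
  refine Opens.mem_iSup.2 ⟨⟨g, resP F G hgV z, ?_⟩, hptg⟩
  rw [← η_res, hz, res_res]

theorem TT_inj (r : Γ(X, U)) (x : Γ(TT F G, U)) (h : res (TT F G) (X.basicOpen_le r) x = 0) :
    ∃ m : ℕ, (r ^ m • x : Γ(TT F G, U)) = 0 := by
  classical
  obtain ⟨s', hs's, hs'⟩ := (Ideal.span_eq_top_iff_finite _).1 (span_range_η F G hU x)
  have key : ∀ g : Γ(X, U), (∃ ζ : PT F G (X.basicOpen g),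
      η F G ζ = res (TT F G) (X.basicOpen_le g) x) →
      ∃ m : ℕ, res (TT F G) (X.basicOpen_le g) (r ^ m • x) = 0 := by
    rintro g ⟨ζ, hζ⟩
    have hD : X.basicOpen (resO (X.basicOpen_le g) r) ≤ X.basicOpen r := by
      rw [basicOpen_resO]; exact inf_le_right
    have h1 : η F G (resP F G (X.basicOpen_le (resO (X.basicOpen_le g) r)) ζ) = 0 := by
      rw [← η_res, hζ, res_res, ← res_res (TT F G) (X.basicOpen_le r) hD, h, res_zero]
    have h2 := η_injective F G ((hU.basicOpen g).basicOpen (resO (X.basicOpen_le g) r)) _ h1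
    obtain ⟨m, hm⟩ := PT_inj F G (hU.basicOpen g) (resO (X.basicOpen_le g) r) ζ h2
    refine ⟨m, ?_⟩
    rw [res_smul, ← hζ, resO_pow, ← η_smul, hm, η_zero]
  choose! m hm using key
  refine ⟨s'.sup m, ?_⟩
  refine eq_of_locally_eq (TT F G) (fun g : (s' : Set Γ(X, U)) => X.basicOpen g.1) U
    (fun g => X.basicOpen_le g.1) ?_ _ 0 ?_
  · exact (IsAffineOpen.self_le_iSup_basicOpen_iff hU).2 hs'
  · intro g
    rw [res_zero]
    have hle : m g.1 ≤ s'.sup m := Finset.le_sup (f := m) g.2
    obtain ⟨d, hd⟩ := Nat.exists_eq_add_of_le hle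
    rw [hd, pow_add, mul_comm, mul_smul, res_smul, hm g.1 (hs's g.2), smul_zero]

theorem η_surjective (t : Γ(TT F G, U)) : ∃ ξ : PT F G U, η F G ξ = t := by
  let I : Submodule Γ(X, U) Γ(TT F G, U) :=
    { carrier := Set.range (η F G (W := U))
      add_mem' := by
        rintro _ _ ⟨a, rfl⟩ ⟨b, rfl⟩
        exact ⟨a + b, η_add F G a b⟩
      zero_mem' := ⟨0, η_zero F G⟩
      smul_mem' := by
        rintro a _ ⟨ξ, rfl⟩
        exact ⟨(a • ξ : PT F G U), η_smul F G a ξ⟩ }
  have h1 : t ∈ I := by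
    refine Submodule.mem_of_span_eq_top_of_smul_pow_mem I _ (span_range_η F G hU t) t ?_
    rintro ⟨g, ζ, hζ⟩
    obtain ⟨n, q, hq⟩ := PT_surj F G hU g ζ
    have h0 : res (TT F G) (X.basicOpen_le g) (g ^ n • t - η F G q) = 0 := by
      rw [res_sub, res_smul, ← hζ, resO_pow, ← η_smul, hq, η_res, sub_self]
    obtain ⟨m, hm⟩ := TT_inj F G hU g _ h0
    refine ⟨m + n, (g ^ m • q : PT F G U), ?_⟩
    rw [smul_sub, sub_eq_zero] at hm
    change η F G (g ^ m • q : PT F G U) = _
    rw [η_smul, ← hm, smul_smul, pow_add]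
  exact h1

theorem isLocOn_TT : IsLocOn (TT F G) U := by
  refine ⟨fun r y => ?_, fun r x hx => TT_inj F G hU r x hx⟩
  obtain ⟨ζ, rfl⟩ := η_surjective F G (hU.basicOpen r) y
  obtain ⟨n, q, hq⟩ := PT_surj F G hU r ζ
  refine ⟨n, η F G q, ?_⟩
  rw [← η_smul, hq, η_res]

end main

/-- **The tensor product of two quasi-coherent modules is quasi-coherent.** -/
instance isQuasicoherent_tensorMod [F.IsQuasicoherent] [G.IsQuasicoherent] :
    (CohB1.tensorMod F G).IsQuasicoherent :=
  isQuasicoherent_of_forall_isLocOn _ fun U => isLocOn_TT F G U.2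


/-- `η` as a linear map -/
noncomputable def ηL (W : X.Opens) : PT F G W →ₗ[Γ(X, W)] Γ(TT F G, W) where
  toFun := η F G
  map_add' := η_add F G
  map_smul' := η_smul F G

open Groth.Agent.Lib.Helper28.FinType Groth.Agent.Lib.Helper17.FinTypeConv in
/-- the tensor product of two quasi-coherent modules of finite type is of finite type. -/
theorem isFiniteType_tensorMod [F.IsQuasicoherent] [G.IsQuasicoherent]
    [SheafOfModules.IsFiniteType.{u} (R := X.ringCatSheaf) F]
    [SheafOfModules.IsFiniteType.{u} (R := X.ringCatSheaf) G] :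
    SheafOfModules.IsFiniteType.{u} (R := X.ringCatSheaf) (CohB1.tensorMod F G) := by
  refine isFiniteType_of_forall_finite_sections (CohB1.tensorMod F G) fun U => ?_
  haveI := finite_of_isAffineOpen F U.2
  haveI := finite_of_isAffineOpen G U.2
  haveI : Module.Finite Γ(X, U.1) (PT F G U.1) :=
    inferInstanceAs (Module.Finite Γ(X, U.1) (Γ(F, U.1) ⊗[Γ(X, U.1)] Γ(G, U.1)))
  exact Module.Finite.of_surjective (ηL F G U.1) (η_surjective F G U.2)

end Groth.Agent.Lib.Helper17.TensorQC
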