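import Groth.Agent.Lib.Helper17.PullbackBC
import Mathlib

/-!
# The unit `G ⟶ i_* i^* G` of a closed immersion

* `bijective_of_isBC_of_surjective`: base change along a surjective ring map whose kernel kills the module.
* `isIso_unit_of_killed`: if `ker i` kills the quasi-coherent `G` (on affine opens), the unit is an isomorphism.
* `killed_of_isIso_unit`: the converse.
-/

set_option backward.isDefEq.respectTransparency.types false
set_option autoImplicit false
universe u
open AlgebraicGeometry CategoryTheory Opposite TopologicalSpace TensorProduct CategoryTheory.Limits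

namespace Groth.Agent.Lib.Helper17.ClosedUnit
open Scheme.Modules
open Groth.Agent.Lib.Helper17.PullbackBC
open Groth.Agent.Lib.Helper28.PullbackInv Groth.Agent.Lib.Helper28.QCohLoc

/-- base change along a surjective ring map whose kernel kills the module is bijective -/
theorem bijective_of_isBC_of_surjective {R S : Type u} [CommRing R] [CommRing S] (φ : R →+* S)
    (hφ : Function.Surjective φ) {P T : Type u} [AddCommGroup P] [Module R P] [AddCommGroup T] [Module S T]
    (c : P → T) (hc : IsBC φ c) (hkill : ∀ a, φ a = 0 → ∀ p : P, a • p = 0) : Function.Bijective c := by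
  letI := φ.toAlgebra
  obtain ⟨e, he⟩ := (isBC_iff φ c).mp hc
  have key : ∀ a b : R, φ a = φ b → ∀ p : P, a • p = b • p := by
    intro a b hab p
    have := hkill (a - b) (by rw [_root_.map_sub, hab, sub_self]) p
    rw [sub_smul, sub_eq_zero] at this
    exact this
  have hs : ∀ s : S, φ (Function.surjInv hφ s) = s := Function.surjInv_eq hφ
  let β : S →ₗ[R] P →ₗ[R] P := LinearMap.mk₂ R (fun s p => Function.surjInv hφ s • p)
    (fun s s' p => by
      rw [← add_smul]
      exact key _ _ (by rw [hs, _root_.map_add, hs, hs]) p)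
    (fun r s p => by
      rw [← mul_smul]
      refine key _ _ ?_ p
      rw [hs, _root_.map_mul, hs]; rfl)
    (fun s p p' => smul_add _ _ _)
    (fun r s p => smul_comm _ _ _)
  let ρ : S ⊗[R] P →ₗ[R] P := TensorProduct.lift β
  have hρ : ∀ p : P, ρ ((1 : S) ⊗ₜ[R] p) = p := by
    intro p
    change Function.surjInv hφ (1 : S) • p = p
    rw [key _ 1 (by rw [hs, _root_.map_one]) p, one_smul]
  have hc' : c = e.symm ∘ (fun p => (1 : S) ⊗ₜ[R] p) := by
    funext p
    change c p = e.symm ((1 : S) ⊗ₜ[R] p)
    rw [← he, LinearEquiv.symm_apply_apply]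
  rw [hc']
  refine e.symm.bijective.comp ⟨fun p q hpq => ?_, fun z => ?_⟩
  · have := congrArg ρ hpq
    simp only [] at this
    rwa [hρ, hρ] at this
  · induction z using TensorProduct.induction_on with
    | zero => exact ⟨0, TensorProduct.tmul_zero _ _⟩
    | add x y hx hy =>
      obtain ⟨p, hp⟩ := hx
      obtain ⟨q, hq⟩ := hy
      exact ⟨p + q, by simp only [] at hp hq ⊢; rw [TensorProduct.tmul_add, hp, hq]⟩
    | tmul s p =>
      obtain ⟨r, rfl⟩ := hφ s
      refine ⟨r • p, ?_⟩
      simp only []
      rw [TensorProduct.tmul_smul, TensorProduct.smul_tmul', Algebra.smul_def, mul_one]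
      rfl

section Closed

variable {Z X : Scheme.{u}} (i : Z ⟶ X) [IsClosedImmersion i] (G : X.Modules)

omit [IsClosedImmersion i] in
/-- the unit `G ⟶ i_* i^* G` on sections is the inverse image of sections -/
theorem unit_app_eq (W : X.Opens) (m : Γ(G, W)) :
    ((Scheme.Modules.pullbackPushforwardAdjunction i).unit.app G).app W m = pbs i G W m := rfl

/-- if the kernel of `i` kills `G`, the unit `G ⟶ i_* i^* G` is an isomorphism -/
theorem isIso_unit_of_killed [G.IsQuasicoherent]
    (hk : ∀ (U : X.affineOpens) (a : Γ(X, U.1)), a ∈ i.ker.ideal U → ∀ s : Γ(G, U.1), a • s = 0) :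
    IsIso ((Scheme.Modules.pullbackPushforwardAdjunction i).unit.app G) := by
  haveI : ((Scheme.Modules.pushforward i).obj ((Scheme.Modules.pullback i).obj G)).IsQuasicoherent :=
    isQuasicoherent_pushforward i _
  refine isIso_of_affine_cover ((Scheme.Modules.pullbackPushforwardAdjunction i).unit.app G)
    (fun U : X.affineOpens => U.1) (fun U => U.2) ?cov
    (fun U => isLocOn_of_isQuasicoherent G U.2)
    (fun U => isLocOn_of_isQuasicoherent
      ((Scheme.Modules.pushforward i).obj ((Scheme.Modules.pullback i).obj G)) U.2) ?bij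
  case cov =>
    intro x
    obtain ⟨W, hW, hxW, -⟩ := Opens.isBasis_iff_nbhd.mp X.isBasis_affineOpens
      (show x ∈ (⊤ : X.Opens) from trivial)
    exact ⟨⟨W, hW⟩, hxW⟩
  case bij =>
    intro U
    have hW' : IsAffineOpen (i ⁻¹ᵁ U.1) := U.2.preimage i
    have hbc := isBC_pullback i U.2 hW' le_rfl G
    have hsurj : Function.Surjective (i.appLE U.1 (i ⁻¹ᵁ U.1) le_rfl).hom := by
      rw [← Scheme.Hom.app_eq_appLE]
      exact i.app_surjective U.1 U.2
    have := bijective_of_isBC_of_surjective _ hsurj _ hbc (fun a ha p => hk U a (by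
      rw [Scheme.Hom.ker_apply, RingHom.mem_ker, Scheme.Hom.app_eq_appLE]
      exact ha) p)
    have heq : (fun m : Γ(G, U.1) => res ((Scheme.Modules.pullback i).obj G) (le_refl (i ⁻¹ᵁ U.1)) (pbs i G U.1 m)) =
        fun m => ((Scheme.Modules.pullbackPushforwardAdjunction i).unit.app G).app U.1 m := by
      funext m
      exact res_self _ _
    rw [heq] at this
    exact this

/-- if the unit `G ⟶ i_* i^* G` is an isomorphism (injective on sections suffices), the kernel of `i` kills `G` -/
theorem killed_of_isIso_unit
    (h : IsIso ((Scheme.Modules.pullbackPushforwardAdjunction i).unit.app G))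
    (U : X.affineOpens) (a : Γ(X, U.1)) (ha : a ∈ i.ker.ideal U) (s : Γ(G, U.1)) : a • s = 0 := by
  rw [Scheme.Hom.ker_apply, RingHom.mem_ker] at ha
  have hiso : IsIso (((Scheme.Modules.pullbackPushforwardAdjunction i).unit.app G).app U.1) := inferInstance
  have hinj : Function.Injective (((Scheme.Modules.pullbackPushforwardAdjunction i).unit.app G).app U.1) :=
    ((ConcreteCategory.isIso_iff_bijective _).mp hiso).1
  apply hinj
  rw [Scheme.Modules.Hom.app_smul, _root_.map_zero]
  have : (a • (((Scheme.Modules.pullbackPushforwardAdjunction i).unit.app G).app U.1 s) :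
      Γ((Scheme.Modules.pushforward i).obj ((Scheme.Modules.pullback i).obj G), U.1)) =
      ((i.app U.1).hom a • (pbs i G U.1 s) : Γ((Scheme.Modules.pullback i).obj G, i ⁻¹ᵁ U.1)) := rfl
  rw [this, ha, zero_smul]
  rfl

end Closed

end Groth.Agent.Lib.Helper17.ClosedUnit
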