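import Groth.Agent.Lib.Helper17.GrSys
import Mathlib

/-!
# Uniform Serre vanishing for finitely generated graded systems (helper17)

If `L` is an invertible module on a Noetherian scheme `X` such that every coherent module has
vanishing higher cohomology after a high twist by `L` (e.g. `L` ample, `X` proper over a Noetherian
ring), then for every finitely generated graded system `(K n)` there is a single `d₀` such that
`H^p(X, K n ⊗ L^d) = 0` for all `n`, all `p > 0` and all `d ≥ d₀`.
-/

set_option autoImplicit false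
set_option backward.isDefEq.respectTransparency.types false
universe u
open CategoryTheory CategoryTheory.Limits AlgebraicGeometry Opposite TopologicalSpace

namespace Groth.Agent.Lib.Helper17.Graded

attribute [local instance] Abelian.hasFiniteBiproducts

open Groth.Agent.Lib.Helper4.VanClass

variable {X : Scheme.{u}} {r : ℕ} {L : X.Modules}

/-- uniform vanishing of the higher cohomology of the high twists of a family of modules -/
def UVan (L : X.Modules) (K : ℕ → X.Modules) : Prop :=
  ∃ d₀ : ℕ, ∀ d : ℕ, d₀ ≤ d → ∀ n p : ℕ, 0 < p →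
    Subsingleton (Coh.HH X (CohB1.tensorMod (K n) (CohB1.tensorPow L d)) p)

/-! ## twisting short exact sequences -/

theorem shortExact_twist (hL : PicF.IsInvertible L) (d : ℕ) (S : ShortComplex X.Modules)
    (hS : S.ShortExact) : (S.map (DCoh.tensorBi.obj (CohB1.tensorPow L d))).ShortExact := by
  have hflat := Groth.Agent.Lib.Helper6.K0Op.isFlat_of_isInvertible _
    (Groth.Agent.Lib.Helper28.GenLocus.isInvertible_tensorPow hL d)
  exact Groth.Agent.Lib.Helper6.K0Op.shortExact_tensor_of_flat _ hflat S hS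

noncomputable def twistIso (L : X.Modules) (d : ℕ) (G : X.Modules) :
    (DCoh.tensorBi.obj (CohB1.tensorPow L d)).obj G ≅ CohB1.tensorMod G (CohB1.tensorPow L d) :=
  Groth.Agent.Lib.Helper6.K0Inv.braidIso _ _

theorem twist_X₂ (hL : PicF.IsInvertible L) (d : ℕ) (S : ShortComplex X.Modules) (hS : S.ShortExact)
    (p : ℕ) (h₁ : Subsingleton (Coh.HH X (CohB1.tensorMod S.X₁ (CohB1.tensorPow L d)) p))
    (h₃ : Subsingleton (Coh.HH X (CohB1.tensorMod S.X₃ (CohB1.tensorPow L d)) p)) :
    Subsingleton (Coh.HH X (CohB1.tensorMod S.X₂ (CohB1.tensorPow L d)) p) := by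
  have a₁ := subsingleton_HH_of_iso (twistIso L d S.X₁).symm p h₁
  have a₃ := subsingleton_HH_of_iso (twistIso L d S.X₃).symm p h₃
  have a₂ := Groth.Agent.Lib.Helper2.HLes.subsingleton_X₂
    (Groth.Agent.Lib.Helper2.HLesLin.shortExact_Sab _ (shortExact_twist hL d S hS)) p a₁ a₃
  exact subsingleton_HH_of_iso (twistIso L d S.X₂) p a₂

theorem twist_X₃ (hL : PicF.IsInvertible L) (d : ℕ) (S : ShortComplex X.Modules) (hS : S.ShortExact)
    (p : ℕ) (h₂ : Subsingleton (Coh.HH X (CohB1.tensorMod S.X₂ (CohB1.tensorPow L d)) p))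
    (h₁ : Subsingleton (Coh.HH X (CohB1.tensorMod S.X₁ (CohB1.tensorPow L d)) (p + 1))) :
    Subsingleton (Coh.HH X (CohB1.tensorMod S.X₃ (CohB1.tensorPow L d)) p) := by
  have a₂ := subsingleton_HH_of_iso (twistIso L d S.X₂).symm p h₂
  have a₁ := subsingleton_HH_of_iso (twistIso L d S.X₁).symm (p + 1) h₁
  have a₃ := Groth.Agent.Lib.Helper2.HLes.subsingleton_X₃
    (Groth.Agent.Lib.Helper2.HLesLin.shortExact_Sab _ (shortExact_twist hL d S hS)) p a₂ a₁
  exact subsingleton_HH_of_iso (twistIso L d S.X₃) p a₃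

/-- the cohomology of a zero module vanishes -/
theorem subsingleton_HH_of_isZero (M : X.Modules) (hM : IsZero M) (p : ℕ) :
    Subsingleton (Coh.HH X M p) := by
  have hF : IsZero (Coh.toAb M) :=
    (SheafOfModules.toSheaf X.ringCatSheaf).map_isZero hM
  refine ⟨fun a b => ?_⟩
  have h : ∀ y : Coh.HH X M p, y = 0 := fun y => by
    have h0 : y = 0 := by
      rw [← Abelian.Ext.comp_mk₀_id y, hF.eq_of_src (𝟙 _) 0, Abelian.Ext.mk₀_zero, Abelian.Ext.comp_zero]
    exact h0
  rw [h a, h b]

theorem isZero_tensorMod_of_isZero (Z M : X.Modules) (hZ : IsZero Z) : IsZero (CohB1.tensorMod Z M) := by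
  have h1 : IsZero ((DCoh.tensorBi.obj M).obj Z) := (DCoh.tensorBi.obj M).map_isZero hZ
  exact h1.of_iso (Groth.Agent.Lib.Helper6.K0Inv.braidIso Z M)


/-! ## the two short exact sequences of a morphism -/

section abelian

variable {C : Type*} [Category C] [Abelian C] {P Q : C} (y : P ⟶ Q)

/-- `0 → ker y → P → coim y → 0` -/
noncomputable def S1 : ShortComplex C :=
  ShortComplex.mk (kernel.ι y) (Abelian.coimage.π y) (cokernel.condition _)

theorem S1_shortExact : (S1 y).ShortExact where
  exact := ShortComplex.exact_of_g_is_cokernel _ (cokernelIsCokernel _)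
  mono_f := inferInstanceAs (Mono (kernel.ι y))
  epi_g := inferInstanceAs (Epi (cokernel.π (kernel.ι y)))

/-- `0 → coim y → Q → coker y → 0` -/
noncomputable def S2 : ShortComplex C :=
  ShortComplex.mk (Abelian.factorThruCoimage y) (cokernel.π y) (by
    rw [← cancel_epi (Abelian.coimage.π y), ← Category.assoc, Abelian.coimage.fac,
      cokernel.condition, comp_zero])

theorem S2_shortExact : (S2 y).ShortExact where
  exact := by
    let S0 : ShortComplex C := ShortComplex.mk y (cokernel.π y) (cokernel.condition y)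
    have h0 : S0.Exact := ShortComplex.exact_of_g_is_cokernel _ (cokernelIsCokernel _)
    let φ : S0 ⟶ S2 y :=
      { τ₁ := Abelian.coimage.π y
        τ₂ := 𝟙 _
        τ₃ := 𝟙 _
        comm₁₂ := by
          change Abelian.coimage.π y ≫ Abelian.factorThruCoimage y = y ≫ 𝟙 _
          rw [Abelian.coimage.fac, Category.comp_id]
        comm₂₃ := by
          change 𝟙 _ ≫ cokernel.π y = cokernel.π y ≫ 𝟙 _
          rw [Category.id_comp, Category.comp_id] }
    haveI : Epi φ.τ₁ := inferInstanceAs (Epi (cokernel.π (kernel.ι y)))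
    haveI : IsIso φ.τ₂ := inferInstanceAs (IsIso (𝟙 _))
    haveI : Mono φ.τ₃ := inferInstanceAs (Mono (𝟙 _))
    exact (ShortComplex.exact_iff_of_epi_of_isIso_of_mono φ).1 h0
  mono_f := inferInstanceAs (Mono (Abelian.factorThruCoimage y))
  epi_g := inferInstanceAs (Epi (cokernel.π y))

end abelian


/-! ## the uniform vanishing theorem -/

theorem isZero_of_epi_gen_zero (𝒦 : GrSys X 0) (n : ℕ) [Epi (𝒦.gen n)] : IsZero (𝒦.K (n + 1)) := by
  have h0 : IsZero (⨁ fun _ : Fin 0 => 𝒦.K n) := by
    rw [IsZero.iff_id_eq_zero]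
    apply biproduct.hom_ext
    intro j
    exact Fin.elim0 j
  exact IsZero.of_epi (𝒦.gen n) h0

/-- **uniform Serre vanishing** for finitely generated graded systems -/
theorem uvan_of_isFG [IsNoetherian X] (hL : PicF.IsInvertible L)
    (hS : ∀ M : X.Modules, Coh.IsCoh M → Van L M) :
    ∀ (r : ℕ) (𝒦 : GrSys X r), 𝒦.IsFG → UVan L 𝒦.K := by
  intro r
  induction r with
  | zero =>
    intro 𝒦 h
    obtain ⟨n0, hn0⟩ := h.gen
    have hz : ∀ n, n0 < n → IsZero (𝒦.K n) := by
      intro n hn
      obtain ⟨m, rfl⟩ : ∃ m, n = m + 1 := ⟨n - 1, by omega⟩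
      haveI := hn0 m (by omega)
      exact isZero_of_epi_gen_zero 𝒦 m
    have h1 := fun n => hS (𝒦.K n) (h.coh n)
    choose dn hdn using h1
    refine ⟨(Finset.range (n0 + 1)).sup dn, fun d hd n p hp => ?_⟩
    by_cases hn : n ≤ n0
    · exact hdn n d ((Finset.le_sup (Finset.mem_range.2 (by omega))).trans hd) p hp
    · exact subsingleton_HH_of_isZero _ (isZero_tensorMod_of_isZero _ _ (hz n (by omega))) p
  | succ r ih =>
    intro 𝒦 h
    haveI : IsLocallyNoetherian X := inferInstance
    haveI : ∀ n, (𝒦.K n).IsQuasicoherent := fun n => (h.coh n).1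
    haveI : ∀ n, (𝒦.shift.K n).IsQuasicoherent := fun n => (h.coh (n + 1)).1
    have h𝒩 : (GrSys.ker 𝒦.yHom).IsFG :=
      GrSys.isFG_of_mono (GrSys.kerι 𝒦.yHom) (fun n => inferInstanceAs (Mono (kernel.ι _))) h
        (fun n => Groth.Agent.Lib.Helper17.CohKer.isQuasicoherent_kernel (𝒦.yHom.f n))
    have h𝒩' := GrSys.isFG_dropLast h𝒩 (GrSys.ker_yHom_last 𝒦)
    have h𝒞 : (GrSys.coker 𝒦.yHom).IsFG :=
      GrSys.isFG_of_epi (GrSys.cokerπ 𝒦.yHom) (fun n => inferInstanceAs (Epi (cokernel.π _)))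
        (GrSys.isFG_shift h)
        (fun n => Groth.Agent.Lib.Helper17.CohKer.isQuasicoherent_cokernel (𝒦.yHom.f n))
    have h𝒞' := GrSys.isFG_dropLast h𝒞 (GrSys.coker_yHom_last 𝒦)
    obtain ⟨dN, hdN⟩ := ih _ h𝒩'
    obtain ⟨dC, hdC⟩ := ih _ h𝒞'
    obtain ⟨d0, hd0⟩ := hS (𝒦.K 0) (h.coh 0)
    refine ⟨max (max dN dC) d0, fun d hd n => ?_⟩
    have hdN' : dN ≤ d := (le_max_left _ _).trans ((le_max_left _ _).trans hd)
    have hdC' : dC ≤ d := (le_max_right _ _).trans ((le_max_left _ _).trans hd)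
    have hd0' : d0 ≤ d := (le_max_right _ _).trans hd
    induction n with
    | zero => exact fun p hp => hd0 d hd0' p hp
    | succ n ihn =>
      intro p hp
      have c1 := twist_X₃ hL d (S1 (𝒦.x (Fin.last r) n)) (S1_shortExact _) p (ihn p hp)
        (hdN d hdN' n (p + 1) (Nat.succ_pos p))
      exact twist_X₂ hL d (S2 (𝒦.x (Fin.last r) n)) (S2_shortExact _) p c1 (hdC d hdC' n p hp)

end Groth.Agent.Lib.Helper17.Graded
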