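import Groth.Agent.Lib.Helper17.AffineVanish
import Groth.Agent.Lib.Helper6.CohTopSheafify
import Groth.Agent.Lib.Helper6.CohTopLeray
import Mathlib
set_option backward.isDefEq.respectTransparency.types false
set_option autoImplicit false
universe u
open CategoryTheory CategoryTheory.Limits Opposite TopologicalSpace AlgebraicGeometry

namespace Groth.Agent.Lib.Helper17.RelAffine

open Groth.Agent.Lib.Helper17.AffineVanish

/-- the sheafification of a presheaf of abelian groups vanishing on a basis is zero -/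
theorem isZero_sheafify_of_basis {Y : TopCat.{u}} (P : (Opens Y)ᵒᵖ ⥤ AddCommGrpCat.{u}) (B : Set (Opens Y))
    (hB : ∀ (V : Opens Y) (y : Y), y ∈ V → ∃ V' ∈ B, y ∈ V' ∧ V' ≤ V)
    (hP : ∀ V ∈ B, Subsingleton (P.obj (op V))) :
    IsZero ((presheafToSheaf (Opens.grothendieckTopology Y) AddCommGrpCat.{u}).obj P) := by
  rw [IsZero.iff_id_eq_zero]
  apply ((sheafificationAdjunction (Opens.grothendieckTopology Y) AddCommGrpCat.{u}).homEquiv P _).injective
  -- any two morphisms from `P` to a sheaf agree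
  have key : ∀ (G : Sheaf (Opens.grothendieckTopology Y) AddCommGrpCat.{u}) (φ ψ : P ⟶ G.obj), φ = ψ := by
    intro G φ ψ
    ext V s
    obtain ⟨V⟩ := V
    let ι := {V' : Opens Y // V' ∈ B ∧ V' ≤ V}
    refine TopCat.Sheaf.eq_of_locally_eq' G (fun i : ι => i.1) V (fun i => homOfLE i.2.2) ?_ _ _ (fun i => ?_)
    · intro y hy
      obtain ⟨V', hV'B, hyV', hV'V⟩ := hB V y hy
      exact Opens.mem_iSup.2 ⟨⟨V', hV'B, hV'V⟩, hyV'⟩
    · haveI := hP i.1 i.2.1
      have h1 : G.obj.map (homOfLE i.2.2).op (φ.app (op V) s) = φ.app (op i.1) (P.map (homOfLE i.2.2).op s) :=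
        (NatTrans.naturality_apply φ (homOfLE i.2.2).op s).symm
      have h2 : G.obj.map (homOfLE i.2.2).op (ψ.app (op V) s) = ψ.app (op i.1) (P.map (homOfLE i.2.2).op s) :=
        (NatTrans.naturality_apply ψ (homOfLE i.2.2).op s).symm
      have h3 : P.map (homOfLE i.2.2).op s = 0 := Subsingleton.elim _ _
      rw [h1, h2, h3, map_zero, map_zero]
  exact key _ _ _

/-- **Relative affine vanishing**: the higher direct images of a quasi-coherent module along an affine morphism
vanish. -/
theorem isZero_Rpush_of_isAffineHom {X S : Scheme.{u}} (f : X ⟶ S) [IsAffineHom f]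
    (M : X.Modules) [M.IsQuasicoherent] (i : ℕ) :
    IsZero ((CohTop.Rpush f.base (i + 1)).obj ((SheafOfModules.toSheaf.{u} X.ringCatSheaf).obj M)) := by
  obtain ⟨e⟩ := Groth.Agent.Lib.Helper6.CohTopSheafify.nonempty_Rpush_iso_sheafify f.base
    ((SheafOfModules.toSheaf.{u} X.ringCatSheaf).obj M) (i + 1)
  refine IsZero.of_iso ?_ e
  refine isZero_sheafify_of_basis _ {V : S.Opens | IsAffineOpen V} ?_ ?_
  · intro V y hy
    obtain ⟨_, ⟨V', hV', rfl⟩, hyV', hV'V⟩ := S.isBasis_affineOpens.exists_subset_of_mem_open hy V.2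
    exact ⟨V', hV', hyV', hV'V⟩
  · intro V hV
    exact subsingleton_HU_of_isAffineOpen M (hV.preimage f) i

/-- the underlying abelian sheaf of a direct image -/
noncomputable def toSheafPushIso {X S : Scheme.{u}} (f : X ⟶ S) (M : X.Modules) :
    (CohTop.push f.base).obj ((SheafOfModules.toSheaf.{u} X.ringCatSheaf).obj M) ≅
      (SheafOfModules.toSheaf.{u} S.ringCatSheaf).obj ((Scheme.Modules.pushforward f).obj M) :=
  Iso.refl _

/-- **Cohomology along an affine morphism** -/
theorem nonempty_H_addEquiv_pushforward {X S : Scheme.{u}} (f : X ⟶ S) [IsAffineHom f]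
    (M : X.Modules) [M.IsQuasicoherent] (i : ℕ) :
    Nonempty (CohTop.H (X := X.toTopCat) ((SheafOfModules.toSheaf.{u} X.ringCatSheaf).obj M) i ≃+
      CohTop.H (X := S.toTopCat)
        ((SheafOfModules.toSheaf.{u} S.ringCatSheaf).obj ((Scheme.Modules.pushforward f).obj M)) i) :=
  Groth.Agent.Lib.Helper6.CohTopLeray.nonempty_H_addEquiv_of_isZero_Rpush f.base
    ((SheafOfModules.toSheaf.{u} X.ringCatSheaf).obj M) (fun q => isZero_Rpush_of_isAffineHom f M q) i

end Groth.Agent.Lib.Helper17.RelAffine
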