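import Groth.Agent.Lib.Helper17.FlatBCH2
import Groth.Agent.S0015
import Groth.Agent.Lib.Helper2.PushEdge4
import Groth.Agent.Lib.Helper2.HomExt2
import Groth.Agent.Lib.Helper8.SheafModGroth
import Groth.Agent.Lib.Helper17.RelAffine
import Groth.Agent.S11319
import Mathlib
set_option backward.isDefEq.respectTransparency.types false
set_option autoImplicit false
universe u
open AlgebraicGeometry CategoryTheory Opposite TopologicalSpace TensorProduct CategoryTheory.Limits Abelian

noncomputable section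

namespace Groth.Agent.Lib.Helper17.FlatBCH3
open Scheme.Modules Groth.Agent.Lib.Helper17.ExtTensor Groth.Agent.Lib.Helper17.FlatBCH1
open Groth.Agent.Lib.Helper17.FlatBCH2
open Groth.Agent.Lib.Helper28.PullbackInv Groth.Agent.Lib.Helper28.QCohLoc
open Groth.Agent.Lib.Helper6.SheafCoh Groth.Agent.Lib.Helper17.PullbackBC

variable {X X' : Scheme.{u}} (g' : X' ⟶ X)
variable {A B : Type u} [CommRing A] [CommRing B] [Algebra A B]
variable (ιA : A →+* Coh.Γtop X) (ιB : B →+* Coh.Γtop X')
variable (M : X.Modules)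
variable (hι : ∀ a : A, g'.appTop.hom (ιA a) = ιB (algebraMap A B a))

/-- **MV induction**: the comparison map is bijective on the whole (quasi-compact quasi-separated) `X` -/
theorem bijZ_top [CompactSpace X] [QuasiSeparatedSpace X] [IsAffineHom g'] [M.IsQuasicoherent]
    [Module.Flat A B]
    (hpo : ∀ U : X.Opens, IsAffineOpen U →
      IsPushout (CommRingCat.ofHom (algebraMap A B)) (CommRingCat.ofHom (αU ιA U))
        (CommRingCat.ofHom (αU ιB (g' ⁻¹ᵁ U))) (CommRingCat.ofHom (g'.appLE U (g' ⁻¹ᵁ U) le_rfl).hom)) :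
    BijZ g' ιA ιB M hι (Zfree (Opens.grothendieckTopology X) (⊤ : X.Opens)) := by
  refine Groth.Agent.S0015.result X
    (fun U => BijZ g' ιA ιB M hι (Zfree (Opens.grothendieckTopology X) U)) ?_ ?_ ⊤ isCompact_univ
  · intro U hU
    exact bijZ_of_isAffineOpen g' ιA ιB M hι hU (hpo U hU)
  · intro U V _ _ hU hV hUV
    exact bijZ_sup g' ιA ιB M hι U V hU hV hUV

open Groth.Agent.Lib.Helper17.HCompare in
theorem bijZ_ZZ [CompactSpace X] [QuasiSeparatedSpace X] [IsAffineHom g'] [M.IsQuasicoherent]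
    [Module.Flat A B]
    (hpo : ∀ U : X.Opens, IsAffineOpen U →
      IsPushout (CommRingCat.ofHom (algebraMap A B)) (CommRingCat.ofHom (αU ιA U))
        (CommRingCat.ofHom (αU ιB (g' ⁻¹ᵁ U))) (CommRingCat.ofHom (g'.appLE U (g' ⁻¹ᵁ U) le_rfl).hom)) :
    BijZ g' ιA ιB M hι (ZZ (Opens.grothendieckTopology X)) :=
  bij_of_iso _ _ _ _ (zzIso (Opens.grothendieckTopology X) isTerminalTop).symm
    (bijZ_top g' ιA ιB M hι hpo)


section pushEdge
open Groth.Agent.Lib.Helper2

/-- the edge map along an affine morphism is bijective (all degrees) -/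
theorem pushEdge_bijective_of_isAffineHom [IsAffineHom g'] (N : X'.Modules) [N.IsQuasicoherent] (p : ℕ) :
    Function.Bijective (CohPull.pushEdge g' N p) := by
  haveI : EnoughInjectives X'.Modules :=
    Groth.Agent.Lib.Helper8.SheafModGroth.enoughInjectives _ X'.ringCatSheaf
  haveI : HasInjectiveResolutions X'.Modules := inferInstance
  refine PushEdge4.pushEdge_bijective g' p N ?_
  intro q hq
  obtain ⟨q', rfl⟩ : ∃ q', q = q' + 1 := ⟨q - 1, by lia⟩
  obtain ⟨e⟩ := Groth.Agent.S11319.result g' N (q' + 1)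
  have hz : Limits.IsZero (Coh.toAb ((Coh.Rpush g' (q' + 1)).obj N)) :=
    Limits.IsZero.of_iso
      (Groth.Agent.Lib.Helper17.RelAffine.isZero_Rpush_of_isAffineHom g' N q') e
  rw [Limits.IsZero.iff_id_eq_zero] at hz ⊢
  apply (SheafOfModules.toSheaf X.ringCatSheaf).map_injective
  exact ((SheafOfModules.toSheaf X.ringCatSheaf).map_id _).trans
    (hz.trans ((SheafOfModules.toSheaf X.ringCatSheaf).map_zero _ _).symm)

theorem toSheaf_map_smulHom (N : X'.Modules) (s : Γ(X', ⊤)) :
    (SheafOfModules.toSheaf X'.ringCatSheaf).map (HomExt.smulHom N s) = Coh.smulAb N s := by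
  ext U m
  exact (HomExt.smulHom_app N s U.unop m).trans rfl

/-- the edge map commutes with multiplication by global functions of `X'` -/
theorem pushEdge_smul (N : X'.Modules) (r : Coh.Γtop X') (p : ℕ)
    (x : Coh.HH X ((Scheme.Modules.pushforward g').obj N) p) :
    CohPull.pushEdge g' N p
        (x.comp (Ext.mk₀ ((CohTop.push g'.base).map (Coh.smulAb N r))) (add_zero p)) =
      (CohPull.pushEdge g' N p x).comp (Ext.mk₀ (Coh.smulAb N r)) (add_zero p) := by
  rw [PushEdge1.pushEdge_eq, PushEdge1.pushEdge_eq]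
  refine ExtEdge.edge_naturality (CohPull.inv g'.base) (CohPull.oneTo g'.base) (PushEdge1.a g' N)
    (PushEdge1.a g' N) _ _ ?_ p x
  have h := PushEdge1.a_naturality g' (HomExt.smulHom N r)
  rw [toSheaf_map_smulHom] at h
  refine Eq.trans ?_ h
  congr 2
  exact congrArg (fun φ => (CohTop.push g'.base).map φ) (toSheaf_map_smulHom N r).symm

end pushEdge


include hι in
open Groth.Agent.Lib.Helper17.HCompare in
/-- **Flat base change, abstract form**: for `g' : X' ⟶ X` affine, `X` quasi-compact quasi-separated, `A → B`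
flat, rings of sections over affine opens forming pushout squares, and `M` quasi-coherent, there is a
bijective additive map `B ⊗[A] H^n(X, M) → H^n(X', g'^* M)`, compatible with multiplication by `B`. -/
theorem exists_comparison [CompactSpace X] [QuasiSeparatedSpace X] [IsAffineHom g'] [M.IsQuasicoherent]
    [Module.Flat A B]
    (hpo : ∀ U : X.Opens, IsAffineOpen U →
      IsPushout (CommRingCat.ofHom (algebraMap A B)) (CommRingCat.ofHom (αU ιA U))
        (CommRingCat.ofHom (αU ιB (g' ⁻¹ᵁ U))) (CommRingCat.ofHom (g'.appLE U (g' ⁻¹ᵁ U) le_rfl).hom))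
    (n : ℕ) :
    ∃ Φ : B ⊗[A] E (actF ιA M) (ZZ (Opens.grothendieckTopology X)) n →+
        Coh.HH X' ((Scheme.Modules.pullback g').obj M) n,
      Function.Bijective Φ ∧ ∀ (b : B) (t : B ⊗[A] E (actF ιA M) (ZZ (Opens.grothendieckTopology X)) n),
        Φ (b • t) = Sheaf.H.map (Coh.smulAb ((Scheme.Modules.pullback g').obj M) (ιB b)) n (Φ t) := by
  let Θ₀ := Θ g' ιA ιB M hι (ZZ (Opens.grothendieckTopology X)) n
  let pe : E (actPush g' ιB ((Scheme.Modules.pullback g').obj M)) (ZZ (Opens.grothendieckTopology X)) n →+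
      Coh.HH X' ((Scheme.Modules.pullback g').obj M) n :=
    CohPull.pushEdge g' ((Scheme.Modules.pullback g').obj M) n
  refine ⟨pe.comp Θ₀, ?_, ?_⟩
  · exact (pushEdge_bijective_of_isAffineHom g' ((Scheme.Modules.pullback g').obj M) n).comp
      (bijZ_ZZ g' ιA ιB M hι hpo n)
  · intro b t
    change pe (Θ₀ (b • t)) = _
    rw [theta_smul]
    exact pushEdge_smul g' ((Scheme.Modules.pullback g').obj M) (ιB b) n (Θ₀ t)

end Groth.Agent.Lib.Helper17.FlatBCH3
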