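import Groth.Agent.Lib.Helper17.Serre
import Groth.Agent.Lib.Helper17.AffineSurj
import Mathlib
set_option backward.isDefEq.respectTransparency.types false
set_option autoImplicit false
universe u

namespace Groth.Agent.Lib.Helper17.Serre
open CategoryTheory CategoryTheory.Limits Opposite Abelian TopologicalSpace AlgebraicGeometry
open Groth.Agent.Lib.Helper28.QCohLoc

variable {X : Scheme.{u}}

/-- the morphism `O_X ⟶ M` defined by a global section -/
noncomputable def ofSection (M : X.Modules) (σ : Γ(M, ⊤)) : Coh.structureModule X ⟶ M :=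
  SheafOfModules.unitHomEquiv M |>.symm (globalSection M σ)

theorem ofSection_app_one (M : X.Modules) (σ : Γ(M, ⊤)) (V : X.Opens) :
    (ofSection M σ).app V (1 : Γ(X, V)) = res M (le_top : V ≤ ⊤) σ := by
  have h := SheafOfModules.unitHomEquiv_apply_coe M (ofSection M σ) (op V)
  have h2 : SheafOfModules.unitHomEquiv M (ofSection M σ) = globalSection M σ :=
    Equiv.apply_symm_apply _ _
  rw [h2] at h
  exact h.symm

theorem ofSection_app (M : X.Modules) (σ : Γ(M, ⊤)) (V : X.Opens) (c : Γ(X, V)) :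
    (ofSection M σ).app V (show Γ(Coh.structureModule X, V) from c) = c • res M (le_top : V ≤ ⊤) σ := by
  have h1 : (show Γ(Coh.structureModule X, V) from c) =
      (c • (show Γ(Coh.structureModule X, V) from (1 : Γ(X, V))) : Γ(Coh.structureModule X, V)) :=
    (mul_one c).symm
  rw [h1, Scheme.Modules.Hom.app_smul]
  congr 1
  exact ofSection_app_one M σ V

/-- multiplication by a global function, as an endomorphism of `O_X`. -/
noncomputable def mulBy (f : Γ(X, ⊤)) : Coh.structureModule X ⟶ Coh.structureModule X :=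
  ofSection (Coh.structureModule X) f

theorem mulBy_app (f : Γ(X, ⊤)) (V : X.Opens) (c : Γ(X, V)) :
    (show Γ(X, V) from (mulBy f).app V (show Γ(Coh.structureModule X, V) from c)) =
      c * resO (le_top : V ≤ ⊤) f :=
  ofSection_app (Coh.structureModule X) f V c

/-- sections of a biproduct decompose. -/
theorem biprod_total_app (A B : X.Modules) (V : X.Opens) (t : Γ(A ⊞ B, V)) :
    t = (biprod.inl : A ⟶ A ⊞ B).app V ((biprod.fst : A ⊞ B ⟶ A).app V t) +
      (biprod.inr : B ⟶ A ⊞ B).app V ((biprod.snd : A ⊞ B ⟶ B).app V t) := by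
  have h := congrArg (fun ψ : (A ⊞ B ⟶ A ⊞ B) => ψ.app V t) (biprod.total (X := A) (Y := B))
  exact h.symm

theorem biprod_desc_app {A B C : X.Modules} (a : A ⟶ C) (b : B ⟶ C) (V : X.Opens) (t : Γ(A ⊞ B, V)) :
    (biprod.desc a b).app V t = a.app V ((biprod.fst : A ⊞ B ⟶ A).app V t) +
      b.app V ((biprod.snd : A ⊞ B ⟶ B).app V t) := by
  have h := biprod_total_app A B V t
  have h2 := congrArg ((biprod.desc a b).app V) h
  rw [map_add] at h2
  rw [h2]
  congr 1
  · have := congrArg (fun ψ : (A ⟶ C) => ψ.app V ((biprod.fst : A ⊞ B ⟶ A).app V t)) (biprod.inl_desc a b)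
    exact this
  · have := congrArg (fun ψ : (B ⟶ C) => ψ.app V ((biprod.snd : A ⊞ B ⟶ B).app V t)) (biprod.inr_desc a b)
    exact this

instance isQuasicoherent_biprod (A B : X.Modules) [A.IsQuasicoherent] [B.IsQuasicoherent] :
    (A ⊞ B).IsQuasicoherent := by
  let S : ShortComplex X.Modules := ShortComplex.mk (biprod.inl : A ⟶ A ⊞ B) biprod.snd (by simp)
  have spl : S.Splitting := ShortComplex.Splitting.ofHasBinaryBiproduct _ _
  haveI : S.X₁.IsQuasicoherent := ‹A.IsQuasicoherent›
  haveI : S.X₃.IsQuasicoherent := ‹B.IsQuasicoherent›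
  exact Groth.Agent.Lib.Helper17.AffineSurj.isQuasicoherent_of_extension S spl.shortExact

open Groth.Agent.Lib.Helper17.CohKer in
/-- inductive step: enlarge a quasi-coherent ideal by one global function, keeping control of its
global sections. -/
theorem ideal_step (hserre : SerreHyp X) (f : Γ(X, ⊤)) (T : Set Γ(X, ⊤))
    (J : X.Modules) (ι : J ⟶ Coh.structureModule X) (hinj : ∀ V, Function.Injective (ι.app V))
    [J.IsQuasicoherent]
    (hspan : ∀ s : Γ(J, ⊤), (show Γ(X, ⊤) from ι.app ⊤ s) ∈ Ideal.span T)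
    (hmem : ∀ g ∈ T, ∀ V : X.Opens, ∃ t : Γ(J, V),
      (show Γ(X, V) from ι.app V t) = resO (le_top : V ≤ ⊤) g) :
    ∃ (J' : X.Modules) (ι' : J' ⟶ Coh.structureModule X), (∀ V, Function.Injective (ι'.app V)) ∧
      J'.IsQuasicoherent ∧
      (∀ s : Γ(J', ⊤), (show Γ(X, ⊤) from ι'.app ⊤ s) ∈ Ideal.span (insert f T)) ∧
      (∀ g ∈ insert f T, ∀ V : X.Opens, ∃ t : Γ(J', V),
        (show Γ(X, V) from ι'.app V t) = resO (le_top : V ≤ ⊤) g) := by
  let φ : J ⊞ Coh.structureModule X ⟶ Coh.structureModule X := biprod.desc ι (mulBy f)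
  haveI hqc : (cokernel φ).IsQuasicoherent := isQuasicoherent_cokernel φ
  haveI hqJ' : (kernel (cokernel.π φ)).IsQuasicoherent := isQuasicoherent_kernel (cokernel.π φ)
  let p : J ⊞ Coh.structureModule X ⟶ kernel (cokernel.π φ) :=
    kernel.lift (cokernel.π φ) φ (cokernel.condition φ)
  have hp : p ≫ kernel.ι (cokernel.π φ) = φ := kernel.lift_ι _ _ _
  have hp_app : ∀ (V : X.Opens) (t : Γ(J ⊞ Coh.structureModule X, V)),
      (kernel.ι (cokernel.π φ)).app V (p.app V t) = φ.app V t := fun V t =>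
    congrArg (fun ψ : (J ⊞ Coh.structureModule X ⟶ Coh.structureModule X) => ψ.app V t) hp
  have hφ_app : ∀ (V : X.Opens) (t : Γ(J ⊞ Coh.structureModule X, V)),
      φ.app V t = ι.app V ((biprod.fst : J ⊞ Coh.structureModule X ⟶ J).app V t) +
        (mulBy f).app V ((biprod.snd : J ⊞ Coh.structureModule X ⟶ Coh.structureModule X).app V t) :=
    fun V t => biprod_desc_app ι (mulBy f) V t
  haveI hepi : Epi p := inferInstanceAs (Epi (Abelian.factorThruImage φ))
  haveI hqK : (kernel p).IsQuasicoherent := isQuasicoherent_kernel p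
  -- the kernel of `p` embeds into `O_X` by the second projection
  have hKinj : ∀ V, Function.Injective ((kernel.ι p ≫ (biprod.snd : J ⊞ Coh.structureModule X ⟶ _)).app V) := by
    intro V
    rw [injective_iff_map_eq_zero]
    intro k hk
    have hk' : (biprod.snd : J ⊞ Coh.structureModule X ⟶ _).app V ((kernel.ι p).app V k) = 0 := hk
    have h1 : p.app V ((kernel.ι p).app V k) = 0 := app_kernel_ι_app p V k
    have h2 : φ.app V ((kernel.ι p).app V k) = 0 := by
      rw [← hp_app, h1, map_zero]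
    rw [hφ_app, hk', map_zero, add_zero] at h2
    have h3 : (biprod.fst : J ⊞ Coh.structureModule X ⟶ J).app V ((kernel.ι p).app V k) = 0 := by
      apply hinj V
      rw [h2, map_zero]
    have h4 := biprod_total_app J (Coh.structureModule X) V ((kernel.ι p).app V k)
    rw [h3, hk', map_zero, map_zero, add_zero] at h4
    apply kernel_ι_app_injective p V
    rw [h4, map_zero]
  have hH1 : Subsingleton (Coh.HH X (kernel p) 1) :=
    hserre (kernel p) (kernel.ι p ≫ biprod.snd) (mono_of_injective _ hKinj) hqK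
  let S : ShortComplex X.Modules := ShortComplex.mk (kernel.ι p) p (kernel.condition p)
  have hS : S.ShortExact :=
    { exact := ShortComplex.exact_of_f_is_kernel _ (kernelIsKernel p)
      mono_f := mono_of_injective _ (kernel_ι_app_injective p)
      epi_g := hepi }
  have hsurj : Function.Surjective (p.app ⊤) := surjective_app_top_of_H1 S hS hH1
  refine ⟨kernel (cokernel.π φ), kernel.ι (cokernel.π φ), kernel_ι_app_injective _, hqJ', ?_, ?_⟩
  · intro s
    obtain ⟨t, rfl⟩ := hsurj s
    rw [hp_app, hφ_app]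
    change (show Γ(X, ⊤) from ι.app ⊤ _) + (show Γ(X, ⊤) from (mulBy f).app ⊤ _) ∈ _
    refine Ideal.add_mem _ (Ideal.span_mono (Set.subset_insert f T) (hspan _)) ?_
    have := mulBy_app f ⊤ (show Γ(X, ⊤) from
      (biprod.snd : J ⊞ Coh.structureModule X ⟶ Coh.structureModule X).app ⊤ t)
    rw [this]
    refine Ideal.mul_mem_left _ _ (Ideal.subset_span ?_)
    left
    unfold resO
    have : (homOfLE (le_top : (⊤ : X.Opens) ≤ ⊤)).op = 𝟙 (op ⊤) := rfl
    rw [this, X.presheaf.map_id]
    rfl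
  · intro g hg V
    rcases hg with rfl | hg
    · refine ⟨p.app V ((biprod.inr : Coh.structureModule X ⟶ J ⊞ Coh.structureModule X).app V
        (show Γ(Coh.structureModule X, V) from (1 : Γ(X, V)))), ?_⟩
      rw [hp_app]
      have h1 : φ.app V ((biprod.inr : Coh.structureModule X ⟶ J ⊞ Coh.structureModule X).app V
          (show Γ(Coh.structureModule X, V) from (1 : Γ(X, V)))) =
          (mulBy g).app V (show Γ(Coh.structureModule X, V) from (1 : Γ(X, V))) :=
        congrArg (fun ψ : (Coh.structureModule X ⟶ Coh.structureModule X) =>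
          ψ.app V (show Γ(Coh.structureModule X, V) from (1 : Γ(X, V)))) (biprod.inr_desc ι (mulBy g))
      rw [h1]
      have := mulBy_app g V (1 : Γ(X, V))
      rw [one_mul] at this
      exact this
    · obtain ⟨t₀, ht₀⟩ := hmem g hg V
      refine ⟨p.app V ((biprod.inl : J ⟶ J ⊞ Coh.structureModule X).app V t₀), ?_⟩
      rw [hp_app]
      have h1 : φ.app V ((biprod.inl : J ⟶ J ⊞ Coh.structureModule X).app V t₀) = ι.app V t₀ :=
        congrArg (fun ψ : (J ⟶ Coh.structureModule X) => ψ.app V t₀) (biprod.inl_desc ι (mulBy f))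
      rw [h1]
      exact ht₀

open Groth.Agent.Lib.Helper17.CohKer in
theorem exists_ideal_of_finset (hserre : SerreHyp X) (s : Finset Γ(X, ⊤)) :
    ∃ (J : X.Modules) (ι : J ⟶ Coh.structureModule X), (∀ V, Function.Injective (ι.app V)) ∧
      J.IsQuasicoherent ∧
      (∀ t : Γ(J, ⊤), (show Γ(X, ⊤) from ι.app ⊤ t) ∈ Ideal.span (s : Set Γ(X, ⊤))) ∧
      (∀ g ∈ s, ∀ V : X.Opens, ∃ t : Γ(J, V),
        (show Γ(X, V) from ι.app V t) = resO (le_top : V ≤ ⊤) g) := by
  classical
  induction s using Finset.induction_on with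
  | empty =>
    refine ⟨kernel (𝟙 (Coh.structureModule X)), kernel.ι _, kernel_ι_app_injective _,
      isQuasicoherent_kernel _, fun t => ?_, fun g hg => absurd hg (Finset.notMem_empty g)⟩
    have h := app_kernel_ι_app (𝟙 (Coh.structureModule X)) ⊤ t
    have h' : (kernel.ι (𝟙 (Coh.structureModule X))).app ⊤ t = 0 := h
    rw [h']
    exact Ideal.zero_mem _
  | insert f s hfs ih =>
    obtain ⟨J, ι, hinj, hq, hspan, hmem⟩ := ih
    haveI := hq
    obtain ⟨J', ι', hinj', hq', hspan', hmem'⟩ := ideal_step hserre f (s : Set Γ(X, ⊤)) J ι hinj hspan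
      (fun g hg => hmem g hg)
    refine ⟨J', ι', hinj', hq', fun t => ?_, fun g hg => ?_⟩
    · rw [Finset.coe_insert]
      exact hspan' t
    · exact hmem' g (by rw [Finset.mem_insert] at hg; exact hg)

/-- **Serre's criterion for affineness.** -/
theorem isAffine_of_serreHyp [CompactSpace X] (hserre : SerreHyp X) : IsAffine X := by
  classical
  refine isAffine_of_isAffineOpen_basicOpen {f : Γ(X, ⊤) | IsAffineOpen (X.basicOpen f)} ?_
    (fun f hf => hf)
  -- a finite subfamily covers
  have hcov : ∀ y : X, ∃ f : Γ(X, ⊤), IsAffineOpen (X.basicOpen f) ∧ y ∈ X.basicOpen f :=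
    exists_affine_basicOpen_mem hserre
  choose F hFaff hFmem using hcov
  obtain ⟨t, ht⟩ := isCompact_univ.elim_finite_subcover (fun y : X => (X.basicOpen (F y) : Set X))
    (fun y => (X.basicOpen (F y)).isOpen) (fun y _ => Set.mem_iUnion.2 ⟨y, hFmem y⟩)
  let s : Finset Γ(X, ⊤) := t.image F
  obtain ⟨J, ι, hinj, hq, hspan, hmem⟩ := exists_ideal_of_finset hserre s
  -- `ι` is an epimorphism
  haveI hepi : Epi ι := by
    refine epi_of_locally_in_range ι ?_
    intro U r pt hpt
    obtain ⟨y, hyt, hy⟩ := Set.mem_iUnion₂.1 (ht (Set.mem_univ pt))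
    let V : X.Opens := U ⊓ X.basicOpen (F y)
    have hVU : V ≤ U := inf_le_left
    obtain ⟨t₀, ht₀⟩ := hmem (F y) (Finset.mem_image_of_mem F hyt) V
    have hunit : IsUnit (resO (le_top : V ≤ ⊤) (F y)) := by
      have h1 : V ≤ X.basicOpen (F y) := inf_le_right
      have h2 : resO (le_top : V ≤ ⊤) (F y) = resO h1 (resO (X.basicOpen_le (F y)) (F y)) :=
        (resO_resO _ _ _).symm
      rw [h2]
      exact (RingedSpace.isUnit_res_basicOpen _ (F y)).map _
    obtain ⟨u, hu⟩ := hunit
    refine ⟨V, hVU, ⟨hpt, hy⟩, ((resO hVU (show Γ(X, U) from r)) * (↑u⁻¹ : Γ(X, V))) • t₀, ?_⟩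
    rw [Scheme.Modules.Hom.app_smul]
    change (resO hVU (show Γ(X, U) from r) * (↑u⁻¹ : Γ(X, V))) * (show Γ(X, V) from ι.app V t₀) = _
    rw [ht₀, ← hu, mul_assoc, Units.inv_mul, mul_one]
    rfl
  haveI hmono : Mono ι := mono_of_injective ι hinj
  haveI hiso : IsIso ι := isIso_of_mono_of_epi ι
  have hbij : Function.Bijective (ι.app ⊤) :=
    (ConcreteCategory.isIso_iff_bijective _).1 (Scheme.Modules.Hom.isIso_iff_isIso_app.1 hiso ⊤)
  obtain ⟨t₁, ht₁⟩ := hbij.2 (show Γ(Coh.structureModule X, ⊤) from (1 : Γ(X, ⊤)))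
  rw [Ideal.eq_top_iff_one]
  have h1 := hspan t₁
  rw [ht₁] at h1
  refine Ideal.span_mono ?_ h1
  intro g hg
  obtain ⟨y, -, rfl⟩ := Finset.mem_image.1 hg
  exact hFaff y

end Groth.Agent.Lib.Helper17.Serre
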