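import Mathlib.AlgebraicGeometry.ProjectiveSpectrum.Basic
import Mathlib.RingTheory.GradedAlgebra.Radical
import Mathlib.RingTheory.Noetherian.Nilpotent
import Mathlib.RingTheory.Finiteness.Ideal

set_option autoImplicit false
universe u

namespace Groth.Agent.Lib.Helper17

open DirectSum

variable {R A : Type u} [CommRing R] [CommRing A] [Algebra R A] (𝒜 : ℕ → Submodule R A) [GradedAlgebra 𝒜]

/-- The irrelevant ideal, if finitely generated, is spanned by finitely many homogeneous elements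
of positive bounded degree. -/
theorem exists_homogeneous_generators (hfg : (HomogeneousIdeal.irrelevant 𝒜).toIdeal.FG) :
    ∃ (G : Finset A) (D : ℕ), (∀ g ∈ G, ∃ j, 0 < j ∧ j ≤ D ∧ g ∈ 𝒜 j) ∧
      Ideal.span (G : Set A) = (HomogeneousIdeal.irrelevant 𝒜).toIdeal := by
  classical
  obtain ⟨G₀, hG₀⟩ := hfg
  let G : Finset A := G₀.biUnion
    (fun g => (decompose 𝒜 g).support.image (fun j => (decompose 𝒜 g j : A)))
  have hG₀mem : ∀ g ∈ G₀, g ∈ (HomogeneousIdeal.irrelevant 𝒜).toIdeal := fun g hg => by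
    rw [← hG₀]; exact Ideal.subset_span hg
  have h1 : ∀ g' ∈ G, ∃ j, 0 < j ∧ g' ∈ 𝒜 j := by
    intro g' hg'
    simp only [G, Finset.mem_biUnion, Finset.mem_image] at hg'
    obtain ⟨g, hg, j, hj, rfl⟩ := hg'
    refine ⟨j, Nat.pos_of_ne_zero ?_, SetLike.coe_mem _⟩
    rintro rfl
    have h0 : (decompose 𝒜 g 0 : A) = 0 := hG₀mem g hg
    rw [DFinsupp.mem_support_toFun] at hj
    exact hj (Subtype.ext h0)
  choose! deg hdeg using h1
  refine ⟨G, G.sup deg, fun g hg => ⟨deg g, (hdeg g hg).1, Finset.le_sup hg, (hdeg g hg).2⟩, ?_⟩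
  apply le_antisymm
  · rw [Ideal.span_le]
    intro g hg
    exact HomogeneousIdeal.mem_irrelevant_of_mem 𝒜 (hdeg g hg).1 (hdeg g hg).2
  · rw [← hG₀, Ideal.span_le]
    intro g hg
    rw [← DirectSum.sum_support_decompose 𝒜 g]
    refine Ideal.sum_mem _ fun j hj => Ideal.subset_span ?_
    simp only [G, Finset.coe_biUnion, Set.mem_iUnion, Finset.coe_image]
    exact ⟨g, hg, j, hj, rfl⟩

theorem mem_irrelevant_pow (G : Finset A) (D : ℕ)
    (hG : ∀ g ∈ G, ∃ j, 0 < j ∧ j ≤ D ∧ g ∈ 𝒜 j)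
    (hspan : Ideal.span (G : Set A) = (HomogeneousIdeal.irrelevant 𝒜).toIdeal) (j : ℕ) :
    ∀ (k : ℕ), j * D + 1 ≤ k → ∀ x ∈ 𝒜 k, x ∈ (HomogeneousIdeal.irrelevant 𝒜).toIdeal ^ (j + 1) := by
  classical
  induction j with
  | zero =>
    intro k hk x hx
    rw [zero_add, pow_one]
    exact HomogeneousIdeal.mem_irrelevant_of_mem 𝒜 (by omega) hx
  | succ j ih =>
    intro k hk x hx
    have hxS : x ∈ Ideal.span (G : Set A) := by
      rw [hspan]; exact HomogeneousIdeal.mem_irrelevant_of_mem 𝒜 (by omega) hx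
    obtain ⟨c, -, hc⟩ := Submodule.mem_span_finset.mp hxS
    have hxk : x = (decompose 𝒜 x k : A) := (DirectSum.decompose_of_mem_same 𝒜 hx).symm
    rw [hxk, ← hc, DirectSum.decompose_sum, DFinsupp.finsetSum_apply, AddSubmonoidClass.coe_finsetSum]
    refine Ideal.sum_mem _ fun g hg => ?_
    obtain ⟨l, hl0, hlD, hgl⟩ := hG g hg
    have hlk : l ≤ k := by
      have : D ≤ (j + 1) * D := Nat.le_mul_of_pos_left D (by omega)
      omega
    rw [smul_eq_mul, DirectSum.coe_decompose_mul_of_right_mem_of_le 𝒜 hgl hlk, pow_succ]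
    refine Ideal.mul_mem_mul (ih (k - l) ?_ _ (SetLike.coe_mem _)) ?_
    · have : (j + 1) * D = j * D + D := by ring
      omega
    · exact HomogeneousIdeal.mem_irrelevant_of_mem 𝒜 hl0 hgl

theorem eventually_bot_of_fg_of_nilpotent (hfg : (HomogeneousIdeal.irrelevant 𝒜).toIdeal.FG)
    (hnil : ∀ f ∈ (HomogeneousIdeal.irrelevant 𝒜).toIdeal, IsNilpotent f) :
    ∃ n : ℕ, ∀ k : ℕ, n ≤ k → 𝒜 k = ⊥ := by
  obtain ⟨G, D, hG, hspan⟩ := exists_homogeneous_generators 𝒜 hfg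
  have hle : (HomogeneousIdeal.irrelevant 𝒜).toIdeal ≤ nilradical A := fun f hf =>
    mem_nilradical.mpr (hnil f hf)
  obtain ⟨N, hN⟩ := (Ideal.FG.isNilpotent_iff_le_nilradical hfg).mpr hle
  refine ⟨N * D + 1, fun k hk => ?_⟩
  rw [Submodule.eq_bot_iff]
  intro x hx
  have := mem_irrelevant_pow 𝒜 G D hG hspan N k hk x hx
  have h2 : x ∈ (HomogeneousIdeal.irrelevant 𝒜).toIdeal ^ N :=
    Ideal.pow_le_pow_right (Nat.le_succ N) this
  rw [hN] at h2
  exact h2

theorem nilpotent_of_eventually_bot (n : ℕ) (hn : ∀ k : ℕ, n ≤ k → 𝒜 k = ⊥) :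
    ∀ f ∈ (HomogeneousIdeal.irrelevant 𝒜).toIdeal, IsNilpotent f := by
  classical
  intro f hf
  rw [← mem_nilradical, ← DirectSum.sum_support_decompose 𝒜 f]
  refine Ideal.sum_mem _ fun j _ => ?_
  rw [mem_nilradical]
  by_cases hj : j = 0
  · subst hj
    have h0 : (decompose 𝒜 f 0 : A) = 0 := hf
    rw [h0]; exact IsNilpotent.zero
  · refine ⟨n + 1, ?_⟩
    have hmem : (decompose 𝒜 f j : A) ^ (n + 1) ∈ 𝒜 ((n + 1) • j) :=
      SetLike.pow_mem_graded (n + 1) (SetLike.coe_mem _)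
    have hle : n ≤ (n + 1) • j := by
      rw [smul_eq_mul]
      have : 1 ≤ j := Nat.pos_of_ne_zero hj
      nlinarith
    rw [hn _ hle] at hmem
    exact hmem

end Groth.Agent.Lib.Helper17
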