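import Mathlib

/-!
Normality ascends along smooth ring maps (helper17).
Main tool: Mathlib's `TensorProduct.toIntegralClosure_bijective_of_smooth`.
-/

namespace Groth.Agent.Lib.Helper17.SmoothNormal

open TensorProduct

theorem eq_zero_or_eq_one_of_isIdempotentElem {C : Type*} [CommRing C] [IsLocalRing C] {e : C}
    (he : IsIdempotentElem e) : e = 0 ∨ e = 1 := by
  rcases IsLocalRing.isUnit_or_isUnit_one_sub_self e with h | h
  · right
    have : e * e = e * 1 := by rw [mul_one]; exact he
    exact h.mul_left_cancel this
  · left
    have : (1 - e) * e = (1 - e) * 0 := by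
      rw [mul_zero, sub_mul, one_mul, he.eq, sub_self]
    exact h.mul_left_cancel this

section L0

variable {P : Type*} [CommRing P] [IsDomain P] [IsIntegrallyClosed P]
  (L : Type*) [Field L] [Algebra P L] [IsFractionRing P L]
  {C : Type*} [CommRing C] [Algebra P C]

theorem exists_eq_tmul_one_of_isIntegral
    (H : Function.Surjective (toIntegralClosure P C L))
    (x : C ⊗[P] L) (hx : IsIntegral C x) : ∃ c : C, x = c ⊗ₜ 1 := by
  obtain ⟨w, hw⟩ := H ⟨x, hx⟩
  have key : ∀ w : C ⊗[P] integralClosure P L, ∃ s : C,
      ((toIntegralClosure P C L w : integralClosure C (C ⊗[P] L)) : C ⊗[P] L) = s ⊗ₜ 1 := by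
    intro w
    induction w using TensorProduct.induction_on with
    | zero => exact ⟨0, by simp⟩
    | add a b ha hb =>
      obtain ⟨s, hs⟩ := ha
      obtain ⟨t, ht⟩ := hb
      exact ⟨s + t, by rw [map_add, Subalgebra.coe_add, hs, ht, add_tmul]⟩
    | tmul a b =>
      obtain ⟨b, hb⟩ := b
      obtain ⟨r, rfl⟩ := IsIntegrallyClosed.isIntegral_iff.mp hb
      refine ⟨r • a, ?_⟩
      show Algebra.TensorProduct.map (AlgHom.id C C) (integralClosure P L).val
        (a ⊗ₜ ⟨algebraMap P L r, hb⟩) = _
      rw [Algebra.TensorProduct.map_tmul]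
      show a ⊗ₜ[P] (algebraMap P L r) = _
      rw [smul_tmul, Algebra.algebraMap_eq_smul_one]
  obtain ⟨s, hs⟩ := key w
  rw [hw] at hs
  exact ⟨s, hs⟩

/-- A local flat algebra `C` over a normal domain `P` such that integral closure commutes with the
base change `P → C`, and whose generic fibre is reduced and artinian, is a normal domain. -/
theorem isDomain_and_isIntegrallyClosed_of_local [IsLocalRing C] [Module.Flat P C]
    (H : Function.Surjective (toIntegralClosure P C L))
    [IsReduced (C ⊗[P] L)] [IsArtinianRing (C ⊗[P] L)] :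
    IsDomain C ∧ IsIntegrallyClosed C := by
  have hinj : Function.Injective (algebraMap C (C ⊗[P] L)) :=
    Algebra.TensorProduct.includeLeft_injective (S := C) (IsFractionRing.injective P L)
  have hmap : ∀ c : C, algebraMap C (C ⊗[P] L) c = c ⊗ₜ 1 := fun c => rfl
  haveI : Nontrivial (C ⊗[P] L) := hinj.nontrivial
  -- idempotents of the generic fibre are trivial
  have hidem : ∀ e : C ⊗[P] L, IsIdempotentElem e → e = 0 ∨ e = 1 := by
    intro e he
    have hint : IsIntegral C e :=
      ⟨Polynomial.X ^ 2 - Polynomial.X,
        Polynomial.monic_X_pow_sub (by simp [Polynomial.degree_X]), by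
          simp [pow_two, he.eq]⟩
    obtain ⟨c, rfl⟩ := exists_eq_tmul_one_of_isIntegral L H e hint
    have hc : IsIdempotentElem c := by
      apply hinj
      rw [map_mul, hmap]
      exact he
    rcases eq_zero_or_eq_one_of_isIdempotentElem hc with h | h
    · left; rw [h, zero_tmul]
    · right; rw [h]; rfl
  -- hence only one maximal ideal
  haveI : Subsingleton (MaximalSpectrum (C ⊗[P] L)) := by
    classical
    refine ⟨fun m m' => ?_⟩
    by_contra hne
    let E := IsArtinianRing.equivPi (C ⊗[P] L)
    let e := E.symm (Pi.single m 1)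
    have he : IsIdempotentElem e := by
      show e * e = e
      rw [← map_mul, ← Pi.single_mul, one_mul]
    have hE : E e = Pi.single m 1 := E.apply_symm_apply _
    rcases hidem e he with h | h
    · rw [h, map_zero] at hE
      have h1 := congrFun hE m
      rw [Pi.single_eq_same, Pi.zero_apply] at h1
      haveI : Nontrivial ((C ⊗[P] L) ⧸ m.asIdeal) :=
        Ideal.Quotient.nontrivial_iff.mpr m.isMaximal.ne_top
      exact zero_ne_one h1
    · rw [h, map_one] at hE
      have h1 := congrFun hE m'
      rw [Pi.single_eq_of_ne (Ne.symm hne), Pi.one_apply] at h1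
      haveI : Nontrivial ((C ⊗[P] L) ⧸ m'.asIdeal) :=
        Ideal.Quotient.nontrivial_iff.mpr m'.isMaximal.ne_top
      exact one_ne_zero h1
  haveI : IsLocalRing (C ⊗[P] L) := by
    refine IsLocalRing.of_unique_max_ideal ?_
    obtain ⟨m, hm⟩ := Ideal.exists_maximal (C ⊗[P] L)
    refine ⟨m, hm, fun m' hm' => ?_⟩
    have := Subsingleton.elim (⟨m', hm'⟩ : MaximalSpectrum (C ⊗[P] L)) ⟨m, hm⟩
    exact congrArg MaximalSpectrum.asIdeal this
  have hfield : IsField (C ⊗[P] L) := IsArtinianRing.isField_of_isReduced_of_isLocalRing _
  letI : Field (C ⊗[P] L) := hfield.toField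
  haveI hdom : IsDomain C := hinj.isDomain (algebraMap C (C ⊗[P] L))
  refine ⟨hdom, ?_⟩
  -- the generic fibre is the fraction field
  haveI hloc : IsLocalization (Algebra.algebraMapSubmonoid C (nonZeroDivisors P)) (C ⊗[P] L) :=
    IsLocalization.tensor L (nonZeroDivisors P)
  haveI : IsFractionRing C (C ⊗[P] L) := by
    refine IsLocalization.of_le (Algebra.algebraMapSubmonoid C (nonZeroDivisors P)) _ ?_ ?_
    · rintro _ ⟨p, hp, rfl⟩
      have h1 : IsUnit (algebraMap C (C ⊗[P] L) (algebraMap P C p)) :=
        IsLocalization.map_units (C ⊗[P] L)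
          (⟨algebraMap P C p, p, hp, rfl⟩ : Algebra.algebraMapSubmonoid C (nonZeroDivisors P))
      rw [mem_nonZeroDivisors_iff_ne_zero]
      intro h0
      rw [h0, map_zero] at h1
      exact not_isUnit_zero h1
    · intro r hr
      rw [mem_nonZeroDivisors_iff_ne_zero] at hr
      exact IsUnit.mk0 _ (fun h0 => hr (hinj (by rw [h0, map_zero])))
  rw [isIntegrallyClosed_iff (C ⊗[P] L)]
  intro x hx
  obtain ⟨c, rfl⟩ := exists_eq_tmul_one_of_isIntegral L H x hx
  exact ⟨c, rfl⟩

end L0


section L2

universe u

/-- The local rings of an étale algebra over a normal domain are normal domains. -/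
theorem isDomain_and_isIntegrallyClosed_atPrime_of_etale
    (P : Type u) [CommRing P] [IsDomain P] [IsIntegrallyClosed P]
    {B : Type u} [CommRing B] [Algebra P B] [Algebra.Etale P B] (q : Ideal B) [q.IsPrime] :
    IsDomain (Localization.AtPrime q) ∧ IsIntegrallyClosed (Localization.AtPrime q) := by
  haveI : Module.Flat P (Localization.AtPrime q) := Module.Flat.trans P B (Localization.AtPrime q)
  have H : Function.Bijective
      (toIntegralClosure P (Localization.AtPrime q) (FractionRing P)) :=
    toIntegralClosure_bijective_of_tower (S := B) toIntegralClosure_bijective_of_smooth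
      (toIntegralClosure_bijective_of_isLocalization q.primeCompl)
  haveI : Algebra.FormallyUnramified B (Localization.AtPrime q) :=
    Algebra.FormallyUnramified.of_isLocalization q.primeCompl
  haveI : Algebra.FormallyUnramified P (Localization.AtPrime q) :=
    Algebra.FormallyUnramified.comp P B (Localization.AtPrime q)
  haveI : Algebra.EssFiniteType B (Localization.AtPrime q) :=
    Algebra.EssFiniteType.of_isLocalization _ q.primeCompl
  haveI : Algebra.EssFiniteType P (Localization.AtPrime q) :=
    Algebra.EssFiniteType.comp P B (Localization.AtPrime q)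
  haveI := Algebra.FormallyUnramified.finite_of_free (FractionRing P)
    (FractionRing P ⊗[P] Localization.AtPrime q)
  haveI : IsArtinianRing (FractionRing P ⊗[P] Localization.AtPrime q) :=
    .of_finite (FractionRing P) _
  haveI := Algebra.FormallyUnramified.isReduced_of_field (FractionRing P)
    (FractionRing P ⊗[P] Localization.AtPrime q)
  let e : Localization.AtPrime q ⊗[P] FractionRing P ≃ₐ[P]
      FractionRing P ⊗[P] Localization.AtPrime q :=
    Algebra.TensorProduct.comm P _ _
  haveI : IsReduced (Localization.AtPrime q ⊗[P] FractionRing P) :=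
    isReduced_of_injective e e.injective
  haveI : IsArtinianRing (Localization.AtPrime q ⊗[P] FractionRing P) :=
    e.symm.surjective.isArtinianRing
  exact isDomain_and_isIntegrallyClosed_of_local (FractionRing P) H.2

end L2


section L3

universe u

/-- Transfer of normality of local rings from a localization. -/
theorem transfer {B : Type u} [CommRing B] (M : Submonoid B) (S : Type u) [CommRing S] [Algebra B S]
    [IsLocalization M S] (q : Ideal B) [q.IsPrime] (hq : Disjoint (M : Set B) (q : Set B))
    (h : ∀ (q' : Ideal S) [q'.IsPrime],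
      IsDomain (Localization.AtPrime q') ∧ IsIntegrallyClosed (Localization.AtPrime q')) :
    IsDomain (Localization.AtPrime q) ∧ IsIntegrallyClosed (Localization.AtPrime q) := by
  haveI hq' : (q.map (algebraMap B S)).IsPrime :=
    IsLocalization.isPrime_of_isPrime_disjoint M _ _ ‹_› hq
  have hcomap : (q.map (algebraMap B S)).comap (algebraMap B S) = q :=
    IsLocalization.comap_map_of_isPrime_disjoint M _ ‹_› hq
  obtain ⟨h1, h2⟩ := h (q.map (algebraMap B S))
  haveI : IsLocalization.AtPrime (Localization.AtPrime (q.map (algebraMap B S)))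
      ((q.map (algebraMap B S)).comap (algebraMap B S)) :=
    IsLocalization.isLocalization_isLocalization_atPrime_isLocalization M _ _
  haveI : IsLocalization.AtPrime (Localization.AtPrime (q.map (algebraMap B S))) q := by
    convert this
    exact hcomap.symm
  let e : Localization.AtPrime q ≃ₐ[B] Localization.AtPrime (q.map (algebraMap B S)) :=
    IsLocalization.algEquiv q.primeCompl _ _
  exact ⟨e.toMulEquiv.isDomain _, IsIntegrallyClosed.of_equiv e.symm.toRingEquiv⟩

theorem isIntegrallyClosed_mvPolynomial_fin (P : Type u) [CommRing P] [IsDomain P]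
    [IsIntegrallyClosed P] (n : ℕ) : IsIntegrallyClosed (MvPolynomial (Fin n) P) := by
  induction n with
  | zero => exact IsIntegrallyClosed.of_equiv (MvPolynomial.isEmptyAlgEquiv P (Fin 0)).symm.toRingEquiv
  | succ n ih =>
    haveI := ih
    exact IsIntegrallyClosed.of_equiv (MvPolynomial.finSuccEquiv P n).symm.toRingEquiv

/-- The local rings of a smooth algebra over a normal domain are normal domains. -/
theorem isDomain_and_isIntegrallyClosed_atPrime_of_smooth
    (P : Type u) [CommRing P] [IsDomain P] [IsIntegrallyClosed P]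
    {B : Type u} [CommRing B] [Algebra P B] [Algebra.Smooth P B] (q : Ideal B) [q.IsPrime] :
    IsDomain (Localization.AtPrime q) ∧ IsIntegrallyClosed (Localization.AtPrime q) := by
  obtain ⟨f, hfq, n, _, _, _⟩ :=
    Algebra.IsSmoothAt.exists_isStandardEtale_mvPolynomial (R := P) (p := q)
  haveI := isIntegrallyClosed_mvPolynomial_fin P n
  refine transfer (Submonoid.powers f) (Localization.Away f) q
    ((Ideal.disjoint_powers_iff_notMem_of_isPrime _).mpr hfq) ?_
  intro q' _
  exact isDomain_and_isIntegrallyClosed_atPrime_of_etale (MvPolynomial (Fin n) P) q'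

end L3


section Descent

/-- Normality descends along faithfully flat ring maps. -/
theorem isDomain_and_isIntegrallyClosed_of_faithfullyFlat (A' B' : Type*) [CommRing A']
    [CommRing B'] [Algebra A' B'] [Module.FaithfullyFlat A' B'] [IsDomain B']
    [IsIntegrallyClosed B'] : IsDomain A' ∧ IsIntegrallyClosed A' := by
  have hinj : Function.Injective (algebraMap A' B') :=
    FaithfulSMul.algebraMap_injective A' B'
  haveI hdom : IsDomain A' := hinj.isDomain (algebraMap A' B')
  refine ⟨hdom, ?_⟩
  rw [isIntegrallyClosed_iff (FractionRing A')]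
  intro x hx
  have hg : Function.Injective
      ((algebraMap B' (FractionRing B')).comp (algebraMap A' B')) :=
    (IsFractionRing.injective B' (FractionRing B')).comp hinj
  let φ : FractionRing A' →+* FractionRing B' := IsFractionRing.lift hg
  have hφ : ∀ a : A', φ (algebraMap A' (FractionRing A') a) =
      algebraMap B' (FractionRing B') (algebraMap A' B' a) := fun a =>
    IsFractionRing.lift_algebraMap hg a
  -- φ x is integral over B'
  have hint : IsIntegral B' (φ x) := by
    obtain ⟨p, hp, hpx⟩ := hx
    refine ⟨p.map (algebraMap A' B'), hp.map _, ?_⟩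
    rw [Polynomial.eval₂_map]
    have h1 := congrArg φ hpx
    rw [Polynomial.hom_eval₂, map_zero] at h1
    have h2 : φ.comp (algebraMap A' (FractionRing A')) =
        (algebraMap B' (FractionRing B')).comp (algebraMap A' B') := RingHom.ext hφ
    rw [h2] at h1
    exact h1
  obtain ⟨y, hy⟩ := (isIntegrallyClosed_iff (FractionRing B')).mp inferInstance hint
  obtain ⟨a, b, hb, rfl⟩ := IsFractionRing.div_surjective A' x
  have hb0 : b ≠ 0 := nonZeroDivisors.ne_zero hb
  have hb1 : algebraMap B' (FractionRing B') (algebraMap A' B' b) ≠ 0 := by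
    intro h0
    exact hb0 (hg (by rw [RingHom.comp_apply, h0, map_zero]))
  rw [map_div₀, hφ, hφ, eq_div_iff hb1, ← map_mul] at hy
  have hy' : y * algebraMap A' B' b = algebraMap A' B' a :=
    IsFractionRing.injective B' (FractionRing B') hy
  have hmem : a ∈ (Ideal.span {b} : Ideal A') := by
    rw [← Ideal.comap_map_eq_self_of_faithfullyFlat (B := B') (Ideal.span {b}), Ideal.mem_comap,
      Ideal.map_span, Set.image_singleton, Ideal.mem_span_singleton']
    exact ⟨y, hy'⟩
  rw [Ideal.mem_span_singleton'] at hmem
  obtain ⟨c, rfl⟩ := hmem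
  refine ⟨c, ?_⟩
  rw [map_mul, mul_div_assoc, div_self, mul_one]
  intro h0
  exact hb0 (IsFractionRing.injective A' (FractionRing A') (by rw [h0, map_zero]))

end Descent

end Groth.Agent.Lib.Helper17.SmoothNormal
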