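import Groth.Agent.Lib.Helper17.Unibranch
import Mathlib

/-!
# Criterion for geometric unibranchness via an explicit normalization
-/

set_option autoImplicit false
set_option backward.isDefEq.respectTransparency.types false
universe u

namespace Groth.Agent.Lib.Helper17.GeomUnibranch

open TensorProduct IsLocalRing

/-- Uniqueness of normalization: a normal domain `D'`, integral over the domain `A₀`, injective,
and with the same fraction field, is the integral closure of `A₀` in its fraction field. -/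
theorem nonempty_algEquiv_integralClosure (A₀ : Type u) [CommRing A₀] [IsDomain A₀]
    (D' : Type u) [CommRing D'] [IsDomain D'] [IsIntegrallyClosed D'] [Algebra A₀ D']
    [Algebra.IsIntegral A₀ D']
    (hinj : Function.Injective (algebraMap A₀ D'))
    (hfrac : ∀ y : D', ∃ d : A₀, d ≠ 0 ∧ ∃ d₂ : A₀, algebraMap A₀ D' d * y = algebraMap A₀ D' d₂) :
    Nonempty (integralClosure A₀ (FractionRing A₀) ≃ₐ[A₀] D') := by
  have hinjL : Function.Injective (algebraMap A₀ (FractionRing D')) := by
    rw [IsScalarTower.algebraMap_eq A₀ D' (FractionRing D')]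
    exact (IsFractionRing.injective D' (FractionRing D')).comp hinj
  haveI : FaithfulSMul A₀ (FractionRing D') := (faithfulSMul_iff_algebraMap_injective _ _).mpr hinjL
  haveI : IsFractionRing A₀ (FractionRing D') := by
    refine IsFractionRing.of_field (R := A₀) (K := FractionRing D') (fun z => ?_)
    obtain ⟨a', b', hb', rfl⟩ := IsFractionRing.div_surjective (A := D') z
    obtain ⟨da, hda, α, hα⟩ := hfrac a'
    obtain ⟨db, hdb, β, hβ⟩ := hfrac b'
    have hb0 : b' ≠ 0 := nonZeroDivisors.ne_zero hb'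
    refine ⟨α * db, β * da, ?_⟩
    have h1 : algebraMap A₀ (FractionRing D') db ≠ 0 := fun h => hdb (hinjL (by rw [h, map_zero]))
    have h2 : algebraMap A₀ (FractionRing D') da ≠ 0 := fun h => hda (hinjL (by rw [h, map_zero]))
    have h3 : algebraMap D' (FractionRing D') b' ≠ 0 := fun h =>
      hb0 (IsFractionRing.injective D' (FractionRing D') (by rw [h, map_zero]))
    have hα' : algebraMap A₀ (FractionRing D') α =
        algebraMap A₀ (FractionRing D') da * algebraMap D' (FractionRing D') a' := by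
      rw [IsScalarTower.algebraMap_apply A₀ D' (FractionRing D'), ← hα, map_mul,
        ← IsScalarTower.algebraMap_apply]
    have hβ' : algebraMap A₀ (FractionRing D') β =
        algebraMap A₀ (FractionRing D') db * algebraMap D' (FractionRing D') b' := by
      rw [IsScalarTower.algebraMap_apply A₀ D' (FractionRing D'), ← hβ, map_mul,
        ← IsScalarTower.algebraMap_apply]
    rw [map_mul, map_mul, hα', hβ']
    field_simp
  let ψ : FractionRing A₀ ≃ₐ[A₀] FractionRing D' := FractionRing.algEquiv A₀ (FractionRing D')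
  exact ⟨ψ.mapIntegralClosure.trans
    (IsIntegralClosure.equiv A₀ (integralClosure A₀ (FractionRing D')) (FractionRing D') D')⟩

/-- **Criterion**: a local domain `D` with a normal local domain `D'` integral over it, with the
same fraction field and purely inseparable residue field extension, is geometrically unibranch. -/
theorem isGeomUnibranch_of_normalization {D : Type u} [CommRing D] [IsDomain D] [IsLocalRing D]
    (D' : Type u) [CommRing D'] [IsDomain D'] [IsIntegrallyClosed D'] [Algebra D D']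
    [Algebra.IsIntegral D D'] [IsLocalRing D']
    (hinj : Function.Injective (algebraMap D D'))
    (hfrac : ∀ y : D', ∃ d : D, d ≠ 0 ∧ ∃ d₂ : D, algebraMap D D' d * y = algebraMap D D' d₂)
    (e : ℕ) (he : e = 1 ∨ (e.Prime ∧ (e : D') ∈ maximalIdeal D'))
    (hpi : ∀ y : D', ∃ (n : ℕ) (d : D), y ^ (e ^ n) - algebraMap D D' d ∈ maximalIdeal D') :
    CAlg2.IsGeomUnibranch D := by
  have hnil : nilradical D = ⊥ := nilradical_eq_zero D
  haveI hprime : (nilradical D).IsPrime := hnil ▸ Ideal.isPrime_bot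
  haveI hdomA : IsDomain (CAlg2.red D) := Ideal.Quotient.isDomain _
  have hmkinj : Function.Injective (Ideal.Quotient.mk (nilradical D)) := by
    rw [injective_iff_map_eq_zero]
    intro x hx
    rw [Ideal.Quotient.eq_zero_iff_mem, hnil, Ideal.mem_bot] at hx
    exact hx
  -- D' as an algebra over red D
  let ρ : CAlg2.red D →+* D' := Ideal.Quotient.lift (nilradical D) (algebraMap D D') (by
    intro a ha
    rw [hnil, Ideal.mem_bot] at ha
    rw [ha, map_zero])
  letI algA : Algebra (CAlg2.red D) D' := ρ.toAlgebra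
  have hρ : ∀ a : D, algebraMap (CAlg2.red D) D' (Ideal.Quotient.mk _ a) = algebraMap D D' a :=
    fun a => rfl
  haveI : IsScalarTower D (CAlg2.red D) D' := IsScalarTower.of_algebraMap_eq (fun a => (hρ a).symm)
  haveI : Algebra.IsIntegral (CAlg2.red D) D' :=
    ⟨fun y => (Algebra.IsIntegral.isIntegral (R := D) y).tower_top⟩
  have hinjA : Function.Injective (algebraMap (CAlg2.red D) D') := by
    rw [injective_iff_map_eq_zero]
    intro x hx
    obtain ⟨a, rfl⟩ := Ideal.Quotient.mk_surjective x
    rw [hρ] at hx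
    rw [hinj (by rw [hx, map_zero] : algebraMap D D' a = algebraMap D D' 0), map_zero]
  have hfracA : ∀ y : D', ∃ d : CAlg2.red D, d ≠ 0 ∧ ∃ d₂ : CAlg2.red D,
      algebraMap (CAlg2.red D) D' d * y = algebraMap (CAlg2.red D) D' d₂ := by
    intro y
    obtain ⟨d, hd, d₂, h⟩ := hfrac y
    refine ⟨Ideal.Quotient.mk _ d, fun h0 => hd (hmkinj (by rw [h0, map_zero])),
      Ideal.Quotient.mk _ d₂, ?_⟩
    rw [hρ, hρ, h]
  obtain ⟨φ⟩ := nonempty_algEquiv_integralClosure (CAlg2.red D) D' hinjA hfracA
  haveI hlocN : IsLocalRing (CAlg2.normRed D) := φ.symm.toRingEquiv.isLocalRing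
  refine ⟨⟨hdomA, hlocN⟩, ?_⟩
  intro m' hm' x
  obtain ⟨ν, rfl⟩ := Ideal.Quotient.mk_surjective x
  obtain ⟨n, d, hd⟩ := hpi (φ ν)
  have hm'eq : m' = maximalIdeal (CAlg2.normRed D) := IsLocalRing.eq_maximalIdeal hm'
  -- transfer of non-units
  have hmem : ∀ z : CAlg2.normRed D, φ z ∈ maximalIdeal D' → z ∈ m' := by
    intro z hz
    rw [hm'eq, mem_maximalIdeal, mem_nonunits_iff]
    intro hu
    exact (mem_maximalIdeal _).mp hz (hu.map φ)
  have hkey : ν ^ (e ^ n) - algebraMap (CAlg2.red D) (CAlg2.normRed D) (Ideal.Quotient.mk _ d) ∈ m' := by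
    apply hmem
    rw [map_sub, map_pow, φ.commutes, hρ]
    exact hd
  rcases he with he1 | ⟨hp, hpm⟩
  · subst he1
    refine ⟨0, d, ?_⟩
    rw [pow_zero, pow_one]
    simp only [one_pow, pow_one] at hkey
    exact (Ideal.Quotient.eq.mpr hkey).symm
  · have hpN : (e : CAlg2.normRed D) ∈ m' := by
      apply hmem
      rw [map_natCast]
      exact hpm
    letI : Field (CAlg2.normRed D ⧸ m') := Ideal.Quotient.field m'
    have h0 : ((e : ℕ) : CAlg2.normRed D ⧸ m') = 0 := by
      rw [← map_natCast (Ideal.Quotient.mk m'), Ideal.Quotient.eq_zero_iff_mem]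
      exact hpN
    haveI : CharP (CAlg2.normRed D ⧸ m') e := (CharP.charP_iff_prime_eq_zero hp).mpr h0
    haveI : ExpChar (CAlg2.normRed D ⧸ m') e := ExpChar.prime hp
    rw [ringExpChar.eq (CAlg2.normRed D ⧸ m') e]
    refine ⟨n, d, ?_⟩
    rw [← map_pow]
    exact (Ideal.Quotient.eq.mpr hkey).symm

/-- Common denominators in `R' ⊗ C` when `R'` has denominators in `R`. -/
theorem exists_smul_eq_includeRight {R R' C : Type*} [CommRing R] [IsDomain R] [CommRing R']
    [CommRing C] [Algebra R R'] [Algebra R C]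
    (hfracR : ∀ r' : R', ∃ b : R, b ≠ 0 ∧ ∃ a : R, algebraMap R R' b * r' = algebraMap R R' a)
    (x : R' ⊗[R] C) : ∃ b : R, b ≠ 0 ∧ ∃ c : C, b • x = 1 ⊗ₜ[R] c := by
  induction x using TensorProduct.induction_on with
  | zero => exact ⟨1, one_ne_zero, 0, by simp⟩
  | tmul r' c =>
    obtain ⟨b, hb, a, hab⟩ := hfracR r'
    refine ⟨b, hb, a • c, ?_⟩
    rw [TensorProduct.smul_tmul', Algebra.smul_def, hab, TensorProduct.tmul_smul,
      TensorProduct.smul_tmul', Algebra.smul_def, mul_one]
  | add x y hx hy =>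
    obtain ⟨b₁, hb₁, c₁, h₁⟩ := hx
    obtain ⟨b₂, hb₂, c₂, h₂⟩ := hy
    refine ⟨b₁ * b₂, mul_ne_zero hb₁ hb₂, b₂ • c₁ + b₁ • c₂, ?_⟩
    rw [smul_add, mul_comm b₁ b₂, mul_smul, h₁, mul_comm b₂ b₁, mul_smul, h₂,
      TensorProduct.tmul_add, TensorProduct.tmul_smul, TensorProduct.tmul_smul]

end Groth.Agent.Lib.Helper17.GeomUnibranch
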