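import Mathlib
import Groth.Agent.S0120

set_option autoImplicit false
set_option backward.isDefEq.respectTransparency.types false
universe u

namespace Groth.Agent.Lib.Helper17.RegFlat

open IsLocalRing TensorProduct

variable {A B : Type u} [CommRing A] [CommRing B] [Algebra A B]

/-- For `B` flat over `A`, `B ⊗[A] I ≃ I·B`. -/
noncomputable def tensorIdealEquiv [Module.Flat A B] (I : Ideal A) :
    B ⊗[A] I ≃ₗ[B] (I.map (algebraMap A B)) := by
  let φ : B ⊗[A] I →ₗ[B] B :=
    (AlgebraTensorModule.rid A B B).toLinearMap ∘ₗ ((Submodule.subtype I).baseChange B)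
  have hφ : Function.Injective φ := by
    refine (AlgebraTensorModule.rid A B B).injective.comp ?_
    exact Module.Flat.lTensor_preserves_injective_linearMap _ (Submodule.injective_subtype I)
  have hr : LinearMap.range φ = I.map (algebraMap A B) := by
    apply le_antisymm
    · rintro _ ⟨t, rfl⟩
      induction t using TensorProduct.induction_on with
      | zero => simp
      | tmul b i =>
        have : φ (b ⊗ₜ i) = b * algebraMap A B i := by
          simp [φ, Algebra.smul_def, mul_comm]
        rw [this]
        exact Ideal.mul_mem_left _ _ (Ideal.mem_map_of_mem _ i.2)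
      | add x y hx hy => rw [map_add]; exact Ideal.add_mem _ hx hy
    · rw [Ideal.map, Ideal.span_le]
      rintro _ ⟨i, hi, rfl⟩
      refine ⟨1 ⊗ₜ ⟨i, hi⟩, ?_⟩
      simp [φ, Algebra.smul_def]
  exact (LinearEquiv.ofInjective φ hφ).trans (LinearEquiv.ofEq _ _ hr)

lemma spanFinrank_maximalIdeal_eq [IsLocalRing A] [IsLocalRing B]
    [IsLocalHom (algebraMap A B)] [IsNoetherianRing A] [IsNoetherianRing B] [Module.Flat A B]
    (hmap : (maximalIdeal A).map (algebraMap A B) = maximalIdeal B) :
    (maximalIdeal B).spanFinrank = (maximalIdeal A).spanFinrank := by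
  rw [← TensorProduct.spanFinrank_top_eq_of_residueField _ (maximalIdeal B).fg_of_isNoetherianRing,
    ← TensorProduct.spanFinrank_top_eq_of_residueField _ (maximalIdeal A).fg_of_isNoetherianRing,
    ← Module.finrank_eq_spanFinrank_of_free, ← Module.finrank_eq_spanFinrank_of_free]
  let e₁ : B ⊗[A] (maximalIdeal A) ≃ₗ[B] maximalIdeal B :=
    (tensorIdealEquiv (maximalIdeal A)).trans (LinearEquiv.ofEq _ _ hmap)
  let e₂ : ResidueField B ⊗[B] (maximalIdeal B) ≃ₗ[ResidueField B]
      ResidueField B ⊗[B] (B ⊗[A] (maximalIdeal A)) :=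
    (LinearEquiv.baseChange B (ResidueField B) _ _ e₁).symm
  let e₃ : ResidueField B ⊗[B] (B ⊗[A] (maximalIdeal A)) ≃ₗ[ResidueField B]
      ResidueField B ⊗[A] (maximalIdeal A) :=
    AlgebraTensorModule.cancelBaseChange A B (ResidueField B) (ResidueField B) (maximalIdeal A)
  let e₄ : ResidueField B ⊗[ResidueField A] (ResidueField A ⊗[A] (maximalIdeal A))
      ≃ₗ[ResidueField B] ResidueField B ⊗[A] (maximalIdeal A) :=
    AlgebraTensorModule.cancelBaseChange A (ResidueField A) (ResidueField B) (ResidueField B)
      (maximalIdeal A)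
  rw [(e₂.trans (e₃.trans e₄.symm)).finrank_eq, Module.finrank_baseChange]

lemma isRegularLocalRing_iff_of_flat_unramified [IsLocalRing A] [IsLocalRing B]
    [IsLocalHom (algebraMap A B)] [IsNoetherianRing A] [IsNoetherianRing B] [Module.Flat A B]
    [Algebra.EssFiniteType A B] [Algebra.FormallyUnramified A B] :
    IsRegularLocalRing B ↔ IsRegularLocalRing A := by
  have hmap := Algebra.FormallyUnramified.map_maximalIdeal (R := A) (S := B)
  rw [isRegularLocalRing_iff, isRegularLocalRing_iff, spanFinrank_maximalIdeal_eq hmap,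
    Groth.Agent.S0120.alg_dim_eq (A := A) (B := B)]

end Groth.Agent.Lib.Helper17.RegFlat
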