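import Groth.Agent.Lib.Helper17.UnibranchEtaleFP
import Mathlib

/-!
# Scheme-level consequences: étale over geometrically unibranch

* `isDomain_localization_atPrime''`: local rings of an étale `A`-algebra at primes over `p`,
  with `A_p` a geometrically unibranch domain, are domains (no domain assumption on `A`).
* `isDomain_stalk_of_etale`: scheme version.
* topological lemmas used for EGA IV 18.10.7.
-/

set_option autoImplicit false
universe u

namespace Groth.Agent.Lib.Helper17.UnibranchScheme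

open TensorProduct AlgebraicGeometry CategoryTheory

open IsLocalRing in
/-- Local rings of an étale algebra at primes over a geometrically unibranch domain point
are domains (`R` any localization of `A` at `p`, assumed to be a domain). -/
theorem isDomain_localization_atPrime'' {A C : Type u} [CommRing A] [CommRing C]
    [Algebra A C] [Algebra.Etale A C] (p : Ideal A) [p.IsPrime]
    (R : Type u) [CommRing R] [Algebra A R] [IsLocalization.AtPrime R p] [IsLocalRing R]
    [IsDomain R] (hR : CAlg2.IsGeomUnibranch R)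
    (Q : Ideal C) [Q.IsPrime] (hQ : Q.comap (algebraMap A C) = p) :
    IsDomain (Localization.AtPrime Q) := by
  letI algC : Algebra C (R ⊗[A] C) := Algebra.TensorProduct.rightAlgebra
  haveI : IsLocalization (Algebra.algebraMapSubmonoid C p.primeCompl) (R ⊗[A] C) :=
    IsLocalization.tensorRight (S := C) (A := R) p.primeCompl
  have hdisj : Disjoint (Algebra.algebraMapSubmonoid C p.primeCompl : Set C) (Q : Set C) := by
    rw [Set.disjoint_left]
    rintro _ ⟨a, ha, rfl⟩ haQ
    apply ha
    rw [← hQ]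
    exact haQ
  have hQp : (Q.map (algebraMap C (R ⊗[A] C))).IsPrime :=
    IsLocalization.isPrime_of_isPrime_disjoint _ _ Q ‹_› hdisj
  have hcomap : (Q.map (algebraMap C (R ⊗[A] C))).comap (algebraMap C _) = Q :=
    IsLocalization.comap_map_of_isPrime_disjoint _ _ ‹_› hdisj
  have hover : (Q.map (algebraMap C (R ⊗[A] C))).comap
      (algebraMap R _) = maximalIdeal R := by
    have h1 : ((Q.map (algebraMap C (R ⊗[A] C))).comap (algebraMap R _)).under A = p := by
      rw [Ideal.under_def, Ideal.comap_comap, ← IsScalarTower.algebraMap_eq,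
        IsScalarTower.algebraMap_eq A C (R ⊗[A] C), ← Ideal.comap_comap, hcomap, hQ]
    rw [← IsLocalization.map_comap p.primeCompl R
      ((Q.map (algebraMap C (R ⊗[A] C))).comap (algebraMap R _)), h1,
      IsLocalization.AtPrime.map_eq_maximalIdeal p R]
  haveI hdom := Groth.Agent.Lib.Helper17.Unibranch.isDomain_localization_of_etale_of_isGeomUnibranch
    hR (Q.map (algebraMap C (R ⊗[A] C))) hover
  haveI hloc : IsLocalization.AtPrime (Localization.AtPrime (Q.map (algebraMap C (R ⊗[A] C))))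
      ((Q.map (algebraMap C (R ⊗[A] C))).comap (algebraMap C _)) :=
    IsLocalization.isLocalization_isLocalization_atPrime_isLocalization
      (Algebra.algebraMapSubmonoid C p.primeCompl) _ _
  have heq : ((Q.map (algebraMap C (R ⊗[A] C))).comap
      (algebraMap C _)).primeCompl = Q.primeCompl := by
    ext x
    show x ∉ _ ↔ x ∉ _
    rw [hcomap]
  rw [IsLocalization.AtPrime, heq] at hloc
  exact (IsLocalization.algEquiv Q.primeCompl (Localization.AtPrime Q)
    (Localization.AtPrime (Q.map (algebraMap C (R ⊗[A] C))))).injective.isDomain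

set_option backward.defeqAttrib.useBackward true in
set_option backward.isDefEq.respectTransparency false in
/-- Stalks of a scheme étale over a geometrically unibranch domain point are domains. -/
theorem isDomain_stalk_of_etale {X Y : Scheme.{u}} (f : X ⟶ Y) [Etale f] (x : X)
    (hdom : IsDomain (Y.presheaf.stalk (f x)))
    (hY : CAlg2.IsGeomUnibranch (Y.presheaf.stalk (f x))) :
    IsDomain (X.presheaf.stalk x) := by
  obtain ⟨_, ⟨U, hU, rfl⟩, hxU, -⟩ :=
    Y.isBasis_affineOpens.exists_subset_of_mem_open (Set.mem_univ (f x)) isOpen_univ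
  obtain ⟨_, ⟨V, hV, rfl⟩, hxV, hVU⟩ :=
    X.isBasis_affineOpens.exists_subset_of_mem_open hxU (U.2.preimage f.continuous)
  have het := HasRingHomProperty.appLE (P := @Etale) f inferInstance ⟨U, hU⟩ ⟨V, hV⟩ hVU
  algebraize [(f.appLE U V hVU).hom]
  haveI : Algebra.Etale Γ(Y, U) Γ(X, V) := RingHom.etale_algebraMap.mp het
  let algR := Y.presheaf.algebra_section_stalk ⟨f x, hVU hxV⟩
  have hlocR := hU.isLocalization_stalk ⟨f x, hVU hxV⟩
  let algS := X.presheaf.algebra_section_stalk ⟨x, hxV⟩
  have hlocS := hV.isLocalization_stalk ⟨x, hxV⟩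
  haveI := isDomain_localization_atPrime'' (A := Γ(Y, U)) (C := Γ(X, V))
    (hU.primeIdealOf ⟨f x, hVU hxV⟩).asIdeal (Y.presheaf.stalk (f x)) hY
    (hV.primeIdealOf ⟨x, hxV⟩).asIdeal
    congr($(IsAffineOpen.comap_primeIdealOf_appLE U hU V hV hVU hxV).1)
  exact (IsLocalization.algEquiv (hV.primeIdealOf ⟨x, hxV⟩).asIdeal.primeCompl
    (X.presheaf.stalk x)
    (Localization.AtPrime (hV.primeIdealOf ⟨x, hxV⟩).asIdeal)).injective.isDomain

/-- Unramified (formally unramified and locally of finite type) morphisms are locally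
quasi-finite. -/
theorem locallyQuasiFinite_of_unramified {X Y : Scheme.{u}} (f : X ⟶ Y) [FormallyUnramified f]
    [LocallyOfFiniteType f] : LocallyQuasiFinite f := by
  rw [HasRingHomProperty.iff_appLE (P := @LocallyQuasiFinite)]
  intro U V e
  have h1 := HasRingHomProperty.appLE (P := @FormallyUnramified) f inferInstance U V e
  have h2 := HasRingHomProperty.appLE (P := @LocallyOfFiniteType) f inferInstance U V e
  algebraize [(f.appLE U.1 V.1 e).hom]
  exact RingHom.quasiFinite_algebraMap.mpr inferInstance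

/-- If the stalk at `x` is a domain, then two generizations of `x` lying in the same (discrete)
fibre over the generic point coincide. -/
theorem eq_of_specializes_of_isDomain_stalk {X Y : Scheme.{u}} (f : X ⟶ Y) [IsIntegral Y]
    [LocallyQuasiFinite f] (x : X) [IsDomain (X.presheaf.stalk x)] {e e' : X}
    (he : e ⤳ x) (he' : e' ⤳ x) (hfe : f e = genericPoint Y) (hfe' : f e' = genericPoint Y) :
    e = e' := by
  have key : ∀ e : X, e ⤳ x → f e = genericPoint Y →
      X.fromSpecStalk x ⟨⊥, Ideal.isPrime_bot⟩ = e := by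
    intro e he hfe
    obtain ⟨P, hP⟩ : e ∈ Set.range (X.fromSpecStalk x) := by
      rw [Scheme.range_fromSpecStalk]
      exact he
    have h0 : (⟨⊥, Ideal.isPrime_bot⟩ : PrimeSpectrum (X.presheaf.stalk x)) ⤳ P :=
      (PrimeSpectrum.le_iff_specializes _ _).mp ((PrimeSpectrum.asIdeal_le_asIdeal _ _).mp bot_le)
    have h1 : X.fromSpecStalk x ⟨⊥, Ideal.isPrime_bot⟩ ⤳ e := by
      rw [← hP]
      exact Specializes.map h0 (X.fromSpecStalk x).continuous
    have h2 : f (X.fromSpecStalk x ⟨⊥, Ideal.isPrime_bot⟩) = genericPoint Y := by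
      have h3 : f (X.fromSpecStalk x ⟨⊥, Ideal.isPrime_bot⟩) ⤳ genericPoint Y :=
        hfe ▸ h1.map f.continuous
      exact (h3.antisymm (genericPoint_specializes _)).eq
    have := (f.isDiscrete_preimage_singleton (genericPoint Y)).to_subtype
    have h4 : (⟨_, h2⟩ : f ⁻¹' {genericPoint Y}) ⤳ ⟨e, hfe⟩ :=
      (subtype_specializes_iff _ _).mpr h1
    exact congrArg Subtype.val h4.eq
  rw [← key e he hfe, ← key e' he' hfe']

/-- Affine neighbourhoods `x ∈ V ⊆ f⁻¹ U`. -/
theorem exists_affine_nhds {X Y : Scheme.{u}} (f : X ⟶ Y) (x : X) :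
    ∃ (U : Y.Opens) (_ : IsAffineOpen U) (V : X.Opens) (_ : IsAffineOpen V)
      (_ : V ≤ f ⁻¹ᵁ U), x ∈ V := by
  obtain ⟨_, ⟨U, hU, rfl⟩, hxU, -⟩ :=
    Y.isBasis_affineOpens.exists_subset_of_mem_open (Set.mem_univ (f x)) isOpen_univ
  obtain ⟨_, ⟨V, hV, rfl⟩, hxV, hVU⟩ :=
    X.isBasis_affineOpens.exists_subset_of_mem_open hxU (U.2.preimage f.continuous)
  exact ⟨U, hU, V, hV, hVU, hxV⟩

/-- Local finiteness of fibres of a locally quasi-finite morphism. -/
theorem exists_open_finite_fibre {X Y : Scheme.{u}} (f : X ⟶ Y) [LocallyQuasiFinite f]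
    (y : Y) (x : X) : ∃ W : X.Opens, x ∈ W ∧ {e | e ∈ W ∧ f e = y}.Finite := by
  obtain ⟨U, hU, V, hV, hVU, hxV⟩ := exists_affine_nhds f x
  refine ⟨V, hxV, ?_⟩
  by_cases hy : y ∈ U
  · have : IsAffine U.toScheme := hU
    have : IsAffine V.toScheme := hV
    have hfin := (f.resLE U V hVU).finite_preimage_singleton ⟨y, hy⟩
    refine (hfin.image V.ι).subset ?_
    rintro e ⟨heV, hfe⟩
    obtain ⟨w, hw⟩ : ∃ w : V.toScheme, V.ι w = e := ⟨⟨e, heV⟩, rfl⟩
    refine ⟨w, ?_, hw⟩
    have h1 : U.ι ((f.resLE U V hVU) w) = f (V.ι w) := by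
      rw [← Scheme.Hom.comp_apply, Scheme.Hom.resLE_comp_ι, Scheme.Hom.comp_apply]
    exact Subtype.ext (h1.trans (hw ▸ hfe))
  · convert Set.finite_empty
    ext e
    simp only [Set.mem_ofPred_eq, Set.mem_empty_iff_false, iff_false, not_and]
    rintro heV rfl
    exact hy (hVU heV)

section Topology

variable {X : Type*} [TopologicalSpace X]

/-- If `E` is locally finite, the set of specializations of points of `E` is closed. -/
theorem isClosed_specializations_of_locally_finite (E : Set X)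
    (hLF : ∀ x : X, ∃ W : Set X, IsOpen W ∧ x ∈ W ∧ (W ∩ E).Finite) :
    IsClosed {x : X | ∃ e ∈ E, e ⤳ x} := by
  rw [← isOpen_compl_iff, isOpen_iff_forall_mem_open]
  intro x hx
  obtain ⟨W, hWo, hxW, hfin⟩ := hLF x
  have hT : IsClosed (⋃ e ∈ W ∩ E, closure ({e} : Set X)) :=
    hfin.isClosed_biUnion (fun _ _ => isClosed_closure)
  refine ⟨W ∩ (⋃ e ∈ W ∩ E, closure ({e} : Set X))ᶜ, ?_, hWo.inter hT.isOpen_compl, hxW, ?_⟩
  · rintro z ⟨hzW, hzT⟩ ⟨e, heE, hez⟩
    apply hzT
    simp only [Set.mem_iUnion]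
    exact ⟨e, ⟨hez.mem_open hWo hzW, heE⟩, specializes_iff_mem_closure.mp hez⟩
  · intro hxT
    simp only [Set.mem_iUnion] at hxT
    obtain ⟨e, ⟨_, heE⟩, hex⟩ := hxT
    exact hx ⟨e, heE, specializes_iff_mem_closure.mpr hex⟩

/-- If every point has a unique generization in the locally finite set `E`, then closures of
points of `E` are open. -/
theorem isOpen_closure_singleton_of_unique (E : Set X)
    (hLF : ∀ x : X, ∃ W : Set X, IsOpen W ∧ x ∈ W ∧ (W ∩ E).Finite)
    (hS : ∀ x : X, ∃ e ∈ E, e ⤳ x)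
    (huniq : ∀ x : X, ∀ e ∈ E, ∀ e' ∈ E, e ⤳ x → e' ⤳ x → e = e')
    (e : X) (he : e ∈ E) : IsOpen (closure ({e} : Set X)) := by
  rw [isOpen_iff_forall_mem_open]
  intro x hx
  obtain ⟨W, hWo, hxW, hfin⟩ := hLF x
  have hT : IsClosed (⋃ e' ∈ (W ∩ E) \ {e}, closure ({e'} : Set X)) :=
    (hfin.subset Set.diff_subset).isClosed_biUnion (fun _ _ => isClosed_closure)
  refine ⟨W ∩ (⋃ e' ∈ (W ∩ E) \ {e}, closure ({e'} : Set X))ᶜ, ?_,
    hWo.inter hT.isOpen_compl, hxW, ?_⟩
  · rintro z ⟨hzW, hzT⟩
    obtain ⟨e'', he''E, he''z⟩ := hS z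
    by_cases h : e'' = e
    · rw [← h]
      exact specializes_iff_mem_closure.mp he''z
    · exfalso
      apply hzT
      simp only [Set.mem_iUnion]
      exact ⟨e'', ⟨⟨he''z.mem_open hWo hzW, he''E⟩, h⟩, specializes_iff_mem_closure.mp he''z⟩
  · intro hxT
    simp only [Set.mem_iUnion] at hxT
    obtain ⟨e', ⟨⟨_, he'E⟩, hne⟩, he'x⟩ := hxT
    exact hne (huniq x e' he'E e he (specializes_iff_mem_closure.mpr he'x)
      (specializes_iff_mem_closure.mpr hx))

/-- Connected + unique generization in a locally finite set ⇒ irreducible. -/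
theorem irreducibleSpace_of_unique [PreconnectedSpace X] (E : Set X)
    (hLF : ∀ x : X, ∃ W : Set X, IsOpen W ∧ x ∈ W ∧ (W ∩ E).Finite)
    (hS : ∀ x : X, ∃ e ∈ E, e ⤳ x)
    (huniq : ∀ x : X, ∀ e ∈ E, ∀ e' ∈ E, e ⤳ x → e' ⤳ x → e = e')
    (e : X) (he : e ∈ E) : IrreducibleSpace X := by
  have h1 : IsClopen (closure ({e} : Set X)) :=
    ⟨isClosed_closure, isOpen_closure_singleton_of_unique E hLF hS huniq e he⟩
  have h2 : closure ({e} : Set X) = Set.univ :=
    h1.eq_univ ⟨e, subset_closure (Set.mem_singleton e)⟩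
  rw [irreducibleSpace_def, Set.top_eq_univ, ← h2]
  exact isIrreducible_singleton.closure

end Topology

end Groth.Agent.Lib.Helper17.UnibranchScheme
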