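import Mathlib
import Groth.Prelude.Def_CAlg2
import Groth.Agent.Lib.Helper17.SmoothNormal

set_option autoImplicit false

open TensorProduct

namespace Groth.Agent.Lib.Helper17.Unibranch

section U

variable {R R' C : Type*} [CommRing R] [CommRing R'] [CommRing C] [Algebra R R'] [Algebra R C]

/-- If `x ^ N ≡ 1 ⊗ c` mod an ideal, the same holds for higher powers. -/
theorem pow_sub_mem_of_sub_mem {D : Type*} [CommRing D] (I : Ideal D) {a b : D} (h : a - b ∈ I)
    (N : ℕ) : a ^ N - b ^ N ∈ I :=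
  Ideal.mem_of_dvd _ (sub_dvd_pow_sub_pow a b N) h

/-- Purely inseparable residue extension: every element of `R' ⊗ C` has a `e^n`-th power congruent
to an element of `C` modulo `m' (R' ⊗ C)`. -/
theorem exists_pow_sub_mem (m' : Ideal R') (e : ℕ) (he : e = 1 ∨ (e.Prime ∧ (e : R') ∈ m'))
    (hpi : ∀ r' : R', ∃ (n : ℕ) (r : R), r' ^ (e ^ n) - algebraMap R R' r ∈ m')
    (x : R' ⊗[R] C) :
    ∃ (n : ℕ) (c : C), x ^ (e ^ n) - 1 ⊗ₜ c ∈ m'.map (algebraMap R' (R' ⊗[R] C)) := by
  induction x using TensorProduct.induction_on with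
  | zero => exact ⟨0, 0, by simp⟩
  | tmul r' c =>
    obtain ⟨n, r, hr⟩ := hpi r'
    refine ⟨n, r • c ^ (e ^ n), ?_⟩
    have h1 : (r' ⊗ₜ[R] c) ^ (e ^ n) - 1 ⊗ₜ[R] (r • c ^ (e ^ n)) =
        algebraMap R' (R' ⊗[R] C) (r' ^ (e ^ n) - algebraMap R R' r) * (1 ⊗ₜ[R] (c ^ (e ^ n))) := by
      rw [Algebra.TensorProduct.tmul_pow, Algebra.TensorProduct.algebraMap_apply,
        Algebra.TensorProduct.tmul_mul_tmul, one_mul, Algebra.algebraMap_self, RingHom.id_apply,
        mul_one, sub_tmul, ← smul_tmul, Algebra.smul_def, mul_one]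
    rw [h1]
    exact Ideal.mul_mem_right _ _ (Ideal.mem_map_of_mem _ hr)
  | add x y hx hy =>
    obtain ⟨n₁, c₁, h₁⟩ := hx
    obtain ⟨n₂, c₂, h₂⟩ := hy
    have h₁' : x ^ (e ^ (n₁ + n₂)) - 1 ⊗ₜ[R] (c₁ ^ (e ^ n₂)) ∈
        m'.map (algebraMap R' (R' ⊗[R] C)) := by
      have := pow_sub_mem_of_sub_mem _ h₁ (e ^ n₂)
      rwa [← pow_mul, ← pow_add, Algebra.TensorProduct.tmul_pow, one_pow] at this
    have h₂' : y ^ (e ^ (n₁ + n₂)) - 1 ⊗ₜ[R] (c₂ ^ (e ^ n₁)) ∈
        m'.map (algebraMap R' (R' ⊗[R] C)) := by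
      have := pow_sub_mem_of_sub_mem _ h₂ (e ^ n₁)
      rwa [← pow_mul, ← pow_add, Algebra.TensorProduct.tmul_pow, one_pow, add_comm n₂] at this
    refine ⟨n₁ + n₂, c₁ ^ (e ^ n₂) + c₂ ^ (e ^ n₁), ?_⟩
    rcases he with he | ⟨hp, hpm⟩
    · subst he
      simp only [one_pow, pow_one] at h₁' h₂' ⊢
      rw [tmul_add]
      have : x + y - (1 ⊗ₜ[R] c₁ + 1 ⊗ₜ[R] c₂) = (x - 1 ⊗ₜ[R] c₁) + (y - 1 ⊗ₜ[R] c₂) := by ring
      rw [this]
      exact add_mem h₁' h₂'
    · obtain ⟨r, hr⟩ := exists_add_pow_prime_pow_eq hp x y (n₁ + n₂)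
      rw [hr, tmul_add]
      have : x ^ e ^ (n₁ + n₂) + y ^ e ^ (n₁ + n₂) + (e : R' ⊗[R] C) * x * y * r -
          (1 ⊗ₜ[R] (c₁ ^ e ^ n₂) + 1 ⊗ₜ[R] (c₂ ^ e ^ n₁)) =
          (x ^ e ^ (n₁ + n₂) - 1 ⊗ₜ[R] (c₁ ^ e ^ n₂)) + (y ^ e ^ (n₁ + n₂) - 1 ⊗ₜ[R] (c₂ ^ e ^ n₁))
          + (e : R' ⊗[R] C) * (x * y * r) := by ring
      rw [this]
      refine add_mem (add_mem h₁' h₂') (Ideal.mul_mem_right _ _ ?_)
      have : (e : R' ⊗[R] C) = algebraMap R' (R' ⊗[R] C) (e : R') := by simp
      rw [this]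
      exact Ideal.mem_map_of_mem _ hpm

/-- Uniqueness of primes of `R' ⊗ C` over a prime of `C`, among those containing `m'`. -/
theorem prime_eq_of_comap_eq (m' : Ideal R') (e : ℕ) (he : e = 1 ∨ (e.Prime ∧ (e : R') ∈ m'))
    (hpi : ∀ r' : R', ∃ (n : ℕ) (r : R), r' ^ (e ^ n) - algebraMap R R' r ∈ m')
    (P₁ P₂ : Ideal (R' ⊗[R] C)) [P₁.IsPrime] [P₂.IsPrime]
    (h₁ : m'.map (algebraMap R' (R' ⊗[R] C)) ≤ P₁) (h₂ : m'.map (algebraMap R' (R' ⊗[R] C)) ≤ P₂)
    (h : P₁.comap (Algebra.TensorProduct.includeRight : C →ₐ[R] R' ⊗[R] C).toRingHom =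
      P₂.comap (Algebra.TensorProduct.includeRight : C →ₐ[R] R' ⊗[R] C).toRingHom) : P₁ = P₂ := by
  have key : ∀ (P₁ P₂ : Ideal (R' ⊗[R] C)) [P₁.IsPrime] [P₂.IsPrime],
      m'.map (algebraMap R' (R' ⊗[R] C)) ≤ P₁ → m'.map (algebraMap R' (R' ⊗[R] C)) ≤ P₂ →
      P₁.comap (Algebra.TensorProduct.includeRight : C →ₐ[R] R' ⊗[R] C).toRingHom =
      P₂.comap (Algebra.TensorProduct.includeRight : C →ₐ[R] R' ⊗[R] C).toRingHom → P₁ ≤ P₂ := by
    intro P₁ P₂ _ _ h₁ h₂ h x hx
    obtain ⟨n, c, hc⟩ := exists_pow_sub_mem (C := C) m' e he hpi x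
    have h3 : (1 : R') ⊗ₜ[R] c ∈ P₁ := by
      have h4 := sub_mem (Ideal.pow_mem_of_mem P₁ hx (e ^ n) (by
        rcases he with he | ⟨hp, _⟩
        · subst he; simp
        · exact pow_pos hp.pos n)) (h₁ hc)
      rwa [sub_sub_cancel] at h4
    have h5 : c ∈ P₁.comap (Algebra.TensorProduct.includeRight : C →ₐ[R] R' ⊗[R] C).toRingHom := h3
    rw [h] at h5
    have h6 : (1 : R') ⊗ₜ[R] c ∈ P₂ := h5
    have h7 := add_mem (h₂ hc) h6
    rw [sub_add_cancel] at h7
    exact Ideal.IsPrime.mem_of_pow_mem inferInstance _ h7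
  exact le_antisymm (key P₁ P₂ h₁ h₂ h) (key P₂ P₁ h₂ h₁ h.symm)

end U

section D

universe u

open IsLocalRing

/-- `R' ⊗ C` is integral over `C` when `R'` is integral over `R`. -/
theorem isIntegral_rightAlgebra {R R' C : Type*} [CommRing R] [CommRing R'] [CommRing C]
    [Algebra R R'] [Algebra R C] [Algebra.IsIntegral R R'] :
    letI := Algebra.TensorProduct.rightAlgebra (R := R) (A := R') (B := C)
    Algebra.IsIntegral C (R' ⊗[R] C) := by
  letI := Algebra.TensorProduct.rightAlgebra (R := R) (A := R') (B := C)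
  refine ⟨fun x => ?_⟩
  induction x using TensorProduct.induction_on with
  | zero => exact isIntegral_zero
  | tmul r' c =>
    have h1 : r' ⊗ₜ[R] c = (r' ⊗ₜ[R] (1 : C)) * algebraMap C (R' ⊗[R] C) c := by
      rw [Algebra.TensorProduct.algebraMap_eq_includeRight]
      simp
    rw [h1]
    refine IsIntegral.mul ?_ isIntegral_algebraMap
    have h2 : IsIntegral R (r' ⊗ₜ[R] (1 : C)) :=
      (Algebra.IsIntegral.isIntegral (R := R) r').map
        (Algebra.TensorProduct.includeLeft : R' →ₐ[R] R' ⊗[R] C)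
    exact h2.tower_top
  | add x y hx hy => exact hx.add hy

/-- **Key lemma**: an étale algebra over a local domain `R` whose normalization `R'` is local
with purely inseparable residue field extension has domain local rings at primes over the
maximal ideal. -/
theorem isDomain_localization_of_etale {R : Type u} [CommRing R] [IsDomain R] [IsLocalRing R]
    (R' : Type u) [CommRing R'] [IsDomain R'] [IsIntegrallyClosed R'] [Algebra R R']
    [Algebra.IsIntegral R R'] [IsLocalRing R']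
    (hinj : Function.Injective (algebraMap R R'))
    (e : ℕ) (he : e = 1 ∨ (e.Prime ∧ (e : R') ∈ maximalIdeal R'))
    (hpi : ∀ r' : R', ∃ (n : ℕ) (r : R), r' ^ (e ^ n) - algebraMap R R' r ∈ maximalIdeal R')
    {C : Type u} [CommRing C] [Algebra R C] [Algebra.Etale R C] (Q : Ideal C) [Q.IsPrime]
    (hQ : Q.comap (algebraMap R C) = maximalIdeal R) :
    IsDomain (Localization.AtPrime Q) := by
  letI algC := Algebra.TensorProduct.rightAlgebra (R := R) (A := R') (B := C)
  haveI hint : Algebra.IsIntegral C (R' ⊗[R] C) := isIntegral_rightAlgebra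
  have hι : Function.Injective (algebraMap C (R' ⊗[R] C)) := by
    rw [Algebra.TensorProduct.algebraMap_eq_includeRight]
    exact Algebra.TensorProduct.includeRight_injective hinj
  -- a prime over Q
  obtain ⟨P, -, hPprime, hPQ⟩ := Ideal.exists_ideal_over_prime_of_isIntegral
    (S := R' ⊗[R] C) Q ⊥ (by
      rw [← RingHom.ker_eq_comap_bot, (RingHom.injective_iff_ker_eq_bot _).mp hι]; exact bot_le)
  -- every prime over Q contains m'
  have hm' : ∀ (P' : Ideal (R' ⊗[R] C)) [P'.IsPrime], P'.comap (algebraMap C (R' ⊗[R] C)) = Q →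
      (maximalIdeal R').map (algebraMap R' (R' ⊗[R] C)) ≤ P' := by
    intro P' _ hP'
    rw [Ideal.map_le_iff_le_comap]
    have h1 : (P'.comap (algebraMap R' (R' ⊗[R] C))).comap (algebraMap R R') = maximalIdeal R := by
      rw [← hQ, ← hP', Ideal.comap_comap, Ideal.comap_comap]
      congr 1
      ext r
      simp [Algebra.TensorProduct.algebraMap_eq_includeRight, Algebra.algebraMap_eq_smul_one,
        TensorProduct.smul_tmul]
    have h2 : (P'.comap (algebraMap R' (R' ⊗[R] C))).IsMaximal :=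
      Ideal.isMaximal_of_isIntegral_of_isMaximal_comap (R := R) _ (by rw [h1]; infer_instance)
    exact (IsLocalRing.eq_maximalIdeal h2).ge
  -- uniqueness
  have huniq : ∀ (P' : Ideal (R' ⊗[R] C)) [P'.IsPrime],
      P'.comap (algebraMap C (R' ⊗[R] C)) = Q → P' = P := by
    intro P' _ hP'
    refine prime_eq_of_comap_eq (C := C) (maximalIdeal R') e he hpi P' P (hm' P' hP') (hm' P hPQ) ?_
    have h3 : (Algebra.TensorProduct.includeRight : C →ₐ[R] R' ⊗[R] C).toRingHom =
        algebraMap C (R' ⊗[R] C) := by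
      rw [Algebra.TensorProduct.algebraMap_eq_includeRight]; rfl
    rw [h3, hP', hPQ]
  -- the local ring of C' at P is a domain
  haveI hdom : IsDomain (Localization.AtPrime P) :=
    (Groth.Agent.Lib.Helper17.SmoothNormal.isDomain_and_isIntegrallyClosed_atPrime_of_etale R' P).1
  -- the map C_Q → C'_P
  have hle : Q.primeCompl ≤ P.primeCompl.comap (algebraMap C (R' ⊗[R] C)) := by
    intro s hs hmem
    apply hs
    rw [← hPQ]
    exact hmem
  -- injectivity
  have hinj2 : Function.Injective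
      (IsLocalization.map (Localization.AtPrime P) (algebraMap C (R' ⊗[R] C)) hle :
        Localization.AtPrime Q →+* Localization.AtPrime P) := by
    rw [injective_iff_map_eq_zero]
    intro z hz
    obtain ⟨x, s, rfl⟩ := IsLocalization.exists_mk'_eq Q.primeCompl z
    rw [IsLocalization.map_mk', IsLocalization.mk'_eq_zero_iff] at hz
    obtain ⟨⟨t, ht⟩, htx⟩ := hz
    simp only at htx
    -- Ann(i x) meets i(C - Q)
    have hmeet : ¬ Disjoint
        ((Submodule.annihilator (Ideal.span {algebraMap C (R' ⊗[R] C) x} : Ideal (R' ⊗[R] C)) :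
          Ideal (R' ⊗[R] C)) : Set (R' ⊗[R] C))
        (Q.primeCompl.map (algebraMap C (R' ⊗[R] C)) : Submonoid (R' ⊗[R] C)) := by
      intro hdisj
      obtain ⟨P₁, hP₁prime, hle₁, hdisj₁⟩ := Ideal.exists_le_prime_disjoint _ _ hdisj
      have hcomap : P₁.comap (algebraMap C (R' ⊗[R] C)) ≤ Q := by
        intro c hc
        by_contra hcQ
        exact Set.disjoint_left.mp hdisj₁ hc ⟨c, hcQ, rfl⟩
      obtain ⟨P₂, hP₂ge, hP₂prime, hP₂Q⟩ :=
        Ideal.exists_ideal_over_prime_of_isIntegral_of_isPrime Q P₁ hcomap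
      have hP₂ : P₂ = P := huniq P₂ hP₂Q
      have htP : t ∈ P := by
        rw [← hP₂]
        apply hP₂ge
        apply hle₁
        rw [Submodule.mem_annihilator_span_singleton, smul_eq_mul]
        exact htx
      exact ht htP
    rw [Set.not_disjoint_iff] at hmeet
    obtain ⟨_, hann, ⟨s', hs', rfl⟩⟩ := hmeet
    rw [SetLike.mem_coe, Submodule.mem_annihilator_span_singleton, smul_eq_mul, ← map_mul] at hann
    have hs'x : s' * x = 0 := hι (by rw [hann, map_zero])
    rw [IsLocalization.mk'_eq_zero_iff]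
    exact ⟨⟨s', hs'⟩, hs'x⟩
  exact hinj2.isDomain _

theorem natCast_eq_zero_of_expChar_prime (K : Type*) [Ring K] (q : ℕ) [hq : ExpChar K q]
    (hp : q.Prime) : (q : K) = 0 := by
  cases hq with
  | zero => exact absurd hp Nat.not_prime_one
  | prime hp' => exact CharP.cast_eq_zero K q

/-- Bridge to the Prelude definition: étale local algebras over a geometrically unibranch local
domain are domains. -/
theorem isDomain_localization_of_etale_of_isGeomUnibranch {R : Type u} [CommRing R] [IsDomain R]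
    [IsLocalRing R] (h : CAlg2.IsGeomUnibranch R)
    {C : Type u} [CommRing C] [Algebra R C] [Algebra.Etale R C] (Q : Ideal C) [Q.IsPrime]
    (hQ : Q.comap (algebraMap R C) = maximalIdeal R) :
    IsDomain (Localization.AtPrime Q) := by
  obtain ⟨⟨hdom, hloc⟩, hpi⟩ := h
  haveI := hdom
  haveI := hloc
  letI algR : Algebra R (CAlg2.normRed R) :=
    ((algebraMap (CAlg2.red R) (CAlg2.normRed R)).comp (Ideal.Quotient.mk (nilradical R))).toAlgebra
  haveI : IsIntegrallyClosed (CAlg2.normRed R) :=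
    integralClosure.isIntegrallyClosedOfFiniteExtension (FractionRing (CAlg2.red R))
  haveI : Algebra.IsIntegral R (CAlg2.normRed R) := by
    have h1 : (Ideal.Quotient.mk (nilradical R)).IsIntegral :=
      RingHom.isIntegral_of_surjective _ Ideal.Quotient.mk_surjective
    have h2 : (algebraMap (CAlg2.red R) (CAlg2.normRed R)).IsIntegral :=
      algebraMap_isIntegral_iff.mpr inferInstance
    exact ⟨RingHom.IsIntegral.trans _ _ h1 h2⟩
  have hinj : Function.Injective (algebraMap R (CAlg2.normRed R)) := by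
    have h1 : Function.Injective (Ideal.Quotient.mk (nilradical R)) := by
      rw [injective_iff_map_eq_zero]
      intro x hx
      rw [Ideal.Quotient.eq_zero_iff_mem, nilradical_eq_zero, Ideal.zero_eq_bot,
        Ideal.mem_bot] at hx
      exact hx
    have h2 : Function.Injective (algebraMap (CAlg2.red R) (CAlg2.normRed R)) := by
      have h3 : Function.Injective (algebraMap (CAlg2.red R) (FractionRing (CAlg2.red R))) :=
        IsFractionRing.injective _ _
      rw [IsScalarTower.algebraMap_eq (CAlg2.red R) (CAlg2.normRed R)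
        (FractionRing (CAlg2.red R)), RingHom.coe_comp] at h3
      exact Function.Injective.of_comp h3
    exact h2.comp h1
  have he : ringExpChar (CAlg2.normRed R ⧸ maximalIdeal (CAlg2.normRed R)) = 1 ∨
      ((ringExpChar (CAlg2.normRed R ⧸ maximalIdeal (CAlg2.normRed R))).Prime ∧
        ((ringExpChar (CAlg2.normRed R ⧸ maximalIdeal (CAlg2.normRed R)) : ℕ) :
          CAlg2.normRed R) ∈ maximalIdeal (CAlg2.normRed R)) := by
    letI : Field (CAlg2.normRed R ⧸ maximalIdeal (CAlg2.normRed R)) := Ideal.Quotient.field _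
    rcases expChar_is_prime_or_one (CAlg2.normRed R ⧸ maximalIdeal (CAlg2.normRed R))
      (ringExpChar (CAlg2.normRed R ⧸ maximalIdeal (CAlg2.normRed R))) with hp | h1
    · right
      refine ⟨hp, ?_⟩
      rw [← Ideal.Quotient.eq_zero_iff_mem, map_natCast]
      exact natCast_eq_zero_of_expChar_prime _ _ hp
    · left
      exact h1
  have hpi' : ∀ r' : CAlg2.normRed R, ∃ (n : ℕ) (r : R),
      r' ^ ((ringExpChar (CAlg2.normRed R ⧸ maximalIdeal (CAlg2.normRed R))) ^ n) -
        algebraMap R (CAlg2.normRed R) r ∈ maximalIdeal (CAlg2.normRed R) := by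
    intro r'
    obtain ⟨n, r, hr⟩ := hpi (maximalIdeal (CAlg2.normRed R))
      (Ideal.Quotient.mk (maximalIdeal (CAlg2.normRed R)) r')
    refine ⟨n, r, ?_⟩
    refine Ideal.Quotient.eq.mp ?_
    rw [RingHom.map_pow]
    exact hr.symm
  exact isDomain_localization_of_etale (CAlg2.normRed R) hinj _ he hpi' Q hQ

end D

end Groth.Agent.Lib.Helper17.Unibranch
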