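import Groth.Agent.Lib.Helper17.UnramBaseChange
import Groth.Agent.Lib.Helper17.UnibranchScheme
import Mathlib

/-!
# Pointwise descent of unramifiedness along base change, scheme form
-/

set_option autoImplicit false
set_option backward.isDefEq.respectTransparency.types false
open CategoryTheory CategoryTheory.Limits AlgebraicGeometry Opposite
universe u

namespace Groth.Agent.Lib.Helper17.UnramPullback

set_option backward.defeqAttrib.useBackward true in
set_option backward.isDefEq.respectTransparency false in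
/-- Stalk-level unramifiedness in terms of `Algebra.IsUnramifiedAt` on affine charts. -/
theorem stalkMap_formallyUnramified_iff {X Y : Scheme.{u}} (f : X ⟶ Y) {U : Y.Opens}
    (hU : IsAffineOpen U) {V : X.Opens} (hV : IsAffineOpen V) (hVU : V ≤ f ⁻¹ᵁ U) (x : X)
    (hxV : x ∈ V) :
    (f.stalkMap x).hom.FormallyUnramified ↔
      @Algebra.IsUnramifiedAt Γ(Y, U) Γ(X, V) _ _ (f.appLE U V hVU).hom.toAlgebra
        (hV.primeIdealOf ⟨x, hxV⟩).asIdeal _ := by
  algebraize [(f.appLE U V hVU).hom]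
  have hlies : (hV.primeIdealOf ⟨x, hxV⟩).asIdeal.LiesOver
      (hU.primeIdealOf ⟨f x, hVU hxV⟩).asIdeal :=
    ⟨congr($(IsAffineOpen.comap_primeIdealOf_appLE U hU V hV hVU hxV).1).symm⟩
  let := Localization.AtPrime.algebraOfLiesOver (hU.primeIdealOf ⟨f x, hVU hxV⟩).asIdeal
    (hV.primeIdealOf ⟨x, hxV⟩).asIdeal
  have key : (f.stalkMap x).hom.FormallyUnramified ↔ Algebra.FormallyUnramified
      (Localization.AtPrime (hU.primeIdealOf ⟨f x, hVU hxV⟩).asIdeal)
      (Localization.AtPrime (hV.primeIdealOf ⟨x, hxV⟩).asIdeal) := by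
    rw [← RingHom.formallyUnramified_algebraMap]
    exact RingHom.FormallyUnramified.respectsIso.arrow_mk_iso_iff
      (IsAffineOpen.arrowStalkMapIso f U hU V hV hVU hxV)
  rw [key]
  constructor
  · intro h1
    exact Algebra.FormallyUnramified.comp Γ(Y, U)
      (Localization.AtPrime (hU.primeIdealOf ⟨f x, hVU hxV⟩).asIdeal)
      (Localization.AtPrime (hV.primeIdealOf ⟨x, hxV⟩).asIdeal)
  · intro h1
    exact Algebra.FormallyUnramified.of_restrictScalars Γ(Y, U) _ _

theorem appLE_top_top {X Y : Scheme.{u}} (f : X ⟶ Y) : f.appLE ⊤ ⊤ le_top = f.appTop := by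
  simp [Scheme.Hom.appLE]

set_option backward.defeqAttrib.useBackward true in
set_option backward.isDefEq.respectTransparency false in
/-- Affine case of pointwise unramified descent along base change. -/
theorem stalkMap_formallyUnramified_of_pullback_affine {X Y Y' : Scheme.{u}} [IsAffine X]
    [IsAffine Y] [IsAffine Y'] (f : X ⟶ Y) [LocallyOfFiniteType f] (g : Y' ⟶ Y)
    (z : ↑(pullback f g))
    (h : ((pullback.snd f g).stalkMap z).hom.FormallyUnramified) :
    (f.stalkMap (pullback.fst f g z)).hom.FormallyUnramified := by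
  have hX := isAffineOpen_top X
  have hY := isAffineOpen_top Y
  have hY' := isAffineOpen_top Y'
  have hP := isAffineOpen_top (pullback f g)
  rw [stalkMap_formallyUnramified_iff (pullback.snd f g) hY' hP le_top z trivial] at h
  rw [stalkMap_formallyUnramified_iff f hY hX le_top _ trivial]
  letI : Algebra Γ(Y, ⊤) Γ(X, ⊤) := (f.appLE ⊤ ⊤ le_top).hom.toAlgebra
  letI : Algebra Γ(Y, ⊤) Γ(Y', ⊤) := (g.appLE ⊤ ⊤ le_top).hom.toAlgebra
  letI : Algebra Γ(X, ⊤) Γ(pullback f g, ⊤) :=
    ((pullback.fst f g).appLE ⊤ ⊤ le_top).hom.toAlgebra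
  letI : Algebra Γ(Y', ⊤) Γ(pullback f g, ⊤) :=
    ((pullback.snd f g).appLE ⊤ ⊤ le_top).hom.toAlgebra
  letI : Algebra Γ(Y, ⊤) Γ(pullback f g, ⊤) :=
    ((algebraMap Γ(X, ⊤) Γ(pullback f g, ⊤)).comp (algebraMap Γ(Y, ⊤) Γ(X, ⊤))).toAlgebra
  haveI : IsScalarTower Γ(Y, ⊤) Γ(X, ⊤) Γ(pullback f g, ⊤) :=
    IsScalarTower.of_algebraMap_eq (fun _ => rfl)
  have hsq : f.appTop ≫ (pullback.fst f g).appTop = g.appTop ≫ (pullback.snd f g).appTop := by
    rw [← Scheme.Hom.comp_appTop, ← Scheme.Hom.comp_appTop, pullback.condition]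
  haveI : IsScalarTower Γ(Y, ⊤) Γ(Y', ⊤) Γ(pullback f g, ⊤) := by
    refine IsScalarTower.of_algebraMap_eq' ?_
    simp only [RingHom.algebraMap_toAlgebra, appLE_top_top]
    rw [← CommRingCat.hom_comp, ← CommRingCat.hom_comp, hsq]
  haveI : Algebra.IsPushout Γ(Y, ⊤) Γ(X, ⊤) Γ(Y', ⊤) Γ(pullback f g, ⊤) := by
    rw [← CommRingCat.isPushout_iff_isPushout]
    simp only [RingHom.algebraMap_toAlgebra, appLE_top_top, CommRingCat.ofHom_hom]
    exact isPushout_appTop_of_isPullback (IsPullback.of_hasPullback f g)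
  haveI : Algebra.IsPushout Γ(Y, ⊤) Γ(Y', ⊤) Γ(X, ⊤) Γ(pullback f g, ⊤) := .symm inferInstance
  haveI : Algebra.FiniteType Γ(Y, ⊤) Γ(X, ⊤) := f.finiteType_appLE hY hX le_top
  haveI := h
  have key := Groth.Agent.Lib.Helper17.UnramBaseChange.isUnramifiedAt_of_isPushout
    Γ(Y, ⊤) Γ(Y', ⊤) Γ(X, ⊤) Γ(pullback f g, ⊤) (hP.primeIdealOf ⟨z, trivial⟩).asIdeal
  convert! key using 1
  exact congr($(IsAffineOpen.comap_primeIdealOf_appLE (f := pullback.fst f g) ⊤ hX ⊤ hP le_top
    (x := z) trivial).1).symm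

/-- Transport of stalk-level unramifiedness along open immersions on source and target. -/
theorem formallyUnramified_stalkMap_iff_of_comp_eq {X X₀ Y Y₀ : Scheme.{u}} (f : X ⟶ Y)
    (f₀ : X₀ ⟶ Y₀) (i : X₀ ⟶ X) (j : Y₀ ⟶ Y) [IsOpenImmersion i] [IsOpenImmersion j]
    (e : f₀ ≫ j = i ≫ f) (z : X₀) :
    (f₀.stalkMap z).hom.FormallyUnramified ↔ (f.stalkMap (i z)).hom.FormallyUnramified := by
  have h1 : ((f₀ ≫ j).stalkMap z).hom.FormallyUnramified ↔
      (f₀.stalkMap z).hom.FormallyUnramified := by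
    rw [Scheme.Hom.stalkMap_comp]
    exact RingHom.FormallyUnramified.respectsIso.cancel_left_isIso (j.stalkMap (f₀ z)) _
  have h2 : ((i ≫ f).stalkMap z).hom.FormallyUnramified ↔
      (f.stalkMap (i z)).hom.FormallyUnramified := by
    rw [Scheme.Hom.stalkMap_comp]
    exact RingHom.FormallyUnramified.respectsIso.cancel_right_isIso _ (i.stalkMap z)
  rw [← h1, ← h2, e]

theorem exists_affine_nhds_le {Y' Y : Scheme.{u}} (g : Y' ⟶ Y) (U : Y.Opens) (y' : Y')
    (h : g y' ∈ U) : ∃ (U' : Y'.Opens) (_ : IsAffineOpen U') (_ : U' ≤ g ⁻¹ᵁ U), y' ∈ U' := by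
  obtain ⟨_, ⟨U', hU', rfl⟩, hyU', hU'U⟩ :=
    Y'.isBasis_affineOpens.exists_subset_of_mem_open (show y' ∈ g ⁻¹ᵁ U from h) (g ⁻¹ᵁ U).2
  exact ⟨U', hU', hU'U, hyU'⟩

/-- Pointwise descent of unramifiedness along an arbitrary base change: if the base change
`X ×_Y Y' → Y'` of a morphism `f` locally of finite type is unramified at `x'`, then `f` is
unramified at the image of `x'`. -/
theorem stalkMap_formallyUnramified_of_pullback {X Y Y' : Scheme.{u}} (f : X ⟶ Y)
    [LocallyOfFiniteType f] (g : Y' ⟶ Y) (x' : ↑(pullback f g))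
    (h : ((pullback.snd f g).stalkMap x').hom.FormallyUnramified) :
    (f.stalkMap (pullback.fst f g x')).hom.FormallyUnramified := by
  obtain ⟨U, hU, V, hV, hVU, hxV⟩ :=
    Groth.Agent.Lib.Helper17.UnibranchScheme.exists_affine_nhds f (pullback.fst f g x')
  have hyU : g (pullback.snd f g x') ∈ U := by
    rw [← Scheme.Hom.comp_apply, ← pullback.condition, Scheme.Hom.comp_apply]
    exact hVU hxV
  obtain ⟨U', hU', hU'U', hyU'⟩ := exists_affine_nhds_le g U _ hyU
  haveI : IsAffine U.toScheme := hU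
  haveI : IsAffine V.toScheme := hV
  haveI : IsAffine U'.toScheme := hU'
  let k := pullback.map (f.resLE U V hVU) (g.resLE U U' hU'U') f g V.ι U'.ι U.ι
    (by simp) (by simp)
  have hk : x' ∈ Set.range k := by
    rw [Scheme.Pullback.range_map]
    refine ⟨?_, ?_⟩
    · simpa using hxV
    · simpa using hyU'
  obtain ⟨z, rfl⟩ := hk
  have e1 : pullback.snd (f.resLE U V hVU) (g.resLE U U' hU'U') ≫ U'.ι =
      k ≫ pullback.snd f g := (pullback.lift_snd _ _ _).symm
  have h1 := (formallyUnramified_stalkMap_iff_of_comp_eq (pullback.snd f g)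
    (pullback.snd (f.resLE U V hVU) (g.resLE U U' hU'U')) k U'.ι e1 z).mpr h
  have h2 := stalkMap_formallyUnramified_of_pullback_affine (f.resLE U V hVU)
    (g.resLE U U' hU'U') z h1
  have h3 := (formallyUnramified_stalkMap_iff_of_comp_eq f (f.resLE U V hVU) V.ι U.ι
    (Scheme.Hom.resLE_comp_ι f hVU) _).mp h2
  have e2 : V.ι (pullback.fst (f.resLE U V hVU) (g.resLE U U' hU'U') z) =
      pullback.fst f g (k z) := by
    have e3 : k ≫ pullback.fst f g =
        pullback.fst (f.resLE U V hVU) (g.resLE U U' hU'U') ≫ V.ι := pullback.lift_fst _ _ _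
    change (pullback.fst (f.resLE U V hVU) (g.resLE U U' hU'U') ≫ V.ι) z =
      (k ≫ pullback.fst f g) z
    rw [e3]
  rwa [e2] at h3

end Groth.Agent.Lib.Helper17.UnramPullback
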