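import Groth.Agent.Lib.Helper17.UnibranchEtaleFP
import Mathlib

/-!
# Unramified + flat test ring ⇒ étale

If `B` is a finitely presented `A`-algebra, unramified at a prime `q`, and there is a local ring
`C` with a ring map `ψ : B → C` such that `ψ⁻¹(m_C) = q` and `C` is flat over `A`, then
`B` is étale over `A` near `q`.
-/

set_option autoImplicit false
set_option backward.isDefEq.respectTransparency.types false
universe u

namespace Groth.Agent.Lib.Helper17.UnramFlat

open TensorProduct IsLocalRing

/-- Equational criterion, single relation: if `M` is flat and `r • m = 0`, then `m` lies in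
`Ann(r) • M`. -/
theorem exists_of_smul_eq_zero {R M : Type*} [CommRing R] [AddCommGroup M] [Module R M]
    [Module.Flat R M] (r : R) (m : M) (h : r • m = 0) :
    ∃ (k : ℕ) (a : Fin k → R) (y : Fin k → M), m = ∑ j, a j • y j ∧ ∀ j, r * a j = 0 := by
  have h' : ∑ i : Unit, (fun _ => r) i • (fun _ => m) i = 0 := by simpa using h
  obtain ⟨k, a, y, h1, h2⟩ := Module.Flat.isTrivialRelation_of_sum_smul_eq_zero h'
  exact ⟨k, a (), y, h1 (), fun j => by simpa using h2 j⟩

/-- In a local ring, flat over `R` via `θ`, any `j` with `θ j = 0` is killed by some `c` with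
`θ c` a unit. -/
theorem exists_isUnit_mul_eq_zero {R C : Type*} [CommRing R] [CommRing C] [IsLocalRing C]
    (θ : R →+* C) (hθ : θ.Flat) (j : R) (hj : θ j = 0) :
    ∃ c : R, IsUnit (θ c) ∧ c * j = 0 := by
  letI := θ.toAlgebra
  haveI : Module.Flat R C := hθ
  have h0 : j • (1 : C) = 0 := by
    rw [Algebra.smul_def, mul_one]
    exact hj
  obtain ⟨k, a, y, h1, h2⟩ := exists_of_smul_eq_zero j (1 : C) h0
  by_contra hcon
  push_neg at hcon
  have hmem : (1 : C) ∈ maximalIdeal C := by
    rw [h1]
    refine Ideal.sum_mem _ fun i _ => ?_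
    rw [Algebra.smul_def]
    refine Ideal.mul_mem_right _ _ ?_
    rw [mem_maximalIdeal, mem_nonunits_iff]
    intro hu
    exact hcon (a i) hu (by rw [mul_comm]; exact h2 i)
  exact (Ideal.ne_top_iff_one _).mp (maximalIdeal.isMaximal C).ne_top hmem

theorem exists_etale_away_of_flat {A B : Type u} [CommRing A] [CommRing B] [Algebra A B]
    (q : Ideal B) [q.IsPrime] [Algebra.FinitePresentation A B] [Algebra.IsUnramifiedAt A q]
    {C : Type u} [CommRing C] [IsLocalRing C] (ψ : B →+* C)
    (hψ : (maximalIdeal C).comap ψ = q)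
    (hflat : (ψ.comp (algebraMap A B)).Flat) :
    ∃ g : B, g ∉ q ∧ Algebra.Etale A (Localization.Away g) := by
  obtain ⟨f, hfq, P, φ, hφ⟩ :=
    Algebra.IsUnramifiedAt.exists_hasStandardEtaleSurjectionOn (R := A) q
  have hfu : IsUnit (algebraMap B (Localization.AtPrime q) f) :=
    IsLocalization.map_units _ (⟨f, hfq⟩ : q.primeCompl)
  have hunit : ∀ b : B, b ∉ q ↔ IsUnit (ψ b) := by
    intro b
    rw [← hψ, Ideal.mem_comap, mem_maximalIdeal, mem_nonunits_iff, not_not]
  have hψf : IsUnit (ψ f) := (hunit f).mp hfq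
  let ψf : Localization.Away f →+* C := IsLocalization.Away.lift f hψf
  have hψf_eq : ∀ b, ψf (algebraMap B _ b) = ψ b := fun b => IsLocalization.Away.lift_eq _ _ _
  -- units transfer
  have hutr : ∀ x : Localization.Away f, IsUnit (ψf x) →
      IsUnit (IsLocalization.Away.lift (S := Localization.Away f) f hfu x) := by
    intro x hx
    obtain ⟨⟨b, ⟨_, n, rfl⟩⟩, hb⟩ := IsLocalization.surj (Submonoid.powers f) x
    simp only at hb
    have h1 : ψf x * ψ f ^ n = ψ b := by
      rw [← hψf_eq b, ← hb, map_mul, map_pow, map_pow, hψf_eq]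
    have h2 : IsUnit (ψ b) := h1 ▸ hx.mul (hψf.pow n)
    have h3 : b ∉ q := (hunit b).mpr h2
    have h4 : IsLocalization.Away.lift (S := Localization.Away f) f hfu x *
        algebraMap B (Localization.AtPrime q) f ^ n = algebraMap B (Localization.AtPrime q) b := by
      rw [← IsLocalization.Away.lift_eq (S := Localization.Away f) f hfu b, ← hb, map_mul, map_pow,
        map_pow, IsLocalization.Away.lift_eq]
    have h5 : IsUnit (algebraMap B (Localization.AtPrime q) b) :=
      IsLocalization.map_units _ (⟨b, h3⟩ : q.primeCompl)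
    exact isUnit_of_mul_isUnit_left (h4 ▸ h5)
  -- θ : P.Ring → C
  let θ : P.Ring →+* C := ψf.comp φ.toRingHom
  have hθ : ∀ c, θ c = ψf (φ c) := fun c => rfl
  have hθA : θ.comp (algebraMap A P.Ring) = ψ.comp (algebraMap A B) := by
    ext a
    simp only [RingHom.comp_apply]
    rw [hθ, φ.commutes, IsScalarTower.algebraMap_apply A B (Localization.Away f), hψf_eq]
  have hθflat : θ.Flat := by
    letI := (ψ.comp (algebraMap A B)).toAlgebra
    letI := θ.toAlgebra
    haveI : IsScalarTower A P.Ring C := IsScalarTower.of_algebraMap_eq' hθA.symm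
    haveI : Module.Flat A C := hflat
    exact Algebra.FormallyUnramified.flat_of_restrictScalars A P.Ring C
  have hann : ∀ j, φ j = 0 → ∃ c : P.Ring, IsUnit (θ c) ∧ c * j = 0 := by
    intro j hj
    exact exists_isUnit_mul_eq_zero θ hθflat j (by rw [hθ, hj, map_zero])
  -- finitely many generators
  haveI : Algebra.FinitePresentation A (Localization.Away f) :=
    Algebra.FinitePresentation.trans A B (Localization.Away f)
  obtain ⟨T, hT⟩ := Algebra.FinitePresentation.ker_fG_of_surjective φ hφ
  have hT' : ∃ c : P.Ring, IsUnit (θ c) ∧ ∀ t ∈ T, c * t = 0 := by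
    have hTk : ∀ t ∈ T, φ t = 0 := by
      intro t ht
      have : t ∈ RingHom.ker φ.toRingHom := hT ▸ Ideal.subset_span ht
      exact this
    clear hT
    classical
    induction T using Finset.induction_on with
    | empty => exact ⟨1, by rw [map_one]; exact isUnit_one, by simp⟩
    | insert t T htT ih =>
      obtain ⟨c, hcu, hc⟩ := ih (fun t' ht' => hTk t' (Finset.mem_insert_of_mem ht'))
      obtain ⟨d, hdu, hd⟩ := hann t (hTk t (Finset.mem_insert_self _ _))
      refine ⟨c * d, by rw [map_mul]; exact hcu.mul hdu, ?_⟩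
      intro t' ht'
      rcases Finset.mem_insert.mp ht' with rfl | ht'
      · rw [mul_assoc, hd, mul_zero]
      · rw [mul_right_comm, hc t' ht', zero_mul]
  obtain ⟨c, hcu, hc⟩ := hT'
  have hcall : ∀ j, φ j = 0 → c * j = 0 := by
    intro j hj
    have hjm : j ∈ Ideal.span (T : Set P.Ring) := by
      rw [hT]
      exact hj
    clear hj
    induction hjm using Submodule.span_induction with
    | mem x hx => exact hc x hx
    | zero => exact mul_zero c
    | add x y _ _ hx hy => rw [mul_add, hx, hy, add_zero]
    | smul a x _ hx => rw [smul_eq_mul, mul_left_comm, hx, mul_zero]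
  exact Groth.Agent.Lib.Helper17.UnibranchEtaleFP.exists_etale_away_of_annihilator
    q f hfq hfu φ hφ c (hutr _ hcu) hcall

end Groth.Agent.Lib.Helper17.UnramFlat
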