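import Mathlib

/-!
# Descent of unramifiedness along a flat local homomorphism

`A → B → C` local homomorphisms of local rings, `B → C` flat, `A → C` formally unramified,
`A → B` essentially of finite type ⇒ `A → B` formally unramified.
-/

set_option autoImplicit false
set_option backward.isDefEq.respectTransparency.types false

namespace Groth.Agent.Lib.Helper17.UnramDescent

open IsLocalRing

theorem formallyUnramified_of_flat_of_comp {A B C : Type*} [CommRing A] [CommRing B] [CommRing C]
    [IsLocalRing A] [IsLocalRing B] [IsLocalRing C]
    [Algebra A B] [Algebra B C] [Algebra A C] [IsScalarTower A B C]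
    [IsLocalHom (algebraMap A B)] [IsLocalHom (algebraMap B C)]
    [Algebra.EssFiniteType A B] [Algebra.EssFiniteType A C]
    [Module.Flat B C] [Algebra.FormallyUnramified A C] :
    Algebra.FormallyUnramified A B := by
  haveI : IsLocalHom (algebraMap A C) := by
    rw [IsScalarTower.algebraMap_eq A B C]
    infer_instance
  haveI : Module.FaithfullyFlat B C := Module.FaithfullyFlat.of_flat_of_isLocalHom
  have h1 : (maximalIdeal A).map (algebraMap A C) = maximalIdeal C :=
    Algebra.FormallyUnramified.map_maximalIdeal
  have h3 : ((maximalIdeal A).map (algebraMap A B)).map (algebraMap B C) = maximalIdeal C := by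
    rw [Ideal.map_map, ← IsScalarTower.algebraMap_eq, h1]
  have h4 : (maximalIdeal B).map (algebraMap B C) = maximalIdeal C := by
    apply le_antisymm (map_maximalIdeal_le _)
    rw [← h3]
    exact Ideal.map_mono (map_maximalIdeal_le _)
  have h2 : (maximalIdeal A).map (algebraMap A B) = maximalIdeal B := by
    rw [← Ideal.comap_map_eq_self_of_faithfullyFlat (B := C)
      ((maximalIdeal A).map (algebraMap A B)), h3, ← h4,
      Ideal.comap_map_eq_self_of_faithfullyFlat]
  haveI : Algebra.IsSeparable (ResidueField A) (ResidueField B) :=
    Algebra.isSeparable_tower_bot_of_isSeparable (ResidueField A) (ResidueField B)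
      (ResidueField C)
  exact Algebra.FormallyUnramified.of_map_maximalIdeal h2

end Groth.Agent.Lib.Helper17.UnramDescent
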