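import Mathlib.RingTheory.DiscreteValuationRing.TFAE
import Mathlib.RingTheory.Ideal.KrullsHeightTheorem
import Mathlib.RingTheory.IntegralClosure.IntegrallyClosed
import Mathlib.RingTheory.Ideal.Height
import Mathlib.RingTheory.KrullDimension.Basic

set_option autoImplicit false
universe u

namespace Groth.Agent.Lib.Helper17.HeightOne

open IsLocalRing

/-- the localization of a normal Noetherian domain at a prime of height at most one:
principal maximal ideal and all nonzero ideals are powers of it -/
theorem localization_height_le_one (A : Type u) [CommRing A] [IsDomain A] [IsNoetherianRing A]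
    [IsIntegrallyClosed A] (P : Ideal A) [hP : P.IsPrime] (hht : P.height ≤ 1) :
    (maximalIdeal (Localization.AtPrime P)).IsPrincipal ∧
      ∀ I : Ideal (Localization.AtPrime P), I ≠ ⊥ →
        ∃ n : ℕ, I = maximalIdeal (Localization.AtPrime P) ^ n := by
  have hle : P.primeCompl ≤ nonZeroDivisors A := by
    intro x hx
    rw [mem_nonZeroDivisors_iff_ne_zero]
    rintro rfl
    exact hx P.zero_mem
  have hic : IsIntegrallyClosed (Localization.AtPrime P) :=
    isIntegrallyClosed_of_isLocalization (Localization.AtPrime P) P.primeCompl hle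
  have hdim : Ring.KrullDimLE 1 (Localization.AtPrime P) := by
    rw [Ring.krullDimLE_iff, IsLocalization.AtPrime.ringKrullDim_eq_height P]
    exact_mod_cast hht
  have h4 : IsIntegrallyClosed (Localization.AtPrime P) ∧
      ∀ Q : Ideal (Localization.AtPrime P), Q ≠ ⊥ → Q.IsPrime →
        Q = maximalIdeal (Localization.AtPrime P) :=
    ⟨hic, fun Q hQ0 hQ => eq_maximalIdeal (hQ.isMaximal_of_ne_bot hQ0)⟩
  have tfae := tfae_of_isNoetherianRing_of_isLocalRing_of_isDomain (Localization.AtPrime P)
  exact ⟨(tfae.out 3 4).mp h4, (tfae.out 3 6).mp h4⟩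

end Groth.Agent.Lib.Helper17.HeightOne
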