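import Mathlib

/-!
Directed "systems with a cocone" without functoriality of the transition maps:
killing finitely many elements by composites, and stability under tensor products.
-/

namespace Groth.Agent.Lib.Helper17.ColimSys

open TensorProduct

section Abstract

universe uι uh uR uM uN uP

variable {ι : Type uι} {Hom : ι → ι → Type uh}
  (comp : ∀ (i j l : ι), Hom i j → Hom j l → Hom i l)
  {R : Type uR} [CommRing R] {M : ι → Type uM} [∀ i, AddCommGroup (M i)] [∀ i, Module R (M i)]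
  {N : Type uN} [AddCommGroup N] [Module R N]
  (γ : ∀ i, M i →ₗ[R] N) (ρ : ∀ (i l : ι), Hom i l → (M i →ₗ[R] M l))

structure IsSys : Prop where
  compat : ∀ {i l : ι} (F : Hom i l) (x : M i), γ l (ρ _ _ F x) = γ i x
  comp_apply : ∀ {i j l : ι} (F : Hom i j) (F' : Hom j l) (x : M i),
    ρ _ _ (comp _ _ _ F F') x = ρ _ _ F' (ρ _ _ F x)
  surj : ∀ (i : ι) (m : N), ∃ l, ∃ _ : Hom i l, ∃ x : M l, γ l x = m
  kill : ∀ (i : ι) (x : M i), γ i x = 0 → ∃ l, ∃ F : Hom i l, ρ _ _ F x = 0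

variable {comp γ ρ}

theorem IsSys.exists_hom (h : IsSys comp γ ρ) (i : ι) : ∃ l, Nonempty (Hom i l) := by
  obtain ⟨l, F, -⟩ := h.surj i 0
  exact ⟨l, ⟨F⟩⟩

theorem IsSys.kill_finset (h : IsSys comp γ ρ) (i : ι) (s : Finset (M i))
    (hs : ∀ x ∈ s, γ i x = 0) : ∃ l, ∃ F : Hom i l, ∀ x ∈ s, ρ _ _ F x = 0 := by
  classical
  induction s using Finset.induction_on with
  | empty => obtain ⟨l, F, -⟩ := h.surj i 0; exact ⟨l, F, by simp⟩
  | insert a s ha ih =>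
    obtain ⟨l₁, F₁, h₁⟩ := ih (fun x hx => hs x (Finset.mem_insert_of_mem hx))
    have : γ l₁ (ρ _ _ F₁ a) = 0 := by rw [h.compat]; exact hs a (Finset.mem_insert_self a s)
    obtain ⟨l₂, F₂, h₂⟩ := h.kill l₁ _ this
    refine ⟨l₂, comp _ _ _ F₁ F₂, fun x hx => ?_⟩
    rw [h.comp_apply]
    rcases Finset.mem_insert.mp hx with rfl | hx
    · exact h₂
    · rw [h₁ x hx, map_zero]

theorem IsSys.kill_family (h : IsSys comp γ ρ) {κ : Type*} [Finite κ] (i : ι) (x : κ → M i)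
    (hx : ∀ k, γ i (x k) = 0) : ∃ l, ∃ F : Hom i l, ∀ k, ρ _ _ F (x k) = 0 := by
  classical
  cases nonempty_fintype κ
  obtain ⟨l, F, hF⟩ := h.kill_finset i (Finset.univ.image x) (by
    intro y hy
    obtain ⟨k, -, rfl⟩ := Finset.mem_image.mp hy
    exact hx k)
  exact ⟨l, F, fun k => hF _ (Finset.mem_image_of_mem x (Finset.mem_univ k))⟩

theorem IsSys.lift_family (h : IsSys comp γ ρ) {κ : Type*} [Finite κ] (i : ι) (m : κ → N) :
    ∃ l, ∃ _ : Hom i l, ∃ x : κ → M l, ∀ k, γ l (x k) = m k := by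
  classical
  cases nonempty_fintype κ
  have : ∀ s : Finset κ, ∃ l, ∃ _ : Hom i l, ∀ k ∈ s, ∃ x : M l, γ l x = m k := by
    intro s
    induction s using Finset.induction_on with
    | empty => obtain ⟨l, F, -⟩ := h.surj i 0; exact ⟨l, F, by simp⟩
    | insert a s ha ih =>
      obtain ⟨l₁, F₁, h₁⟩ := ih
      obtain ⟨l₂, F₂, x, hx⟩ := h.surj l₁ (m a)
      refine ⟨l₂, comp _ _ _ F₁ F₂, fun k hk => ?_⟩
      rcases Finset.mem_insert.mp hk with rfl | hk
      · exact ⟨x, hx⟩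
      · obtain ⟨y, hy⟩ := h₁ k hk
        exact ⟨ρ _ _ F₂ y, by rw [h.compat, hy]⟩
  obtain ⟨l, F, hl⟩ := this Finset.univ
  choose x hx using fun k => hl k (Finset.mem_univ k)
  exact ⟨l, F, x, hx⟩

theorem exists_sum_tmul {R : Type*} [CommRing R] {J : Type*} [AddCommGroup J] [Module R J]
    {Q : Type*} [AddCommGroup Q] [Module R Q] {n : ℕ} (m : Fin n → J)
    (hm : Submodule.span R (Set.range m) = ⊤) (t : J ⊗[R] Q) :
    ∃ z : Fin n → Q, t = ∑ k, m k ⊗ₜ[R] z k := by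
  induction t with
  | zero => exact ⟨0, by simp⟩
  | tmul j q =>
    have hj : j ∈ Submodule.span R (Set.range m) := by rw [hm]; trivial
    obtain ⟨c, rfl⟩ := (Submodule.mem_span_range_iff_exists_fun R).mp hj
    refine ⟨fun k => c k • q, ?_⟩
    rw [sum_tmul]
    refine Finset.sum_congr rfl fun k _ => ?_
    rw [smul_tmul]
  | add t₁ t₂ h₁ h₂ =>
    obtain ⟨z₁, rfl⟩ := h₁
    obtain ⟨z₂, rfl⟩ := h₂
    refine ⟨z₁ + z₂, ?_⟩
    simp [tmul_add, Finset.sum_add_distrib]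

theorem IsSys.kill_lTensor (h : IsSys comp γ ρ) (P : Type uP) [AddCommGroup P] [Module R P]
    (i : ι) (x : P ⊗[R] M i) (hx : (γ i).lTensor P x = 0) :
    ∃ l, ∃ F : Hom i l, (ρ _ _ F).lTensor P x = 0 := by
  classical
  obtain ⟨J, hJ, y, rfl⟩ := Submodule.exists_fg_le_eq_rTensor_subtype x
  have h2 : J.subtype.rTensor N ((γ i).lTensor J y) = J.subtype.rTensor N 0 := by
    rw [map_zero, ← hx, ← LinearMap.comp_apply, ← LinearMap.comp_apply,
      LinearMap.rTensor_comp_lTensor, LinearMap.lTensor_comp_rTensor]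
  obtain ⟨J', hJ', hle, h3⟩ := hJ.exists_rTensor_fg_inclusion_eq h2
  rw [map_zero] at h3
  obtain ⟨y', hy'⟩ : ∃ y' : J' ⊗[R] M i, y' = (J.inclusion hle).rTensor (M i) y := ⟨_, rfl⟩
  have hy'0 : (γ i).lTensor J' y' = 0 := by
    rw [hy', ← LinearMap.comp_apply, LinearMap.lTensor_comp_rTensor,
      ← LinearMap.rTensor_comp_lTensor, LinearMap.comp_apply]
    exact h3
  have hyx : J.subtype.rTensor (M i) y = J'.subtype.rTensor (M i) y' := by
    rw [hy', ← LinearMap.comp_apply, ← LinearMap.rTensor_comp]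
    rfl
  obtain ⟨n, m, hm⟩ : ∃ (n : ℕ) (m : Fin n → J'), Submodule.span R (Set.range m) = ⊤ := by
    haveI : Module.Finite R J' := Module.Finite.iff_fg.mpr hJ'
    exact Module.Finite.exists_fin
  obtain ⟨z, hz⟩ := exists_sum_tmul m hm y'
  have hv : ∑ k, m k ⊗ₜ[R] (γ i (z k)) = (0 : J' ⊗[R] N) := by
    rw [← hy'0, hz, map_sum]
    simp
  obtain ⟨r, a, w, hw1, hw2⟩ := TensorProduct.vanishesTrivially_of_sum_tmul_eq_zero R hm hv
  obtain ⟨l₁, F₁, w', hw'⟩ := h.lift_family i w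
  have he : ∀ k, γ l₁ (ρ _ _ F₁ (z k) - ∑ j, a k j • w' j) = 0 := by
    intro k
    have h1 := hw1 k
    dsimp only at h1
    rw [map_sub, h.compat, h1, map_sum]
    simp [hw']
  obtain ⟨l₂, F₂, h₂⟩ := h.kill_family l₁ _ he
  refine ⟨l₂, comp _ _ _ F₁ F₂, ?_⟩
  rw [hyx, ← LinearMap.comp_apply, LinearMap.lTensor_comp_rTensor,
    ← LinearMap.rTensor_comp_lTensor, LinearMap.comp_apply, hz, map_sum]
  have key : ∀ k, (ρ _ _ (comp _ _ _ F₁ F₂)).lTensor J' (m k ⊗ₜ[R] z k) =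
      ∑ j, (a k j • m k) ⊗ₜ[R] (ρ _ _ F₂ (w' j)) := by
    intro k
    rw [LinearMap.lTensor_tmul, h.comp_apply]
    have := h₂ k
    rw [map_sub, sub_eq_zero] at this
    rw [this, map_sum, tmul_sum]
    refine Finset.sum_congr rfl fun j _ => ?_
    rw [map_smul, smul_tmul]
  simp_rw [key]
  rw [Finset.sum_comm]
  simp_rw [← sum_tmul, hw2, zero_tmul]
  simp

theorem IsSys.surj_lTensor (h : IsSys comp γ ρ) (P : Type uP) [AddCommGroup P] [Module R P]
    (i : ι) (z : P ⊗[R] N) :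
    ∃ l, ∃ _ : Hom i l, ∃ x : P ⊗[R] M l, (γ l).lTensor P x = z := by
  induction z generalizing i with
  | zero => obtain ⟨l, F, -⟩ := h.surj i 0; exact ⟨l, F, 0, by simp⟩
  | tmul p n =>
    obtain ⟨l, F, y, hy⟩ := h.surj i n
    exact ⟨l, F, p ⊗ₜ y, by simp [hy]⟩
  | add z₁ z₂ h₁ h₂ =>
    obtain ⟨l₁, F₁, x₁, hx₁⟩ := h₁ i
    obtain ⟨l₂, F₂, x₂, hx₂⟩ := h₂ l₁
    refine ⟨l₂, comp _ _ _ F₁ F₂, (ρ _ _ F₂).lTensor P x₁ + x₂, ?_⟩
    rw [map_add, hx₂, ← hx₁, ← LinearMap.comp_apply, ← LinearMap.lTensor_comp]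
    congr 3
    ext y
    exact h.compat F₂ y

theorem IsSys.lTensor (h : IsSys comp γ ρ) (P : Type uP) [AddCommGroup P] [Module R P] :
    IsSys comp (fun i => (γ i).lTensor P) (fun i l (F : Hom i l) => (ρ i l F).lTensor P) where
  compat {i l} F x := by
    have : γ l ∘ₗ ρ _ _ F = γ i := LinearMap.ext (h.compat F)
    rw [← LinearMap.comp_apply, ← LinearMap.lTensor_comp, this]
  comp_apply {i j l} F F' x := by
    have : ρ _ _ (comp _ _ _ F F') = ρ _ _ F' ∘ₗ ρ _ _ F := LinearMap.ext (h.comp_apply F F')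
    rw [this, LinearMap.lTensor_comp, LinearMap.comp_apply]
  surj := h.surj_lTensor P
  kill := h.kill_lTensor P

theorem comm_rTensor {R : Type*} [CommRing R] {M N P : Type*} [AddCommGroup M] [Module R M]
    [AddCommGroup N] [Module R N] [AddCommGroup P] [Module R P] (f : M →ₗ[R] N) (x : M ⊗[R] P) :
    TensorProduct.comm R N P (f.rTensor P x) = f.lTensor P (TensorProduct.comm R M P x) := by
  induction x with
  | zero => simp
  | tmul y p => simp
  | add a b ha hb => simp only [map_add, ha, hb]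

theorem comm_lTensor {R : Type*} [CommRing R] {M N P : Type*} [AddCommGroup M] [Module R M]
    [AddCommGroup N] [Module R N] [AddCommGroup P] [Module R P] (f : M →ₗ[R] N) (x : P ⊗[R] M) :
    TensorProduct.comm R P N (f.lTensor P x) = f.rTensor P (TensorProduct.comm R P M x) := by
  induction x with
  | zero => simp
  | tmul y p => simp
  | add a b ha hb => simp only [map_add, ha, hb]

theorem IsSys.rTensor (h : IsSys comp γ ρ) (P : Type uP) [AddCommGroup P] [Module R P] :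
    IsSys comp (fun i => (γ i).rTensor P) (fun i l (F : Hom i l) => (ρ i l F).rTensor P) where
  compat {i l} F x := by
    have : γ l ∘ₗ ρ _ _ F = γ i := LinearMap.ext (h.compat F)
    rw [← LinearMap.comp_apply, ← LinearMap.rTensor_comp, this]
  comp_apply {i j l} F F' x := by
    have : ρ _ _ (comp _ _ _ F F') = ρ _ _ F' ∘ₗ ρ _ _ F := LinearMap.ext (h.comp_apply F F')
    rw [this, LinearMap.rTensor_comp, LinearMap.comp_apply]
  surj i z := by
    obtain ⟨l, F, x, hx⟩ := h.surj_lTensor P i (TensorProduct.comm R N P z)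
    refine ⟨l, F, TensorProduct.comm R P (M l) x, ?_⟩
    apply (TensorProduct.comm R N P).injective
    rw [← hx, comm_rTensor]
    simp
  kill i x hx := by
    obtain ⟨l, F, hF⟩ := h.kill_lTensor P i (TensorProduct.comm R (M i) P x) (by
      rw [← comm_rTensor, hx, map_zero])
    refine ⟨l, F, ?_⟩
    apply (TensorProduct.comm R (M l) P).injective
    rw [map_zero, ← hF, comm_rTensor]

theorem IsSys.of_eq {R' : Type*} [CommRing R'] [∀ i, Module R' (M i)] [Module R' N]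
    {γ' : ∀ i, M i →ₗ[R'] N} {ρ' : ∀ (i l : ι), Hom i l → (M i →ₗ[R'] M l)}
    (h : IsSys comp γ ρ) (hγ : ∀ i x, γ' i x = γ i x) (hρ : ∀ i l F x, ρ' i l F x = ρ i l F x) :
    IsSys comp γ' ρ' where
  compat F x := by rw [hγ, hρ, hγ, h.compat]
  comp_apply F F' x := by rw [hρ, hρ, hρ, h.comp_apply]
  surj i m := by
    obtain ⟨l, F, x, hx⟩ := h.surj i m
    exact ⟨l, F, x, by rw [hγ, hx]⟩
  kill i x hx := by
    rw [hγ] at hx
    obtain ⟨l, F, hF⟩ := h.kill i x hx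
    exact ⟨l, F, by rw [hρ, hF]⟩

end Abstract

section Concrete

universe u

variable {ι : Type u} [Preorder ι] [IsDirected ι (· ≤ ·)] [Nonempty ι]
  {A₀ : Type u} [CommRing A₀] {G : ι → Type u} [∀ i, CommRing (G i)] [∀ i, Algebra A₀ (G i)]
  {A : Type u} [CommRing A] [Algebra A₀ A] (g : ∀ i, G i →ₐ[A₀] A)

/-- Admissible transition maps: algebra maps compatible with the cocone. -/
def Adm (i l : ι) : Type u := {F : G i →ₐ[A₀] G l // (g l).comp F = g i}

def Adm.comp (i j l : ι) (F : Adm g i j) (F' : Adm g j l) : Adm g i l :=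
  ⟨F'.1.comp F.1, by rw [← AlgHom.comp_assoc, F'.2, F.2]⟩

variable (f : ∀ i j, i ≤ j → (G i →ₐ[A₀] G j))
  (hg : ∀ i j (h : i ≤ j), (g j).comp (f i j h) = g i)
  (hsurj : ∀ a : A, ∃ i, ∃ x : G i, g i x = a)
  (hker : ∀ i (x : G i), g i x = 0 → ∃ j, ∃ h : i ≤ j, f i j h x = 0)

include hg hsurj hker in
theorem isSys_G : IsSys (Adm.comp g) (fun i => (g i).toLinearMap)
    (fun i l (F : Adm g i l) => F.1.toLinearMap) where
  compat F x := DFunLike.congr_fun F.2 x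
  comp_apply F F' x := rfl
  surj i a := by
    obtain ⟨j, x, rfl⟩ := hsurj a
    obtain ⟨k, hik, hjk⟩ := exists_ge_ge i j
    exact ⟨k, ⟨f i k hik, hg i k hik⟩, f j k hjk x, DFunLike.congr_fun (hg j k hjk) x⟩
  kill i x hx := by
    obtain ⟨j, h, hj⟩ := hker i x hx
    exact ⟨j, ⟨f i j h, hg i j h⟩, hj⟩

variable (B₀ : Type u) [CommRing B₀] [Algebra A₀ B₀]

/-- The base change `B₀ ⊗ X → B₀ ⊗ Y` of an `A₀`-algebra map. -/
noncomputable abbrev Bmap {X Y : Type u} [CommRing X] [CommRing Y] [Algebra A₀ X] [Algebra A₀ Y]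
    (F : X →ₐ[A₀] Y) : B₀ ⊗[A₀] X →ₐ[B₀] B₀ ⊗[A₀] Y :=
  Algebra.TensorProduct.map (AlgHom.id B₀ B₀) F

theorem Bmap_apply {X Y : Type u} [CommRing X] [CommRing Y] [Algebra A₀ X] [Algebra A₀ Y]
    (F : X →ₐ[A₀] Y) (x : B₀ ⊗[A₀] X) : Bmap B₀ F x = F.toLinearMap.lTensor B₀ x := by
  induction x with
  | zero => simp
  | tmul b y => simp
  | add a b ha hb => simp only [map_add, ha, hb]

include hg hsurj hker in
theorem isSys_B : IsSys (Adm.comp g) (fun i => (Bmap B₀ (g i)).toLinearMap)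
    (fun i l (F : Adm g i l) => (Bmap B₀ F.1).toLinearMap) :=
  ((isSys_G g f hg hsurj hker).lTensor B₀).of_eq (fun i x => Bmap_apply B₀ (g i) x)
    (fun i l F x => Bmap_apply B₀ F.1 x)

variable (C₀ : Type u) [CommRing C₀] [Algebra B₀ C₀]

/-- The induced map on `(B₀ ⊗ X) ⊗[B₀] C₀`. -/
noncomputable abbrev Cmap {X Y : Type u} [CommRing X] [CommRing Y] [Algebra A₀ X] [Algebra A₀ Y]
    (F : X →ₐ[A₀] Y) : (B₀ ⊗[A₀] X) ⊗[B₀] C₀ →ₐ[B₀] (B₀ ⊗[A₀] Y) ⊗[B₀] C₀ :=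
  Algebra.TensorProduct.map (Bmap B₀ F) (AlgHom.id B₀ C₀)

theorem Cmap_apply {X Y : Type u} [CommRing X] [CommRing Y] [Algebra A₀ X] [Algebra A₀ Y]
    (F : X →ₐ[A₀] Y) (z : (B₀ ⊗[A₀] X) ⊗[B₀] C₀) :
    Cmap B₀ C₀ F z = (Bmap B₀ F).toLinearMap.rTensor C₀ z := by
  induction z with
  | zero => simp
  | tmul b y =>
    rw [LinearMap.rTensor_tmul, Algebra.TensorProduct.map_tmul]
    rfl
  | add a b ha hb => simp only [map_add, ha, hb]

include hg hsurj hker in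
theorem isSys_C : IsSys (Adm.comp g) (fun i => (Cmap B₀ C₀ (g i)).toLinearMap)
    (fun i l (F : Adm g i l) => (Cmap B₀ C₀ F.1).toLinearMap) :=
  ((isSys_B g f hg hsurj hker B₀).rTensor C₀).of_eq (fun i x => Cmap_apply B₀ C₀ (g i) x)
    (fun i l F x => Cmap_apply B₀ C₀ F.1 x)

theorem Cmap_algebraMap {X Y : Type u} [CommRing X] [CommRing Y] [Algebra A₀ X] [Algebra A₀ Y]
    (F : X →ₐ[A₀] Y) (b : B₀ ⊗[A₀] X) :
    Cmap B₀ C₀ F (algebraMap (B₀ ⊗[A₀] X) ((B₀ ⊗[A₀] X) ⊗[B₀] C₀) b) =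
      algebraMap (B₀ ⊗[A₀] Y) ((B₀ ⊗[A₀] Y) ⊗[B₀] C₀) (Bmap B₀ F b) := by
  simp [Algebra.TensorProduct.algebraMap_apply]

theorem Cmap_one_tmul {X Y : Type u} [CommRing X] [CommRing Y] [Algebra A₀ X] [Algebra A₀ Y]
    (F : X →ₐ[A₀] Y) (c : C₀) :
    Cmap B₀ C₀ F ((1 : B₀ ⊗[A₀] X) ⊗ₜ[B₀] c) = (1 : B₀ ⊗[A₀] Y) ⊗ₜ[B₀] c := by
  simp

end Concrete

end Groth.Agent.Lib.Helper17.ColimSys
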