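import Mathlib
import Groth.Agent.Lib.Helper17.ColimSys

/-!
Descent of properties of `B₀ ⊗ A → (B₀ ⊗ A) ⊗[B₀] C₀` to a finite level of a directed system.
-/

namespace Groth.Agent.Lib.Helper17.ColimSys

open TensorProduct

universe u

variable {ι : Type u} [Preorder ι] [IsDirected ι (· ≤ ·)] [Nonempty ι]
  {A₀ : Type u} [CommRing A₀] {G : ι → Type u} [∀ i, CommRing (G i)] [∀ i, Algebra A₀ (G i)]
  {A : Type u} [CommRing A] [Algebra A₀ A] (g : ∀ i, G i →ₐ[A₀] A)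
  (f : ∀ i j, i ≤ j → (G i →ₐ[A₀] G j))
  (hg : ∀ i j (h : i ≤ j), (g j).comp (f i j h) = g i)
  (hsurj : ∀ a : A, ∃ i, ∃ x : G i, g i x = a)
  (hker : ∀ i (x : G i), g i x = 0 → ∃ j, ∃ h : i ≤ j, f i j h x = 0)
  (B₀ : Type u) [CommRing B₀] [Algebra A₀ B₀] (C₀ : Type u) [CommRing C₀] [Algebra B₀ C₀]

/-- If the `1 ⊗ c` for `c` in a generating set lie in the range of the structure map,
the structure map is surjective. -/
theorem surjective_of_generators {T : Type u} [CommRing T] [Algebra B₀ T] (s : Set C₀)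
    (hs : Algebra.adjoin B₀ s = ⊤)
    (h : ∀ c ∈ s, (1 : T) ⊗ₜ[B₀] c ∈ (algebraMap T (T ⊗[B₀] C₀)).range) :
    Function.Surjective (algebraMap T (T ⊗[B₀] C₀)) := by
  have hall : ∀ c : C₀, (1 : T) ⊗ₜ[B₀] c ∈ (algebraMap T (T ⊗[B₀] C₀)).range := by
    intro c
    have hc : c ∈ Algebra.adjoin B₀ s := by rw [hs]; trivial
    induction hc using Algebra.adjoin_induction with
    | mem x hx => exact h x hx
    | algebraMap r =>
      refine ⟨algebraMap B₀ T r, ?_⟩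
      rw [Algebra.TensorProduct.algebraMap_apply, Algebra.algebraMap_self, RingHom.id_apply,
        Algebra.TensorProduct.tmul_one_eq_one_tmul]
    | add x y _ _ hx hy =>
      rw [TensorProduct.tmul_add]
      exact add_mem hx hy
    | mul x y _ _ hx hy =>
      have : (1 : T) ⊗ₜ[B₀] (x * y) = (1 ⊗ₜ x) * (1 ⊗ₜ y) := by
        simp [Algebra.TensorProduct.tmul_mul_tmul]
      rw [this]
      exact mul_mem hx hy
  intro x
  induction x with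
  | zero => exact ⟨0, map_zero _⟩
  | tmul β c =>
    have : β ⊗ₜ[B₀] c = algebraMap T (T ⊗[B₀] C₀) β * (1 ⊗ₜ c) := by
      simp [Algebra.TensorProduct.algebraMap_apply, Algebra.TensorProduct.tmul_mul_tmul]
    rw [this]
    obtain ⟨y, hy⟩ := hall c
    exact ⟨β * y, by rw [map_mul, hy]⟩
  | add x y hx hy =>
    obtain ⟨a, rfl⟩ := hx
    obtain ⟨b, rfl⟩ := hy
    exact ⟨a + b, map_add _ _ _⟩

include hg hsurj hker in
theorem exists_surjective [Algebra.FiniteType B₀ C₀] (i : ι)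
    (h : Function.Surjective (algebraMap (B₀ ⊗[A₀] A) ((B₀ ⊗[A₀] A) ⊗[B₀] C₀))) :
    ∃ l, ∃ _ : Adm g i l,
      Function.Surjective (algebraMap (B₀ ⊗[A₀] G l) ((B₀ ⊗[A₀] G l) ⊗[B₀] C₀)) := by
  classical
  obtain ⟨s, hs⟩ := (Algebra.FiniteType.out : (⊤ : Subalgebra B₀ C₀).FG)
  have hb : ∀ c : s, ∃ b : B₀ ⊗[A₀] A,
      algebraMap (B₀ ⊗[A₀] A) ((B₀ ⊗[A₀] A) ⊗[B₀] C₀) b = (1 : B₀ ⊗[A₀] A) ⊗ₜ[B₀] (c : C₀) :=
    fun c => h _
  choose b hb using hb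
  have hB := isSys_B g f hg hsurj hker B₀
  have hC := isSys_C g f hg hsurj hker B₀ C₀
  obtain ⟨l₁, F₁, b', hb'⟩ := hB.lift_family i b
  let z : s → (B₀ ⊗[A₀] G l₁) ⊗[B₀] C₀ := fun c =>
    (1 : B₀ ⊗[A₀] G l₁) ⊗ₜ[B₀] (c : C₀) - algebraMap _ _ (b' c)
  have hz : ∀ c, (Cmap B₀ C₀ (g l₁)).toLinearMap (z c) = 0 := by
    intro c
    have h1 : Bmap B₀ (g l₁) (b' c) = b c := hb' c
    simp only [z, AlgHom.toLinearMap_apply, map_sub, Cmap_one_tmul, Cmap_algebraMap]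
    rw [h1, hb c, sub_self]
  obtain ⟨l₂, F₂, h₂⟩ := hC.kill_family l₁ z hz
  refine ⟨l₂, Adm.comp g _ _ _ F₁ F₂, ?_⟩
  apply surjective_of_generators B₀ C₀ (s : Set C₀) hs
  intro c hc
  have := h₂ ⟨c, hc⟩
  simp only [z, AlgHom.toLinearMap_apply, map_sub, Cmap_one_tmul, Cmap_algebraMap,
    sub_eq_zero] at this
  exact ⟨_, this.symm⟩

/-- A subalgebra of `T ⊗[B₀] C₀` over `T` containing `1 ⊗ c` for `c` in a generating set
is everything. -/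
theorem subalgebra_eq_top_of_generators {T : Type u} [CommRing T] [Algebra B₀ T] (s : Set C₀)
    (hs : Algebra.adjoin B₀ s = ⊤) (S' : Subalgebra T (T ⊗[B₀] C₀))
    (h : ∀ c ∈ s, (1 : T) ⊗ₜ[B₀] c ∈ S') : S' = ⊤ := by
  have hall : ∀ c : C₀, (1 : T) ⊗ₜ[B₀] c ∈ S' := by
    intro c
    have hc : c ∈ Algebra.adjoin B₀ s := by rw [hs]; trivial
    induction hc using Algebra.adjoin_induction with
    | mem x hx => exact h x hx
    | algebraMap r =>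
      have : (1 : T) ⊗ₜ[B₀] (algebraMap B₀ C₀ r) =
          algebraMap T (T ⊗[B₀] C₀) (algebraMap B₀ T r) := by
        rw [Algebra.TensorProduct.algebraMap_apply, Algebra.algebraMap_self, RingHom.id_apply,
          Algebra.TensorProduct.tmul_one_eq_one_tmul]
      rw [this]
      exact S'.algebraMap_mem _
    | add x y _ _ hx hy =>
      rw [TensorProduct.tmul_add]
      exact add_mem hx hy
    | mul x y _ _ hx hy =>
      have : (1 : T) ⊗ₜ[B₀] (x * y) = (1 ⊗ₜ x) * (1 ⊗ₜ y) := by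
        simp [Algebra.TensorProduct.tmul_mul_tmul]
      rw [this]
      exact mul_mem hx hy
  rw [eq_top_iff]
  rintro x -
  induction x with
  | zero => exact zero_mem _
  | tmul β c =>
    have : β ⊗ₜ[B₀] c = algebraMap T (T ⊗[B₀] C₀) β * (1 ⊗ₜ c) := by
      simp [Algebra.TensorProduct.algebraMap_apply, Algebra.TensorProduct.tmul_mul_tmul]
    rw [this]
    exact mul_mem (S'.algebraMap_mem _) (hall c)
  | add x y hx hy => exact add_mem hx hy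

/-- Compatibility of polynomial evaluation with the transition maps. -/
theorem Cmap_aeval {X Y : Type u} [CommRing X] [CommRing Y] [Algebra A₀ X] [Algebra A₀ Y]
    (F : X →ₐ[A₀] Y) (p : Polynomial (B₀ ⊗[A₀] X)) (y : (B₀ ⊗[A₀] X) ⊗[B₀] C₀) :
    Cmap B₀ C₀ F (Polynomial.aeval y p) =
      Polynomial.aeval (Cmap B₀ C₀ F y) (p.map (Bmap B₀ F : B₀ ⊗[A₀] X →+* B₀ ⊗[A₀] Y)) := by
  rw [Polynomial.aeval_def, Polynomial.aeval_def, Polynomial.eval₂_map,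
    ← AlgHom.coe_toRingHom (Cmap B₀ C₀ F), Polynomial.hom_eval₂]
  congr 1

include hg hsurj hker in
theorem exists_finite [Algebra.FiniteType B₀ C₀] (i : ι)
    (h : Module.Finite (B₀ ⊗[A₀] A) ((B₀ ⊗[A₀] A) ⊗[B₀] C₀)) :
    ∃ l, ∃ _ : Adm g i l, Module.Finite (B₀ ⊗[A₀] G l) ((B₀ ⊗[A₀] G l) ⊗[B₀] C₀) := by
  classical
  obtain ⟨s, hs⟩ := (Algebra.FiniteType.out : (⊤ : Subalgebra B₀ C₀).FG)
  have hint : ∀ c : s, ∃ p : Polynomial (B₀ ⊗[A₀] A), p.Monic ∧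
      Polynomial.aeval ((1 : B₀ ⊗[A₀] A) ⊗ₜ[B₀] (c : C₀)) p = 0 := fun c =>
    Algebra.IsIntegral.isIntegral (R := B₀ ⊗[A₀] A) _
  choose p hpm hp0 using hint
  have hB := isSys_B g f hg hsurj hker B₀
  have hC := isSys_C g f hg hsurj hker B₀ C₀
  obtain ⟨l₁, F₁, a', ha'⟩ := hB.lift_family i
    (fun k : (Σ c : s, Fin (p c).natDegree) => (p k.1).coeff (k.2 : ℕ))
  let q : s → Polynomial (B₀ ⊗[A₀] G l₁) := fun c =>
    Polynomial.X ^ (p c).natDegree +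
      ∑ k : Fin (p c).natDegree, Polynomial.C (a' ⟨c, k⟩) * Polynomial.X ^ (k : ℕ)
  have hqm : ∀ c, (q c).Monic := fun c =>
    Polynomial.monic_X_pow_add (Polynomial.degree_sum_fin_lt _)
  have hqp : ∀ c, (q c).map (Bmap B₀ (g l₁) : B₀ ⊗[A₀] G l₁ →+* B₀ ⊗[A₀] A) = p c := by
    intro c
    conv_rhs => rw [(hpm c).as_sum]
    simp only [q, Polynomial.map_add, Polynomial.map_pow, Polynomial.map_X, Polynomial.map_sum,
      Polynomial.map_mul, Polynomial.map_C]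
    congr 1
    rw [Finset.sum_range]
    refine Finset.sum_congr rfl fun k _ => ?_
    congr 2
    exact ha' ⟨c, k⟩
  let z : s → (B₀ ⊗[A₀] G l₁) ⊗[B₀] C₀ := fun c =>
    Polynomial.aeval ((1 : B₀ ⊗[A₀] G l₁) ⊗ₜ[B₀] (c : C₀)) (q c)
  have hz : ∀ c, (Cmap B₀ C₀ (g l₁)).toLinearMap (z c) = 0 := by
    intro c
    simp only [z, AlgHom.toLinearMap_apply]
    rw [Cmap_aeval, hqp, Cmap_one_tmul, hp0]
  obtain ⟨l₂, F₂, h₂⟩ := hC.kill_family l₁ z hz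
  refine ⟨l₂, Adm.comp g _ _ _ F₁ F₂, ?_⟩
  have hint2 : ∀ c ∈ s, IsIntegral (B₀ ⊗[A₀] G l₂) ((1 : B₀ ⊗[A₀] G l₂) ⊗ₜ[B₀] c) := by
    intro c hc
    refine ⟨(q ⟨c, hc⟩).map (Bmap B₀ F₂.1 : B₀ ⊗[A₀] G l₁ →+* B₀ ⊗[A₀] G l₂),
      (hqm _).map _, ?_⟩
    have := h₂ ⟨c, hc⟩
    simp only [z, AlgHom.toLinearMap_apply] at this
    rw [Cmap_aeval, Cmap_one_tmul] at this
    exact this
  have htop : integralClosure (B₀ ⊗[A₀] G l₂) ((B₀ ⊗[A₀] G l₂) ⊗[B₀] C₀) = ⊤ :=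
    subalgebra_eq_top_of_generators B₀ C₀ (s : Set C₀) hs _ hint2
  have hI : Algebra.IsIntegral (B₀ ⊗[A₀] G l₂) ((B₀ ⊗[A₀] G l₂) ⊗[B₀] C₀) :=
    ⟨fun x => by
      have : x ∈ integralClosure (B₀ ⊗[A₀] G l₂) ((B₀ ⊗[A₀] G l₂) ⊗[B₀] C₀) := by
        rw [htop]; trivial
      exact this⟩
  exact Algebra.finite_iff_isIntegral_and_finiteType.mpr ⟨hI, inferInstance⟩

open KaehlerDifferential in
/-- If the differentials of the `1 ⊗ c`, for `c` in a generating set, vanish then the base change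
is formally unramified. -/
theorem formallyUnramified_of_generators {T : Type u} [CommRing T] [Algebra B₀ T] (s : Set C₀)
    (hs : Algebra.adjoin B₀ s = ⊤)
    (h : ∀ c ∈ s, D T (T ⊗[B₀] C₀) ((1 : T) ⊗ₜ[B₀] c) = 0) :
    Algebra.FormallyUnramified T (T ⊗[B₀] C₀) := by
  have htop : Algebra.adjoin T ((fun c : C₀ => (1 : T) ⊗ₜ[B₀] c) '' s) = ⊤ :=
    subalgebra_eq_top_of_generators B₀ C₀ s hs _ (fun c hc =>
      Algebra.subset_adjoin ⟨c, hc, rfl⟩)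
  have hD : ∀ z : T ⊗[B₀] C₀, D T (T ⊗[B₀] C₀) z = 0 := by
    intro z
    have hz : z ∈ Algebra.adjoin T ((fun c : C₀ => (1 : T) ⊗ₜ[B₀] c) '' s) := by
      rw [htop]; trivial
    have := Derivation.eqOn_adjoin (D1 := D T (T ⊗[B₀] C₀)) (D2 := 0)
      (s := (fun c : C₀ => (1 : T) ⊗ₜ[B₀] c) '' s) (by
        rintro _ ⟨c, hc, rfl⟩
        simpa using h c hc) hz
    simpa using this
  refine ⟨?_⟩
  have : (⊤ : Submodule (T ⊗[B₀] C₀) Ω[T ⊗[B₀] C₀⁄T]) = ⊥ := by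
    rw [← span_range_derivation, Submodule.span_eq_bot]
    rintro _ ⟨z, rfl⟩
    exact hD z
  exact (Submodule.subsingleton_iff (T ⊗[B₀] C₀)).mp (subsingleton_iff_bot_eq_top.mp this.symm)

include hg hsurj hker in
open KaehlerDifferential in
theorem exists_formallyUnramified [Algebra.FiniteType B₀ C₀] (i : ι)
    (h : Algebra.FormallyUnramified (B₀ ⊗[A₀] A) ((B₀ ⊗[A₀] A) ⊗[B₀] C₀)) :
    ∃ l, ∃ _ : Adm g i l,
      Algebra.FormallyUnramified (B₀ ⊗[A₀] G l) ((B₀ ⊗[A₀] G l) ⊗[B₀] C₀) := by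
  classical
  obtain ⟨s, hs⟩ := (Algebra.FiniteType.out : (⊤ : Subalgebra B₀ C₀).FG)
  have hB := isSys_B g f hg hsurj hker B₀
  have hΩ := hB.rTensor (Ω[C₀⁄B₀])
  have hsub : Subsingleton ((B₀ ⊗[A₀] A) ⊗[B₀] Ω[C₀⁄B₀]) := by
    letI : Algebra C₀ ((B₀ ⊗[A₀] A) ⊗[B₀] C₀) := Algebra.TensorProduct.rightAlgebra
    exact (tensorKaehlerEquivBase B₀ (B₀ ⊗[A₀] A) C₀ ((B₀ ⊗[A₀] A) ⊗[B₀] C₀)).subsingleton
  let x : s → (B₀ ⊗[A₀] G i) ⊗[B₀] Ω[C₀⁄B₀] := fun c => 1 ⊗ₜ D B₀ C₀ (c : C₀)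
  obtain ⟨l, F, hF⟩ := hΩ.kill_family i x (fun c => Subsingleton.elim _ _)
  refine ⟨l, F, ?_⟩
  have h1 : ∀ c ∈ s, (1 : B₀ ⊗[A₀] G l) ⊗ₜ[B₀] D B₀ C₀ c = 0 := by
    intro c hc
    have := hF ⟨c, hc⟩
    simp only [x, LinearMap.rTensor_tmul, AlgHom.toLinearMap_apply, map_one] at this
    exact this
  apply formallyUnramified_of_generators B₀ C₀ (s : Set C₀) hs
  intro c hc
  letI : Algebra C₀ ((B₀ ⊗[A₀] G l) ⊗[B₀] C₀) := Algebra.TensorProduct.rightAlgebra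
  have := congrArg (tensorKaehlerEquivBase B₀ (B₀ ⊗[A₀] G l) C₀ ((B₀ ⊗[A₀] G l) ⊗[B₀] C₀))
    (h1 c hc)
  rw [tensorKaehlerEquivBase_tmul, one_smul, map_D, map_zero] at this
  exact this

section Poly

variable {σ : Type*}

include hg hsurj hker in
theorem kill_mvPoly {κ : Type*} [Finite κ] (i : ι) (p : κ → MvPolynomial σ (B₀ ⊗[A₀] G i))
    (hp : ∀ k, MvPolynomial.map (Bmap B₀ (g i) : B₀ ⊗[A₀] G i →+* B₀ ⊗[A₀] A) (p k) = 0) :
    ∃ l, ∃ F : Adm g i l, ∀ k,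
      MvPolynomial.map (Bmap B₀ F.1 : B₀ ⊗[A₀] G i →+* B₀ ⊗[A₀] G l) (p k) = 0 := by
  classical
  cases nonempty_fintype κ
  have hB := isSys_B g f hg hsurj hker B₀
  obtain ⟨l, F, hF⟩ := hB.kill_finset i
    (Finset.univ.biUnion fun k => (p k).support.image (p k).coeff) (by
      intro x hx
      obtain ⟨k, -, hx⟩ := Finset.mem_biUnion.mp hx
      obtain ⟨m, -, rfl⟩ := Finset.mem_image.mp hx
      have := congrArg (MvPolynomial.coeff m) (hp k)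
      rw [MvPolynomial.coeff_map, MvPolynomial.coeff_zero] at this
      exact this)
  refine ⟨l, F, fun k => ?_⟩
  ext m
  rw [MvPolynomial.coeff_map, MvPolynomial.coeff_zero]
  by_cases hm : m ∈ (p k).support
  · exact hF _ (Finset.mem_biUnion.mpr ⟨k, Finset.mem_univ k,
      Finset.mem_image_of_mem _ hm⟩)
  · rw [MvPolynomial.notMem_support_iff.mp hm, map_zero]

include hg hsurj hker in
theorem lift_mvPoly {κ : Type*} [Finite κ] (i : ι) (p : κ → MvPolynomial σ (B₀ ⊗[A₀] A)) :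
    ∃ l, ∃ _ : Adm g i l, ∃ q : κ → MvPolynomial σ (B₀ ⊗[A₀] G l), ∀ k,
      MvPolynomial.map (Bmap B₀ (g l) : B₀ ⊗[A₀] G l →+* B₀ ⊗[A₀] A) (q k) = p k := by
  classical
  have hB := isSys_B g f hg hsurj hker B₀
  obtain ⟨l, F, x, hx⟩ := hB.lift_family i
    (fun e : (Σ k : κ, (p k).support) => (p e.1).coeff e.2.1)
  refine ⟨l, F, fun k => ∑ m ∈ (p k).support.attach, MvPolynomial.monomial m.1 (x ⟨k, m⟩),
    fun k => ?_⟩
  rw [map_sum]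
  conv_rhs => rw [← MvPolynomial.support_sum_monomial_coeff (p k), ← Finset.sum_attach]
  refine Finset.sum_congr rfl fun m _ => ?_
  rw [MvPolynomial.map_monomial]
  congr 1
  exact hx ⟨k, m⟩

end Poly

/-- A homomorphism out of a presented algebra from values killing the relations. -/
theorem nonempty_algHom_of_presentation {n m : ℕ}
    (P : Algebra.Presentation B₀ C₀ (Fin n) (Fin m)) {T : Type u} [CommRing T] [Algebra B₀ T]
    (t : Fin n → T) (ht : ∀ j, MvPolynomial.aeval t (P.relation j) = 0) :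
    Nonempty (C₀ →ₐ[B₀] T) := by
  have hker : ∀ a ∈ P.ker, MvPolynomial.aeval t a = 0 := by
    intro a ha
    rw [← P.span_range_relation_eq_ker] at ha
    have : Ideal.span (Set.range P.relation) ≤ RingHom.ker (MvPolynomial.aeval (R := B₀) t) := by
      rw [Ideal.span_le]
      rintro _ ⟨j, rfl⟩
      exact ht j
    exact this ha
  exact ⟨(Ideal.Quotient.liftₐ P.ker (MvPolynomial.aeval t) hker).comp
    ((P.quotientEquiv.symm.restrictScalars B₀ : C₀ ≃ₐ[B₀] P.Quotient) : C₀ →ₐ[B₀] P.Quotient)⟩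

include hg hsurj hker in
theorem exists_algHom [Algebra.FinitePresentation B₀ C₀] (i : ι)
    (τ : C₀ →ₐ[B₀] B₀ ⊗[A₀] A) :
    ∃ l, ∃ _ : Adm g i l, Nonempty (C₀ →ₐ[B₀] B₀ ⊗[A₀] G l) := by
  classical
  let P := Algebra.Presentation.ofFinitePresentation B₀ C₀
  have hB := isSys_B g f hg hsurj hker B₀
  obtain ⟨l₁, F₁, t', ht'⟩ := hB.lift_family i (fun k => τ (P.val k))
  have he : ∀ j, (Bmap B₀ (g l₁)).toLinearMap (MvPolynomial.aeval t' (P.relation j)) = 0 := by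
    intro j
    rw [AlgHom.toLinearMap_apply, MvPolynomial.comp_aeval_apply]
    have : (fun k => Bmap B₀ (g l₁) (t' k)) = fun k => τ (P.val k) := funext ht'
    rw [this, ← MvPolynomial.comp_aeval_apply, P.aeval_val_relation, map_zero]
  obtain ⟨l₂, F₂, h₂⟩ := hB.kill_family l₁ _ he
  refine ⟨l₂, Adm.comp g _ _ _ F₁ F₂, ?_⟩
  refine nonempty_algHom_of_presentation B₀ C₀ P (fun k => Bmap B₀ F₂.1 (t' k)) (fun j => ?_)
  rw [← MvPolynomial.comp_aeval_apply]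
  exact h₂ j

include hg hsurj hker in
theorem exists_bijective [Algebra.FinitePresentation B₀ C₀] (i : ι)
    (h : Function.Bijective (algebraMap (B₀ ⊗[A₀] A) ((B₀ ⊗[A₀] A) ⊗[B₀] C₀))) :
    ∃ l, ∃ _ : Adm g i l,
      Function.Bijective (algebraMap (B₀ ⊗[A₀] G l) ((B₀ ⊗[A₀] G l) ⊗[B₀] C₀)) := by
  let e : (B₀ ⊗[A₀] A) ≃ₐ[B₀ ⊗[A₀] A] ((B₀ ⊗[A₀] A) ⊗[B₀] C₀) :=
    AlgEquiv.ofBijective (Algebra.ofId _ _) h
  let τ : C₀ →ₐ[B₀] B₀ ⊗[A₀] A :=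
    ((e.symm : ((B₀ ⊗[A₀] A) ⊗[B₀] C₀) →ₐ[B₀ ⊗[A₀] A] (B₀ ⊗[A₀] A)).restrictScalars B₀).comp
      (Algebra.TensorProduct.includeRight : C₀ →ₐ[B₀] (B₀ ⊗[A₀] A) ⊗[B₀] C₀)
  obtain ⟨l₁, F₁, ⟨τ₁⟩⟩ := exists_algHom g f hg hsurj hker B₀ C₀ i τ
  obtain ⟨l₂, F₂, hs⟩ := exists_surjective g f hg hsurj hker B₀ C₀ l₁ h.2
  refine ⟨l₂, Adm.comp g _ _ _ F₁ F₂, ?_, hs⟩
  let τ₂ : C₀ →ₐ[B₀] B₀ ⊗[A₀] G l₂ := (Bmap B₀ F₂.1).comp τ₁
  let r : (B₀ ⊗[A₀] G l₂) ⊗[B₀] C₀ →ₐ[B₀ ⊗[A₀] G l₂] (B₀ ⊗[A₀] G l₂) :=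
    Algebra.TensorProduct.lift (AlgHom.id _ _) τ₂ (fun _ _ => Commute.all _ _)
  have hr : Function.LeftInverse r (algebraMap (B₀ ⊗[A₀] G l₂) ((B₀ ⊗[A₀] G l₂) ⊗[B₀] C₀)) := by
    intro b
    rw [AlgHom.commutes]
    rfl
  exact hr.injective

end Groth.Agent.Lib.Helper17.ColimSys
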