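import Groth.Agent.Lib.Helper17.SmoothBaseChange
import Groth.Agent.Lib.Helper17.UnramPullback
import Mathlib

set_option autoImplicit false
set_option backward.isDefEq.respectTransparency.types false
open CategoryTheory CategoryTheory.Limits AlgebraicGeometry Opposite
universe u

namespace Groth.Agent.Lib.Helper17.SmoothPullback

open Groth.Agent.Lib.Helper17.UnramPullback

set_option backward.defeqAttrib.useBackward true in
set_option backward.isDefEq.respectTransparency false in
/-- Affine case of pointwise smooth descent along base change flat at the point. -/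
theorem stalkMap_formallySmooth_of_pullback_affine {X Y Y' : Scheme.{u}} [IsAffine X]
    [IsAffine Y] [IsAffine Y'] (f : X ⟶ Y) [LocallyOfFiniteType f] (g : Y' ⟶ Y)
    (z : ↑(pullback f g))
    (hg : (g.stalkMap (pullback.snd f g z)).hom.Flat)
    (h : ((pullback.snd f g).stalkMap z).hom.FormallySmooth) :
    (f.stalkMap (pullback.fst f g z)).hom.FormallySmooth := by
  have hX := isAffineOpen_top X
  have hY := isAffineOpen_top Y
  have hY' := isAffineOpen_top Y'
  have hP := isAffineOpen_top (pullback f g)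
  rw [formallySmooth_stalkMap_iff ⊤ hY' ⊤ hP le_top (x := z) trivial] at h
  rw [formallySmooth_stalkMap_iff ⊤ hY ⊤ hX le_top trivial]
  letI : Algebra Γ(Y, ⊤) Γ(X, ⊤) := (f.appLE ⊤ ⊤ le_top).hom.toAlgebra
  letI : Algebra Γ(Y, ⊤) Γ(Y', ⊤) := (g.appLE ⊤ ⊤ le_top).hom.toAlgebra
  letI : Algebra Γ(X, ⊤) Γ(pullback f g, ⊤) :=
    ((pullback.fst f g).appLE ⊤ ⊤ le_top).hom.toAlgebra
  letI : Algebra Γ(Y', ⊤) Γ(pullback f g, ⊤) :=
    ((pullback.snd f g).appLE ⊤ ⊤ le_top).hom.toAlgebra
  letI : Algebra Γ(Y, ⊤) Γ(pullback f g, ⊤) :=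
    ((algebraMap Γ(X, ⊤) Γ(pullback f g, ⊤)).comp (algebraMap Γ(Y, ⊤) Γ(X, ⊤))).toAlgebra
  haveI : IsScalarTower Γ(Y, ⊤) Γ(X, ⊤) Γ(pullback f g, ⊤) :=
    IsScalarTower.of_algebraMap_eq (fun _ => rfl)
  have hsq : f.appTop ≫ (pullback.fst f g).appTop = g.appTop ≫ (pullback.snd f g).appTop := by
    rw [← Scheme.Hom.comp_appTop, ← Scheme.Hom.comp_appTop, pullback.condition]
  haveI : IsScalarTower Γ(Y, ⊤) Γ(Y', ⊤) Γ(pullback f g, ⊤) := by
    refine IsScalarTower.of_algebraMap_eq' ?_
    simp only [RingHom.algebraMap_toAlgebra, appLE_top_top]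
    rw [← CommRingCat.hom_comp, ← CommRingCat.hom_comp, hsq]
  haveI : Algebra.IsPushout Γ(Y, ⊤) Γ(X, ⊤) Γ(Y', ⊤) Γ(pullback f g, ⊤) := by
    rw [← CommRingCat.isPushout_iff_isPushout]
    simp only [RingHom.algebraMap_toAlgebra, appLE_top_top, CommRingCat.ofHom_hom]
    exact isPushout_appTop_of_isPullback (IsPullback.of_hasPullback f g)
  haveI : Algebra.IsPushout Γ(Y, ⊤) Γ(Y', ⊤) Γ(X, ⊤) Γ(pullback f g, ⊤) := .symm inferInstance
  haveI : Algebra.FiniteType Γ(Y, ⊤) Γ(X, ⊤) := f.finiteType_appLE hY hX le_top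
  set q' := (hP.primeIdealOf ⟨z, trivial⟩).asIdeal with hq'
  set P' := (hY'.primeIdealOf ⟨pullback.snd f g z, trivial⟩).asIdeal with hP'
  set q := (hX.primeIdealOf ⟨pullback.fst f g z, trivial⟩).asIdeal with hq
  set P := (hY.primeIdealOf ⟨g (pullback.snd f g z), trivial⟩).asIdeal with hPdef
  have hlies : q'.LiesOver P' :=
    ⟨congr($(IsAffineOpen.comap_primeIdealOf_appLE (f := pullback.snd f g) ⊤ hY' ⊤ hP le_top
      (x := z) trivial).1).symm⟩
  have hqq : q = q'.comap (algebraMap Γ(X, ⊤) Γ(pullback f g, ⊤)) :=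
    congr($(IsAffineOpen.comap_primeIdealOf_appLE (f := pullback.fst f g) ⊤ hX ⊤ hP le_top
      (x := z) trivial).1).symm
  have hliesP : P'.LiesOver P :=
    ⟨congr($(IsAffineOpen.comap_primeIdealOf_appLE (f := g) ⊤ hY ⊤ hY' le_top
      (x := pullback.snd f g z) trivial).1).symm⟩
  letI := Localization.AtPrime.algebraOfLiesOver P P'
  have hflat1 : Module.Flat (Localization.AtPrime P) (Localization.AtPrime P') := by
    have := (RingHom.Flat.respectsIso.arrow_mk_iso_iff
      (IsAffineOpen.arrowStalkMapIso g ⊤ hY ⊤ hY' le_top trivial)).mp hg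
    rw [← RingHom.flat_algebraMap_iff]
    exact this
  have hflat : Module.Flat Γ(Y, ⊤) (Localization.AtPrime P') :=
    Module.Flat.trans _ (Localization.AtPrime P) _
  haveI : Algebra.FormallySmooth Γ(Y', ⊤) (Localization.AtPrime q') := h
  exact Groth.Agent.Lib.Helper17.SmoothBaseChange.formallySmooth_localization_of_isPushout_of_flat_localization
    (R := Γ(Y, ⊤)) (S := Γ(Y', ⊤)) (A := Γ(X, ⊤)) (B := Γ(pullback f g, ⊤)) q' P' q hqq

/-- Transport of a stalk-level property along open immersions on source and target. -/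
theorem stalkMap_iff_of_comp_eq {P : ∀ {R S : Type u} [CommRing R] [CommRing S], (R →+* S) → Prop}
    (hP : RingHom.RespectsIso P) {X X₀ Y Y₀ : Scheme.{u}} (f : X ⟶ Y)
    (f₀ : X₀ ⟶ Y₀) (i : X₀ ⟶ X) (j : Y₀ ⟶ Y) [IsOpenImmersion i] [IsOpenImmersion j]
    (e : f₀ ≫ j = i ≫ f) (z : X₀) :
    P (f₀.stalkMap z).hom ↔ P (f.stalkMap (i z)).hom := by
  have h1 : P ((f₀ ≫ j).stalkMap z).hom ↔ P (f₀.stalkMap z).hom := by
    rw [Scheme.Hom.stalkMap_comp]
    exact hP.cancel_left_isIso (j.stalkMap (f₀ z)) _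
  have h2 : P ((i ≫ f).stalkMap z).hom ↔ P (f.stalkMap (i z)).hom := by
    rw [Scheme.Hom.stalkMap_comp]
    exact hP.cancel_right_isIso _ (i.stalkMap z)
  rw [← h1, ← h2, e]

/-- Pointwise descent of smoothness along a base change which is flat at the image point: if the
base change `X ×_Y Y' → Y'` of a morphism `f` locally of finite type is (formally) smooth at `x'`
and `g : Y' → Y` is flat at the image of `x'`, then `f` is (formally) smooth at the image of `x'`. -/
theorem stalkMap_formallySmooth_of_pullback {X Y Y' : Scheme.{u}} (f : X ⟶ Y)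
    [LocallyOfFiniteType f] (g : Y' ⟶ Y) (x' : ↑(pullback f g))
    (hg : (g.stalkMap (pullback.snd f g x')).hom.Flat)
    (h : ((pullback.snd f g).stalkMap x').hom.FormallySmooth) :
    (f.stalkMap (pullback.fst f g x')).hom.FormallySmooth := by
  obtain ⟨U, hU, V, hV, hVU, hxV⟩ :=
    Groth.Agent.Lib.Helper17.UnibranchScheme.exists_affine_nhds f (pullback.fst f g x')
  have hyU : g (pullback.snd f g x') ∈ U := by
    rw [← Scheme.Hom.comp_apply, ← pullback.condition, Scheme.Hom.comp_apply]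
    exact hVU hxV
  obtain ⟨U', hU', hU'U', hyU'⟩ := exists_affine_nhds_le g U _ hyU
  haveI : IsAffine U.toScheme := hU
  haveI : IsAffine V.toScheme := hV
  haveI : IsAffine U'.toScheme := hU'
  let k := pullback.map (f.resLE U V hVU) (g.resLE U U' hU'U') f g V.ι U'.ι U.ι
    (by simp) (by simp)
  have hk : x' ∈ Set.range k := by
    rw [Scheme.Pullback.range_map]
    refine ⟨?_, ?_⟩
    · simpa using hxV
    · simpa using hyU'
  obtain ⟨z, rfl⟩ := hk
  have e1 : pullback.snd (f.resLE U V hVU) (g.resLE U U' hU'U') ≫ U'.ι =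
      k ≫ pullback.snd f g := (pullback.lift_snd _ _ _).symm
  have e3 : k ≫ pullback.fst f g =
      pullback.fst (f.resLE U V hVU) (g.resLE U U' hU'U') ≫ V.ι := pullback.lift_fst _ _ _
  have h1 := (stalkMap_iff_of_comp_eq RingHom.FormallySmooth.respectsIso (pullback.snd f g)
    (pullback.snd (f.resLE U V hVU) (g.resLE U U' hU'U')) k U'.ι e1 z).mpr h
  have e4 : U'.ι (pullback.snd (f.resLE U V hVU) (g.resLE U U' hU'U') z) =
      pullback.snd f g (k z) := by
    change (pullback.snd (f.resLE U V hVU) (g.resLE U U' hU'U') ≫ U'.ι) z =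
      (k ≫ pullback.snd f g) z
    rw [e1]
  have hg1 : ((g.resLE U U' hU'U').stalkMap
      (pullback.snd (f.resLE U V hVU) (g.resLE U U' hU'U') z)).hom.Flat := by
    refine (stalkMap_iff_of_comp_eq RingHom.Flat.respectsIso g (g.resLE U U' hU'U') U'.ι U.ι
      (Scheme.Hom.resLE_comp_ι g hU'U') _).mpr ?_
    rw [e4]
    exact hg
  have h2 := stalkMap_formallySmooth_of_pullback_affine (f.resLE U V hVU)
    (g.resLE U U' hU'U') z hg1 h1
  have h3 := (stalkMap_iff_of_comp_eq RingHom.FormallySmooth.respectsIso f (f.resLE U V hVU)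
    V.ι U.ι (Scheme.Hom.resLE_comp_ι f hVU) _).mp h2
  have e2 : V.ι (pullback.fst (f.resLE U V hVU) (g.resLE U U' hU'U') z) =
      pullback.fst f g (k z) := by
    change (pullback.fst (f.resLE U V hVU) (g.resLE U U' hU'U') ≫ V.ι) z =
      (k ≫ pullback.fst f g) z
    rw [e3]
  rwa [e2] at h3

end Groth.Agent.Lib.Helper17.SmoothPullback
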