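import Groth.Agent.Lib.Helper17.UniqueMinimal
import Groth.Agent.Lib.Helper17.UnibranchScheme
import Mathlib

/-!
# Étale over geometrically unibranch (possibly non-reduced) schemes: irreducible components
-/

set_option autoImplicit false
set_option backward.isDefEq.respectTransparency.types false
universe u

namespace Groth.Agent.Lib.Helper17.UniqueMinimalScheme

open TensorProduct IsLocalRing AlgebraicGeometry CategoryTheory
open Groth.Agent.Lib.Helper17.UniqueMinimal Groth.Agent.Lib.Helper17.UnibranchScheme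

/-- Localization form. -/
theorem isNilpotent_or_of_isLocalization {A C : Type u} [CommRing A] [CommRing C]
    [Algebra A C] [Algebra.Etale A C] (p : Ideal A) [p.IsPrime]
    (R : Type u) [CommRing R] [Algebra A R] [IsLocalization.AtPrime R p] [IsLocalRing R]
    (hR : CAlg2.IsGeomUnibranch R)
    (Q : Ideal C) [Q.IsPrime] (hQ : Q.comap (algebraMap A C) = p)
    (S : Type u) [CommRing S] [Algebra C S] [IsLocalization.AtPrime S Q] :
    ∀ a b : S, IsNilpotent (a * b) → IsNilpotent a ∨ IsNilpotent b := by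
  letI algC : Algebra C (R ⊗[A] C) := Algebra.TensorProduct.rightAlgebra
  haveI : IsLocalization (Algebra.algebraMapSubmonoid C p.primeCompl) (R ⊗[A] C) :=
    IsLocalization.tensorRight (S := C) (A := R) p.primeCompl
  have hdisj : Disjoint (Algebra.algebraMapSubmonoid C p.primeCompl : Set C) (Q : Set C) := by
    rw [Set.disjoint_left]
    rintro _ ⟨a, ha, rfl⟩ haQ
    apply ha
    rw [← hQ]
    exact haQ
  have hQp : (Q.map (algebraMap C (R ⊗[A] C))).IsPrime :=
    IsLocalization.isPrime_of_isPrime_disjoint _ _ Q ‹_› hdisj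
  have hcomap : (Q.map (algebraMap C (R ⊗[A] C))).comap (algebraMap C _) = Q :=
    IsLocalization.comap_map_of_isPrime_disjoint _ _ ‹_› hdisj
  have hover : (Q.map (algebraMap C (R ⊗[A] C))).comap
      (algebraMap R _) = maximalIdeal R := by
    have h1 : ((Q.map (algebraMap C (R ⊗[A] C))).comap (algebraMap R _)).under A = p := by
      rw [Ideal.under_def, Ideal.comap_comap, ← IsScalarTower.algebraMap_eq,
        IsScalarTower.algebraMap_eq A C (R ⊗[A] C), ← Ideal.comap_comap, hcomap, hQ]
    rw [← IsLocalization.map_comap p.primeCompl R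
      ((Q.map (algebraMap C (R ⊗[A] C))).comap (algebraMap R _)), h1,
      IsLocalization.AtPrime.map_eq_maximalIdeal p R]
  have hmain := isNilpotent_or_of_etale hR (Q.map (algebraMap C (R ⊗[A] C))) hover
  haveI hloc : IsLocalization.AtPrime (Localization.AtPrime (Q.map (algebraMap C (R ⊗[A] C))))
      ((Q.map (algebraMap C (R ⊗[A] C))).comap (algebraMap C _)) :=
    IsLocalization.isLocalization_isLocalization_atPrime_isLocalization
      (Algebra.algebraMapSubmonoid C p.primeCompl) _ _
  have heq : ((Q.map (algebraMap C (R ⊗[A] C))).comap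
      (algebraMap C _)).primeCompl = Q.primeCompl := by
    ext x
    show x ∉ _ ↔ x ∉ _
    rw [hcomap]
  rw [IsLocalization.AtPrime, heq] at hloc
  intro a b hab
  have hσ := (IsLocalization.algEquiv Q.primeCompl S
    (Localization.AtPrime (Q.map (algebraMap C (R ⊗[A] C))))).injective
  have h0 : IsNilpotent ((IsLocalization.algEquiv Q.primeCompl S
      (Localization.AtPrime (Q.map (algebraMap C (R ⊗[A] C))))) a *
      (IsLocalization.algEquiv Q.primeCompl S
      (Localization.AtPrime (Q.map (algebraMap C (R ⊗[A] C))))) b) := by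
    rw [← map_mul]
    exact hab.map _
  rcases hmain _ _ h0 with h1 | h1
  · exact Or.inl ((IsNilpotent.map_iff hσ).mp h1)
  · exact Or.inr ((IsNilpotent.map_iff hσ).mp h1)

set_option backward.defeqAttrib.useBackward true in
set_option backward.isDefEq.respectTransparency false in
/-- Stalks of a scheme étale over a geometrically unibranch point have prime nilradical. -/
theorem isNilpotent_or_stalk_of_etale {X Y : Scheme.{u}} (f : X ⟶ Y) [Etale f] (x : X)
    (hY : CAlg2.IsGeomUnibranch (Y.presheaf.stalk (f x))) :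
    ∀ a b : X.presheaf.stalk x, IsNilpotent (a * b) → IsNilpotent a ∨ IsNilpotent b := by
  obtain ⟨_, ⟨U, hU, rfl⟩, hxU, -⟩ :=
    Y.isBasis_affineOpens.exists_subset_of_mem_open (Set.mem_univ (f x)) isOpen_univ
  obtain ⟨_, ⟨V, hV, rfl⟩, hxV, hVU⟩ :=
    X.isBasis_affineOpens.exists_subset_of_mem_open hxU (U.2.preimage f.continuous)
  have het := HasRingHomProperty.appLE (P := @Etale) f inferInstance ⟨U, hU⟩ ⟨V, hV⟩ hVU
  algebraize [(f.appLE U V hVU).hom]
  haveI : Algebra.Etale Γ(Y, U) Γ(X, V) := RingHom.etale_algebraMap.mp het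
  let algR := Y.presheaf.algebra_section_stalk ⟨f x, hVU hxV⟩
  have hlocR := hU.isLocalization_stalk ⟨f x, hVU hxV⟩
  let algS := X.presheaf.algebra_section_stalk ⟨x, hxV⟩
  have hlocS := hV.isLocalization_stalk ⟨x, hxV⟩
  exact isNilpotent_or_of_isLocalization (A := Γ(Y, U)) (C := Γ(X, V))
    (hU.primeIdealOf ⟨f x, hVU hxV⟩).asIdeal (Y.presheaf.stalk (f x)) hY
    (hV.primeIdealOf ⟨x, hxV⟩).asIdeal
    congr($(IsAffineOpen.comap_primeIdealOf_appLE U hU V hV hVU hxV).1) (X.presheaf.stalk x)

/-- If the nilradical of the stalk at `x` is prime, then two generizations of `x` lying in the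
same (discrete) fibre over the generic point coincide. -/
theorem eq_of_specializes_of_nilradical_prime {X Y : Scheme.{u}} (f : X ⟶ Y) [IrreducibleSpace Y]
    [LocallyQuasiFinite f] (x : X)
    (hx : ∀ a b : X.presheaf.stalk x, IsNilpotent (a * b) → IsNilpotent a ∨ IsNilpotent b)
    {e e' : X}
    (he : e ⤳ x) (he' : e' ⤳ x) (hfe : f e = genericPoint Y) (hfe' : f e' = genericPoint Y) :
    e = e' := by
  have hprime : (nilradical (X.presheaf.stalk x)).IsPrime := by
    refine ⟨?_, ?_⟩
    · intro htop
      have h1 : (1 : X.presheaf.stalk x) ∈ nilradical (X.presheaf.stalk x) := by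
        rw [htop]; exact Submodule.mem_top
      exact not_isNilpotent_one (mem_nilradical.mp h1)
    · intro a b hab
      exact (hx a b (mem_nilradical.mp hab)).imp mem_nilradical.mpr mem_nilradical.mpr
  have key : ∀ e : X, e ⤳ x → f e = genericPoint Y →
      X.fromSpecStalk x ⟨nilradical (X.presheaf.stalk x), hprime⟩ = e := by
    intro e he hfe
    obtain ⟨P, hP⟩ : e ∈ Set.range (X.fromSpecStalk x) := by
      rw [Scheme.range_fromSpecStalk]
      exact he
    have h0 : (⟨nilradical (X.presheaf.stalk x), hprime⟩ : PrimeSpectrum (X.presheaf.stalk x)) ⤳ P :=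
      (PrimeSpectrum.le_iff_specializes _ _).mp
        ((PrimeSpectrum.asIdeal_le_asIdeal _ _).mp (nilradical_le_prime P.asIdeal))
    have h1 : X.fromSpecStalk x ⟨nilradical (X.presheaf.stalk x), hprime⟩ ⤳ e := by
      rw [← hP]
      exact Specializes.map h0 (X.fromSpecStalk x).continuous
    have h2 : f (X.fromSpecStalk x ⟨nilradical (X.presheaf.stalk x), hprime⟩) = genericPoint Y := by
      have h3 : f (X.fromSpecStalk x ⟨nilradical (X.presheaf.stalk x), hprime⟩) ⤳ genericPoint Y :=
        hfe ▸ h1.map f.continuous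
      exact (h3.antisymm (genericPoint_specializes _)).eq
    have := (f.isDiscrete_preimage_singleton (genericPoint Y)).to_subtype
    have h4 : (⟨_, h2⟩ : f ⁻¹' {genericPoint Y}) ⤳ ⟨e, hfe⟩ :=
      (subtype_specializes_iff _ _).mpr h1
    exact congrArg Subtype.val h4.eq
  rw [← key e he hfe, ← key e' he' hfe']

section Topology

variable {X : Type*} [TopologicalSpace X]

/-- If every point has a unique generization in the locally finite set `E`, then the irreducible
components of `X` are exactly the closures of the points of `E`: they are open, each point lies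
in exactly one of them, and each contains exactly one point of `E`. -/
theorem irreducibleComponents_of_unique (E : Set X)
    (hLF : ∀ x : X, ∃ W : Set X, IsOpen W ∧ x ∈ W ∧ (W ∩ E).Finite)
    (hS : ∀ x : X, ∃ e ∈ E, e ⤳ x)
    (huniq : ∀ x : X, ∀ e ∈ E, ∀ e' ∈ E, e ⤳ x → e' ⤳ x → e = e') :
    (∀ x : X, ∃! Z, Z ∈ irreducibleComponents X ∧ x ∈ Z) ∧
    (∀ Z ∈ irreducibleComponents X, IsOpen Z ∧ ∃! x : X, x ∈ Z ∧ x ∈ E) := by
  have hclopen : ∀ e ∈ E, IsClopen (closure ({e} : Set X)) := fun e he =>
    ⟨isClosed_closure, isOpen_closure_singleton_of_unique E hLF hS huniq e he⟩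
  have key1 : ∀ Z : Set X, IsIrreducible Z → ∃ e ∈ E, Z ⊆ closure ({e} : Set X) := by
    intro Z hZ
    obtain ⟨z, hz⟩ := hZ.nonempty
    obtain ⟨e, heE, hez⟩ := hS z
    exact ⟨e, heE, hZ.isPreirreducible.isPreconnected.subset_isClopen (hclopen e heE)
      ⟨z, hz, specializes_iff_mem_closure.mp hez⟩⟩
  have key2 : ∀ e ∈ E, closure ({e} : Set X) ∈ irreducibleComponents X := by
    intro e heE
    refine ⟨isIrreducible_singleton.closure, ?_⟩
    intro Z' hZ' hle
    obtain ⟨e', he'E, hZ'e'⟩ := key1 Z' hZ'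
    have h1 : e' ⤳ e := specializes_iff_mem_closure.mpr
      (hZ'e' (hle (subset_closure (Set.mem_singleton e))))
    have h2 : e' = e := huniq e e' he'E e heE h1 specializes_rfl
    rw [← h2]
    exact hZ'e'
  have key3 : ∀ Z ∈ irreducibleComponents X, ∃ e ∈ E, Z = closure ({e} : Set X) := by
    intro Z hZ
    obtain ⟨e, heE, hZe⟩ := key1 Z hZ.1
    exact ⟨e, heE, le_antisymm hZe (hZ.2 isIrreducible_singleton.closure hZe)⟩
  refine ⟨fun x => ?_, fun Z hZ => ?_⟩
  · obtain ⟨e, heE, hex⟩ := hS x
    refine ⟨closure {e}, ⟨key2 e heE, specializes_iff_mem_closure.mp hex⟩, ?_⟩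
    rintro Z' ⟨hZ', hxZ'⟩
    obtain ⟨e', he'E, rfl⟩ := key3 Z' hZ'
    rw [huniq x e' he'E e heE (specializes_iff_mem_closure.mpr hxZ') hex]
  · obtain ⟨e, heE, rfl⟩ := key3 Z hZ
    refine ⟨(hclopen e heE).2, e, ⟨subset_closure (Set.mem_singleton e), heE⟩, ?_⟩
    rintro x ⟨hxZ, hxE⟩
    exact (huniq x e heE x hxE (specializes_iff_mem_closure.mpr hxZ) specializes_rfl).symm

end Topology

end Groth.Agent.Lib.Helper17.UniqueMinimalScheme
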