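import Groth.Agent.Lib.Helper17.Frame
import Mathlib

/-!
# Sectionwise dictionary for `pullbackComp` and `pullbackCongr`
-/

set_option backward.isDefEq.respectTransparency.types false
set_option autoImplicit false
universe u
open CategoryTheory CategoryTheory.Limits AlgebraicGeometry Opposite TopologicalSpace
noncomputable section

namespace Groth.Agent.Lib.Helper17.PbDict

open Groth.Agent.Lib.Helper28 Groth.Agent.Lib.Helper28.QCohLoc Groth.Agent.Lib.Helper28.GenLocus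
open Groth.Agent.Lib.Helper28.PullbackInv Groth.Agent.Lib.Helper17.Frame

variable {W X Y : Scheme.{u}} (p : W ⟶ X) (f : X ⟶ Y) (M : Y.Modules)

theorem iso_hom_inv_app {Z : Scheme.{u}} {A B : Z.Modules} (e : A ≅ B) (O : Z.Opens) (x : Γ(B, O)) :
    e.hom.app O (e.inv.app O x) = x := by
  have h : (e.inv ≫ e.hom).app O x = x := by rw [e.inv_hom_id]; rfl
  exact h

theorem iso_inv_hom_app {Z : Scheme.{u}} {A B : Z.Modules} (e : A ≅ B) (O : Z.Opens) (x : Γ(A, O)) :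
    e.inv.app O (e.hom.app O x) = x := by
  have h : (e.hom ≫ e.inv).app O x = x := by rw [e.hom_inv_id]; rfl
  exact h

theorem pullbackComp_inv_pbs (V : Y.Opens) (y : Γ(M, V)) :
    ((Scheme.Modules.pullbackComp p f).app M).inv.app ((p ≫ f) ⁻¹ᵁ V) (pbs (p ≫ f) M V y) =
      pbs p ((Scheme.Modules.pullback f).obj M) (f ⁻¹ᵁ V) (pbs f M V y) := by
  have h := unit_conjugateEquiv ((Scheme.Modules.pullbackPushforwardAdjunction f).comp
    (Scheme.Modules.pullbackPushforwardAdjunction p)) (Scheme.Modules.pullbackPushforwardAdjunction (p ≫ f))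
    (Scheme.Modules.pullbackComp p f).inv M
  rw [Scheme.Modules.conjugateEquiv_pullbackComp_inv] at h
  have h2 := congrArg (fun θ => (Scheme.Modules.Hom.app θ V) y) h
  exact h2.symm


theorem pullbackComp_hom_pbs (V : Y.Opens) (y : Γ(M, V)) :
    ((Scheme.Modules.pullbackComp p f).app M).hom.app (p ⁻¹ᵁ (f ⁻¹ᵁ V))
      (pbs p ((Scheme.Modules.pullback f).obj M) (f ⁻¹ᵁ V) (pbs f M V y)) = pbs (p ≫ f) M V y := by
  have h1 := pullbackComp_inv_pbs p f M V y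
  have h2 := congrArg (((Scheme.Modules.pullbackComp p f).app M).hom.app ((p ≫ f) ⁻¹ᵁ V)) h1
  refine h2.symm.trans ?_
  exact iso_hom_inv_app ((Scheme.Modules.pullbackComp p f).app M) ((p ≫ f) ⁻¹ᵁ V) (pbs (p ≫ f) M V y)

theorem pullbackCongr_hom_pbs {g g' : W ⟶ Y} (h : g = g') (V : Y.Opens) (y : Γ(M, V)) :
    ((Scheme.Modules.pullbackCongr h).app M).hom.app (g ⁻¹ᵁ V) (pbs g M V y) =
      res ((Scheme.Modules.pullback g').obj M) (le_of_eq (by rw [h]) : g ⁻¹ᵁ V ≤ g' ⁻¹ᵁ V) (pbs g' M V y) := by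
  subst h
  rw [res_self]
  simp [Scheme.Modules.pullbackCongr]

/-- `z ↦ p^* z`, read in `(p ≫ f)^* M` -/
def pbc (O : X.Opens) (z : Γ((Scheme.Modules.pullback f).obj M, O)) :
    Γ((Scheme.Modules.pullback (p ≫ f)).obj M, p ⁻¹ᵁ O) :=
  ((Scheme.Modules.pullbackComp p f).app M).hom.app (p ⁻¹ᵁ O) (pbs p ((Scheme.Modules.pullback f).obj M) O z)

theorem pbc_add (O : X.Opens) (z z' : Γ((Scheme.Modules.pullback f).obj M, O)) :
    pbc p f M O (z + z') = pbc p f M O z + pbc p f M O z' := by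
  unfold pbc
  rw [pbs_add, map_add]

theorem pbc_smul (O : X.Opens) (c : Γ(X, O)) (z : Γ((Scheme.Modules.pullback f).obj M, O)) :
    pbc p f M O (c • z : Γ((Scheme.Modules.pullback f).obj M, O)) =
      (p.app O c • pbc p f M O z : Γ((Scheme.Modules.pullback (p ≫ f)).obj M, p ⁻¹ᵁ O)) := by
  unfold pbc
  rw [pbs_smul, Scheme.Modules.Hom.app_smul]

theorem pbc_res {O O' : X.Opens} (h : O' ≤ O) (z : Γ((Scheme.Modules.pullback f).obj M, O)) :
    pbc p f M O' (res _ h z) = res _ (p.preimage_mono h) (pbc p f M O z) := by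
  unfold pbc
  rw [pbs_res]
  exact app_res ((Scheme.Modules.pullbackComp p f).app M).hom (p.preimage_mono h) (pbs p _ O z)

theorem pbc_pbs (V : Y.Opens) (y : Γ(M, V)) : pbc p f M (f ⁻¹ᵁ V) (pbs f M V y) = pbs (p ≫ f) M V y :=
  pullbackComp_hom_pbs p f M V y

theorem pbc_zero (O : X.Opens) : pbc p f M O 0 = 0 := by
  have h := pbc_add p f M O 0 0
  rw [add_zero] at h
  exact left_eq_add.1 h

theorem pbc_sum (O : X.Opens) {ι : Type*} (s : Finset ι) (z : ι → Γ((Scheme.Modules.pullback f).obj M, O)) :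
    pbc p f M O (∑ i ∈ s, z i) = ∑ i ∈ s, pbc p f M O (z i) := by
  classical
  induction s using Finset.induction_on with
  | empty => simp only [Finset.sum_empty]; exact pbc_zero p f M O
  | insert a s ha ih => rw [Finset.sum_insert ha, Finset.sum_insert ha, pbc_add, ih]


theorem pullbackCongr_inv_res_pbs {g g' : W ⟶ Y} (h : g = g') (U : Y.Opens) (γ : Γ(M, U)) (O : W.Opens)
    (hO : O ≤ g ⁻¹ᵁ U) (hO' : O ≤ g' ⁻¹ᵁ U) :
    ((Scheme.Modules.pullbackCongr h).app M).inv.app O (res _ hO' (pbs g' M U γ)) = res _ hO (pbs g M U γ) := by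
  subst h
  simp [Scheme.Modules.pullbackCongr]

section Inj

variable {M} {U : Y.Opens} {n : ℕ} {γ : Fin n → Γ(M, U)} (hγ : IsFrame M U γ)

include hγ in
/-- if `f^♯` is injective on all opens, `M(V) → (f^* M)(f⁻¹ V)` is injective for `V` inside a framed open -/
theorem pbs_injective (hf : ∀ V : Y.Opens, Function.Injective (f.app V)) (V : Y.Opens) (hV : V ≤ U) :
    Function.Injective (pbs f M V) := by
  have hF := isFrame_pbs (f := f) hγ (f ⁻¹ᵁ V) (f.preimage_mono hV)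
  have hfun : pbs f M V =
      (fun c : Fin n → Γ(X, f ⁻¹ᵁ V) => (∑ j, c j • res _ (f.preimage_mono hV) (pbs f M U (γ j)) :
        Γ((Scheme.Modules.pullback f).obj M, f ⁻¹ᵁ V))) ∘
      (fun c : Fin n → Γ(Y, V) => fun j => f.app V (c j)) ∘ (hγ.coef hV) := by
    funext y
    exact pbs_eq_sum f hγ V hV y
  rw [hfun]
  refine hF.1.comp (Function.Injective.comp ?_ ?_)
  · intro c c' h
    funext j
    exact (hf V) (congrFun h j)
  · exact (Equiv.ofBijective _ (hγ V hV)).symm.injective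

end Inj

/-- if `f^♯` is injective on all opens and `M` is finite locally free, then `M → f_* f^* M` is injective on sections -/
theorem pbs_injective_of_isFinLocFree (hf : ∀ V : Y.Opens, Function.Injective (f.app V))
    (hM : FlatMod.IsFinLocFree M) (V : Y.Opens) : Function.Injective (pbs f M V) := by
  intro m m' hmm
  choose Ux nx hxU ex using hM
  refine eq_of_locally_eq (M := M) (fun x : V => V ⊓ Ux x.1) V (fun x => inf_le_left) ?_ m m' ?_
  · intro x hx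
    exact Opens.mem_iSup.2 ⟨⟨x, hx⟩, hx, hxU x⟩
  · intro x
    obtain ⟨γ, hγ⟩ := exists_isFrame_of_iso M (Ux x.1) (nx x.1) (ex x.1).some
    apply pbs_injective f hγ hf (V ⊓ Ux x.1) inf_le_right
    rw [pbs_res, pbs_res, hmm]


section Descent

variable (p₁ p₂ : W ⟶ X) (hc : p₁ ≫ f = p₂ ≫ f)

include hc in
theorem preimage_le_of_eq (V : Y.Opens) : p₁ ⁻¹ᵁ (f ⁻¹ᵁ V) ≤ p₂ ⁻¹ᵁ (f ⁻¹ᵁ V) := by
  have h : (p₁ ≫ f) ⁻¹ᵁ V = (p₂ ≫ f) ⁻¹ᵁ V := by rw [hc]
  exact le_of_eq h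

/-- the descent condition on a section of `f^* M` over `f⁻¹ V`: its two pullbacks to `W` agree -/
def IsDesc (V : Y.Opens) (z : Γ((Scheme.Modules.pullback f).obj M, f ⁻¹ᵁ V)) : Prop :=
  pbc p₁ f M (f ⁻¹ᵁ V) z = ((Scheme.Modules.pullbackCongr hc).app M).inv.app (p₁ ⁻¹ᵁ (f ⁻¹ᵁ V))
    (res ((Scheme.Modules.pullback (p₂ ≫ f)).obj M) (preimage_le_of_eq f p₁ p₂ hc V) (pbc p₂ f M (f ⁻¹ᵁ V) z))

variable {M} {U : Y.Opens} {n : ℕ} {γ : Fin n → Γ(M, U)} (hγ : IsFrame M U γ)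

theorem preimage_comp_mono (p : W ⟶ X) {V : Y.Opens} (hV : V ≤ U) : p ⁻¹ᵁ (f ⁻¹ᵁ V) ≤ (p ≫ f) ⁻¹ᵁ U :=
  (p ≫ f).preimage_mono hV

theorem pbc_sum_frame (p : W ⟶ X) (V : Y.Opens) (hV : V ≤ U) (c : Fin n → Γ(X, f ⁻¹ᵁ V)) :
    pbc p f M (f ⁻¹ᵁ V) (∑ j, c j • res _ (f.preimage_mono hV) (pbs f M U (γ j))) =
      (∑ j, p.app (f ⁻¹ᵁ V) (c j) • res ((Scheme.Modules.pullback (p ≫ f)).obj M) (preimage_comp_mono f p hV)
        (pbs (p ≫ f) M U (γ j)) :
        Γ((Scheme.Modules.pullback (p ≫ f)).obj M, p ⁻¹ᵁ (f ⁻¹ᵁ V))) := by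
  rw [pbc_sum]
  refine Finset.sum_congr rfl fun j _ => ?_
  rw [pbc_smul, pbc_res, pbc_pbs]
  rfl

include hγ in
theorem mem_range_pbs_of_isDesc
    (hex : ∀ (V : Y.Opens) (a : Γ(X, f ⁻¹ᵁ V)),
      p₁.app (f ⁻¹ᵁ V) a = resO (preimage_le_of_eq f p₁ p₂ hc V) (p₂.app (f ⁻¹ᵁ V) a) → a ∈ Set.range (f.app V))
    (V : Y.Opens) (hV : V ≤ U) (z : Γ((Scheme.Modules.pullback f).obj M, f ⁻¹ᵁ V))
    (hz : IsDesc f M p₁ p₂ hc V z) : z ∈ Set.range (pbs f M V) := by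
  have hF := isFrame_pbs (f := f) hγ
  have hF₁ := isFrame_pbs (f := p₁ ≫ f) hγ
  let c := hF.coef (f.preimage_mono hV) z
  have hzc : (∑ j, c j • res _ (f.preimage_mono hV) (pbs f M U (γ j)) :
      Γ((Scheme.Modules.pullback f).obj M, f ⁻¹ᵁ V)) = z := hF.coef_sum (f.preimage_mono hV) z
  unfold IsDesc at hz
  rw [← hzc, pbc_sum_frame f p₁ V hV c, pbc_sum_frame f p₂ V hV c, Groth.Agent.Lib.Helper29.FreeIso.res_sum_smul,
    Groth.Agent.Lib.Helper29.FreeIso.app_sum] at hz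
  have h2 : ∀ j, ((Scheme.Modules.pullbackCongr hc).app M).inv.app (p₁ ⁻¹ᵁ (f ⁻¹ᵁ V))
      (resO (preimage_le_of_eq f p₁ p₂ hc V) (p₂.app (f ⁻¹ᵁ V) (c j)) •
        res ((Scheme.Modules.pullback (p₂ ≫ f)).obj M) (preimage_le_of_eq f p₁ p₂ hc V)
          (res _ (preimage_comp_mono f p₂ hV) (pbs (p₂ ≫ f) M U (γ j)))) =
      (resO (preimage_le_of_eq f p₁ p₂ hc V) (p₂.app (f ⁻¹ᵁ V) (c j)) •
        res _ (preimage_comp_mono f p₁ hV) (pbs (p₁ ≫ f) M U (γ j)) :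
        Γ((Scheme.Modules.pullback (p₁ ≫ f)).obj M, p₁ ⁻¹ᵁ (f ⁻¹ᵁ V))) := by
    intro j
    rw [Scheme.Modules.Hom.app_smul, res_res]
    congr 1
    exact pullbackCongr_inv_res_pbs M hc U (γ j) _ _ _
  simp only [h2] at hz
  have h3 := (hF₁ (p₁ ⁻¹ᵁ (f ⁻¹ᵁ V)) (preimage_comp_mono f p₁ hV)).1 hz
  have h4 : ∀ j, c j ∈ Set.range (f.app V) := fun j => hex V (c j) (congrFun h3 j)
  choose a ha using h4
  refine ⟨∑ j, a j • res M hV (γ j), ?_⟩
  rw [pbs_sum, ← hzc]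
  refine Finset.sum_congr rfl fun j _ => ?_
  rw [pbs_smul, pbs_res, ha]

end Descent


section Comm

variable (p₁ p₂ : W ⟶ X) (hc : p₁ ≫ f = p₂ ≫ f)

theorem comp_app_apply {Z : Scheme.{u}} {A B C : Z.Modules} (a : A ⟶ B) (b : B ⟶ C) (O : Z.Opens) (x : Γ(A, O)) :
    (a ≫ b).app O x = b.app O (a.app O x) := rfl

theorem isDesc_of_comm (L : Y.Modules) (φ : (Scheme.Modules.pullback f).obj L ⟶ (Scheme.Modules.pullback f).obj M)
    (hφ : ((Scheme.Modules.pullbackComp p₁ f).app L).inv ≫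
        (Scheme.Modules.pullback p₁).map φ ≫ ((Scheme.Modules.pullbackComp p₁ f).app M).hom =
      ((Scheme.Modules.pullbackCongr hc).app L).hom ≫
        ((Scheme.Modules.pullbackComp p₂ f).app L).inv ≫
        (Scheme.Modules.pullback p₂).map φ ≫ ((Scheme.Modules.pullbackComp p₂ f).app M).hom ≫
        ((Scheme.Modules.pullbackCongr hc).app M).inv)
    (V : Y.Opens) (y : Γ(L, V)) : IsDesc f M p₁ p₂ hc V (φ.app (f ⁻¹ᵁ V) (pbs f L V y)) := by
  have e1 : ((Scheme.Modules.pullbackComp p₁ f).app L).inv.app (p₁ ⁻¹ᵁ (f ⁻¹ᵁ V)) (pbs (p₁ ≫ f) L V y) =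
      pbs p₁ ((Scheme.Modules.pullback f).obj L) (f ⁻¹ᵁ V) (pbs f L V y) := pullbackComp_inv_pbs p₁ f L V y
  have e2 : ((Scheme.Modules.pullback p₁).map φ).app (p₁ ⁻¹ᵁ (f ⁻¹ᵁ V))
      (pbs p₁ ((Scheme.Modules.pullback f).obj L) (f ⁻¹ᵁ V) (pbs f L V y)) =
      pbs p₁ ((Scheme.Modules.pullback f).obj M) (f ⁻¹ᵁ V) (φ.app (f ⁻¹ᵁ V) (pbs f L V y)) :=
    pbs_map p₁ φ (f ⁻¹ᵁ V) _
  have hL : (Scheme.Modules.Hom.app (((Scheme.Modules.pullbackComp p₁ f).app L).inv ≫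
        (Scheme.Modules.pullback p₁).map φ ≫ ((Scheme.Modules.pullbackComp p₁ f).app M).hom) (p₁ ⁻¹ᵁ (f ⁻¹ᵁ V)))
        (pbs (p₁ ≫ f) L V y) = pbc p₁ f M (f ⁻¹ᵁ V) (φ.app (f ⁻¹ᵁ V) (pbs f L V y)) := by
    rw [comp_app_apply, comp_app_apply, e1, e2]
    rfl
  have e3 : ((Scheme.Modules.pullbackCongr hc).app L).hom.app (p₁ ⁻¹ᵁ (f ⁻¹ᵁ V)) (pbs (p₁ ≫ f) L V y) =
      res ((Scheme.Modules.pullback (p₂ ≫ f)).obj L) (preimage_le_of_eq f p₁ p₂ hc V) (pbs (p₂ ≫ f) L V y) :=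
    pullbackCongr_hom_pbs L hc V y
  have e4 : ((Scheme.Modules.pullbackComp p₂ f).app L).inv.app (p₁ ⁻¹ᵁ (f ⁻¹ᵁ V))
      (res ((Scheme.Modules.pullback (p₂ ≫ f)).obj L) (preimage_le_of_eq f p₁ p₂ hc V) (pbs (p₂ ≫ f) L V y)) =
      res ((Scheme.Modules.pullback p₂).obj ((Scheme.Modules.pullback f).obj L)) (preimage_le_of_eq f p₁ p₂ hc V)
        (pbs p₂ ((Scheme.Modules.pullback f).obj L) (f ⁻¹ᵁ V) (pbs f L V y)) := by
    refine (app_res ((Scheme.Modules.pullbackComp p₂ f).app L).inv (preimage_le_of_eq f p₁ p₂ hc V) _).trans ?_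
    exact congrArg _ (pullbackComp_inv_pbs p₂ f L V y)
  have e5 : ((Scheme.Modules.pullback p₂).map φ).app (p₁ ⁻¹ᵁ (f ⁻¹ᵁ V))
      (res ((Scheme.Modules.pullback p₂).obj ((Scheme.Modules.pullback f).obj L)) (preimage_le_of_eq f p₁ p₂ hc V)
        (pbs p₂ ((Scheme.Modules.pullback f).obj L) (f ⁻¹ᵁ V) (pbs f L V y))) =
      res ((Scheme.Modules.pullback p₂).obj ((Scheme.Modules.pullback f).obj M)) (preimage_le_of_eq f p₁ p₂ hc V)
        (pbs p₂ ((Scheme.Modules.pullback f).obj M) (f ⁻¹ᵁ V) (φ.app (f ⁻¹ᵁ V) (pbs f L V y))) := by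
    refine (app_res ((Scheme.Modules.pullback p₂).map φ) (preimage_le_of_eq f p₁ p₂ hc V) _).trans ?_
    exact congrArg _ (pbs_map p₂ φ (f ⁻¹ᵁ V) _)
  have e6 : ((Scheme.Modules.pullbackComp p₂ f).app M).hom.app (p₁ ⁻¹ᵁ (f ⁻¹ᵁ V))
      (res ((Scheme.Modules.pullback p₂).obj ((Scheme.Modules.pullback f).obj M)) (preimage_le_of_eq f p₁ p₂ hc V)
        (pbs p₂ ((Scheme.Modules.pullback f).obj M) (f ⁻¹ᵁ V) (φ.app (f ⁻¹ᵁ V) (pbs f L V y)))) =
      res ((Scheme.Modules.pullback (p₂ ≫ f)).obj M) (preimage_le_of_eq f p₁ p₂ hc V)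
        (pbc p₂ f M (f ⁻¹ᵁ V) (φ.app (f ⁻¹ᵁ V) (pbs f L V y))) :=
    app_res ((Scheme.Modules.pullbackComp p₂ f).app M).hom (preimage_le_of_eq f p₁ p₂ hc V) _
  have hR : (Scheme.Modules.Hom.app (((Scheme.Modules.pullbackCongr hc).app L).hom ≫
        ((Scheme.Modules.pullbackComp p₂ f).app L).inv ≫
        (Scheme.Modules.pullback p₂).map φ ≫ ((Scheme.Modules.pullbackComp p₂ f).app M).hom ≫
        ((Scheme.Modules.pullbackCongr hc).app M).inv) (p₁ ⁻¹ᵁ (f ⁻¹ᵁ V))) (pbs (p₁ ≫ f) L V y) =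
      ((Scheme.Modules.pullbackCongr hc).app M).inv.app (p₁ ⁻¹ᵁ (f ⁻¹ᵁ V))
        (res ((Scheme.Modules.pullback (p₂ ≫ f)).obj M) (preimage_le_of_eq f p₁ p₂ hc V)
          (pbc p₂ f M (f ⁻¹ᵁ V) (φ.app (f ⁻¹ᵁ V) (pbs f L V y)))) := by
    rw [comp_app_apply, comp_app_apply, comp_app_apply, comp_app_apply, e3, e4, e5, e6]
  have h : (Scheme.Modules.Hom.app (((Scheme.Modules.pullbackComp p₁ f).app L).inv ≫
        (Scheme.Modules.pullback p₁).map φ ≫ ((Scheme.Modules.pullbackComp p₁ f).app M).hom) (p₁ ⁻¹ᵁ (f ⁻¹ᵁ V)))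
        (pbs (p₁ ≫ f) L V y) =
      (Scheme.Modules.Hom.app (((Scheme.Modules.pullbackCongr hc).app L).hom ≫
        ((Scheme.Modules.pullbackComp p₂ f).app L).inv ≫
        (Scheme.Modules.pullback p₂).map φ ≫ ((Scheme.Modules.pullbackComp p₂ f).app M).hom ≫
        ((Scheme.Modules.pullbackCongr hc).app M).inv) (p₁ ⁻¹ᵁ (f ⁻¹ᵁ V))) (pbs (p₁ ≫ f) L V y) := by
    rw [hφ]
  unfold IsDesc
  exact hL.symm.trans (h.trans hR)

end Comm

section Main

variable (p₁ p₂ : W ⟶ X) (hc : p₁ ≫ f = p₂ ≫ f)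

/-- **descent of morphisms into a finite locally free module** along `f` with `O_Y → f_* O_X ⇉ g_* O_W` exact -/
theorem existsUnique_descent (hinj : ∀ V : Y.Opens, Function.Injective (f.app V))
    (hex : ∀ (V : Y.Opens) (a : Γ(X, f ⁻¹ᵁ V)),
      p₁.app (f ⁻¹ᵁ V) a = resO (preimage_le_of_eq f p₁ p₂ hc V) (p₂.app (f ⁻¹ᵁ V) a) → a ∈ Set.range (f.app V))
    (L M : Y.Modules) (hM : FlatMod.IsFinLocFree M)
    (φ : (Scheme.Modules.pullback f).obj L ⟶ (Scheme.Modules.pullback f).obj M)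
    (hφ : ∀ (V : Y.Opens) (y : Γ(L, V)), IsDesc f M p₁ p₂ hc V (φ.app (f ⁻¹ᵁ V) (pbs f L V y))) :
    ∃! ψ : L ⟶ M, (Scheme.Modules.pullback f).map ψ = φ := by
  let adj := Scheme.Modules.pullbackPushforwardAdjunction f
  haveI hmono : Mono (adj.unit.app M) :=
    mono_of_injective _ fun V => pbs_injective_of_isFinLocFree f M hinj hM V
  let φb : L ⟶ (Scheme.Modules.pushforward f).obj ((Scheme.Modules.pullback f).obj M) := adj.homEquiv _ _ φ
  have hφb : ∀ (V : Y.Opens) (y : Γ(L, V)), φb.app V y = φ.app (f ⁻¹ᵁ V) (pbs f L V y) := by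
    intro V y
    have h : φb = adj.unit.app L ≫ (Scheme.Modules.pushforward f).map φ := Adjunction.homEquiv_unit adj L _ φ
    rw [h]
    rfl
  have hzero : φb ≫ cokernel.π (adj.unit.app M) = 0 := by
    apply Scheme.Modules.hom_ext
    intro V
    ext y
    choose Ux nx hxU ex using hM
    have h0 : (φb ≫ cokernel.π (adj.unit.app M)).app V y = 0 := by
      refine eq_of_locally_eq (M := cokernel (adj.unit.app M)) (fun x : V => V ⊓ Ux x.1) V
        (fun x => inf_le_left) ?_ _ _ ?_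
      · intro x hx
        exact Opens.mem_iSup.2 ⟨⟨x, hx⟩, hx, hxU x⟩
      · intro x
        obtain ⟨γ, hγ⟩ := exists_isFrame_of_iso M (Ux x.1) (nx x.1) (ex x.1).some
        rw [← app_res, res_zero]
        obtain ⟨m, hm⟩ := mem_range_pbs_of_isDesc f p₁ p₂ hc hγ hex (V ⊓ Ux x.1) inf_le_right _
          (hφ (V ⊓ Ux x.1) (res L inf_le_left y))
        have h1 : (φb ≫ cokernel.π (adj.unit.app M)).app (V ⊓ Ux x.1) (res L inf_le_left y) =
            (cokernel.π (adj.unit.app M)).app (V ⊓ Ux x.1) (φb.app (V ⊓ Ux x.1) (res L inf_le_left y)) := rfl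
        rw [h1, hφb, ← hm]
        have h2 : (cokernel.π (adj.unit.app M)).app (V ⊓ Ux x.1) (pbs f M (V ⊓ Ux x.1) m) =
            (adj.unit.app M ≫ cokernel.π (adj.unit.app M)).app (V ⊓ Ux x.1) m := rfl
        rw [h2, cokernel.condition]
        rfl
    exact h0
  let ψ := Abelian.monoLift (adj.unit.app M) φb hzero
  have hψ : ψ ≫ adj.unit.app M = φb := Abelian.monoLift_comp _ _ _
  have key : ∀ ψ' : L ⟶ M, (Scheme.Modules.pullback f).map ψ' = φ ↔ ψ' ≫ adj.unit.app M = φb := by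
    intro ψ'
    have h1 : adj.homEquiv _ _ ((Scheme.Modules.pullback f).map ψ') = ψ' ≫ adj.unit.app M := by
      rw [Adjunction.homEquiv_unit]
      exact (adj.unit.naturality ψ').symm
    constructor
    · intro h
      rw [← h1, h]
    · intro h
      apply (adj.homEquiv _ _).injective
      rw [h1, h]
  refine ⟨ψ, (key ψ).2 hψ, ?_⟩
  intro ψ' h'
  have := (key ψ').1 h'
  exact (cancel_mono (adj.unit.app M)).1 (this.trans hψ.symm)

end Main

end Groth.Agent.Lib.Helper17.PbDict
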