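import Groth.Agent.Lib.Helper17.ModPullback
import Groth.Agent.Lib.Helper28.PullbackInv
import Groth.Agent.Lib.Helper28.QCohPush
import Groth.Agent.Lib.Helper28.ModIsoCover
import Mathlib

/-!
# Inverse images of quasi-coherent modules on affine charts, and affine base change

* `IsBC φ c`: the additive map `c : P → T` exhibits the `S`-module `T` as the base change of the `R`-module `P`.
* `isBC_pullback` (**K**): for `g : Y' ⟶ Y`, `M` quasi-coherent on `Y`, affine opens `W' ≤ g⁻¹ W`: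
  `Γ(g^* M, W') = Γ(Y', W') ⊗_{Γ(Y, W)} Γ(M, W)` through `m ↦ (g^* m)|_{W'}`.
* `bijective_of_isBC`: the algebra lemma comparing two base changes over a pushout square of rings.
* `isIso_pbLift_bcV`: affine base change `g^* f_* F ≅ f'_* g'^* F` (EGA II 1.5.2 / Stacks 02KG).
-/

set_option backward.isDefEq.respectTransparency.types false
set_option autoImplicit false
universe u
open AlgebraicGeometry CategoryTheory Opposite TopologicalSpace TensorProduct CategoryTheory.Limits

namespace Groth.Agent.Lib.Helper17.PullbackBC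
open Scheme.Modules
open Groth.Agent.Lib.Helper28.PullbackInv Groth.Agent.Lib.Helper28.QCohLoc

variable {R S : CommRingCat.{u}} (φ : R ⟶ S)

noncomputable abbrev adj1 : tilde.functor R ⋙ Scheme.Modules.pullback (Spec.map φ) ⊣
    moduleSpecΓFunctor (R := S) ⋙ ModuleCat.restrictScalars φ.hom :=
  ((tilde.adjunction (R := R)).comp
    (Scheme.Modules.pullbackPushforwardAdjunction (Spec.map φ))).ofNatIsoRight
      (Groth.Agent.S2265.rightIso φ)

noncomputable abbrev adj2 : ModuleCat.extendScalars.{u, u, u} φ.hom ⋙ tilde.functor S ⊣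
    moduleSpecΓFunctor (R := S) ⋙ ModuleCat.restrictScalars φ.hom :=
  (ModuleCat.extendRestrictScalarsAdj.{u, u, u} φ.hom).comp (tilde.adjunction (R := S))

theorem leftIso_eq : Groth.Agent.S2265.leftIso φ = (adj1 φ).leftAdjointUniq (adj2 φ) := rfl

theorem unit_compat (N₀ : ModuleCat.{u} R) :
    (adj1 φ).unit.app N₀ ≫ (moduleSpecΓFunctor (R := S) ⋙ ModuleCat.restrictScalars φ.hom).map
      ((Groth.Agent.S2265.leftIso φ).hom.app N₀) = (adj2 φ).unit.app N₀ :=
  Adjunction.unit_leftAdjointUniq_hom_app (adj1 φ) (adj2 φ) N₀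

theorem adj1_unit_app (N₀ : ModuleCat.{u} R) (n : N₀) :
    ((adj1 φ).unit.app N₀).hom n =
      pbs (Spec.map φ) (tilde N₀) ⊤ (((tilde.adjunction (R := R)).unit.app N₀).hom n) := by
  rfl

open ChangeOfRings in
theorem adj2_unit_app (N₀ : ModuleCat.{u} R) (n : N₀) :
    ((adj2 φ).unit.app N₀).hom n =
      ((tilde.adjunction (R := S)).unit.app ((ModuleCat.extendScalars.{u, u, u} φ.hom).obj N₀)).hom
        ((1 : S) ⊗ₜ[R, φ.hom] n) := by
  rfl

open ChangeOfRings in
/-- the key compatibility: the inverse image of the section of `tilde N₀` defined by `n` corresponds to `1 ⊗ n` -/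
theorem leftIso_pbs (N₀ : ModuleCat.{u} R) (n : N₀) :
    ((Groth.Agent.S2265.leftIso φ).hom.app N₀).app ⊤
      (pbs (Spec.map φ) (tilde N₀) ⊤ (((tilde.adjunction (R := R)).unit.app N₀).hom n)) =
    ((tilde.adjunction (R := S)).unit.app ((ModuleCat.extendScalars.{u, u, u} φ.hom).obj N₀)).hom
        ((1 : S) ⊗ₜ[R, φ.hom] n) := by
  have h := congrArg (fun ψ => ψ.hom n) (unit_compat φ N₀)
  rw [← adj2_unit_app]
  rw [← adj1_unit_app]
  exact h

open ChangeOfRings in
/-- an additive map `c : P → T` from an `R`-module to an `S`-module exhibits `T` as the base change of `P`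
along `φ` -/
def IsBC {R S : Type u} [CommRing R] [CommRing S] (φ : R →+* S) {P T : Type u} [AddCommGroup P] [Module R P]
    [AddCommGroup T] [Module S T] (c : P → T) : Prop :=
  ∃ e : T ≃ₗ[S] ((ModuleCat.extendScalars.{u, u, u} φ).obj (ModuleCat.of R P)),
    ∀ p : P, e (c p) = ((1 : S) ⊗ₜ[R, φ] p)

/-- identification of the `extendScalars` carrier with the tensor product for the `toAlgebra` structure -/
noncomputable def extIso {R S : Type u} [CommRing R] [CommRing S] (φ : R →+* S) (P : Type u) [AddCommGroup P] [Module R P] :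
    letI := φ.toAlgebra
    ((ModuleCat.extendScalars.{u, u, u} φ).obj (ModuleCat.of R P)) ≃ₗ[S] (S ⊗[R] P) :=
  letI := φ.toAlgebra
  LinearEquiv.refl S _

open ChangeOfRings in
theorem extIso_one_tmul {R S : Type u} [CommRing R] [CommRing S] (φ : R →+* S) (P : Type u) [AddCommGroup P] [Module R P]
    (p : P) :
    letI := φ.toAlgebra
    extIso φ P ((1 : S) ⊗ₜ[R, φ] p) = (1 : S) ⊗ₜ[R] p := rfl

theorem isBC_iff {R S : Type u} [CommRing R] [CommRing S] (φ : R →+* S) {P T : Type u} [AddCommGroup P] [Module R P]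
    [AddCommGroup T] [Module S T] (c : P → T) :
    letI := φ.toAlgebra
    IsBC φ c ↔ ∃ e : T ≃ₗ[S] (S ⊗[R] P), ∀ p : P, e (c p) = (1 : S) ⊗ₜ[R] p := by
  letI := φ.toAlgebra
  constructor
  · rintro ⟨e, he⟩
    exact ⟨e ≪≫ₗ extIso φ P, fun p => by
      change extIso φ P (e (c p)) = _
      rw [he]; rfl⟩
  · rintro ⟨e, he⟩
    exact ⟨e ≪≫ₗ (extIso φ P).symm, fun p => by
      change (extIso φ P).symm (e (c p)) = _
      rw [he]; rfl⟩

theorem bijective_of_isBC {A A' B B' : Type u} [CommRing A] [CommRing A'] [CommRing B] [CommRing B']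
    (φ : A →+* A') (α : A →+* B) (α' : A' →+* B') (ψ : B →+* B')
    (hpo : IsPushout (CommRingCat.ofHom φ) (CommRingCat.ofHom α) (CommRingCat.ofHom α') (CommRingCat.ofHom ψ))
    {P T T₂ : Type u} [AddCommGroup P] [Module A P] [Module B P] (hP : ∀ (a : A) (p : P), a • p = α a • p)
    [AddCommGroup T] [Module A' T] [AddCommGroup T₂] [Module B' T₂]
    (c₁ : P → T) (c₂ : P → T₂) (h₁ : IsBC φ c₁) (h₂ : IsBC ψ c₂)
    (u : T →+ T₂) (hu : ∀ (a' : A') (t : T), u (a' • t) = α' a' • u t) (huc : ∀ p, u (c₁ p) = c₂ p) :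
    Function.Bijective u := by
  letI := φ.toAlgebra
  letI := α.toAlgebra
  letI := α'.toAlgebra
  letI := ψ.toAlgebra
  letI : Algebra A B' := (α'.comp φ).toAlgebra
  haveI : IsScalarTower A A' B' := .of_algebraMap_eq' rfl
  have hw : α'.comp φ = ψ.comp α := by
    have := hpo.w
    exact congrArg CommRingCat.Hom.hom this
  haveI : IsScalarTower A B B' := .of_algebraMap_eq' hw
  haveI : IsScalarTower A B P := ⟨fun a b p => by
    rw [hP a (b • p), ← mul_smul]; rfl⟩
  haveI : Algebra.IsPushout A A' B B' := CommRingCat.isPushout_iff_isPushout.mp hpo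
  obtain ⟨e₁, he₁⟩ := (isBC_iff φ c₁).mp h₁
  obtain ⟨e₂, he₂⟩ := (isBC_iff ψ c₂).mp h₂
  let C := Algebra.IsPushout.cancelBaseChange A A' B B' P
  let v : A' ⊗[A] P →+ B' ⊗[B] P :=
    (e₂.toAddEquiv.toAddMonoidHom.comp u).comp e₁.symm.toAddEquiv.toAddMonoidHom
  have hv : v = C.symm.toAddEquiv.toAddMonoidHom := by
    apply DFunLike.ext
    intro z
    induction z using TensorProduct.induction_on with
    | zero => simp
    | add x y hx hy => rw [map_add, map_add, hx, hy]
    | tmul a' p => ?_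
    have h1 : (a' ⊗ₜ[A] p : A' ⊗[A] P) = a' • ((1 : A') ⊗ₜ[A] p) := by
      rw [TensorProduct.smul_tmul', smul_eq_mul, mul_one]
    change e₂ (u (e₁.symm (a' ⊗ₜ[A] p))) = C.symm (a' ⊗ₜ[A] p)
    rw [Algebra.IsPushout.cancelBaseChange_symm_tmul, h1, _root_.map_smul, ← he₁, LinearEquiv.symm_apply_apply,
      hu, huc]
    change e₂ (algebraMap A' B' a' • c₂ p) = _
    rw [_root_.map_smul, he₂, TensorProduct.smul_tmul', smul_eq_mul, mul_one]
  have hu' : ⇑u = e₂.symm ∘ C.symm ∘ e₁ := by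
    funext t
    have := congrArg (fun w => e₂.symm (w (e₁ t))) hv
    change e₂.symm (e₂ (u (e₁.symm (e₁ t)))) = e₂.symm (C.symm (e₁ t)) at this
    rw [LinearEquiv.symm_apply_apply, LinearEquiv.symm_apply_apply] at this
    exact this
  rw [hu']
  exact e₂.symm.bijective.comp (C.symm.bijective.comp e₁.bijective)

open ChangeOfRings in
/-- the affine case: over `Spec R`, the inverse image of global sections of a quasi-coherent module is a base
change map -/
theorem isBC_spec (N : (Spec R).Modules) [N.IsQuasicoherent] :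
    IsBC φ.hom (P := moduleSpecΓFunctor.obj N)
      (T := moduleSpecΓFunctor.obj ((Scheme.Modules.pullback (Spec.map φ)).obj N))
      (fun x => pbs (Spec.map φ) N ⊤ x) := by
  let N₀ : ModuleCat.{u} R := moduleSpecΓFunctor.obj N
  haveI hiso : IsIso N.fromTildeΓ := Scheme.Modules.isIso_fromTildeΓ_of_isQuasicoherent N
  let ε : tilde N₀ ≅ N := @asIso _ _ _ _ N.fromTildeΓ hiso
  let i1 : moduleSpecΓFunctor.obj ((Scheme.Modules.pullback (Spec.map φ)).obj N) ≅
      moduleSpecΓFunctor.obj ((Scheme.Modules.pullback (Spec.map φ)).obj (tilde N₀)) :=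
    moduleSpecΓFunctor.mapIso ((Scheme.Modules.pullback (Spec.map φ)).mapIso ε.symm)
  let i2 : moduleSpecΓFunctor.obj ((Scheme.Modules.pullback (Spec.map φ)).obj (tilde N₀)) ≅
      moduleSpecΓFunctor.obj (tilde ((ModuleCat.extendScalars.{u, u, u} φ.hom).obj N₀)) :=
    moduleSpecΓFunctor.mapIso ((Groth.Agent.S2265.leftIso φ).app N₀)
  let i3 : moduleSpecΓFunctor.obj (tilde ((ModuleCat.extendScalars.{u, u, u} φ.hom).obj N₀)) ≅
      (ModuleCat.extendScalars.{u, u, u} φ.hom).obj N₀ :=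
    (asIso ((tilde.adjunction (R := S)).unit.app ((ModuleCat.extendScalars.{u, u, u} φ.hom).obj N₀))).symm
  refine ⟨(i1 ≪≫ i2 ≪≫ i3).toLinearEquiv, fun x => ?_⟩
  -- `ε⁻¹` on global sections is the unit
  have h1 : (ε.inv.app ⊤) x = ((tilde.adjunction (R := R)).unit.app N₀).hom x := by
    have ht := (tilde.adjunction (R := R)).right_triangle_components N
    have ht' : (ε.hom.app ⊤) (((tilde.adjunction (R := R)).unit.app N₀).hom x) = x := by
      have := congrArg (fun ψ => ψ.hom x) ht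
      exact this
    have h2 : (ε.inv.app ⊤) ((ε.hom.app ⊤) (((tilde.adjunction (R := R)).unit.app N₀).hom x)) =
        ((tilde.adjunction (R := R)).unit.app N₀).hom x := by
      have := congrArg (fun ψ : (tilde N₀ ⟶ tilde N₀) =>
        ψ.app ⊤ (((tilde.adjunction (R := R)).unit.app N₀).hom x)) ε.hom_inv_id
      exact this
    rw [ht'] at h2
    exact h2
  have h3 : i1.hom.hom (pbs (Spec.map φ) N ⊤ x) =
      pbs (Spec.map φ) (tilde N₀) ⊤ (((tilde.adjunction (R := R)).unit.app N₀).hom x) := by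
    rw [← h1]
    exact pbs_map (Spec.map φ) ε.inv ⊤ x
  have h4 : i2.hom.hom (pbs (Spec.map φ) (tilde N₀) ⊤ (((tilde.adjunction (R := R)).unit.app N₀).hom x)) =
      ((tilde.adjunction (R := S)).unit.app ((ModuleCat.extendScalars.{u, u, u} φ.hom).obj N₀)).hom
        ((1 : S) ⊗ₜ[R, φ.hom] x) := leftIso_pbs φ N₀ x
  change i3.hom.hom (i2.hom.hom (i1.hom.hom (pbs (Spec.map φ) N ⊤ x))) = _
  rw [h3, h4]
  have h5 := congrArg (fun ψ => ψ.hom ((1 : S) ⊗ₜ[R, φ.hom] x))
    (asIso ((tilde.adjunction (R := S)).unit.app ((ModuleCat.extendScalars.{u, u, u} φ.hom).obj N₀))).hom_inv_id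
  exact h5

section charts

variable {Y' Y : Scheme.{u}} (g : Y' ⟶ Y) {W : Y.Opens} (hW : IsAffineOpen W) {W' : Y'.Opens}
  (hW' : IsAffineOpen W') (e : W' ≤ g ⁻¹ᵁ W)

noncomputable abbrev adjA : Scheme.Modules.pullback g ⋙ restrictFunctor hW'.fromSpec ⊣
    Scheme.Modules.pushforward hW'.fromSpec ⋙ Scheme.Modules.pushforward g :=
  (Scheme.Modules.pullbackPushforwardAdjunction g).comp (restrictAdjunction hW'.fromSpec)

noncomputable abbrev adjB : restrictFunctor hW.fromSpec ⋙ Scheme.Modules.pullback (Spec.map (g.appLE W W' e)) ⊣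
    Scheme.Modules.pushforward (Spec.map (g.appLE W W' e)) ⋙ Scheme.Modules.pushforward hW.fromSpec :=
  (restrictAdjunction hW.fromSpec).comp (Scheme.Modules.pullbackPushforwardAdjunction (Spec.map (g.appLE W W' e)))

noncomputable def rhoIso : Scheme.Modules.pushforward hW'.fromSpec ⋙ Scheme.Modules.pushforward g ≅
    Scheme.Modules.pushforward (Spec.map (g.appLE W W' e)) ⋙ Scheme.Modules.pushforward hW.fromSpec :=
  pushforwardComp hW'.fromSpec g ≪≫ pushforwardCongr (hW.SpecMap_appLE_fromSpec g hW' e).symm ≪≫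
    (pushforwardComp (Spec.map (g.appLE W W' e)) hW.fromSpec).symm

noncomputable def lamIso : restrictFunctor hW.fromSpec ⋙ Scheme.Modules.pullback (Spec.map (g.appLE W W' e)) ≅
    Scheme.Modules.pullback g ⋙ restrictFunctor hW'.fromSpec :=
  (conjugateIsoEquiv (adjA g hW') (adjB g hW e)).symm (rhoIso g hW hW' e)

theorem unit_lamIso (M : Y.Modules) :
    (adjA g hW').unit.app M ≫ (rhoIso g hW hW' e).hom.app _ =
      (adjB g hW e).unit.app M ≫
        (Scheme.Modules.pushforward (Spec.map (g.appLE W W' e)) ⋙ Scheme.Modules.pushforward hW.fromSpec).map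
          ((lamIso g hW hW' e).hom.app M) :=
  unit_conjugateEquiv_symm (adjA g hW') (adjB g hW e) (rhoIso g hW hW' e).hom M

theorem image_le_preimage (V : Y.Opens) :
    hW'.fromSpec ''ᵁ ((Spec.map (g.appLE W W' e)) ⁻¹ᵁ (hW.fromSpec ⁻¹ᵁ V)) ≤ g ⁻¹ᵁ V := by
  rw [← Scheme.Hom.comp_preimage, hW.SpecMap_appLE_fromSpec g hW' e, Scheme.Hom.comp_preimage]
  exact hW'.fromSpec.image_preimage_le _

theorem lhs_eval (M : Y.Modules) (V : Y.Opens) (m : Γ(M, V)) :
    (((adjA g hW').unit.app M ≫ (rhoIso g hW hW' e).hom.app _).app V) m =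
      res ((Scheme.Modules.pullback g).obj M) (image_le_preimage g hW hW' e V) (pbs g M V m) := by
  have hle : hW'.fromSpec ''ᵁ ((Spec.map (g.appLE W W' e)) ⁻¹ᵁ (hW.fromSpec ⁻¹ᵁ V)) ≤
      hW'.fromSpec ''ᵁ (hW'.fromSpec ⁻¹ᵁ (g ⁻¹ᵁ V)) := by
    apply Scheme.Hom.image_mono
    rw [← Scheme.Hom.comp_preimage, hW.SpecMap_appLE_fromSpec g hW' e, Scheme.Hom.comp_preimage]
  have h1 : (((adjA g hW').unit.app M ≫ (rhoIso g hW hW' e).hom.app _).app V) m =
      res ((Scheme.Modules.pullback g).obj M) hle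
        (res ((Scheme.Modules.pullback g).obj M) (hW'.fromSpec.image_preimage_le (g ⁻¹ᵁ V)) (pbs g M V m)) := by
    rfl
  rw [h1, res_res]

theorem rhs_eval (M : Y.Modules) (V : Y.Opens) (m : Γ(M, V)) :
    (((adjB g hW e).unit.app M ≫
        (Scheme.Modules.pushforward (Spec.map (g.appLE W W' e)) ⋙ Scheme.Modules.pushforward hW.fromSpec).map
          ((lamIso g hW hW' e).hom.app M)).app V) m =
      ((lamIso g hW hW' e).hom.app M).app ((Spec.map (g.appLE W W' e)) ⁻¹ᵁ (hW.fromSpec ⁻¹ᵁ V))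
        (pbs (Spec.map (g.appLE W W' e)) (M.restrict hW.fromSpec) (hW.fromSpec ⁻¹ᵁ V)
          (res M (hW.fromSpec.image_preimage_le V) m)) := by
  rfl

open Groth.Agent.Lib.Helper17.ModPullback

theorem sRE_apply {X : Scheme.{u}} (M : X.Modules) {U : X.Opens} (hU : IsAffineOpen U)
    (y : Γ(M, hU.fromSpec ''ᵁ ⊤)) :
    sectionsRestrictEquiv M hU y = res M (fromSpec_image_top hU).ge y := by
  change M.presheaf.map (eqToHom (congrArg op (fromSpec_image_top hU))) y =
    M.presheaf.map (homOfLE (fromSpec_image_top hU).ge).op y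
  congr 2

theorem sRE_symm_apply {X : Scheme.{u}} (M : X.Modules) {U : X.Opens} (hU : IsAffineOpen U)
    (m : Γ(M, U)) :
    (sectionsRestrictEquiv M hU).symm m = res M (fromSpec_image_top hU).le m := by
  apply (sectionsRestrictEquiv M hU).injective
  rw [LinearEquiv.apply_symm_apply, sRE_apply]
  exact (res_res M _ _ m).trans (res_self M m) |>.symm

theorem le_image_preimage :
    W' ≤ hW'.fromSpec ''ᵁ ((Spec.map (g.appLE W W' e)) ⁻¹ᵁ (hW.fromSpec ⁻¹ᵁ W)) := by
  rw [hW.fromSpec_preimage_self]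
  exact (fromSpec_image_top hW').ge

/-- the key identity: the restriction to `W'` of the inverse image of a section over `W` corresponds, under the
chart isomorphism, to the inverse image of the corresponding global section over `Spec Γ(Y, W)` -/
theorem key_eq (M : Y.Modules) (m : Γ(M, W)) :
    sectionsRestrictEquiv ((Scheme.Modules.pullback g).obj M) hW'
      (((lamIso g hW hW' e).hom.app M).app ⊤
        (pbs (Spec.map (g.appLE W W' e)) (M.restrict hW.fromSpec) ⊤ ((sectionsRestrictEquiv M hW).symm m))) =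
      res ((Scheme.Modules.pullback g).obj M) e (pbs g M W m) := by
  let G := (Scheme.Modules.pullback g).obj M
  let N := M.restrict hW.fromSpec
  let ψ := Spec.map (g.appLE W W' e)
  let lam := (lamIso g hW hW' e).hom.app M
  let x : Γ(N, ⊤) := (sectionsRestrictEquiv M hW).symm m
  have hA : res G (image_le_preimage g hW hW' e W) (pbs g M W m) =
      lam.app (ψ ⁻¹ᵁ (hW.fromSpec ⁻¹ᵁ W))
        (pbs ψ N (hW.fromSpec ⁻¹ᵁ W) (res M (hW.fromSpec.image_preimage_le W) m)) := by
    have h0 := congrArg (fun θ => (Scheme.Modules.Hom.app θ W) m) (unit_lamIso g hW hW' e M)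
    simp only [] at h0
    rw [lhs_eval, rhs_eval] at h0
    exact h0
  have h1 : res M (hW.fromSpec.image_preimage_le W) m =
      res N (le_top : hW.fromSpec ⁻¹ᵁ W ≤ ⊤) x := by
    change _ = res N _ ((sectionsRestrictEquiv M hW).symm m)
    rw [sRE_symm_apply]
    exact (res_res M _ _ m).symm
  have hB : pbs ψ N (hW.fromSpec ⁻¹ᵁ W) (res M (hW.fromSpec.image_preimage_le W) m) =
      res ((Scheme.Modules.pullback ψ).obj N) (ψ.preimage_mono (le_top : hW.fromSpec ⁻¹ᵁ W ≤ ⊤))
        (pbs ψ N ⊤ x) := by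
    rw [h1, pbs_res]
  have hC : lam.app (ψ ⁻¹ᵁ (hW.fromSpec ⁻¹ᵁ W))
      (res ((Scheme.Modules.pullback ψ).obj N) (ψ.preimage_mono (le_top : hW.fromSpec ⁻¹ᵁ W ≤ ⊤))
        (pbs ψ N ⊤ x)) =
      res (G.restrict hW'.fromSpec) (ψ.preimage_mono (le_top : hW.fromSpec ⁻¹ᵁ W ≤ ⊤))
        (lam.app ⊤ (pbs ψ N ⊤ x)) := app_res lam _ _
  have hD : res G (image_le_preimage g hW hW' e W) (pbs g M W m) =
      res G (hW'.fromSpec.image_mono (ψ.preimage_mono (le_top : hW.fromSpec ⁻¹ᵁ W ≤ ⊤)))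
        (lam.app ⊤ (pbs ψ N ⊤ x)) := by
    rw [hA, hB, hC]
    rfl
  have h2 := congrArg (res G (le_image_preimage g hW hW' e)) hD
  rw [res_res, res_res] at h2
  rw [sRE_apply]
  exact h2.symm

include hW hW' in
open ChangeOfRings in
/-- **(K)**: for a quasi-coherent module `M` on `Y`, a morphism `g : Y' ⟶ Y` and affine opens `W' ≤ g⁻¹ W`, the
sections of `g^* M` over `W'` are the base change of the sections of `M` over `W`, through the inverse image of
sections. -/
theorem isBC_pullback (M : Y.Modules) [M.IsQuasicoherent] :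
    IsBC (g.appLE W W' e).hom (P := Γ(M, W)) (T := Γ((Scheme.Modules.pullback g).obj M, W'))
      (fun m => res ((Scheme.Modules.pullback g).obj M) e (pbs g M W m)) := by
  let G := (Scheme.Modules.pullback g).obj M
  let N := M.restrict hW.fromSpec
  obtain ⟨e₀, he₀⟩ := isBC_spec (g.appLE W W' e) N
  let l1 := (sectionsRestrictEquiv G hW').symm
  let l2 := (moduleSpecΓFunctor.mapIso ((lamIso g hW hW' e).app M).symm).toLinearEquiv
  let l4 := ((ModuleCat.extendScalars.{u, u, u} (g.appLE W W' e).hom).mapIso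
    (sectionsRestrictEquiv M hW).toModuleIso).toLinearEquiv
  refine ⟨l1 ≪≫ₗ l2 ≪≫ₗ e₀ ≪≫ₗ l4, fun m => ?_⟩
  have hk := key_eq g hW hW' e M m
  change l4 (e₀ (l2 (l1 (res G e (pbs g M W m))))) = _
  rw [← hk]
  have h1 : l1 (sectionsRestrictEquiv G hW'
      (((lamIso g hW hW' e).hom.app M).app ⊤
        (pbs (Spec.map (g.appLE W W' e)) N ⊤ ((sectionsRestrictEquiv M hW).symm m)))) =
      ((lamIso g hW hW' e).hom.app M).app ⊤
        (pbs (Spec.map (g.appLE W W' e)) N ⊤ ((sectionsRestrictEquiv M hW).symm m)) :=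
    LinearEquiv.symm_apply_apply _ _
  rw [h1]
  have h2 : l2 (((lamIso g hW hW' e).hom.app M).app ⊤
        (pbs (Spec.map (g.appLE W W' e)) N ⊤ ((sectionsRestrictEquiv M hW).symm m))) =
      pbs (Spec.map (g.appLE W W' e)) N ⊤ ((sectionsRestrictEquiv M hW).symm m) := by
    have := congrArg (fun θ : ((Scheme.Modules.pullback (Spec.map (g.appLE W W' e))).obj N ⟶
        (Scheme.Modules.pullback (Spec.map (g.appLE W W' e))).obj N) =>
      θ.app ⊤ (pbs (Spec.map (g.appLE W W' e)) N ⊤ ((sectionsRestrictEquiv M hW).symm m)))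
      ((lamIso g hW hW' e).app M).hom_inv_id
    exact this
  rw [h2, he₀]
  have h3 := ModuleCat.ExtendScalars.map_tmul (g.appLE W W' e).hom
    (sectionsRestrictEquiv M hW).toModuleIso.hom (1 : Γ(Y', W')) ((sectionsRestrictEquiv M hW).symm m)
  refine h3.trans ?_
  congr 1
  exact LinearEquiv.apply_symm_apply _ m

end charts


section BaseChange

variable {X S X' S' : Scheme.{u}} (f : X ⟶ S) (g : S' ⟶ S) (g' : X' ⟶ X) (f' : X' ⟶ S')
  (h : IsPullback g' f' f g)

/-- the morphism `f_* F ⟶ g_* f'_* g'^* F` induced by the unit of `g'` -/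
noncomputable def bcV (F : X.Modules) : (Scheme.Modules.pushforward f).obj F ⟶
    (Scheme.Modules.pushforward g).obj ((Scheme.Modules.pushforward f').obj ((Scheme.Modules.pullback g').obj F)) :=
  (Scheme.Modules.pushforward f).map ((Scheme.Modules.pullbackPushforwardAdjunction g').unit.app F) ≫
    (pushforwardComp g' f).hom.app ((Scheme.Modules.pullback g').obj F) ≫
    (pushforwardCongr h.w).hom.app ((Scheme.Modules.pullback g').obj F) ≫
    (pushforwardComp f' g).inv.app ((Scheme.Modules.pullback g').obj F)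

include h in
theorem preimage_le (W : S.Opens) : f' ⁻¹ᵁ (g ⁻¹ᵁ W) ≤ g' ⁻¹ᵁ (f ⁻¹ᵁ W) := by
  rw [← Scheme.Hom.comp_preimage, ← Scheme.Hom.comp_preimage, h.w]

theorem bcV_app (F : X.Modules) (W : S.Opens) (m : Γ(F, f ⁻¹ᵁ W)) :
    (bcV f g g' f' h F).app W m =
      res ((Scheme.Modules.pullback g').obj F) (preimage_le f g g' f' h W) (pbs g' F (f ⁻¹ᵁ W) m) := by
  have hle := preimage_le f g g' f' h W
  have heq : f' ⁻¹ᵁ (g ⁻¹ᵁ W) = g' ⁻¹ᵁ (f ⁻¹ᵁ W) := by
    rw [← Scheme.Hom.comp_preimage, ← Scheme.Hom.comp_preimage, h.w]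
  have heq' : (f' ≫ g) ⁻¹ᵁ W = (g' ≫ f) ⁻¹ᵁ W := by rw [h.w]
  have h1 : (bcV f g g' f' h F).app W m =
      ((Scheme.Modules.pullback g').obj F).presheaf.map (eqToHom heq').op (pbs g' F (f ⁻¹ᵁ W) m) := rfl
  rw [h1]
  change _ = ((Scheme.Modules.pullback g').obj F).presheaf.map (homOfLE hle).op (pbs g' F (f ⁻¹ᵁ W) m)
  congr 2


include h in
theorem le_preimage' {W : S.Opens} {W' : S'.Opens} (e : W' ≤ g ⁻¹ᵁ W) :
    f' ⁻¹ᵁ W' ≤ g' ⁻¹ᵁ (f ⁻¹ᵁ W) :=
  (f'.preimage_mono e).trans (preimage_le f g g' f' h W)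

theorem bij_step [IsAffineHom f] (F : X.Modules) [F.IsQuasicoherent] {W : S.Opens} (hW : IsAffineOpen W)
    {W' : S'.Opens} (hW' : IsAffineOpen W') (e : W' ≤ g ⁻¹ᵁ W) :
    Function.Bijective ((pbLift g (bcV f g g' f' h F)).app W') := by
  haveI hf' : IsAffineHom f' := MorphismProperty.of_isPullback (P := @IsAffineHom) h ‹IsAffineHom f›
  let M := (Scheme.Modules.pushforward f).obj F
  haveI : M.IsQuasicoherent := isQuasicoherent_pushforward f F
  let Φ := pbLift g (bcV f g g' f' h F)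
  have hU : IsAffineOpen (f ⁻¹ᵁ W) := hW.preimage f
  have hU' : IsAffineOpen (f' ⁻¹ᵁ W') := hW'.preimage f'
  have e' : f' ⁻¹ᵁ W' ≤ g' ⁻¹ᵁ (f ⁻¹ᵁ W) := le_preimage' f g g' f' h e
  have h₁ := isBC_pullback g hW hW' e M
  have h₂ := isBC_pullback g' hU hU' e' F
  have hUY : f' ⁻¹ᵁ W' = g' ⁻¹ᵁ (f ⁻¹ᵁ W) ⊓ f' ⁻¹ᵁ W' := (inf_eq_right.2 e').symm
  haveI := isIso_pushoutSection_of_isAffineOpen h e (le_refl (f ⁻¹ᵁ W)) hUY hW hW' hU
  have hpo := ((isIso_pushoutSection_iff h e (le_refl (f ⁻¹ᵁ W)) hUY).mp inferInstance).flip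
  letI : Module Γ(X, f ⁻¹ᵁ W) Γ(M, W) := (inferInstance : Module Γ(X, f ⁻¹ᵁ W) Γ(F, f ⁻¹ᵁ W))
  refine bijective_of_isBC (g.appLE W W' e).hom (f.appLE W (f ⁻¹ᵁ W) le_rfl).hom
    (f'.appLE W' (f' ⁻¹ᵁ W') le_rfl).hom (g'.appLE (f ⁻¹ᵁ W) (f' ⁻¹ᵁ W') e').hom hpo
    (P := Γ(M, W)) (T := Γ((Scheme.Modules.pullback g).obj M, W'))
    (T₂ := Γ((Scheme.Modules.pullback g').obj F, f' ⁻¹ᵁ W')) ?hP
    (fun m => res ((Scheme.Modules.pullback g).obj M) e (pbs g M W m))
    (fun m => res ((Scheme.Modules.pullback g').obj F) e' (pbs g' F (f ⁻¹ᵁ W) m)) h₁ h₂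
    (AddMonoidHom.mk' (fun t => Φ.app W' t) (fun a b => map_add _ a b)) ?hu ?huc
  case hP =>
    intro a p
    rw [← Scheme.Hom.app_eq_appLE]
    rfl
  case hu =>
    intro a' t
    change Φ.app W' (a' • t) = _
    rw [Scheme.Modules.Hom.app_smul, ← Scheme.Hom.app_eq_appLE]
    rfl
  case huc =>
    intro p
    change Φ.app W' (res ((Scheme.Modules.pullback g).obj M) e (pbs g M W p)) = _
    rw [app_res, pbLift_pbs, bcV_app]
    have h0 : res ((Scheme.Modules.pushforward f').obj ((Scheme.Modules.pullback g').obj F)) e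
        (res ((Scheme.Modules.pullback g').obj F) (preimage_le f g g' f' h W) (pbs g' F (f ⁻¹ᵁ W) p)) =
      res ((Scheme.Modules.pullback g').obj F) (f'.preimage_mono e)
        (res ((Scheme.Modules.pullback g').obj F) (preimage_le f g g' f' h W) (pbs g' F (f ⁻¹ᵁ W) p)) := rfl
    exact h0.trans (res_res ((Scheme.Modules.pullback g').obj F) _ _ _)


/-- **Affine base change**: for an affine morphism `f` and a quasi-coherent module `F`, the base change map
`g^* f_* F ⟶ f'_* g'^* F` is an isomorphism. -/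
theorem isIso_pbLift_bcV [IsAffineHom f] (F : X.Modules) [F.IsQuasicoherent] :
    IsIso (pbLift g (bcV f g g' f' h F)) := by
  haveI hf' : IsAffineHom f' := MorphismProperty.of_isPullback (P := @IsAffineHom) h ‹IsAffineHom f›
  haveI : ((Scheme.Modules.pushforward f).obj F).IsQuasicoherent := isQuasicoherent_pushforward f F
  haveI : ((Scheme.Modules.pushforward f').obj ((Scheme.Modules.pullback g').obj F)).IsQuasicoherent :=
    isQuasicoherent_pushforward f' _
  let ι := {p : S.Opens × S'.Opens // IsAffineOpen p.1 ∧ IsAffineOpen p.2 ∧ p.2 ≤ g ⁻¹ᵁ p.1}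
  refine isIso_of_affine_cover (pbLift g (bcV f g g' f' h F)) (fun i : ι => i.1.2) (fun i => i.2.2.1) ?cov
    (fun i => isLocOn_of_isQuasicoherent _ i.2.2.1) (fun i => isLocOn_of_isQuasicoherent _ i.2.2.1)
    (fun i => bij_step f g g' f' h F i.2.1 i.2.2.1 i.2.2.2)
  intro x'
  obtain ⟨W, hW, hxW, -⟩ := Opens.isBasis_iff_nbhd.mp S.isBasis_affineOpens
    (show g x' ∈ (⊤ : S.Opens) from trivial)
  obtain ⟨W', hW', hxW', hle⟩ := Opens.isBasis_iff_nbhd.mp S'.isBasis_affineOpens
    (show x' ∈ g ⁻¹ᵁ W from hxW)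
  exact ⟨⟨(W, W'), hW, hW', hle⟩, hxW'⟩

end BaseChange

end Groth.Agent.Lib.Helper17.PullbackBC
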