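import Groth.Agent.Lib.Helper17.FlatTensor
import Mathlib
set_option autoImplicit false
universe u
open TensorProduct

namespace Groth.Agent.Lib.Helper17.FlatBC

open Groth.Agent.Lib.Helper17.FlatTensor

/-- Base change of flatness at the level of stalks of a fibre product:
`C = B ⊗_R A`, `Ap` a localization of `A`, `Cp` flat over `C` (a localization), `Np` an `Ap`-module flat over `R`.
Then `Cp ⊗_{Ap} Np` is flat over `B`. -/
theorem flat_tensor_stalk_of_isPushout
    {R A B C Ap Cp : Type u} [CommRing R] [CommRing A] [CommRing B] [CommRing C] [CommRing Ap] [CommRing Cp]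
    [Algebra R A] [Algebra R B] [Algebra A C] [Algebra B C] [Algebra R C]
    [IsScalarTower R A C] [IsScalarTower R B C] [Algebra.IsPushout R B A C]
    [Algebra A Ap] [Algebra C Cp] [Algebra Ap Cp] [Algebra A Cp] [Algebra B Cp]
    [IsScalarTower A Ap Cp] [IsScalarTower A C Cp] [IsScalarTower B C Cp]
    (pA : Submonoid A) [IsLocalization pA Ap] [Module.Flat C Cp]
    (Np : Type u) [AddCommGroup Np] [Module Ap Np] [Module A Np] [IsScalarTower A Ap Np]
    [Module R Np] [IsScalarTower R A Np]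
    (h : Module.Flat R Np) :
    Module.Flat B (Cp ⊗[Ap] Np) := by
  -- L = C ⊗_A Np is flat over B
  have hL : Module.Flat B (C ⊗[A] Np) :=
    Module.Flat.of_linearEquiv (Algebra.IsPushout.cancelBaseChange R B A C Np)
  have h1 : Module.Flat B (Cp ⊗[C] (C ⊗[A] Np)) := flat_tensor_of_flat (C := B) (B := C) (A := Cp) _ hL
  -- Cp ⊗_C (C ⊗_A Np) ≃ Cp ⊗_A Np ≃ Cp ⊗_{Ap} Np
  let e2 : Cp ⊗[C] (C ⊗[A] Np) ≃ₗ[Cp] Cp ⊗[A] Np :=
    TensorProduct.AlgebraTensorModule.cancelBaseChange A C Cp Cp Np
  let e1 : Cp ⊗[Ap] Np ≃ₗ[Ap] Cp ⊗[A] Np := IsLocalization.moduleTensorEquiv pA Ap Cp Np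
  let e1B : Cp ⊗[Ap] Np ≃ₗ[B] Cp ⊗[A] Np :=
    { e1.toAddEquiv with
      map_smul' := fun b x => by
        change e1 (b • x) = b • e1 x
        induction x using TensorProduct.induction_on with
        | zero => simp
        | tmul c n => rfl
        | add x y hx hy => rw [smul_add, map_add, hx, hy, map_add, smul_add] }
  exact Module.Flat.of_linearEquiv (e1B ≪≫ₗ (e2.restrictScalars B).symm)

/-- Flatness of `A → Cp` (stalk of a fibre product over the stalk of a factor) from flatness of `R → Bq`. -/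
theorem flat_stalk_of_isPushout
    {R A B C Bq Cp : Type u} [CommRing R] [CommRing A] [CommRing B] [CommRing C] [CommRing Bq] [CommRing Cp]
    [Algebra R A] [Algebra R B] [Algebra A C] [Algebra B C] [Algebra R C]
    [IsScalarTower R A C] [IsScalarTower R B C] [Algebra.IsPushout R A B C]
    [Algebra B Bq] [Algebra R Bq] [IsScalarTower R B Bq]
    [Algebra C Cp] [Algebra Bq Cp] [Algebra B Cp] [Algebra A Cp]
    [IsScalarTower B Bq Cp] [IsScalarTower B C Cp] [IsScalarTower A C Cp]
    (pB : Submonoid B) [IsLocalization pB Bq] [Module.Flat C Cp]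
    (h : Module.Flat R Bq) :
    Module.Flat A Cp := by
  -- L = C ⊗_B Bq is flat over A
  have hL : Module.Flat A (C ⊗[B] Bq) :=
    Module.Flat.of_linearEquiv (Algebra.IsPushout.cancelBaseChange R A B C Bq)
  have h1 : Module.Flat A (Cp ⊗[C] (C ⊗[B] Bq)) := flat_tensor_of_flat (C := A) (B := C) (A := Cp) _ hL
  let ea : Cp ⊗[C] (C ⊗[B] Bq) ≃ₗ[A] Cp ⊗[B] Bq :=
    (TensorProduct.AlgebraTensorModule.cancelBaseChange B C Cp Cp Bq).restrictScalars A
  let eb0 : Cp ⊗[B] Bq ≃+ Cp :=
    (TensorProduct.comm B Cp Bq).toAddEquiv.trans (IsLocalization.moduleLid pB Bq Cp).toAddEquiv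
  let eb : Cp ⊗[B] Bq ≃ₗ[A] Cp :=
    { eb0 with
      map_smul' := fun a x => by
        change eb0 (a • x) = a • eb0 x
        induction x using TensorProduct.induction_on with
        | zero => simp
        | tmul c b =>
          change (IsLocalization.moduleLid pB Bq Cp) (b ⊗ₜ[B] (a • c)) =
            a • (IsLocalization.moduleLid pB Bq Cp) (b ⊗ₜ[B] c)
          change (TensorProduct.lid Bq Cp) (b ⊗ₜ[Bq] (a • c)) = a • (TensorProduct.lid Bq Cp) (b ⊗ₜ[Bq] c)
          rw [TensorProduct.lid_tmul, TensorProduct.lid_tmul, Algebra.smul_def, Algebra.smul_def,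
            Algebra.smul_def, Algebra.smul_def, mul_left_comm]
        | add x y hx hy => rw [smul_add, map_add, hx, hy, map_add, smul_add] }
  exact Module.Flat.of_linearEquiv (ea ≪≫ₗ eb).symm


end Groth.Agent.Lib.Helper17.FlatBC
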