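import Groth.Agent.Lib.Helper17.ModStalk
import Groth.Agent.Lib.Helper17.FlatBCAlg
import Mathlib
set_option backward.isDefEq.respectTransparency.types false
set_option autoImplicit false
universe u
open AlgebraicGeometry CategoryTheory Limits TensorProduct

namespace Groth.Agent.Lib.Helper17.FibreStalk

/-- Affine charts around a point of a fibre product: affine opens `US, UX, UT` and the affine open
`UY = g'⁻¹ UX ⊓ f'⁻¹ UT` whose ring of functions is the pushout. -/
theorem exists_affine_chart {X S X' S' : Scheme.{u}} {f : X ⟶ S} {f' : X' ⟶ S'} {g' : X' ⟶ X} {g : S' ⟶ S}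
    (hc : IsPullback g' f' f g) (x' : X') :
    ∃ (US : S.Opens) (UX : X.Opens) (UT : S'.Opens) (hUSX : UX ≤ f ⁻¹ᵁ US) (hUST : UT ≤ g ⁻¹ᵁ US),
      IsAffineOpen US ∧ IsAffineOpen UX ∧ IsAffineOpen UT ∧ IsAffineOpen (g' ⁻¹ᵁ UX ⊓ f' ⁻¹ᵁ UT) ∧
      g' x' ∈ UX ∧ f' x' ∈ UT ∧
      IsPushout (f.appLE US UX hUSX) (g.appLE US UT hUST)
        (g'.appLE UX (g' ⁻¹ᵁ UX ⊓ f' ⁻¹ᵁ UT) inf_le_left) (f'.appLE UT (g' ⁻¹ᵁ UX ⊓ f' ⁻¹ᵁ UT) inf_le_right) := by
  have hw : f (g' x') = g (f' x') := by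
    rw [← Scheme.Hom.comp_apply, ← Scheme.Hom.comp_apply, hc.w]
  obtain ⟨US, hUS, hsUS, -⟩ := TopologicalSpace.Opens.isBasis_iff_nbhd.mp S.isBasis_affineOpens
    (show f (g' x') ∈ (⊤ : S.Opens) from trivial)
  obtain ⟨UX, hUX, hxUX, hUSX⟩ := TopologicalSpace.Opens.isBasis_iff_nbhd.mp X.isBasis_affineOpens
    (show g' x' ∈ f ⁻¹ᵁ US from hsUS)
  obtain ⟨UT, hUT, hxUT, hUST⟩ := TopologicalSpace.Opens.isBasis_iff_nbhd.mp S'.isBasis_affineOpens
    (show f' x' ∈ g ⁻¹ᵁ US from (hw ▸ hsUS : g (f' x') ∈ US))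
  refine ⟨US, UX, UT, hUSX, hUST, hUS, hUX, hUT, ?_, hxUX, hxUT, ?_⟩
  · have : IsAffine (US : Scheme) := hUS
    have : IsAffine (UX : Scheme) := hUX
    have : IsAffine (UT : Scheme) := hUT
    exact .of_isIso (Scheme.Hom.isPullback_resLE hc hUST hUSX rfl).isoPullback.hom
  · have := isIso_pushoutSection_of_isAffineOpen hc hUST hUSX rfl hUS hUT hUX
    exact (isIso_pushoutSection_iff hc hUST hUSX rfl).mp this


open Groth.Agent.Lib.Helper17.ModStalk Groth.Agent.Lib.Helper17.FlatBC in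
/-- Base change of flatness at a point (EGA IV 2.1.4 pointwise). -/
theorem isFlatOverAt_baseChange {X S X' S' : Scheme.{u}} (f : X ⟶ S) (f' : X' ⟶ S') (g' : X' ⟶ X) (g : S' ⟶ S)
    (hc : IsPullback g' f' f g) (F : X.Modules) [F.IsQuasicoherent] (x' : X')
    (h : FlatMod.IsFlatOverAt f F (g' x')) :
    FlatMod.IsFlatOverAt f' ((Scheme.Modules.pullback g').obj F) x' := by
  obtain ⟨US, UX, UT, hUSX, hUST, hUS, hUX, hUT, hUY, hxUX, hxUT, hpo⟩ := exists_affine_chart hc x'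
  set UY := g' ⁻¹ᵁ UX ⊓ f' ⁻¹ᵁ UT with hUYdef
  have hxUY : x' ∈ UY := ⟨hxUX, hxUT⟩
  have hsUS : f (g' x') ∈ US := hUSX hxUX
  obtain ⟨e⟩ := nonempty_linearEquiv_stalk_pullback g' F x'
  -- rings
  letI algRA : Algebra Γ(S, US) Γ(X, UX) := (f.appLE US UX hUSX).hom.toAlgebra
  letI algRB : Algebra Γ(S, US) Γ(S', UT) := (g.appLE US UT hUST).hom.toAlgebra
  letI algAC : Algebra Γ(X, UX) Γ(X', UY) := (g'.appLE UX UY inf_le_left).hom.toAlgebra
  letI algBC : Algebra Γ(S', UT) Γ(X', UY) := (f'.appLE UT UY inf_le_right).hom.toAlgebra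
  letI algRC : Algebra Γ(S, US) Γ(X', UY) :=
    ((algebraMap Γ(X, UX) Γ(X', UY)).comp (algebraMap Γ(S, US) Γ(X, UX))).toAlgebra
  haveI : IsScalarTower Γ(S, US) Γ(X, UX) Γ(X', UY) := IsScalarTower.of_algebraMap_eq (fun _ => rfl)
  haveI : IsScalarTower Γ(S, US) Γ(S', UT) Γ(X', UY) := by
    refine IsScalarTower.of_algebraMap_eq' ?_
    exact congrArg CommRingCat.Hom.hom hpo.w
  have hpush : Algebra.IsPushout Γ(S, US) Γ(S', UT) Γ(X, UX) Γ(X', UY) :=
    (CommRingCat.isPushout_iff_isPushout.mp hpo).symm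
  -- stalk rings
  letI algAAp : Algebra Γ(X, UX) (X.presheaf.stalk (g' x')) := (X.presheaf.germ UX (g' x') hxUX).hom.toAlgebra
  letI algCCp : Algebra Γ(X', UY) (X'.presheaf.stalk x') := (X'.presheaf.germ UY x' hxUY).hom.toAlgebra
  letI algApCp : Algebra (X.presheaf.stalk (g' x')) (X'.presheaf.stalk x') := (g'.stalkMap x').hom.toAlgebra
  letI algACp : Algebra Γ(X, UX) (X'.presheaf.stalk x') :=
    ((algebraMap Γ(X', UY) (X'.presheaf.stalk x')).comp (algebraMap Γ(X, UX) Γ(X', UY))).toAlgebra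
  letI algBCp : Algebra Γ(S', UT) (X'.presheaf.stalk x') :=
    ((algebraMap Γ(X', UY) (X'.presheaf.stalk x')).comp (algebraMap Γ(S', UT) Γ(X', UY))).toAlgebra
  haveI : IsScalarTower Γ(X, UX) Γ(X', UY) (X'.presheaf.stalk x') := IsScalarTower.of_algebraMap_eq (fun _ => rfl)
  haveI : IsScalarTower Γ(S', UT) Γ(X', UY) (X'.presheaf.stalk x') := IsScalarTower.of_algebraMap_eq (fun _ => rfl)
  haveI : IsScalarTower Γ(X, UX) (X.presheaf.stalk (g' x')) (X'.presheaf.stalk x') := by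
    refine IsScalarTower.of_algebraMap_eq (fun a => ?_)
    change X'.presheaf.germ UY x' hxUY (g'.appLE UX UY inf_le_left a) =
      g'.stalkMap x' (X.presheaf.germ UX (g' x') hxUX a)
    rw [Scheme.Hom.germ_stalkMap_apply, Scheme.Hom.appLE]
    exact (TopCat.Presheaf.germ_res_apply X'.presheaf (homOfLE inf_le_left) x' hxUY _)
  haveI : IsLocalization (hUX.primeIdealOf ⟨g' x', hxUX⟩).asIdeal.primeCompl (X.presheaf.stalk (g' x')) :=
    hUX.isLocalization_stalk ⟨g' x', hxUX⟩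
  haveI : IsLocalization (hUY.primeIdealOf ⟨x', hxUY⟩).asIdeal.primeCompl (X'.presheaf.stalk x') :=
    hUY.isLocalization_stalk ⟨x', hxUY⟩
  haveI : Module.Flat Γ(X', UY) (X'.presheaf.stalk x') :=
    IsLocalization.flat _ (hUY.primeIdealOf ⟨x', hxUY⟩).asIdeal.primeCompl
  -- the module Np = F_x
  letI mA : Module Γ(X, UX) (F.presheaf.stalk (g' x')) := moduleStalkSections F UX (g' x') hxUX
  haveI : IsScalarTower Γ(X, UX) (X.presheaf.stalk (g' x')) (F.presheaf.stalk (g' x')) :=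
    IsScalarTower.of_compHom _ _ _
  letI mR : Module Γ(S, US) (F.presheaf.stalk (g' x')) :=
    Module.compHom (F.presheaf.stalk (g' x')) (algebraMap Γ(S, US) Γ(X, UX))
  haveI : IsScalarTower Γ(S, US) Γ(X, UX) (F.presheaf.stalk (g' x')) := IsScalarTower.of_compHom _ _ _
  -- flatness over R from flatness over the stalk of S
  have hR : Module.Flat Γ(S, US) (F.presheaf.stalk (g' x')) := by
    letI algRRr : Algebra Γ(S, US) (S.presheaf.stalk (f (g' x'))) :=
      (S.presheaf.germ US (f (g' x')) hsUS).hom.toAlgebra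
    haveI : IsLocalization (hUS.primeIdealOf ⟨f (g' x'), hsUS⟩).asIdeal.primeCompl
        (S.presheaf.stalk (f (g' x'))) := hUS.isLocalization_stalk ⟨f (g' x'), hsUS⟩
    letI mRr : Module (S.presheaf.stalk (f (g' x'))) (F.presheaf.stalk (g' x')) :=
      FlatMod.moduleStalkOver f F (g' x')
    haveI : IsScalarTower Γ(S, US) (S.presheaf.stalk (f (g' x'))) (F.presheaf.stalk (g' x')) := by
      refine ⟨fun r t n => ?_⟩
      change (f.stalkMap (g' x')).hom (r • t) • n = X.presheaf.germ UX (g' x') hxUX (f.appLE US UX hUSX r) •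
        ((f.stalkMap (g' x')).hom t • n)
      rw [Algebra.smul_def, map_mul, mul_smul]
      congr 1
      change (f.stalkMap (g' x')) (S.presheaf.germ US (f (g' x')) hsUS r) = _
      rw [Scheme.Hom.germ_stalkMap_apply, Scheme.Hom.appLE]
      exact (TopCat.Presheaf.germ_res_apply X.presheaf (homOfLE hUSX) (g' x') hxUX _).symm
    exact (Module.flat_iff_of_isLocalization (S.presheaf.stalk (f (g' x')))
      (hUS.primeIdealOf ⟨f (g' x'), hsUS⟩).asIdeal.primeCompl (F.presheaf.stalk (g' x'))).1 h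
  have hB : Module.Flat Γ(S', UT)
      ((X'.presheaf.stalk x') ⊗[X.presheaf.stalk (g' x')] (F.presheaf.stalk (g' x'))) :=
    flat_tensor_stalk_of_isPushout (R := Γ(S, US)) (A := Γ(X, UX)) (B := Γ(S', UT)) (C := Γ(X', UY))
      (hUX.primeIdealOf ⟨g' x', hxUX⟩).asIdeal.primeCompl (F.presheaf.stalk (g' x')) hR
  -- transport to the stalk of the pullback
  letI mB' : Module Γ(S', UT) (((Scheme.Modules.pullback g').obj F).presheaf.stalk x') :=
    Module.compHom _ (algebraMap Γ(S', UT) (X'.presheaf.stalk x'))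
  haveI : IsScalarTower Γ(S', UT) (X'.presheaf.stalk x') (((Scheme.Modules.pullback g').obj F).presheaf.stalk x') :=
    IsScalarTower.of_compHom _ _ _
  have hB' : Module.Flat Γ(S', UT) (((Scheme.Modules.pullback g').obj F).presheaf.stalk x') :=
    Module.Flat.of_linearEquiv (e.restrictScalars Γ(S', UT))
  letI algBBq : Algebra Γ(S', UT) (S'.presheaf.stalk (f' x')) :=
    (S'.presheaf.germ UT (f' x') hxUT).hom.toAlgebra
  haveI : IsLocalization (hUT.primeIdealOf ⟨f' x', hxUT⟩).asIdeal.primeCompl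
      (S'.presheaf.stalk (f' x')) := hUT.isLocalization_stalk ⟨f' x', hxUT⟩
  letI mBq : Module (S'.presheaf.stalk (f' x')) (((Scheme.Modules.pullback g').obj F).presheaf.stalk x') :=
    FlatMod.moduleStalkOver f' ((Scheme.Modules.pullback g').obj F) x'
  haveI : IsScalarTower Γ(S', UT) (S'.presheaf.stalk (f' x'))
      (((Scheme.Modules.pullback g').obj F).presheaf.stalk x') := by
    refine ⟨fun r t n => ?_⟩
    change (f'.stalkMap x').hom (r • t) • n =
      X'.presheaf.germ UY x' hxUY (f'.appLE UT UY inf_le_right r) • ((f'.stalkMap x').hom t • n)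
    rw [Algebra.smul_def, map_mul, mul_smul]
    congr 1
    change (f'.stalkMap x') (S'.presheaf.germ UT (f' x') hxUT r) = _
    rw [Scheme.Hom.germ_stalkMap_apply, Scheme.Hom.appLE]
    exact (TopCat.Presheaf.germ_res_apply X'.presheaf (homOfLE inf_le_right) x' hxUY _).symm
  exact (Module.flat_iff_of_isLocalization (S'.presheaf.stalk (f' x'))
    (hUT.primeIdealOf ⟨f' x', hxUT⟩).asIdeal.primeCompl
    (((Scheme.Modules.pullback g').obj F).presheaf.stalk x')).2 hB'

open Groth.Agent.Lib.Helper17.FlatBC in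
/-- Flatness at a point is stable under base change: if `g` is flat at `f' x'` then `g'` is flat at `x'`. -/
theorem flat_stalkMap_baseChange {X S X' S' : Scheme.{u}} (f : X ⟶ S) (f' : X' ⟶ S') (g' : X' ⟶ X) (g : S' ⟶ S)
    (hc : IsPullback g' f' f g) (x' : X') (hg : (g.stalkMap (f' x')).hom.Flat) :
    (g'.stalkMap x').hom.Flat := by
  obtain ⟨US, UX, UT, hUSX, hUST, hUS, hUX, hUT, hUY, hxUX, hxUT, hpo⟩ := exists_affine_chart hc x'
  set UY := g' ⁻¹ᵁ UX ⊓ f' ⁻¹ᵁ UT with hUYdef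
  have hxUY : x' ∈ UY := ⟨hxUX, hxUT⟩
  have hsUS : g (f' x') ∈ US := hUST hxUT
  -- rings
  letI algRA : Algebra Γ(S, US) Γ(X, UX) := (f.appLE US UX hUSX).hom.toAlgebra
  letI algRB : Algebra Γ(S, US) Γ(S', UT) := (g.appLE US UT hUST).hom.toAlgebra
  letI algAC : Algebra Γ(X, UX) Γ(X', UY) := (g'.appLE UX UY inf_le_left).hom.toAlgebra
  letI algBC : Algebra Γ(S', UT) Γ(X', UY) := (f'.appLE UT UY inf_le_right).hom.toAlgebra
  letI algRC : Algebra Γ(S, US) Γ(X', UY) :=
    ((algebraMap Γ(X, UX) Γ(X', UY)).comp (algebraMap Γ(S, US) Γ(X, UX))).toAlgebra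
  haveI : IsScalarTower Γ(S, US) Γ(X, UX) Γ(X', UY) := IsScalarTower.of_algebraMap_eq (fun _ => rfl)
  haveI : IsScalarTower Γ(S, US) Γ(S', UT) Γ(X', UY) := by
    refine IsScalarTower.of_algebraMap_eq' ?_
    exact congrArg CommRingCat.Hom.hom hpo.w
  haveI hpush : Algebra.IsPushout Γ(S, US) Γ(X, UX) Γ(S', UT) Γ(X', UY) :=
    CommRingCat.isPushout_iff_isPushout.mp hpo
  -- stalk rings
  letI algBBq : Algebra Γ(S', UT) (S'.presheaf.stalk (f' x')) := (S'.presheaf.germ UT (f' x') hxUT).hom.toAlgebra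
  letI algRBq : Algebra Γ(S, US) (S'.presheaf.stalk (f' x')) :=
    ((algebraMap Γ(S', UT) (S'.presheaf.stalk (f' x'))).comp (algebraMap Γ(S, US) Γ(S', UT))).toAlgebra
  haveI : IsScalarTower Γ(S, US) Γ(S', UT) (S'.presheaf.stalk (f' x')) := IsScalarTower.of_algebraMap_eq (fun _ => rfl)
  letI algCCp : Algebra Γ(X', UY) (X'.presheaf.stalk x') := (X'.presheaf.germ UY x' hxUY).hom.toAlgebra
  letI algBqCp : Algebra (S'.presheaf.stalk (f' x')) (X'.presheaf.stalk x') := (f'.stalkMap x').hom.toAlgebra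
  letI algBCp : Algebra Γ(S', UT) (X'.presheaf.stalk x') :=
    ((algebraMap Γ(X', UY) (X'.presheaf.stalk x')).comp (algebraMap Γ(S', UT) Γ(X', UY))).toAlgebra
  letI algACp : Algebra Γ(X, UX) (X'.presheaf.stalk x') :=
    ((algebraMap Γ(X', UY) (X'.presheaf.stalk x')).comp (algebraMap Γ(X, UX) Γ(X', UY))).toAlgebra
  haveI : IsScalarTower Γ(S', UT) Γ(X', UY) (X'.presheaf.stalk x') := IsScalarTower.of_algebraMap_eq (fun _ => rfl)
  haveI : IsScalarTower Γ(X, UX) Γ(X', UY) (X'.presheaf.stalk x') := IsScalarTower.of_algebraMap_eq (fun _ => rfl)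
  haveI : IsScalarTower Γ(S', UT) (S'.presheaf.stalk (f' x')) (X'.presheaf.stalk x') := by
    refine IsScalarTower.of_algebraMap_eq (fun b => ?_)
    change X'.presheaf.germ UY x' hxUY (f'.appLE UT UY inf_le_right b) =
      f'.stalkMap x' (S'.presheaf.germ UT (f' x') hxUT b)
    rw [Scheme.Hom.germ_stalkMap_apply, Scheme.Hom.appLE]
    exact (TopCat.Presheaf.germ_res_apply X'.presheaf (homOfLE inf_le_right) x' hxUY _)
  haveI : IsLocalization (hUT.primeIdealOf ⟨f' x', hxUT⟩).asIdeal.primeCompl (S'.presheaf.stalk (f' x')) :=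
    hUT.isLocalization_stalk ⟨f' x', hxUT⟩
  haveI : IsLocalization (hUY.primeIdealOf ⟨x', hxUY⟩).asIdeal.primeCompl (X'.presheaf.stalk x') :=
    hUY.isLocalization_stalk ⟨x', hxUY⟩
  haveI : Module.Flat Γ(X', UY) (X'.presheaf.stalk x') :=
    IsLocalization.flat _ (hUY.primeIdealOf ⟨x', hxUY⟩).asIdeal.primeCompl
  -- flatness of Bq over R
  have hR : Module.Flat Γ(S, US) (S'.presheaf.stalk (f' x')) := by
    letI algRRr : Algebra Γ(S, US) (S.presheaf.stalk (g (f' x'))) :=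
      (S.presheaf.germ US (g (f' x')) hsUS).hom.toAlgebra
    haveI : IsLocalization (hUS.primeIdealOf ⟨g (f' x'), hsUS⟩).asIdeal.primeCompl
        (S.presheaf.stalk (g (f' x'))) := hUS.isLocalization_stalk ⟨g (f' x'), hsUS⟩
    letI algRrBq : Algebra (S.presheaf.stalk (g (f' x'))) (S'.presheaf.stalk (f' x')) :=
      (g.stalkMap (f' x')).hom.toAlgebra
    haveI : IsScalarTower Γ(S, US) (S.presheaf.stalk (g (f' x'))) (S'.presheaf.stalk (f' x')) := by
      refine IsScalarTower.of_algebraMap_eq (fun r => ?_)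
      change S'.presheaf.germ UT (f' x') hxUT (g.appLE US UT hUST r) =
        g.stalkMap (f' x') (S.presheaf.germ US (g (f' x')) hsUS r)
      rw [Scheme.Hom.germ_stalkMap_apply, Scheme.Hom.appLE]
      exact (TopCat.Presheaf.germ_res_apply S'.presheaf (homOfLE hUST) (f' x') hxUT _)
    exact (Module.flat_iff_of_isLocalization (S.presheaf.stalk (g (f' x')))
      (hUS.primeIdealOf ⟨g (f' x'), hsUS⟩).asIdeal.primeCompl (S'.presheaf.stalk (f' x'))).1 hg
  have hA : Module.Flat Γ(X, UX) (X'.presheaf.stalk x') :=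
    flat_stalk_of_isPushout (R := Γ(S, US)) (A := Γ(X, UX)) (B := Γ(S', UT)) (C := Γ(X', UY))
      (hUT.primeIdealOf ⟨f' x', hxUT⟩).asIdeal.primeCompl hR
  -- pass to the stalk of X
  letI algAAp : Algebra Γ(X, UX) (X.presheaf.stalk (g' x')) := (X.presheaf.germ UX (g' x') hxUX).hom.toAlgebra
  letI algApCp : Algebra (X.presheaf.stalk (g' x')) (X'.presheaf.stalk x') := (g'.stalkMap x').hom.toAlgebra
  haveI : IsScalarTower Γ(X, UX) (X.presheaf.stalk (g' x')) (X'.presheaf.stalk x') := by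
    refine IsScalarTower.of_algebraMap_eq (fun a => ?_)
    change X'.presheaf.germ UY x' hxUY (g'.appLE UX UY inf_le_left a) =
      g'.stalkMap x' (X.presheaf.germ UX (g' x') hxUX a)
    rw [Scheme.Hom.germ_stalkMap_apply, Scheme.Hom.appLE]
    exact (TopCat.Presheaf.germ_res_apply X'.presheaf (homOfLE inf_le_left) x' hxUY _)
  haveI : IsLocalization (hUX.primeIdealOf ⟨g' x', hxUX⟩).asIdeal.primeCompl (X.presheaf.stalk (g' x')) :=
    hUX.isLocalization_stalk ⟨g' x', hxUX⟩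
  exact (Module.flat_iff_of_isLocalization (X.presheaf.stalk (g' x'))
    (hUX.primeIdealOf ⟨g' x', hxUX⟩).asIdeal.primeCompl (X'.presheaf.stalk x')).2 hA

end Groth.Agent.Lib.Helper17.FibreStalk
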