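import Mathlib

/-!
# Flat base change and Mayer–Vietoris squares of modules

For a flat ring map `A → A'`, `A`-modules `N, N₁, N₂, N₁₂` forming a left exact Mayer–Vietoris sequence
`0 → N → N₁ × N₂ → N₁₂`, similarly `A'`-modules `T, T₁, T₂, T₁₂`, and semilinear comparison maps `c : N → T` etc.,
we transfer injectivity / bijectivity of the linearized maps `A' ⊗[A] N → T`, `a' ⊗ n ↦ a' • c n`.
-/

set_option autoImplicit false
universe u
open TensorProduct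

namespace Groth.Agent.Lib.Helper17.FlatMV

variable {A A' : Type u} [CommRing A] [CommRing A'] [Algebra A A']

section lin
variable {N T : Type u} [AddCommGroup N] [Module A N] [AddCommGroup T] [Module A' T]

/-- the additive map `A' ⊗[A] N → T`, `a' ⊗ n ↦ a' • c n`, attached to a semilinear map `c` -/
noncomputable def lin (c : N →+ T) (hc : ∀ (a : A) (n : N), c (a • n) = algebraMap A A' a • c n) :
    A' ⊗[A] N →+ T :=
  TensorProduct.liftAddHom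
    (AddMonoidHom.mk' (fun a' : A' => AddMonoidHom.mk' (fun n : N => a' • c n)
      (fun n n' => by rw [map_add, smul_add]))
      (fun a' b' => by
        ext n
        change (a' + b') • c n = a' • c n + b' • c n
        rw [add_smul]))
    (fun a a' n => by
      change (a • a') • c n = a' • c (a • n)
      rw [hc, Algebra.smul_def, mul_comm, mul_smul])

@[simp]
theorem lin_tmul (c : N →+ T) (hc : ∀ (a : A) (n : N), c (a • n) = algebraMap A A' a • c n) (a' : A') (n : N) :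
    lin c hc (a' ⊗ₜ[A] n) = a' • c n := rfl

theorem lin_smul (c : N →+ T) (hc : ∀ (a : A) (n : N), c (a • n) = algebraMap A A' a • c n) (b : A')
    (z : A' ⊗[A] N) : lin c hc (b • z) = b • lin c hc z := by
  induction z using TensorProduct.induction_on with
  | zero => simp
  | add x y hx hy => rw [smul_add, map_add, map_add, hx, hy, smul_add]
  | tmul a' n => rw [TensorProduct.smul_tmul', lin_tmul, lin_tmul, smul_eq_mul, mul_smul]

end lin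

section naturality
variable {N N₁ T T₁ : Type u} [AddCommGroup N] [Module A N] [AddCommGroup T] [Module A' T]
  [AddCommGroup N₁] [Module A N₁] [AddCommGroup T₁] [Module A' T₁]

/-- naturality of `lin` -/
theorem lin_lTensor (c : N →+ T) (hc : ∀ (a : A) (n : N), c (a • n) = algebraMap A A' a • c n)
    (c₁ : N₁ →+ T₁) (hc₁ : ∀ (a : A) (n : N₁), c₁ (a • n) = algebraMap A A' a • c₁ n)
    (ρ : N →ₗ[A] N₁) (r : T →+ T₁) (hr : ∀ (a' : A') (t : T), r (a' • t) = a' • r t)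
    (h : ∀ n, r (c n) = c₁ (ρ n)) (z : A' ⊗[A] N) :
    lin c₁ hc₁ (ρ.lTensor A' z) = r (lin c hc z) := by
  induction z using TensorProduct.induction_on with
  | zero => simp
  | add x y hx hy => rw [map_add, map_add, map_add, map_add, hx, hy]
  | tmul a' n => rw [LinearMap.lTensor_tmul, lin_tmul, lin_tmul, hr, h]

end naturality

section MV
variable [Module.Flat A A']
variable {N N₁ N₂ N₁₂ T T₁ T₂ T₁₂ : Type u}
  [AddCommGroup N] [Module A N] [AddCommGroup N₁] [Module A N₁] [AddCommGroup N₂] [Module A N₂]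
  [AddCommGroup N₁₂] [Module A N₁₂]
  [AddCommGroup T] [Module A' T] [AddCommGroup T₁] [Module A' T₁] [AddCommGroup T₂] [Module A' T₂]
  [AddCommGroup T₁₂] [Module A' T₁₂]

omit [Module.Flat A A'] in
/-- an element of `A' ⊗ (N₁ × N₂)` with vanishing components vanishes -/
theorem eq_zero_of_lTensor_fst_snd (w : A' ⊗[A] (N₁ × N₂))
    (h₁ : (LinearMap.fst A N₁ N₂).lTensor A' w = 0) (h₂ : (LinearMap.snd A N₁ N₂).lTensor A' w = 0) : w = 0 := by
  have hid : (LinearMap.inl A N₁ N₂).comp (LinearMap.fst A N₁ N₂) +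
      (LinearMap.inr A N₁ N₂).comp (LinearMap.snd A N₁ N₂) = LinearMap.id := by
    apply LinearMap.ext
    rintro ⟨x, y⟩
    simp
  have := congrArg (fun l : (N₁ × N₂) →ₗ[A] (N₁ × N₂) => l.lTensor A' w) hid
  simp only [LinearMap.lTensor_add, LinearMap.lTensor_comp, LinearMap.add_apply, LinearMap.comp_apply,
    LinearMap.lTensor_id, LinearMap.id_apply, h₁, h₂, map_zero, add_zero] at this
  exact this.symm

/-- injectivity of the base change comparison map passes to the glued module -/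
theorem mv_injective (ρ₁ : N →ₗ[A] N₁) (ρ₂ : N →ₗ[A] N₂) (hρ : ∀ n, ρ₁ n = 0 → ρ₂ n = 0 → n = 0)
    (r₁ : T →+ T₁) (r₂ : T →+ T₂)
    (hr₁ : ∀ (a' : A') (t : T), r₁ (a' • t) = a' • r₁ t) (hr₂ : ∀ (a' : A') (t : T), r₂ (a' • t) = a' • r₂ t)
    (c : N →+ T) (hc : ∀ (a : A) (n : N), c (a • n) = algebraMap A A' a • c n)
    (c₁ : N₁ →+ T₁) (hc₁ : ∀ (a : A) (n : N₁), c₁ (a • n) = algebraMap A A' a • c₁ n)
    (c₂ : N₂ →+ T₂) (hc₂ : ∀ (a : A) (n : N₂), c₂ (a • n) = algebraMap A A' a • c₂ n)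
    (h₁ : ∀ n, r₁ (c n) = c₁ (ρ₁ n)) (h₂ : ∀ n, r₂ (c n) = c₂ (ρ₂ n))
    (i₁ : Function.Injective (lin c₁ hc₁)) (i₂ : Function.Injective (lin c₂ hc₂)) :
    Function.Injective (lin c hc) := by
  rw [injective_iff_map_eq_zero]
  intro z hz
  have e₁ : ρ₁.lTensor A' z = 0 := by
    apply i₁
    rw [lin_lTensor c hc c₁ hc₁ ρ₁ r₁ hr₁ h₁, hz, map_zero, map_zero]
  have e₂ : ρ₂.lTensor A' z = 0 := by
    apply i₂
    rw [lin_lTensor c hc c₂ hc₂ ρ₂ r₂ hr₂ h₂, hz, map_zero, map_zero]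
  have hinj : Function.Injective (ρ₁.prod ρ₂) := by
    rw [injective_iff_map_eq_zero]
    intro n hn
    have h' := Prod.ext_iff.mp hn
    exact hρ n h'.1 h'.2
  have hinj' := Module.Flat.lTensor_preserves_injective_linearMap (M := A') (ρ₁.prod ρ₂) hinj
  apply hinj'
  rw [map_zero]
  apply eq_zero_of_lTensor_fst_snd
  · rw [← LinearMap.comp_apply, ← LinearMap.lTensor_comp, LinearMap.fst_prod, e₁]
  · rw [← LinearMap.comp_apply, ← LinearMap.lTensor_comp, LinearMap.snd_prod, e₂]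

/-- bijectivity of the base change comparison map passes to the glued module -/
theorem mv_bijective (ρ₁ : N →ₗ[A] N₁) (ρ₂ : N →ₗ[A] N₂) (σ₁ : N₁ →ₗ[A] N₁₂) (σ₂ : N₂ →ₗ[A] N₁₂)
    (hρ : ∀ n, ρ₁ n = 0 → ρ₂ n = 0 → n = 0)
    (hσ : ∀ n, σ₁ (ρ₁ n) = σ₂ (ρ₂ n))
    (hex : ∀ n₁ n₂, σ₁ n₁ = σ₂ n₂ → ∃ n, ρ₁ n = n₁ ∧ ρ₂ n = n₂)
    (r₁ : T →+ T₁) (r₂ : T →+ T₂) (s₁ : T₁ →+ T₁₂) (s₂ : T₂ →+ T₁₂)
    (hr : ∀ t, r₁ t = 0 → r₂ t = 0 → t = 0) (hs : ∀ t, s₁ (r₁ t) = s₂ (r₂ t))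
    (hr₁ : ∀ (a' : A') (t : T), r₁ (a' • t) = a' • r₁ t) (hr₂ : ∀ (a' : A') (t : T), r₂ (a' • t) = a' • r₂ t)
    (hs₁ : ∀ (a' : A') (t : T₁), s₁ (a' • t) = a' • s₁ t) (hs₂ : ∀ (a' : A') (t : T₂), s₂ (a' • t) = a' • s₂ t)
    (c : N →+ T) (hc : ∀ (a : A) (n : N), c (a • n) = algebraMap A A' a • c n)
    (c₁ : N₁ →+ T₁) (hc₁ : ∀ (a : A) (n : N₁), c₁ (a • n) = algebraMap A A' a • c₁ n)
    (c₂ : N₂ →+ T₂) (hc₂ : ∀ (a : A) (n : N₂), c₂ (a • n) = algebraMap A A' a • c₂ n)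
    (c₁₂ : N₁₂ →+ T₁₂) (hc₁₂ : ∀ (a : A) (n : N₁₂), c₁₂ (a • n) = algebraMap A A' a • c₁₂ n)
    (h₁ : ∀ n, r₁ (c n) = c₁ (ρ₁ n)) (h₂ : ∀ n, r₂ (c n) = c₂ (ρ₂ n))
    (k₁ : ∀ n, s₁ (c₁ n) = c₁₂ (σ₁ n)) (k₂ : ∀ n, s₂ (c₂ n) = c₁₂ (σ₂ n))
    (b₁ : Function.Bijective (lin c₁ hc₁)) (b₂ : Function.Bijective (lin c₂ hc₂))
    (i₁₂ : Function.Injective (lin c₁₂ hc₁₂)) :
    Function.Bijective (lin c hc) := by
  refine ⟨mv_injective ρ₁ ρ₂ hρ r₁ r₂ hr₁ hr₂ c hc c₁ hc₁ c₂ hc₂ h₁ h₂ b₁.1 b₂.1, fun t => ?_⟩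
  obtain ⟨x₁, hx₁⟩ := b₁.2 (r₁ t)
  obtain ⟨x₂, hx₂⟩ := b₂.2 (r₂ t)
  have hx : σ₁.lTensor A' x₁ = σ₂.lTensor A' x₂ := by
    apply i₁₂
    rw [lin_lTensor c₁ hc₁ c₁₂ hc₁₂ σ₁ s₁ hs₁ k₁, lin_lTensor c₂ hc₂ c₁₂ hc₁₂ σ₂ s₂ hs₂ k₂, hx₁, hx₂, hs]
  let ρ : N →ₗ[A] N₁ × N₂ := ρ₁.prod ρ₂
  let δ : N₁ × N₂ →ₗ[A] N₁₂ := σ₁.comp (LinearMap.fst A N₁ N₂) - σ₂.comp (LinearMap.snd A N₁ N₂)
  have hexact : Function.Exact ρ δ := by
    intro p
    constructor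
    · intro hp
      have hp' : σ₁ p.1 = σ₂ p.2 := by
        have : σ₁ p.1 - σ₂ p.2 = 0 := hp
        exact sub_eq_zero.mp this
      obtain ⟨n, hn₁, hn₂⟩ := hex p.1 p.2 hp'
      exact ⟨n, Prod.ext hn₁ hn₂⟩
    · rintro ⟨n, rfl⟩
      change σ₁ (ρ₁ n) - σ₂ (ρ₂ n) = 0
      rw [hσ, sub_self]
  have hexact' := Module.Flat.lTensor_exact A' hexact
  let w : A' ⊗[A] (N₁ × N₂) := (LinearMap.inl A N₁ N₂).lTensor A' x₁ + (LinearMap.inr A N₁ N₂).lTensor A' x₂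
  have hw : δ.lTensor A' w = 0 := by
    change δ.lTensor A' ((LinearMap.inl A N₁ N₂).lTensor A' x₁ + (LinearMap.inr A N₁ N₂).lTensor A' x₂) = 0
    rw [map_add, ← LinearMap.comp_apply, ← LinearMap.comp_apply, ← LinearMap.lTensor_comp,
      ← LinearMap.lTensor_comp]
    have e1 : δ.comp (LinearMap.inl A N₁ N₂) = σ₁ := by
      ext x; simp [δ]
    have e2 : δ.comp (LinearMap.inr A N₁ N₂) = -σ₂ := by
      ext x; simp [δ]
    rw [e1, e2, LinearMap.lTensor_neg, LinearMap.neg_apply, hx, add_neg_cancel]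
  obtain ⟨z, hz⟩ := (hexact' w).mp hw
  refine ⟨z, sub_eq_zero.mp (hr _ ?_ ?_)⟩
  · rw [map_sub, sub_eq_zero, ← lin_lTensor c hc c₁ hc₁ ρ₁ r₁ hr₁ h₁, ← hx₁]
    congr 1
    have : ρ₁ = (LinearMap.fst A N₁ N₂).comp ρ := (LinearMap.fst_prod ρ₁ ρ₂).symm
    rw [this, LinearMap.lTensor_comp, LinearMap.comp_apply, hz]
    change (LinearMap.fst A N₁ N₂).lTensor A'
      ((LinearMap.inl A N₁ N₂).lTensor A' x₁ + (LinearMap.inr A N₁ N₂).lTensor A' x₂) = x₁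
    rw [map_add, ← LinearMap.comp_apply, ← LinearMap.comp_apply, ← LinearMap.lTensor_comp,
      ← LinearMap.lTensor_comp, LinearMap.fst_comp_inl, LinearMap.fst_comp_inr, LinearMap.lTensor_id,
      LinearMap.lTensor_zero, LinearMap.id_apply, LinearMap.zero_apply, add_zero]
  · rw [map_sub, sub_eq_zero, ← lin_lTensor c hc c₂ hc₂ ρ₂ r₂ hr₂ h₂, ← hx₂]
    congr 1
    have : ρ₂ = (LinearMap.snd A N₁ N₂).comp ρ := (LinearMap.snd_prod ρ₁ ρ₂).symm
    rw [this, LinearMap.lTensor_comp, LinearMap.comp_apply, hz]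
    change (LinearMap.snd A N₁ N₂).lTensor A'
      ((LinearMap.inl A N₁ N₂).lTensor A' x₁ + (LinearMap.inr A N₁ N₂).lTensor A' x₂) = x₂
    rw [map_add, ← LinearMap.comp_apply, ← LinearMap.comp_apply, ← LinearMap.lTensor_comp,
      ← LinearMap.lTensor_comp, LinearMap.snd_comp_inl, LinearMap.snd_comp_inr, LinearMap.lTensor_id,
      LinearMap.lTensor_zero, LinearMap.id_apply, LinearMap.zero_apply, zero_add]

end MV

end Groth.Agent.Lib.Helper17.FlatMV
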