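import Groth.Agent.Lib.Helper17.PullbackBC
import Groth.Agent.Lib.Helper17.FlatMV
import Mathlib

/-!
# Flat base change for direct images of quasi-coherent modules (degree zero)
-/

set_option backward.isDefEq.respectTransparency.types false
set_option autoImplicit false
universe u
open AlgebraicGeometry CategoryTheory Opposite TopologicalSpace TensorProduct CategoryTheory.Limits

namespace Groth.Agent.Lib.Helper17.FlatBC
open Scheme.Modules
open Groth.Agent.Lib.Helper17.PullbackBC Groth.Agent.Lib.Helper17.FlatMV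
open Groth.Agent.Lib.Helper28.PullbackInv Groth.Agent.Lib.Helper28.QCohLoc

section Glue
variable {X : Scheme.{u}} (M : X.Modules)

/-- separatedness for a two-element cover -/
theorem eq_zero_of_res_two {U U₁ U₂ : X.Opens} (h₁ : U₁ ≤ U) (h₂ : U₂ ≤ U) (hc : U ≤ U₁ ⊔ U₂) (n : Γ(M, U))
    (e₁ : res M h₁ n = 0) (e₂ : res M h₂ n = 0) : n = 0 := by
  refine eq_of_locally_eq M (fun b : Bool => if b then U₁ else U₂) U
    (fun b => by cases b <;> simp [h₁, h₂]) ?_ n 0 ?_
  · refine hc.trans (sup_le ?_ ?_)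
    · exact le_iSup_of_le true (by simp)
    · exact le_iSup_of_le false (by simp)
  · intro b
    cases b
    · simpa using e₂
    · simpa using e₁

/-- gluing for a two-element cover -/
theorem exists_glue_two {U₁ U₂ : X.Opens} (n₁ : Γ(M, U₁)) (n₂ : Γ(M, U₂))
    (h : res M (inf_le_left : U₁ ⊓ U₂ ≤ U₁) n₁ = res M (inf_le_right : U₁ ⊓ U₂ ≤ U₂) n₂) :
    ∃ n : Γ(M, U₁ ⊔ U₂), res M (le_sup_left : U₁ ≤ U₁ ⊔ U₂) n = n₁ ∧
      res M (le_sup_right : U₂ ≤ U₁ ⊔ U₂) n = n₂ := by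
  let F : TopCat.Sheaf Ab X := ⟨M.presheaf, M.isSheaf⟩
  let Ufam : Bool → X.Opens := fun b => if b then U₁ else U₂
  let sf : ∀ b : Bool, ToType (F.1.obj (op (Ufam b))) := fun b =>
    match b with
    | true => n₁
    | false => n₂
  have hle : ∀ b, Ufam b ≤ U₁ ⊔ U₂ := fun b => by cases b <;> simp [Ufam]
  have hcover : U₁ ⊔ U₂ ≤ iSup Ufam := sup_le (le_iSup_of_le true (by simp [Ufam]))
    (le_iSup_of_le false (by simp [Ufam]))
  have h' : res M (inf_le_left : U₂ ⊓ U₁ ≤ U₂) n₂ = res M (inf_le_right : U₂ ⊓ U₁ ≤ U₁) n₁ := by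
    have := congrArg (res M (le_of_eq (inf_comm U₂ U₁) : U₂ ⊓ U₁ ≤ U₁ ⊓ U₂)) h
    rw [res_res, res_res] at this
    exact this.symm
  have hcompat : TopCat.Presheaf.IsCompatible F.1 Ufam sf := by
    intro b b'
    cases b <;> cases b'
    · rfl
    · exact h'
    · exact h
    · rfl
  obtain ⟨n, hn, -⟩ := F.existsUnique_gluing' Ufam (U₁ ⊔ U₂) (fun b => homOfLE (hle b)) hcover sf hcompat
  exact ⟨n, hn true, hn false⟩

end Glue

section Lin
variable {A A' : Type u} [CommRing A] [CommRing A'] (φ : A →+* A')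
  {N T : Type u} [AddCommGroup N] [Module A N] [AddCommGroup T] [Module A' T]

/-- the linearization `A' ⊗[A] N → T` of the `φ`-semilinear map `c` is injective -/
def LinInj (c : N →+ T) : Prop :=
  letI := φ.toAlgebra
  ∃ hc : ∀ (a : A) (n : N), c (a • n) = algebraMap A A' a • c n, Function.Injective (lin c hc)

/-- the linearization `A' ⊗[A] N → T` of the `φ`-semilinear map `c` is bijective -/
def LinBij (c : N →+ T) : Prop :=
  letI := φ.toAlgebra
  ∃ hc : ∀ (a : A) (n : N), c (a • n) = algebraMap A A' a • c n, Function.Bijective (lin c hc)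

variable {φ} in
theorem LinBij.linInj {c : N →+ T} (h : LinBij φ c) : LinInj φ c := by
  letI := φ.toAlgebra
  obtain ⟨hc, hb⟩ := h
  exact ⟨hc, hb.1⟩

/-- comparison of two base changes of the same module -/
theorem bijective_of_isBC_of_linBij {P T₁ : Type u} [AddCommGroup P] [Module A P] [AddCommGroup T₁] [Module A' T₁]
    (c₁ : P → T₁) (h₁ : IsBC φ c₁) (c₂ : N →+ T) (h₂ : LinBij φ c₂)
    (j : P → N) (hj : Function.Bijective j) (hjadd : ∀ p q, j (p + q) = j p + j q)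
    (hjsmul : ∀ (a : A) (p : P), j (a • p) = a • j p)
    (u : T₁ →+ T) (hu : ∀ (a' : A') (t : T₁), u (a' • t) = a' • u t) (huc : ∀ p, u (c₁ p) = c₂ (j p)) :
    Function.Bijective u := by
  letI := φ.toAlgebra
  obtain ⟨e₁, he₁⟩ := (isBC_iff φ c₁).mp h₁
  obtain ⟨hc₂, hb⟩ := h₂
  let jL : P ≃ₗ[A] N := LinearEquiv.ofBijective ⟨⟨j, hjadd⟩, hjsmul⟩ hj
  let J : A' ⊗[A] P ≃ₗ[A] A' ⊗[A] N := LinearEquiv.lTensor A' jL
  have key : ∀ z : A' ⊗[A] P, u (e₁.symm z) = lin c₂ hc₂ (J z) := by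
    intro z
    induction z using TensorProduct.induction_on with
    | zero => simp
    | add x y hx hy => rw [map_add, map_add, map_add, map_add, hx, hy]
    | tmul a' p =>
      have h1 : (a' ⊗ₜ[A] p : A' ⊗[A] P) = a' • ((1 : A') ⊗ₜ[A] p) := by
        rw [TensorProduct.smul_tmul', smul_eq_mul, mul_one]
      have h2 : e₁.symm ((1 : A') ⊗ₜ[A] p) = c₁ p := by
        rw [← he₁, LinearEquiv.symm_apply_apply]
      rw [h1, _root_.map_smul, h2, hu, huc]
      change a' • c₂ (j p) = lin c₂ hc₂ ((jL.toLinearMap).lTensor A' (a' • ((1 : A') ⊗ₜ[A] p)))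
      rw [← h1, LinearMap.lTensor_tmul, lin_tmul]
      rfl
  have hu' : ⇑u = (lin c₂ hc₂) ∘ J ∘ e₁ := by
    funext t
    have := key (e₁ t)
    rw [LinearEquiv.symm_apply_apply] at this
    exact this
  rw [hu']
  exact hb.comp (J.bijective.comp e₁.bijective)

end Lin

section Setup
variable {X S : Scheme.{u}} (f : X ⟶ S) (W : S.Opens) (M : X.Modules)

/-- sections of `M` over an open `U ≤ f⁻¹ W`, as a module over `Γ(S, W)` -/
def SecOver (U : X.Opens) (_hU : U ≤ f ⁻¹ᵁ W) : Type u := Γ(M, U)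

noncomputable instance (U : X.Opens) (hU : U ≤ f ⁻¹ᵁ W) : AddCommGroup (SecOver f W M U hU) :=
  (inferInstance : AddCommGroup Γ(M, U))

noncomputable instance (U : X.Opens) (hU : U ≤ f ⁻¹ᵁ W) : Module Γ(S, W) (SecOver f W M U hU) :=
  Module.compHom Γ(M, U) (f.appLE W U hU).hom

theorem secOver_smul (U : X.Opens) (hU : U ≤ f ⁻¹ᵁ W) (a : Γ(S, W)) (n : SecOver f W M U hU) :
    a • n = ((f.appLE W U hU).hom a • (show Γ(M, U) from n) : Γ(M, U)) := rfl

/-- restriction of sections, as a linear map over `Γ(S, W)` -/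
noncomputable def resL {U V : X.Opens} (hU : U ≤ f ⁻¹ᵁ W) (hVU : V ≤ U) :
    SecOver f W M U hU →ₗ[Γ(S, W)] SecOver f W M V (hVU.trans hU) where
  toFun n := res M hVU n
  map_add' := map_add _
  map_smul' a n := by
    change res M hVU ((f.appLE W U hU).hom a • (show Γ(M, U) from n) : Γ(M, U)) =
      ((f.appLE W V (hVU.trans hU)).hom a • res M hVU n : Γ(M, V))
    rw [res_smul]
    congr 1
    have := Scheme.Hom.appLE_map f hU (homOfLE hVU).op
    exact congrArg (fun ψ => ψ.hom a) this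

theorem resL_apply {U V : X.Opens} (hU : U ≤ f ⁻¹ᵁ W) (hVU : V ≤ U) (n : SecOver f W M U hU) :
    resL f W M hU hVU n = res M hVU n := rfl

end Setup

section Square
variable {X S X' S' : Scheme.{u}} (f : X ⟶ S) (g : S' ⟶ S) (g' : X' ⟶ X) (f' : X' ⟶ S')
  (h : IsPullback g' f' f g) {W : S.Opens} {W' : S'.Opens} (e : W' ≤ g ⁻¹ᵁ W) (M : X.Modules)

/-- the inverse image of sections, from sections of `M` over `U` to sections of `g'^* M` over `U' ≤ g'⁻¹ U` -/
noncomputable def cmap (U : X.Opens) (hU : U ≤ f ⁻¹ᵁ W) (U' : X'.Opens) (hU' : U' ≤ f' ⁻¹ᵁ W')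
    (hle : U' ≤ g' ⁻¹ᵁ U) :
    SecOver f W M U hU →+ SecOver f' W' ((Scheme.Modules.pullback g').obj M) U' hU' :=
  AddMonoidHom.mk' (fun n => res ((Scheme.Modules.pullback g').obj M) hle (pbs g' M U n))
    (fun a b => by
      have h1 : pbs g' M U ((show Γ(M, U) from a) + (show Γ(M, U) from b)) =
          pbs g' M U a + pbs g' M U b := pbs_add g' M U _ _
      change res _ hle (pbs g' M U ((show Γ(M, U) from a) + (show Γ(M, U) from b))) =
        res _ hle (pbs g' M U a) + res _ hle (pbs g' M U b)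
      rw [h1]
      exact map_add _ _ _)

theorem cmap_apply (U : X.Opens) (hU : U ≤ f ⁻¹ᵁ W) (U' : X'.Opens) (hU' : U' ≤ f' ⁻¹ᵁ W')
    (hle : U' ≤ g' ⁻¹ᵁ U) (n : SecOver f W M U hU) :
    cmap f g' f' M U hU U' hU' hle n = res ((Scheme.Modules.pullback g').obj M) hle (pbs g' M U n) := rfl

include h in
theorem appLE_comm (U : X.Opens) (hU : U ≤ f ⁻¹ᵁ W) (U' : X'.Opens) (hU' : U' ≤ f' ⁻¹ᵁ W')
    (hle : U' ≤ g' ⁻¹ᵁ U) :
    f.appLE W U hU ≫ g'.appLE U U' hle = g.appLE W W' e ≫ f'.appLE W' U' hU' := by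
  rw [Scheme.Hom.appLE_comp_appLE, Scheme.Hom.appLE_comp_appLE]
  congr 1
  exact h.w

include h in
/-- `cmap` is semilinear over `g.appLE W W'` -/
theorem cmap_smul (U : X.Opens) (hU : U ≤ f ⁻¹ᵁ W) (U' : X'.Opens) (hU' : U' ≤ f' ⁻¹ᵁ W')
    (hle : U' ≤ g' ⁻¹ᵁ U) (a : Γ(S, W)) (n : SecOver f W M U hU) :
    cmap f g' f' M U hU U' hU' hle (a • n) = (g.appLE W W' e).hom a • cmap f g' f' M U hU U' hU' hle n := by
  change res ((Scheme.Modules.pullback g').obj M) hle
      (pbs g' M U ((f.appLE W U hU).hom a • (show Γ(M, U) from n) : Γ(M, U))) =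
    ((f'.appLE W' U' hU').hom ((g.appLE W W' e).hom a) •
      res ((Scheme.Modules.pullback g').obj M) hle (pbs g' M U n) : Γ((Scheme.Modules.pullback g').obj M, U'))
  rw [pbs_smul, res_smul]
  congr 1
  have := appLE_comm f g g' f' h e U hU U' hU' hle
  have h2 := congrArg (fun ψ => ψ.hom a) this
  refine Eq.trans ?_ h2
  change _ = (g'.appLE U U' hle).hom ((f.appLE W U hU).hom a)
  rw [Scheme.Hom.appLE]
  rfl

/-- `cmap` commutes with restrictions -/
theorem cmap_res {U V : X.Opens} (hU : U ≤ f ⁻¹ᵁ W) (hVU : V ≤ U) {U' V' : X'.Opens}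
    (hU' : U' ≤ f' ⁻¹ᵁ W') (hVU' : V' ≤ U') (hle : U' ≤ g' ⁻¹ᵁ U) (hle' : V' ≤ g' ⁻¹ᵁ V)
    (n : SecOver f W M U hU) :
    res ((Scheme.Modules.pullback g').obj M) hVU' (cmap f g' f' M U hU U' hU' hle n) =
      cmap f g' f' M V (hVU.trans hU) V' (hVU'.trans hU') hle' (resL f W M hU hVU n) := by
  rw [cmap_apply, cmap_apply, resL_apply, pbs_res, res_res, res_res]

end Square

section MVOpens
variable {X S X' S' : Scheme.{u}} (f : X ⟶ S) (g : S' ⟶ S) (g' : X' ⟶ X) (f' : X' ⟶ S')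
  (h : IsPullback g' f' f g) {W : S.Opens} {W' : S'.Opens} (e : W' ≤ g ⁻¹ᵁ W) (M : X.Modules)

/-- the open of `X'` over `U` and `W'` -/
def pr (W' : S'.Opens) (U : X.Opens) : X'.Opens := g' ⁻¹ᵁ U ⊓ f' ⁻¹ᵁ W'

theorem pr_le_left (U : X.Opens) : pr g' f' W' U ≤ g' ⁻¹ᵁ U := inf_le_left
theorem pr_le_right (U : X.Opens) : pr g' f' W' U ≤ f' ⁻¹ᵁ W' := inf_le_right
theorem pr_mono {U V : X.Opens} (hVU : V ≤ U) : pr g' f' W' V ≤ pr g' f' W' U :=
  inf_le_inf_right _ (g'.preimage_mono hVU)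
theorem pr_sup_le (U₁ U₂ : X.Opens) : pr g' f' W' (U₁ ⊔ U₂) ≤ pr g' f' W' U₁ ⊔ pr g' f' W' U₂ := by
  intro x hx
  rcases hx with ⟨hx1, hx2⟩
  rcases hx1 with hx1 | hx1
  · exact Or.inl ⟨hx1, hx2⟩
  · exact Or.inr ⟨hx1, hx2⟩

/-- the comparison map over `U` -/
noncomputable abbrev cU (U : X.Opens) (hU : U ≤ f ⁻¹ᵁ W) :
    SecOver f W M U hU →+ SecOver f' W' ((Scheme.Modules.pullback g').obj M) (pr g' f' W' U) (pr_le_right g' f' U) :=
  cmap f g' f' M U hU (pr g' f' W' U) (pr_le_right g' f' U) (pr_le_left g' f' U)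

include h in
theorem linInj_sup (hflat : (g.appLE W W' e).hom.Flat) {U₁ U₂ : X.Opens} (h₁ : U₁ ≤ f ⁻¹ᵁ W) (h₂ : U₂ ≤ f ⁻¹ᵁ W)
    (i₁ : LinInj (g.appLE W W' e).hom (cU f g' f' (W' := W') M U₁ h₁))
    (i₂ : LinInj (g.appLE W W' e).hom (cU f g' f' (W' := W') M U₂ h₂)) :
    LinInj (g.appLE W W' e).hom (cU f g' f' (W' := W') M (U₁ ⊔ U₂) (sup_le h₁ h₂)) := by
  letI := (g.appLE W W' e).hom.toAlgebra
  haveI : Module.Flat Γ(S, W) Γ(S', W') := hflat
  obtain ⟨hc₁, i₁⟩ := i₁
  obtain ⟨hc₂, i₂⟩ := i₂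
  let M' := (Scheme.Modules.pullback g').obj M
  have hU := sup_le h₁ h₂
  refine ⟨fun a n => cmap_smul f g g' f' h e M _ hU _ _ _ a n, ?_⟩
  refine mv_injective (resL f W M hU le_sup_left) (resL f W M hU le_sup_right) ?_
    (resL f' W' M' (pr_le_right g' f' _) (pr_mono g' f' le_sup_left)).toAddMonoidHom
    (resL f' W' M' (pr_le_right g' f' _) (pr_mono g' f' le_sup_right)).toAddMonoidHom
    (fun a' t => (resL f' W' M' (pr_le_right g' f' _) (pr_mono g' f' le_sup_left)).map_smul a' t)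
    (fun a' t => (resL f' W' M' (pr_le_right g' f' _) (pr_mono g' f' le_sup_right)).map_smul a' t)
    _ _ _ hc₁ _ hc₂ ?_ ?_ i₁ i₂
  · intro n e₁ e₂
    exact eq_zero_of_res_two M le_sup_left le_sup_right le_rfl n e₁ e₂
  · intro n
    exact cmap_res f g' f' M hU le_sup_left (pr_le_right g' f' _) (pr_mono g' f' le_sup_left) _ _ n
  · intro n
    exact cmap_res f g' f' M hU le_sup_right (pr_le_right g' f' _) (pr_mono g' f' le_sup_right) _ _ n

include h in
theorem linBij_sup (hflat : (g.appLE W W' e).hom.Flat) {U₁ U₂ : X.Opens} (h₁ : U₁ ≤ f ⁻¹ᵁ W) (h₂ : U₂ ≤ f ⁻¹ᵁ W)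
    (b₁ : LinBij (g.appLE W W' e).hom (cU f g' f' (W' := W') M U₁ h₁))
    (b₂ : LinBij (g.appLE W W' e).hom (cU f g' f' (W' := W') M U₂ h₂))
    (i₁₂ : LinInj (g.appLE W W' e).hom (cU f g' f' (W' := W') M (U₁ ⊓ U₂) (inf_le_left.trans h₁))) :
    LinBij (g.appLE W W' e).hom (cU f g' f' (W' := W') M (U₁ ⊔ U₂) (sup_le h₁ h₂)) := by
  letI := (g.appLE W W' e).hom.toAlgebra
  haveI : Module.Flat Γ(S, W) Γ(S', W') := hflat
  obtain ⟨hc₁, b₁⟩ := b₁
  obtain ⟨hc₂, b₂⟩ := b₂
  obtain ⟨hc₁₂, i₁₂⟩ := i₁₂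
  let M' := (Scheme.Modules.pullback g').obj M
  have hU := sup_le h₁ h₂
  refine ⟨fun a n => cmap_smul f g g' f' h e M _ hU _ _ _ a n, ?_⟩
  refine mv_bijective (resL f W M hU le_sup_left) (resL f W M hU le_sup_right)
    (resL f W M h₁ inf_le_left) (resL f W M h₂ inf_le_right) ?_ ?_ ?_
    (resL f' W' M' (pr_le_right g' f' _) (pr_mono g' f' le_sup_left)).toAddMonoidHom
    (resL f' W' M' (pr_le_right g' f' _) (pr_mono g' f' le_sup_right)).toAddMonoidHom
    (resL f' W' M' (pr_le_right g' f' _) (pr_mono g' f' inf_le_left)).toAddMonoidHom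
    (resL f' W' M' (pr_le_right g' f' _) (pr_mono g' f' inf_le_right)).toAddMonoidHom ?_ ?_
    (fun a' t => (resL f' W' M' (pr_le_right g' f' _) (pr_mono g' f' le_sup_left)).map_smul a' t)
    (fun a' t => (resL f' W' M' (pr_le_right g' f' _) (pr_mono g' f' le_sup_right)).map_smul a' t)
    (fun a' t => (resL f' W' M' (pr_le_right g' f' _) (pr_mono g' f' inf_le_left)).map_smul a' t)
    (fun a' t => (resL f' W' M' (pr_le_right g' f' _) (pr_mono g' f' inf_le_right)).map_smul a' t)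
    _ _ _ hc₁ _ hc₂ _ hc₁₂ ?_ ?_ ?_ ?_ b₁ b₂ i₁₂
  · intro n e₁ e₂
    exact eq_zero_of_res_two M le_sup_left le_sup_right le_rfl n e₁ e₂
  · intro n
    change res M _ (res M _ n) = res M _ (res M _ n)
    rw [res_res, res_res]
  · intro n₁ n₂ hn
    exact exists_glue_two M n₁ n₂ hn
  · intro t e₁ e₂
    exact eq_zero_of_res_two M' (pr_mono g' f' le_sup_left) (pr_mono g' f' le_sup_right)
      (pr_sup_le g' f' U₁ U₂) t e₁ e₂
  · intro t
    change res M' _ (res M' _ t) = res M' _ (res M' _ t)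
    rw [res_res, res_res]
  · intro n
    exact cmap_res f g' f' M hU le_sup_left (pr_le_right g' f' _) (pr_mono g' f' le_sup_left) _ _ n
  · intro n
    exact cmap_res f g' f' M hU le_sup_right (pr_le_right g' f' _) (pr_mono g' f' le_sup_right) _ _ n
  · intro n
    exact cmap_res f g' f' M h₁ inf_le_left (pr_le_right g' f' _) (pr_mono g' f' inf_le_left) _ _ n
  · intro n
    exact cmap_res f g' f' M h₂ inf_le_right (pr_le_right g' f' _) (pr_mono g' f' inf_le_right) _ _ n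

end MVOpens

section Base
variable {X S X' S' : Scheme.{u}} (f : X ⟶ S) (g : S' ⟶ S) (g' : X' ⟶ X) (f' : X' ⟶ S')
  (h : IsPullback g' f' f g) {W : S.Opens} {W' : S'.Opens} (e : W' ≤ g ⁻¹ᵁ W) (M : X.Modules)

/-- sections over an empty open vanish -/
theorem subsingleton_of_le_bot {Z : Scheme.{u}} (G : Z.Modules) {U : Z.Opens} (hU : U ≤ ⊥) :
    Subsingleton Γ(G, U) :=
  ⟨fun x y => eq_of_locally_eq G (fun i : PEmpty.{1} => PEmpty.elim i) U (fun i => PEmpty.elim i)
    (hU.trans bot_le) x y (fun i => PEmpty.elim i)⟩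

include h in
theorem linBij_bot : LinBij (g.appLE W W' e).hom (cU f g' f' (W := W) (W' := W') M ⊥ bot_le) := by
  letI := (g.appLE W W' e).hom.toAlgebra
  refine ⟨fun a n => cmap_smul f g g' f' h e M _ bot_le _ _ _ a n, ?_⟩
  haveI h1 : Subsingleton (SecOver f W M ⊥ bot_le) := subsingleton_of_le_bot M le_rfl
  haveI h2 : Subsingleton (SecOver f' W' ((Scheme.Modules.pullback g').obj M) (pr g' f' W' ⊥)
      (pr_le_right g' f' _)) :=
    subsingleton_of_le_bot _ (by
      intro x hx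
      exact hx.1)
  have h3 : ∀ z : Γ(S', W') ⊗[Γ(S, W)] SecOver f W M ⊥ bot_le, z = 0 := by
    intro z
    induction z using TensorProduct.induction_on with
    | zero => rfl
    | add x y hx hy => rw [hx, hy, add_zero]
    | tmul a n => rw [Subsingleton.elim n 0, TensorProduct.tmul_zero]
  refine ⟨fun x y _ => (h3 x).trans (h3 y).symm, fun t => ⟨0, Subsingleton.elim _ _⟩⟩

include h in
/-- the affine case of flat base change for sections (no flatness needed) -/
theorem linBij_of_isAffineOpen [M.IsQuasicoherent] (hW : IsAffineOpen W) (hW' : IsAffineOpen W')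
    {U : X.Opens} (hUaff : IsAffineOpen U) (hU : U ≤ f ⁻¹ᵁ W) :
    LinBij (g.appLE W W' e).hom (cU f g' f' (W' := W') M U hU) := by
  letI := (g.appLE W W' e).hom.toAlgebra
  let M' := (Scheme.Modules.pullback g').obj M
  have hc : ∀ (a : Γ(S, W)) (n : SecOver f W M U hU),
      cU f g' f' (W' := W') M U hU (a • n) = algebraMap Γ(S, W) Γ(S', W') a • cU f g' f' (W' := W') M U hU n :=
    fun a n => cmap_smul f g g' f' h e M _ hU _ _ _ a n
  refine ⟨hc, ?_⟩
  have hU'aff : IsAffineOpen (pr g' f' W' U) := by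
    have : IsAffine _ := hW
    have : IsAffine _ := hW'
    have : IsAffine _ := hUaff
    exact .of_isIso (Scheme.Hom.isPullback_resLE h e hU rfl).isoPullback.hom
  haveI := isIso_pushoutSection_of_isAffineOpen h e hU (rfl : pr g' f' W' U = _) hW hW' hUaff
  have hpo := ((isIso_pushoutSection_iff h e hU (rfl : pr g' f' W' U = _)).mp inferInstance).flip
  have hK := isBC_pullback g' hUaff hU'aff (pr_le_left g' f' U) M
  letI : Module Γ(X, U) (SecOver f W M U hU) := (inferInstance : Module Γ(X, U) Γ(M, U))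
  have h₁ : IsBC (g.appLE W W' e).hom (P := SecOver f W M U hU)
      (T := Γ(S', W') ⊗[Γ(S, W)] SecOver f W M U hU) (fun p => (1 : Γ(S', W')) ⊗ₜ[Γ(S, W)] p) :=
    (isBC_iff (g.appLE W W' e).hom _).mpr ⟨LinearEquiv.refl _ _, fun p => rfl⟩
  suffices hsuff : ∀ u₀ : Γ(S', W') ⊗[Γ(S, W)] SecOver f W M U hU →+
      SecOver f' W' M' (pr g' f' W' U) (pr_le_right g' f' U),
      u₀ = lin (cU f g' f' (W' := W') M U hU) hc → Function.Bijective u₀ from hsuff _ rfl
  intro u₀ hu₀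
  exact bijective_of_isBC (g.appLE W W' e).hom (f.appLE W U hU).hom
    (f'.appLE W' (pr g' f' W' U) (pr_le_right g' f' U)).hom
    (g'.appLE U (pr g' f' W' U) (pr_le_left g' f' U)).hom hpo
    (P := SecOver f W M U hU) (T := Γ(S', W') ⊗[Γ(S, W)] SecOver f W M U hU)
    (T₂ := Γ(M', pr g' f' W' U)) (fun a p => rfl)
    (fun p => (1 : Γ(S', W')) ⊗ₜ[Γ(S, W)] p)
    (fun m => res M' (pr_le_left g' f' U) (pbs g' M U m)) h₁ hK
    u₀
    (fun a' t => by rw [hu₀]; exact lin_smul _ hc a' t)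
    (fun p => by
      rw [hu₀]
      change (1 : Γ(S', W')) • cU f g' f' (W' := W') M U hU p = _
      rw [one_smul]
      rfl)

end Base

section Induction
variable {X S X' S' : Scheme.{u}} (f : X ⟶ S) (g : S' ⟶ S) (g' : X' ⟶ X) (f' : X' ⟶ S')
  (h : IsPullback g' f' f g) {W : S.Opens} {W' : S'.Opens} (e : W' ≤ g ⁻¹ᵁ W) (M : X.Modules)
  [M.IsQuasicoherent]

include h in
/-- injectivity of the flat base change map for sections over a quasi-compact open -/
theorem linInj_of_isCompact (hW : IsAffineOpen W) (hW' : IsAffineOpen W') (hflat : (g.appLE W W' e).hom.Flat)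
    (U : X.Opens) (hUc : IsCompact (U : Set X)) :
    ∀ hU : U ≤ f ⁻¹ᵁ W, LinInj (g.appLE W W' e).hom (cU f g' f' (W' := W') M U hU) := by
  refine compact_open_induction_on
    (P := fun U => ∀ hU : U ≤ f ⁻¹ᵁ W, LinInj (g.appLE W W' e).hom (cU f g' f' (W' := W') M U hU))
    U hUc ?_ ?_
  · intro hU
    exact (linBij_bot f g g' f' h e M).linInj
  · intro S _ V IH hSV
    exact linInj_sup f g g' f' h e M hflat (le_sup_left.trans hSV) (le_sup_right.trans hSV) (IH _)
      (linBij_of_isAffineOpen f g g' f' h e M hW hW' V.2 _).linInj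

include h in
/-- **flat base change for sections** over a quasi-compact open of a quasi-separated preimage -/
theorem linBij_of_isCompact [QuasiSeparated f] (hW : IsAffineOpen W) (hW' : IsAffineOpen W')
    (hflat : (g.appLE W W' e).hom.Flat) (U : X.Opens) (hUc : IsCompact (U : Set X)) :
    ∀ hU : U ≤ f ⁻¹ᵁ W, LinBij (g.appLE W W' e).hom (cU f g' f' (W' := W') M U hU) := by
  have hqs : IsQuasiSeparated ((f ⁻¹ᵁ W : X.Opens) : Set X) := f.isQuasiSeparated_preimage hW.isQuasiSeparated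
  refine compact_open_induction_on
    (P := fun U => ∀ hU : U ≤ f ⁻¹ᵁ W, LinBij (g.appLE W W' e).hom (cU f g' f' (W' := W') M U hU))
    U hUc ?_ ?_
  · intro hU
    exact linBij_bot f g g' f' h e M
  · intro S hSc V IH hSV
    have hS : S ≤ f ⁻¹ᵁ W := le_sup_left.trans hSV
    have hV : V.1 ≤ f ⁻¹ᵁ W := le_sup_right.trans hSV
    have hcap : IsCompact ((S ⊓ V.1 : X.Opens) : Set X) :=
      hqs S V.1 hS S.2 hSc hV V.1.2 V.2.isCompact
    exact linBij_sup f g g' f' h e M hflat hS hV (IH _)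
      (linBij_of_isAffineOpen f g g' f' h e M hW hW' V.2 _)
      (linInj_of_isCompact f g g' f' h e M hW hW' hflat _ hcap _)

end Induction

section Final
variable {X S X' S' : Scheme.{u}} (f : X ⟶ S) (g : S' ⟶ S) (g' : X' ⟶ X) (f' : X' ⟶ S')
  (h : IsPullback g' f' f g) (M : X.Modules) [M.IsQuasicoherent]

include h in
theorem pr_preimage_eq {W : S.Opens} {W' : S'.Opens} (e : W' ≤ g ⁻¹ᵁ W) :
    pr g' f' W' (f ⁻¹ᵁ W) = f' ⁻¹ᵁ W' :=
  inf_eq_right.2 (le_preimage' f g g' f' h e)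

theorem bij_step_flat [QuasiCompact f] [QuasiSeparated f] [Flat g] {W : S.Opens} (hW : IsAffineOpen W)
    {W' : S'.Opens} (hW' : IsAffineOpen W') (e : W' ≤ g ⁻¹ᵁ W) :
    Function.Bijective ((pbLift g (bcV f g g' f' h M)).app W') := by
  let Mf := (Scheme.Modules.pushforward f).obj M
  haveI : Mf.IsQuasicoherent := isQuasicoherent_pushforward f M
  let M' := (Scheme.Modules.pullback g').obj M
  let Φ := pbLift g (bcV f g g' f' h M)
  have hflat : (g.appLE W W' e).hom.Flat := Flat.flat_appLE g hW hW' e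
  have hVc : IsCompact ((f ⁻¹ᵁ W : X.Opens) : Set X) := QuasiCompact.isCompact_preimage (f := f) _ W.2 hW.isCompact
  have h₁ := isBC_pullback g hW hW' e Mf
  have h₂ := linBij_of_isCompact f g g' f' h e M hW hW' hflat (f ⁻¹ᵁ W) hVc le_rfl
  have heq := pr_preimage_eq f g g' f' h e
  -- restriction along the equality of opens
  let ρ : Γ(M', f' ⁻¹ᵁ W') →+ SecOver f' W' M' (pr g' f' W' (f ⁻¹ᵁ W)) (pr_le_right g' f' _) :=
    AddMonoidHom.mk' (fun t => res M' heq.le t) (fun a b => map_add _ a b)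
  have hρ : Function.Bijective ρ := by
    refine ⟨fun a b hab => ?_, fun t => ⟨res M' heq.ge t, ?_⟩⟩
    · have := congrArg (res M' heq.ge) hab
      change res M' heq.ge (res M' heq.le a) = res M' heq.ge (res M' heq.le b) at this
      rw [res_res, res_res, res_self, res_self] at this
      exact this
    · change res M' heq.le (res M' heq.ge t) = t
      rw [res_res, res_self]
  let u' : Γ((Scheme.Modules.pullback g).obj Mf, W') →+
      SecOver f' W' M' (pr g' f' W' (f ⁻¹ᵁ W)) (pr_le_right g' f' _) :=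
    ρ.comp (AddMonoidHom.mk' (fun t => Φ.app W' t) (fun a b => map_add _ a b))
  have hu' : Function.Bijective u' := by
    refine bijective_of_isBC_of_linBij (g.appLE W W' e).hom _ h₁ _ h₂ (fun p => p) Function.bijective_id
      (fun p q => rfl) ?_ u' ?_ ?_
    · intro a p
      change (a • p : Γ(Mf, W)) = ((f.appLE W (f ⁻¹ᵁ W) le_rfl).hom a • (show Γ(M, f ⁻¹ᵁ W) from p) : Γ(M, f ⁻¹ᵁ W))
      rw [← Scheme.Hom.app_eq_appLE]
      rfl
    · intro a' t
      change res M' heq.le (Φ.app W' (a' • t)) = _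
      rw [Scheme.Modules.Hom.app_smul]
      change res M' heq.le (((f'.app W').hom a' • (show Γ(M', f' ⁻¹ᵁ W') from Φ.app W' t) : Γ(M', f' ⁻¹ᵁ W'))) =
        ((f'.appLE W' (pr g' f' W' (f ⁻¹ᵁ W)) (pr_le_right g' f' _)).hom a' • res M' heq.le (Φ.app W' t) :
          Γ(M', pr g' f' W' (f ⁻¹ᵁ W)))
      rw [res_smul]
      congr 1
    · intro p
      change res M' heq.le (Φ.app W' (res ((Scheme.Modules.pullback g).obj Mf) e (pbs g Mf W p))) =
        res M' (pr_le_left g' f' _) (pbs g' M (f ⁻¹ᵁ W) p)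
      rw [app_res, pbLift_pbs, bcV_app]
      have h0 : res ((Scheme.Modules.pushforward f').obj M') e
          (res M' (preimage_le f g g' f' h W) (pbs g' M (f ⁻¹ᵁ W) p)) =
        res M' (f'.preimage_mono e) (res M' (preimage_le f g g' f' h W) (pbs g' M (f ⁻¹ᵁ W) p)) := rfl
      rw [h0, res_res, res_res]
  have : ⇑u' = ρ ∘ (fun t => Φ.app W' t) := rfl
  rw [this] at hu'
  exact (Function.Bijective.of_comp_iff' hρ _).mp hu'

/-- **Flat base change** for the direct image of a quasi-coherent module along a quasi-compact quasi-separated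
morphism. -/
theorem isIso_pbLift_bcV_of_flat [QuasiCompact f] [QuasiSeparated f] [Flat g] :
    IsIso (pbLift g (bcV f g g' f' h M)) := by
  haveI : QuasiCompact f' := MorphismProperty.of_isPullback (P := @QuasiCompact) h ‹QuasiCompact f›
  haveI : QuasiSeparated f' := MorphismProperty.of_isPullback (P := @QuasiSeparated) h ‹QuasiSeparated f›
  haveI : ((Scheme.Modules.pushforward f).obj M).IsQuasicoherent := isQuasicoherent_pushforward f M
  haveI : ((Scheme.Modules.pushforward f').obj ((Scheme.Modules.pullback g').obj M)).IsQuasicoherent :=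
    isQuasicoherent_pushforward f' _
  let ι := {p : S.Opens × S'.Opens // IsAffineOpen p.1 ∧ IsAffineOpen p.2 ∧ p.2 ≤ g ⁻¹ᵁ p.1}
  refine isIso_of_affine_cover (pbLift g (bcV f g g' f' h M)) (fun i : ι => i.1.2) (fun i => i.2.2.1) ?cov
    (fun i => isLocOn_of_isQuasicoherent _ i.2.2.1) (fun i => isLocOn_of_isQuasicoherent _ i.2.2.1)
    (fun i => bij_step_flat f g g' f' h M i.2.1 i.2.2.1 i.2.2.2)
  intro x'
  obtain ⟨W, hW, hxW, -⟩ := Opens.isBasis_iff_nbhd.mp S.isBasis_affineOpens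
    (show g x' ∈ (⊤ : S.Opens) from trivial)
  obtain ⟨W', hW', hxW', hle⟩ := Opens.isBasis_iff_nbhd.mp S'.isBasis_affineOpens
    (show x' ∈ g ⁻¹ᵁ W from hxW)
  exact ⟨⟨(W, W'), hW, hW', hle⟩, hxW'⟩

end Final

end Groth.Agent.Lib.Helper17.FlatBC
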