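import Mathlib
set_option autoImplicit false
universe u
open TensorProduct

namespace Groth.Agent.Lib.Helper17.FlatTensor

variable {C B A : Type u} [CommRing C] [CommRing B] [CommRing A] [Algebra C B] [Algebra B A] [Algebra C A]
  [IsScalarTower C B A]
  (N : Type u) [AddCommGroup N] [Module B N] [Module C N] [IsScalarTower C B N]

/-- the key naturality: `(A ⊗_B N) ⊗_C j` corresponds to `A ⊗_B (N ⊗_C j)`. -/
theorem assoc_naturality {P' P'' : Type u} [AddCommGroup P'] [AddCommGroup P''] [Module C P'] [Module C P'']
    (j : P' →ₗ[C] P'') (z : (A ⊗[B] N) ⊗[C] P') :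
    (TensorProduct.AlgebraTensorModule.assoc C B A A N P'') ((j.lTensor (A ⊗[B] N)) z) =
      ((TensorProduct.AlgebraTensorModule.lTensor B N j).lTensor A)
        ((TensorProduct.AlgebraTensorModule.assoc C B A A N P') z) := by
  induction z using TensorProduct.induction_on with
  | zero => simp
  | tmul x p =>
    induction x using TensorProduct.induction_on with
    | zero => simp
    | tmul a n => simp
    | add x y hx hy =>
      rw [TensorProduct.add_tmul, map_add, map_add, hx, hy, map_add, map_add]
  | add x y hx hy => rw [map_add, map_add, hx, hy, map_add, map_add]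

theorem flat_tensor_of_flat [Module.Flat B A] (hN : Module.Flat C N) : Module.Flat C (A ⊗[B] N) := by
  rw [Module.Flat.iff_lTensor_preserves_injective_linearMap]
  intro P' P'' _ _ _ _ j hj
  have h1 : Function.Injective (TensorProduct.AlgebraTensorModule.lTensor B N j) :=
    Module.Flat.lTensor_preserves_injective_linearMap (M := N) j hj
  have h2 : Function.Injective ((TensorProduct.AlgebraTensorModule.lTensor B N j).lTensor A) :=
    Module.Flat.lTensor_preserves_injective_linearMap (M := A) _ h1
  intro z w hzw
  apply (TensorProduct.AlgebraTensorModule.assoc C B A A N P').injective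
  apply h2
  rw [← assoc_naturality, ← assoc_naturality, hzw]

theorem flat_of_flat_tensor [Module.FaithfullyFlat B A] (h : Module.Flat C (A ⊗[B] N)) : Module.Flat C N := by
  rw [Module.Flat.iff_lTensor_preserves_injective_linearMap]
  intro P' P'' _ _ _ _ j hj
  have h0 : Function.Injective (j.lTensor (A ⊗[B] N)) :=
    Module.Flat.lTensor_preserves_injective_linearMap (M := A ⊗[B] N) j hj
  have h2 : Function.Injective ((TensorProduct.AlgebraTensorModule.lTensor B N j).lTensor A) := by
    intro z w hzw
    obtain ⟨z', rfl⟩ := (TensorProduct.AlgebraTensorModule.assoc C B A A N P').surjective z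
    obtain ⟨w', rfl⟩ := (TensorProduct.AlgebraTensorModule.assoc C B A A N P').surjective w
    rw [← assoc_naturality, ← assoc_naturality] at hzw
    rw [h0 ((TensorProduct.AlgebraTensorModule.assoc C B A A N P'').injective hzw)]
  have h1 : Function.Injective (TensorProduct.AlgebraTensorModule.lTensor B N j) :=
    (Module.FaithfullyFlat.lTensor_injective_iff_injective B A _).1 h2
  exact h1

theorem flat_iff_flat_tensor [Module.FaithfullyFlat B A] : Module.Flat C N ↔ Module.Flat C (A ⊗[B] N) :=
  ⟨flat_tensor_of_flat N, flat_of_flat_tensor N⟩

end Groth.Agent.Lib.Helper17.FlatTensor
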