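import Groth.Agent.Lib.Helper17.ModStalk
import Groth.Agent.Lib.Helper17.FlatTensor
import Mathlib
set_option backward.isDefEq.respectTransparency.types false
set_option autoImplicit false
universe u
open AlgebraicGeometry CategoryTheory Opposite TopologicalSpace TensorProduct CategoryTheory.Limits

namespace Groth.Agent.Lib.Helper17.FlatDict

open Groth.Agent.Lib.Helper17.ModStalk Groth.Agent.Lib.Helper17.FlatTensor

variable {X S : Scheme.{u}}

/-- Lemma A: flatness of the stalk over `O_{S,f x}` is flatness over `Γ(S,V)` for any affine `V ∋ f x`. -/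
theorem isFlatOverAt_iff_flat_of_affine (f : X ⟶ S) (F : X.Modules) (x : X) {V : S.Opens} (hV : IsAffineOpen V)
    (hxV : f x ∈ V) [Module Γ(S, V) (F.presheaf.stalk x)]
    (hsm : ∀ (r : Γ(S, V)) (n : F.presheaf.stalk x),
      r • n = (f.stalkMap x).hom (S.presheaf.germ V (f x) hxV r) • n) :
    FlatMod.IsFlatOverAt f F x ↔ Module.Flat Γ(S, V) (F.presheaf.stalk x) := by
  unfold FlatMod.IsFlatOverAt
  letI algRRr : Algebra Γ(S, V) (S.presheaf.stalk (f x)) := (S.presheaf.germ V (f x) hxV).hom.toAlgebra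
  haveI : IsLocalization (hV.primeIdealOf ⟨f x, hxV⟩).asIdeal.primeCompl (S.presheaf.stalk (f x)) :=
    hV.isLocalization_stalk ⟨f x, hxV⟩
  letI mRr : Module (S.presheaf.stalk (f x)) (F.presheaf.stalk x) := FlatMod.moduleStalkOver f F x
  haveI : IsScalarTower Γ(S, V) (S.presheaf.stalk (f x)) (F.presheaf.stalk x) := by
    refine ⟨fun r t n => ?_⟩
    change (f.stalkMap x).hom (r • t) • n = r • ((f.stalkMap x).hom t • n)
    rw [hsm, Algebra.smul_def, map_mul, mul_smul]
    rfl
  exact Module.flat_iff_of_isLocalization (S.presheaf.stalk (f x))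
    (hV.primeIdealOf ⟨f x, hxV⟩).asIdeal.primeCompl (F.presheaf.stalk x)

/-- Lemma C: if `Γ(F,U)` is flat over `C` then so is every stalk `F_x`, `x ∈ U` (`U` affine, `F` qcoh). -/
theorem flat_stalk_of_flat_sections (F : X.Modules) [F.IsQuasicoherent] {U : X.Opens} (hU : IsAffineOpen U)
    (C : Type u) [CommRing C] [Algebra C Γ(X, U)] [Module C Γ(F, U)] [IsScalarTower C Γ(X, U) Γ(F, U)]
    (h : Module.Flat C Γ(F, U)) (x : X) (hx : x ∈ U) :
    letI := moduleStalkSections F U x hx
    letI : Module C (F.presheaf.stalk x) := Module.compHom _ (algebraMap C Γ(X, U))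
    Module.Flat C (F.presheaf.stalk x) := by
  letI mB := moduleStalkSections F U x hx
  letI mC : Module C (F.presheaf.stalk x) := Module.compHom _ (algebraMap C Γ(X, U))
  haveI : IsScalarTower C Γ(X, U) (F.presheaf.stalk x) := IsScalarTower.of_compHom _ _ _
  letI algBA : Algebra Γ(X, U) (X.presheaf.stalk x) := (X.presheaf.germ U x hx).hom.toAlgebra
  letI algCA : Algebra C (X.presheaf.stalk x) :=
    ((algebraMap Γ(X, U) (X.presheaf.stalk x)).comp (algebraMap C Γ(X, U))).toAlgebra
  haveI : IsScalarTower C Γ(X, U) (X.presheaf.stalk x) := IsScalarTower.of_algebraMap_eq (fun _ => rfl)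
  haveI : IsScalarTower Γ(X, U) (X.presheaf.stalk x) (F.presheaf.stalk x) := IsScalarTower.of_compHom _ _ _
  haveI : IsLocalization (hU.primeIdealOf ⟨x, hx⟩).asIdeal.primeCompl (X.presheaf.stalk x) :=
    hU.isLocalization_stalk ⟨x, hx⟩
  haveI : Module.Flat Γ(X, U) (X.presheaf.stalk x) :=
    IsLocalization.flat _ (hU.primeIdealOf ⟨x, hx⟩).asIdeal.primeCompl
  haveI := isLocalizedModule_germLinear F hU x hx
  have hbc : IsBaseChange (X.presheaf.stalk x) (germLinear F U x hx) :=
    IsLocalizedModule.isBaseChange (hU.primeIdealOf ⟨x, hx⟩).asIdeal.primeCompl (X.presheaf.stalk x)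
      (germLinear F U x hx)
  have h1 : Module.Flat C ((X.presheaf.stalk x) ⊗[Γ(X, U)] Γ(F, U)) :=
    flat_tensor_of_flat (C := C) (B := Γ(X, U)) (A := X.presheaf.stalk x) Γ(F, U) h
  haveI : IsScalarTower C (X.presheaf.stalk x) (F.presheaf.stalk x) := by
    refine ⟨fun c a n => ?_⟩
    change (c • a) • n = (X.presheaf.germ U x hx (algebraMap C Γ(X, U) c)) • (a • n)
    rw [Algebra.smul_def, mul_smul]
    rfl
  exact Module.Flat.of_linearEquiv (hbc.equiv.restrictScalars C).symm

theorem primeIdealOf_fromSpec {U : X.Opens} (hU : IsAffineOpen U) (P : PrimeSpectrum Γ(X, U))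
    (h : hU.fromSpec P ∈ U) : hU.primeIdealOf ⟨hU.fromSpec P, h⟩ = P := by
  have hinj : Function.Injective hU.fromSpec := hU.fromSpec.isOpenEmbedding.injective
  apply hinj
  exact hU.fromSpec_primeIdealOf ⟨hU.fromSpec P, h⟩

/-- Lemma B: if all stalks `F_x`, `x ∈ U`, are flat over `C` then so is `Γ(F,U)` (`U` affine, `F` qcoh). -/
theorem flat_sections_of_flat_stalks (F : X.Modules) [F.IsQuasicoherent] {U : X.Opens} (hU : IsAffineOpen U)
    (C : Type u) [CommRing C] [Algebra C Γ(X, U)] [Module C Γ(F, U)] [IsScalarTower C Γ(X, U) Γ(F, U)]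
    (H : ∀ (x : X) (hx : x ∈ U),
      letI := moduleStalkSections F U x hx
      letI : Module C (F.presheaf.stalk x) := Module.compHom _ (algebraMap C Γ(X, U))
      Module.Flat C (F.presheaf.stalk x)) :
    Module.Flat C Γ(F, U) := by
  let pt : ∀ (P : Ideal Γ(X, U)) [P.IsMaximal], X := fun P _ => hU.fromSpec ⟨P, inferInstance⟩
  have hpt : ∀ (P : Ideal Γ(X, U)) [P.IsMaximal], pt P ∈ U := fun P _ => by
    have : hU.fromSpec ⟨P, inferInstance⟩ ∈ Set.range hU.fromSpec := ⟨_, rfl⟩
    rw [hU.range_fromSpec] at this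
    exact this
  letI mB : ∀ (P : Ideal Γ(X, U)) [P.IsMaximal], Module Γ(X, U) (F.presheaf.stalk (pt P)) :=
    fun P _ => moduleStalkSections F U (pt P) (hpt P)
  letI mC : ∀ (P : Ideal Γ(X, U)) [P.IsMaximal], Module C (F.presheaf.stalk (pt P)) :=
    fun P _ => Module.compHom _ (algebraMap C Γ(X, U))
  haveI : ∀ (P : Ideal Γ(X, U)) [P.IsMaximal], IsScalarTower C Γ(X, U) (F.presheaf.stalk (pt P)) :=
    fun P _ => IsScalarTower.of_compHom _ _ _
  haveI : ∀ (P : Ideal Γ(X, U)) [P.IsMaximal],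
      IsLocalizedModule.AtPrime P (germLinear F U (pt P) (hpt P)) := fun P _ => by
    have h1 := isLocalizedModule_germLinear F hU (pt P) (hpt P)
    have h2 : hU.primeIdealOf ⟨pt P, hpt P⟩ = ⟨P, inferInstance⟩ := primeIdealOf_fromSpec hU ⟨P, inferInstance⟩ (hpt P)
    rw [h2] at h1
    exact h1
  exact @Module.flat_of_isLocalized_maximal C Γ(X, U) _ _ _ Γ(F, U) _ _ _ _
    (fun P _ => F.presheaf.stalk (pt P)) (fun P _ => inferInstance) (fun P _ => mC P) (fun P _ => mB P)
    (fun P _ => IsScalarTower.of_compHom _ _ _)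
    (fun P _ => germLinear F U (pt P) (hpt P)) (fun P _ => this P) (fun P _ => H (pt P) (hpt P))

/-- **Flatness dictionary**: for `F` quasi-coherent and affine opens `U ≤ f⁻¹V`, the sections `Γ(F,U)` are flat over
`Γ(S,V)` iff `F` is flat over `S` at every point of `U`. -/
theorem flat_sections_iff (f : X ⟶ S) (F : X.Modules) [F.IsQuasicoherent] {U : X.Opens} {V : S.Opens}
    (hU : IsAffineOpen U) (hV : IsAffineOpen V) (hUV : U ≤ f ⁻¹ᵁ V) :
    @Module.Flat Γ(S, V) Γ(F, U) _ _ (Module.compHom Γ(F, U) (f.appLE V U hUV).hom) ↔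
      ∀ x ∈ U, FlatMod.IsFlatOverAt f F x := by
  letI algCB : Algebra Γ(S, V) Γ(X, U) := (f.appLE V U hUV).hom.toAlgebra
  letI mC : Module Γ(S, V) Γ(F, U) := Module.compHom Γ(F, U) (algebraMap Γ(S, V) Γ(X, U))
  haveI : IsScalarTower Γ(S, V) Γ(X, U) Γ(F, U) := IsScalarTower.of_compHom _ _ _
  have key : ∀ (x : X) (hx : x ∈ U),
      letI := moduleStalkSections F U x hx
      letI : Module Γ(S, V) (F.presheaf.stalk x) := Module.compHom _ (algebraMap Γ(S, V) Γ(X, U))
      (FlatMod.IsFlatOverAt f F x ↔ Module.Flat Γ(S, V) (F.presheaf.stalk x)) := by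
    intro x hx
    letI := moduleStalkSections F U x hx
    letI : Module Γ(S, V) (F.presheaf.stalk x) := Module.compHom _ (algebraMap Γ(S, V) Γ(X, U))
    refine isFlatOverAt_iff_flat_of_affine f F x hV (hUV hx) (fun r n => ?_)
    change X.presheaf.germ U x hx (f.appLE V U hUV r) • n = _
    congr 1
    change _ = (f.stalkMap x) (S.presheaf.germ V (f x) (hUV hx) r)
    rw [Scheme.Hom.germ_stalkMap_apply, Scheme.Hom.appLE]
    exact (TopCat.Presheaf.germ_res_apply X.presheaf (homOfLE hUV) x hx _)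
  constructor
  · intro h x hx
    exact (key x hx).2 (flat_stalk_of_flat_sections F hU Γ(S, V) h x hx)
  · intro h
    exact flat_sections_of_flat_stalks F hU Γ(S, V) (fun x hx => (key x hx).1 (h x hx))

open Groth.Agent.Lib.Helper17.ModPullback in
/-- S9353: flatness over the base is flatness of sections over affine pairs. -/
theorem isFlatOver_iff_flat_sections (f : X ⟶ S) (F : X.Modules) [F.IsQuasicoherent] :
    FlatMod.IsFlatOver f F ↔
      ∀ (U : X.Opens) (V : S.Opens) (hUV : U ≤ f ⁻¹ᵁ V), IsAffineOpen U → IsAffineOpen V →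
        @Module.Flat Γ(S, V) Γ(F, U) _ _ (Module.compHom Γ(F, U) (f.appLE V U hUV).hom) := by
  constructor
  · intro h U V hUV hU hV
    exact (flat_sections_iff f F hU hV hUV).2 (fun x _ => h x)
  · intro h x
    obtain ⟨U, V, hU, hV, hxU, hUV⟩ := exists_affine_pair f x
    exact (flat_sections_iff f F hU hV hUV).1 (h U V hUV hU hV) x hxU

end Groth.Agent.Lib.Helper17.FlatDict
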