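import Groth.Agent.Lib.Helper17.FTExt3
import Mathlib
set_option backward.isDefEq.respectTransparency.types false
set_option autoImplicit false
universe u

/-!
# Quasi-coherence over an open subset, in terms of the localization property on affine opens
-/

namespace Groth.Agent.Lib.Helper17.QCohOn
open CategoryTheory CategoryTheory.Limits Opposite TopologicalSpace AlgebraicGeometry
open Groth.Agent.Lib.Helper28.QCohLoc
open Groth.Agent.Lib.Helper17.FTExt

variable {X : Scheme.{u}}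

theorem IsLocOn.surj' {M : X.Modules} {U : X.Opens} (h : IsLocOn M U) (r : Γ(X, U)) (W : X.Opens)
    (e : W = X.basicOpen r) (hW : W ≤ U) (y : Γ(M, W)) :
    ∃ (n : ℕ) (x : Γ(M, U)), ((resO hW r) ^ n • y : Γ(M, W)) = res M hW x := by
  subst e
  exact h.surj r y

theorem IsLocOn.inj' {M : X.Modules} {U : X.Opens} (h : IsLocOn M U) (r : Γ(X, U)) (W : X.Opens)
    (e : W = X.basicOpen r) (hW : W ≤ U) (x : Γ(M, U)) (hx : res M hW x = 0) :
    ∃ n : ℕ, (r ^ n • x : Γ(M, U)) = 0 := by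
  subst e
  exact h.inj r x hx

theorem isLocOn_of_transported {M : X.Modules} {U : X.Opens}
    (hs : ∀ r : Γ(X, U), ∃ (W : X.Opens) (_ : W = X.basicOpen r) (hW : W ≤ U),
      (∀ y : Γ(M, W), ∃ (n : ℕ) (x : Γ(M, U)), ((resO hW r) ^ n • y : Γ(M, W)) = res M hW x) ∧
      (∀ x : Γ(M, U), res M hW x = 0 → ∃ n : ℕ, (r ^ n • x : Γ(M, U)) = 0)) : IsLocOn M U := by
  refine ⟨fun r y => ?_, fun r x hx => ?_⟩
  · obtain ⟨W, e, hW, h1, -⟩ := hs r
    subst e
    exact h1 y
  · obtain ⟨W, e, hW, -, h2⟩ := hs r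
    subst e
    exact h2 x hx

section restrict

variable (O : X.Opens) (K : X.Modules)

theorem image_basicOpen_eq (D : (O : Scheme.{u}).Opens) (r : Γ((O : Scheme.{u}), D)) :
    O.ι ''ᵁ ((O : Scheme.{u}).basicOpen r) = X.basicOpen (show Γ(X, O.ι ''ᵁ D) from r) := by
  rw [Scheme.image_basicOpen, Scheme.Opens.ι_appIso]
  rfl

/-- the localization property passes to the restriction to an open subscheme -/
theorem isLocOn_restrict (D : (O : Scheme.{u}).Opens) (h : IsLocOn K (O.ι ''ᵁ D)) :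
    IsLocOn (K.restrict O.ι) D := by
  refine ⟨fun r y => ?_, fun r x hx => ?_⟩
  · have e := image_basicOpen_eq O D r
    have hW : O.ι ''ᵁ ((O : Scheme.{u}).basicOpen r) ≤ O.ι ''ᵁ D :=
      O.ι.image_mono ((O : Scheme.{u}).basicOpen_le r)
    obtain ⟨n, x, hx⟩ := IsLocOn.surj' h (show Γ(X, O.ι ''ᵁ D) from r) _ e hW
      (show Γ(K, O.ι ''ᵁ ((O : Scheme.{u}).basicOpen r)) from y)
    refine ⟨n, x, ?_⟩
    rw [restrict_smul_eq]
    exact hx
  · have e := image_basicOpen_eq O D r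
    have hW : O.ι ''ᵁ ((O : Scheme.{u}).basicOpen r) ≤ O.ι ''ᵁ D :=
      O.ι.image_mono ((O : Scheme.{u}).basicOpen_le r)
    obtain ⟨n, hn⟩ := IsLocOn.inj' h (show Γ(X, O.ι ''ᵁ D) from r) _ e hW
      (show Γ(K, O.ι ''ᵁ D) from x) hx
    refine ⟨n, ?_⟩
    rw [restrict_smul_eq]
    exact hn

/-- the localization property descends from the restriction to an open subscheme -/
theorem isLocOn_of_restrict (D : (O : Scheme.{u}).Opens) (h : IsLocOn (K.restrict O.ι) D) :
    IsLocOn K (O.ι ''ᵁ D) := by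
  refine isLocOn_of_transported fun r' => ?_
  let r : Γ((O : Scheme.{u}), D) := r'
  have e := image_basicOpen_eq O D r
  have hW : O.ι ''ᵁ ((O : Scheme.{u}).basicOpen r) ≤ O.ι ''ᵁ D :=
    O.ι.image_mono ((O : Scheme.{u}).basicOpen_le r)
  refine ⟨_, e, hW, fun y => ?_, fun x hx => ?_⟩
  · obtain ⟨n, x, hx⟩ := h.surj r (show Γ(K.restrict O.ι, (O : Scheme.{u}).basicOpen r) from y)
    refine ⟨n, x, ?_⟩
    rw [restrict_smul_eq] at hx
    exact hx
  · obtain ⟨n, hn⟩ := h.inj r (show Γ(K.restrict O.ι, D) from x) hx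
    refine ⟨n, ?_⟩
    rw [restrict_smul_eq] at hn
    exact hn

theorem image_preimage_of_le {O T : X.Opens} (h : T ≤ O) : O.ι ''ᵁ (O.ι ⁻¹ᵁ T) = T := by
  rw [Scheme.Hom.image_preimage_eq_opensRange_inf, Scheme.Opens.opensRange_ι, inf_eq_right.2 h]

theorem isAffineOpen_preimage_ι {O T : X.Opens} (h : T ≤ O) (hT : IsAffineOpen T) :
    IsAffineOpen (O.ι ⁻¹ᵁ T) := by
  rw [← Scheme.Hom.isAffineOpen_iff_of_isOpenImmersion O.ι, image_preimage_of_le h]
  exact hT

/-- a module with the localization property on an affine cover of `O` is quasi-coherent on `O` -/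
theorem isQuasicoherent_restrict_of_isLocOn
    (h : ∀ x ∈ O, ∃ T : X.Opens, IsAffineOpen T ∧ x ∈ T ∧ T ≤ O ∧ IsLocOn K T) :
    (K.restrict O.ι).IsQuasicoherent := by
  choose! T hT using h
  refine isQuasicoherent_of_isLocOn (K.restrict O.ι) (fun x : (O : Scheme.{u}) => O.ι ⁻¹ᵁ T x.1) ?_
    (fun x => isAffineOpen_preimage_ι (hT x.1 x.2).2.2.1 (hT x.1 x.2).1) (fun x => ?_)
  · rw [TopologicalSpace.IsOpenCover, eq_top_iff]
    intro x _
    exact Opens.mem_iSup.2 ⟨x, (hT x.1 x.2).2.1⟩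
  · apply isLocOn_restrict
    rw [image_preimage_of_le (hT x.1 x.2).2.2.1]
    exact (hT x.1 x.2).2.2.2

/-- a module quasi-coherent on `O` has the localization property on the affine opens of `O` -/
theorem isLocOn_of_isQuasicoherent_restrict [(K.restrict O.ι).IsQuasicoherent] {T : X.Opens}
    (hT : IsAffineOpen T) (h : T ≤ O) : IsLocOn K T := by
  have h1 := isLocOn_of_isQuasicoherent (K.restrict O.ι) (isAffineOpen_preimage_ι h hT)
  have h2 := isLocOn_of_restrict O K _ h1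
  rw [image_preimage_of_le h] at h2
  exact h2

end restrict

/-- **locality** of the localization property -/
theorem isLocOn_of_locally (K : X.Modules) {T : X.Opens} (hT : IsAffineOpen T)
    (h : ∀ x ∈ T, ∃ T' : X.Opens, IsAffineOpen T' ∧ x ∈ T' ∧ T' ≤ T ∧ IsLocOn K T') : IsLocOn K T := by
  haveI := isQuasicoherent_restrict_of_isLocOn T K h
  exact isLocOn_of_isQuasicoherent_restrict T K hT le_rfl

/-- the localization property passes to smaller affine opens -/
theorem isLocOn_of_le (K : X.Modules) {T T' : X.Opens} (hT : IsAffineOpen T) (h : IsLocOn K T)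
    (hT' : IsAffineOpen T') (hle : T' ≤ T) : IsLocOn K T' := by
  haveI := isQuasicoherent_restrict_of_isLocOn T K (fun x hx => ⟨T, hT, hx, le_rfl, h⟩)
  exact isLocOn_of_isQuasicoherent_restrict T K hT' hle

section push

variable {Y : Scheme.{u}} (f : X ⟶ Y) (F : X.Modules)

/-- the localization property of a direct image over an open with quasi-compact quasi-separated preimage -/
theorem isLocOn_pushforward_of [F.IsQuasicoherent] {V : Y.Opens}
    (hc : IsCompact ((f ⁻¹ᵁ V : X.Opens) : Set X)) (hqs : IsQuasiSeparated ((f ⁻¹ᵁ V : X.Opens) : Set X)) :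
    IsLocOn ((Scheme.Modules.pushforward f).obj F) V := by
  refine ⟨fun r y => ?_, fun r x hx => ?_⟩
  · have e : f ⁻¹ᵁ (Y.basicOpen r) = X.basicOpen (f.app V r) := Scheme.preimage_basicOpen f r
    have hW : f ⁻¹ᵁ (Y.basicOpen r) ≤ f ⁻¹ᵁ V := f.preimage_mono (Y.basicOpen_le r)
    have key : ∀ (W : X.Opens) (e : W = X.basicOpen (f.app V r)) (hW : W ≤ f ⁻¹ᵁ V) (y : Γ(F, W)),
        ∃ (n : ℕ) (x : Γ(F, f ⁻¹ᵁ V)), ((resO hW (f.app V r)) ^ n • y : Γ(F, W)) = res F hW x := by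
      intro W e hW y
      subst e
      obtain ⟨n, x, hx⟩ := exists_pow_smul_eq_res_of_qcqs F hc hqs (f.app V r) y
      exact ⟨n, x, hx.symm⟩
    obtain ⟨n, x, hx⟩ := key _ e hW y
    refine ⟨n, x, ?_⟩
    have h1 : f.app (Y.basicOpen r) ((resO (Y.basicOpen_le r) r) ^ n) = (resO hW (f.app V r)) ^ n := by
      rw [map_pow, app_resO]
    change ((f.app (Y.basicOpen r) ((resO (Y.basicOpen_le r) r) ^ n)) • (show Γ(F, f ⁻¹ᵁ (Y.basicOpen r)) from y) :
      Γ(F, f ⁻¹ᵁ (Y.basicOpen r))) = res F hW x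
    rw [h1]
    exact hx
  · have e : f ⁻¹ᵁ (Y.basicOpen r) = X.basicOpen (f.app V r) := Scheme.preimage_basicOpen f r
    have hW : f ⁻¹ᵁ (Y.basicOpen r) ≤ f ⁻¹ᵁ V := f.preimage_mono (Y.basicOpen_le r)
    have key : ∀ (W : X.Opens) (e : W = X.basicOpen (f.app V r)) (hW : W ≤ f ⁻¹ᵁ V) (x : Γ(F, f ⁻¹ᵁ V)),
        res F hW x = 0 → ∃ (n : ℕ), ((f.app V r) ^ n • x : Γ(F, f ⁻¹ᵁ V)) = 0 := by
      intro W e hW x hx
      subst e
      exact exists_pow_smul_eq_zero_of_isCompact F hc (f.app V r) x hx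
    obtain ⟨n, hn⟩ := key _ e hW x hx
    refine ⟨n, ?_⟩
    change ((f.app V (r ^ n)) • (show Γ(F, f ⁻¹ᵁ V) from x) : Γ(F, f ⁻¹ᵁ V)) = 0
    rw [map_pow]
    exact hn

end push

/-- direct image along the inclusion of an open: the localization property on the affine opens inside -/
theorem isLocOn_pushforward_ι (V : X.Opens) (Q : (V : Scheme.{u}).Modules) [Q.IsQuasicoherent] {T : X.Opens}
    (hT : IsAffineOpen T) (hTV : T ≤ V) : IsLocOn ((Scheme.Modules.pushforward V.ι).obj Q) T := by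
  have hT' := isAffineOpen_preimage_ι hTV hT
  exact isLocOn_pushforward_of V.ι Q hT'.isCompact hT'.isQuasiSeparated

end Groth.Agent.Lib.Helper17.QCohOn
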