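import Groth.Agent.Lib.Helper17.TowE
import Groth.Agent.Lib.Helper6.TensAQuotB
import Groth.Agent.Lib.Helper1.FlatPullback
import Groth.Agent.Lib.Helper16.AffRed5
import Groth.Agent.Lib.Helper29.UnitIso
import Mathlib
set_option backward.isDefEq.respectTransparency.types false
set_option autoImplicit false
set_option linter.style.haveILetI false
set_option linter.unusedSectionVars false

/-!
# The ideal sheaf of a closed fibre-type subscheme of a flat scheme over `Spec R`
-/

universe u
open CategoryTheory CategoryTheory.Limits AlgebraicGeometry Opposite TopologicalSpace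

noncomputable section
namespace Groth.Agent.Lib.Helper17.AdicFlat

open Formal Groth.Agent.Lib.Helper23.FQuot Groth.Agent.Lib.Lead.FormalA
open Groth.Agent.Lib.Helper6.TensAQuot Groth.Agent.Lib.Helper17.Tow Groth.Agent.Lib.Helper21.ThickDict

variable (R : Type u) [CommRing R] {X : Scheme.{u}} [X.Over (Spec (CommRingCat.of R))]

attribute [local instance] specOverSelf

/-- `N ↦ f^*(N~)` -/
def TT : ModuleCat.{u} R ⥤ X.Modules :=
  tilde.functor (CommRingCat.of R) ⋙ Scheme.Modules.pullback (X ↘ Spec (CommRingCat.of R))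

instance : PreservesFiniteColimits (TT R (X := X)) := by
  haveI h1 : PreservesColimitsOfSize.{0, 0} (tilde.functor (CommRingCat.of R)) :=
    (tilde.adjunction (R := CommRingCat.of R)).leftAdjoint_preservesColimits
  haveI : PreservesFiniteColimits (tilde.functor (CommRingCat.of R)) :=
    PreservesColimitsOfSize.preservesFiniteColimits _
  haveI h2 : PreservesColimitsOfSize.{0, 0} (Scheme.Modules.pullback (X ↘ Spec (CommRingCat.of R))) :=
    (Scheme.Modules.pullbackPushforwardAdjunction _).leftAdjoint_preservesColimits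
  haveI : PreservesFiniteColimits (Scheme.Modules.pullback (X ↘ Spec (CommRingCat.of R))) :=
    PreservesColimitsOfSize.preservesFiniteColimits _
  unfold TT
  infer_instance

instance : (TT R (X := X)).Additive := by
  haveI : PreservesBinaryBiproducts (TT R (X := X)) :=
    preservesBinaryBiproducts_of_preservesBinaryCoproducts _
  exact Functor.additive_of_preservesBinaryBiproducts _

theorem TT_map_smul (N : ModuleCat.{u} R) (a : R) :
    (TT R (X := X)).map (a • 𝟙 N) = Formal.smulMod R ((TT R (X := X)).obj N) a := by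
  change (Scheme.Modules.pullback (X ↘ Spec (CommRingCat.of R))).map
    ((tilde.functor (CommRingCat.of R)).map (a • 𝟙 N)) = _
  rw [tilde_map_smul, pullback_map_smulMod (X ↘ Spec (CommRingCat.of R)) (Category.comp_id _)]
  rfl

/-- `T(R) ≅ O_X` -/
def TTself : (TT R (X := X)).obj (ModuleCat.of R R) ≅ Coh.structureModule X :=
  (Scheme.Modules.pullback (X ↘ Spec (CommRingCat.of R))).mapIso (tildeSelf (R := CommRingCat.of R)) ≪≫
    Groth.Agent.Lib.Helper16.RS.pullbackUnitIso (X ↘ Spec (CommRingCat.of R))

theorem isQuot_TT_mkQ (J : Ideal R) (hJ : J.FG) :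
    IsQuot J ((TT R (X := X)).map (ModuleCat.ofHom (Submodule.mkQ J))) := by
  refine isQuot_map_of_ker_eq (TT R (X := X)) (TT_map_smul R) hJ _ (Submodule.mkQ_surjective _) ?_
  change LinearMap.ker (Submodule.mkQ J) = _
  rw [Submodule.ker_mkQ]
  simp


section Closed

variable {Z : Scheme.{u}} (ι : Z ⟶ X) [IsClosedImmersion ι] (J : Ideal R) (hJ : J.FG)
  (p : Z ⟶ Spec (CommRingCat.of (R ⧸ J)))
  (hpb : IsPullback ι p (X ↘ Spec (CommRingCat.of R))
    (Spec.map (CommRingCat.ofHom (Ideal.Quotient.mk J))))

include hJ hpb in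
/-- the unit `O_X ⟶ ι_* ι^* O_X` is the quotient by `J` -/
theorem isQuot_unit_structure :
    IsQuot J ((Scheme.Modules.pullbackPushforwardAdjunction ι).unit.app (Coh.structureModule X)) := by
  letI : Z.Over (Spec (CommRingCat.of R)) := ⟨ι ≫ (X ↘ Spec (CommRingCat.of R))⟩
  refine isQuot_unit ι rfl J hJ
    (fun U hU r hr => mem_map_of_isPullback J _ ι p hpb U hU r hr) ?_ (Coh.structureModule X)
  intro c hc N
  unfold Formal.smulMod
  have h0 : Coh.toGlobal (Z ↘ Spec (CommRingCat.of R)) c = 0 := by
    change Coh.toGlobal (ι ≫ (X ↘ Spec (CommRingCat.of R))) c = 0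
    rw [hpb.w]
    exact toGlobal_eq_zero J p c hc
  rw [h0]
  exact KLin.smulModΓ_zero N

include hJ hpb in
/-- `T(R/J) ≅ ι_* ι^* O_X`, compatibly with the maps from `T(R) ≅ O_X` -/
theorem exists_iso_push :
    ∃ e : (TT R (X := X)).obj (ModuleCat.of R (R ⧸ J)) ≅
        (Scheme.Modules.pushforward ι).obj ((Scheme.Modules.pullback ι).obj (Coh.structureModule X)),
      (TT R (X := X)).map (ModuleCat.ofHom (Submodule.mkQ J)) ≫ e.hom =
        (TTself R).hom ≫
          (Scheme.Modules.pullbackPushforwardAdjunction ι).unit.app (Coh.structureModule X) :=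
  (isQuot_TT_mkQ R J hJ).exists_iso (IsQuot.iso_comp (isQuot_unit_structure R ι J hJ p hpb))

end Closed


section FlatPart

/-- `0 → J → R → R/J → 0` -/
def idealSeq (J : Ideal R) : ShortComplex (ModuleCat.{u} R) :=
  ShortComplex.mk (ModuleCat.ofHom (Submodule.subtype J)) (ModuleCat.ofHom (Submodule.mkQ J)) (by
    ext x
    change Submodule.mkQ J (x : R) = 0
    rw [Submodule.mkQ_apply, Submodule.Quotient.mk_eq_zero]
    exact x.2)

theorem idealSeq_shortExact (J : Ideal R) : (idealSeq R J).ShortExact := by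
  haveI : Mono (idealSeq R J).f := (ModuleCat.mono_iff_injective _).2 Subtype.val_injective
  haveI : Epi (idealSeq R J).g := (ModuleCat.epi_iff_surjective _).2 (Submodule.mkQ_surjective J)
  refine ShortComplex.ShortExact.mk' ?_ inferInstance inferInstance
  rw [ShortComplex.moduleCat_exact_iff_range_eq_ker]
  change LinearMap.range (Submodule.subtype J) = LinearMap.ker (Submodule.mkQ J)
  rw [Submodule.range_subtype, Submodule.ker_mkQ]

variable [Flat (X ↘ Spec (CommRingCat.of R))]

instance : PreservesFiniteLimits (TT R (X := X)) := by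
  haveI := Groth.Agent.Lib.Helper16.AffRed.tildeLexOf R
  haveI : PreservesFiniteLimits (Scheme.Modules.pullback (X ↘ Spec (CommRingCat.of R))) :=
    Groth.Agent.Lib.Helper1.FlatPullback.pullback_preservesFiniteLimits _
  unfold TT
  infer_instance

variable {Z : Scheme.{u}} (ι : Z ⟶ X) [IsClosedImmersion ι] (J : Ideal R) (hJ : J.FG)
  (p : Z ⟶ Spec (CommRingCat.of (R ⧸ J)))
  (hpb : IsPullback ι p (X ↘ Spec (CommRingCat.of R))
    (Spec.map (CommRingCat.ofHom (Ideal.Quotient.mk J))))

include hJ hpb in
/-- for flat `X` the kernel of `O_X ⟶ ι_* ι^* O_X` is `f^*(J~)` -/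
theorem nonempty_kernel_unit_iso :
    Nonempty (kernel ((Scheme.Modules.pullbackPushforwardAdjunction ι).unit.app (Coh.structureModule X)) ≅
      (TT R (X := X)).obj (ModuleCat.of R J)) := by
  obtain ⟨e, he⟩ := exists_iso_push R ι J hJ p hpb
  have hS := (idealSeq_shortExact R J).map_of_exact (TT R (X := X))
  let k1 : kernel ((TT R (X := X)).map (ModuleCat.ofHom (Submodule.mkQ J))) ≅
      (TT R (X := X)).obj (ModuleCat.of R J) :=
    IsLimit.conePointUniqueUpToIso (kernelIsKernel _) hS.fIsKernel
  let k2 : kernel ((TT R (X := X)).map (ModuleCat.ofHom (Submodule.mkQ J))) ≅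
      kernel ((Scheme.Modules.pullbackPushforwardAdjunction ι).unit.app (Coh.structureModule X)) :=
    kernel.mapIso _ _ (TTself R) e he
  exact ⟨k2.symm ≪≫ k1⟩

end FlatPart

end Groth.Agent.Lib.Helper17.AdicFlat
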