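import Groth.Agent.Lib.Helper17.Rees4
import Groth.Agent.Lib.Helper17.FlatBCH3
import Groth.Agent.S0002
import Mathlib
set_option backward.isDefEq.respectTransparency.types false
set_option autoImplicit false
universe u
open AlgebraicGeometry CategoryTheory CategoryTheory.Limits Opposite TopologicalSpace Abelian TensorProduct
open Polynomial

noncomputable section

namespace Groth.Agent.Lib.Helper17.Rees5

open Groth.Agent.Lib.Helper28.PullbackInv Groth.Agent.Lib.Helper28.QCohLoc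
open Groth.Agent.Lib.Helper17.Rees1 Groth.Agent.Lib.Helper17.Rees2 Groth.Agent.Lib.Helper17.Rees3
open Groth.Agent.Lib.Helper17.Rees4

/-- `H^p(X, -)` on modules is additive -/
instance (X : Scheme.{u}) (p : ℕ) : (CohIII.HAb X p).Additive where
  map_add {M N f g} := by
    ext x
    change Sheaf.H.map ((SheafOfModules.toSheaf X.ringCatSheaf).map (f + g)) p x =
      Sheaf.H.map ((SheafOfModules.toSheaf X.ringCatSheaf).map f) p x +
        Sheaf.H.map ((SheafOfModules.toSheaf X.ringCatSheaf).map g) p x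
    have e : (SheafOfModules.toSheaf X.ringCatSheaf).map (f + g) =
        (SheafOfModules.toSheaf X.ringCatSheaf).map f + (SheafOfModules.toSheaf X.ringCatSheaf).map g :=
      Functor.map_add _
    exact (congrArg (fun h => Sheaf.H.map h p x) e).trans (Sheaf.H.map_add_apply _ _ x)

/-- `H^p` of a morphism of modules -/
abbrev Hmap {X : Scheme.{u}} {M N : X.Modules} (φ : M ⟶ N) (p : ℕ) : Coh.HH X M p →+ Coh.HH X N p :=
  Sheaf.H.map ((SheafOfModules.toSheaf X.ringCatSheaf).map φ) p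

theorem Hmap_comp {X : Scheme.{u}} {M N K : X.Modules} (φ : M ⟶ N) (ψ : N ⟶ K) (p : ℕ)
    (x : Coh.HH X M p) : Hmap (φ ≫ ψ) p x = Hmap ψ p (Hmap φ p x) := by
  unfold Hmap
  have e : (SheafOfModules.toSheaf X.ringCatSheaf).map (φ ≫ ψ) =
      (SheafOfModules.toSheaf X.ringCatSheaf).map φ ≫ (SheafOfModules.toSheaf X.ringCatSheaf).map ψ :=
    Functor.map_comp _ _ _
  exact (congrArg (fun h => Sheaf.H.map h p x) e).trans (Sheaf.H.map_comp_apply _ _ x)

theorem Hmap_id {X : Scheme.{u}} (M : X.Modules) (p : ℕ) (x : Coh.HH X M p) : Hmap (𝟙 M) p x = x := by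
  unfold Hmap
  have e : (SheafOfModules.toSheaf X.ringCatSheaf).map (𝟙 M) = 𝟙 _ :=
    CategoryTheory.Functor.map_id _ _
  exact (congrArg (fun h => Sheaf.H.map h p x) e).trans (Sheaf.H.map_id_apply x)

theorem Hmap_bijective_of_isIso {X : Scheme.{u}} {M N : X.Modules} (φ : M ⟶ N) [IsIso φ] (p : ℕ) :
    Function.Bijective (Hmap φ p) := by
  refine Function.bijective_iff_has_inverse.2 ⟨Hmap (inv φ) p, fun x => ?_, fun x => ?_⟩
  · rw [← Hmap_comp, IsIso.hom_inv_id]
    exact Hmap_id M p x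
  · rw [← Hmap_comp, IsIso.inv_hom_id]
    exact Hmap_id N p x

theorem toSheaf_map_smulModΓ {Y : Scheme.{u}} (N : Y.Modules) (s : Coh.Γtop Y) :
    (SheafOfModules.toSheaf Y.ringCatSheaf).map (Formal.smulModΓ N s) = Coh.smulAb N s := rfl

variable (A : Type u) [CommRing A] (I : Ideal A) (X : Scheme.{u}) [X.Over (Spec (CommRingCat.of A))]

/-- `X' = X ×_A Spec (Rees algebra)` -/
abbrev X1 : Scheme.{u} :=
  pullback (X ↘ Spec (CommRingCat.of A)) (Spec.map (CommRingCat.ofHom (algebraMap A (RB I))))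

instance : (X1 A I X).Over (Spec (CommRingCat.of (RB I))) := ⟨pullback.snd _ _⟩

/-- the projection `X' ⟶ X` -/
abbrev pi1 : X1 A I X ⟶ X := pullback.fst _ _

theorem hpi1 : IsPullback (pi1 A I X) (X1 A I X ↘ Spec (CommRingCat.of (RB I)))
    (X ↘ Spec (CommRingCat.of A)) (Spec.map (CommRingCat.ofHom (algebraMap A (RB I)))) :=
  IsPullback.of_hasPullback _ _

/-- `X'' = X' ×_B Spec A[t]` -/
abbrev X2 : Scheme.{u} :=
  pullback (X1 A I X ↘ Spec (CommRingCat.of (RB I)))
    (Spec.map (CommRingCat.ofHom (algebraMap (RB I) A[X])))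

instance : (X2 A I X).Over (Spec (CommRingCat.of A[X])) := ⟨pullback.snd _ _⟩

/-- the projection `X'' ⟶ X'` -/
abbrev j2 : X2 A I X ⟶ X1 A I X := pullback.fst _ _

theorem hj2 : IsPullback (j2 A I X) (X2 A I X ↘ Spec (CommRingCat.of A[X]))
    (X1 A I X ↘ Spec (CommRingCat.of (RB I)))
    (Spec.map (CommRingCat.ofHom (algebraMap (RB I) A[X]))) :=
  IsPullback.of_hasPullback _ _

instance : IsAffineHom (pi1 A I X) :=
  MorphismProperty.of_isPullback (P := @IsAffineHom) (hpi1 A I X).flip inferInstance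

instance : IsAffineHom (j2 A I X) :=
  MorphismProperty.of_isPullback (P := @IsAffineHom) (hj2 A I X).flip inferInstance

variable (F : X.Modules) (p : ℕ)

/-- the Rees module on `X'` -/
abbrev FR : (X1 A I X).Modules := F' (pi1 A I X) (j2 A I X) F

/-- the cohomology of the Rees module -/
abbrev NR : Type u := Coh.HH (X1 A I X) (FR A I X F) p

/-- the degree `n` embedding of `H^p(X, J F)` -/
def Ubar (J : Ideal A) (n : ℕ) (h : J ≤ I ^ n) : Coh.HH X (CohIII.idealMul J F) p →+ NR A I X F p :=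
  (CohPull.pushEdge (pi1 A I X) (FR A I X F) p).comp
    (Hmap (U I (pi1 A I X) (j2 A I X) F (hpi1 A I X) (hj2 A I X) J n h) p)

open Groth.Agent.Lib.Helper17.FlatBCH3 in
/-- **equivariance**: the action of the monomial `a tʳ` corresponds to multiplication by `a` -/
theorem Ubar_smul (J : Ideal A) (n : ℕ) (h : J ≤ I ^ n) (r : ℕ) (a : ↥(I ^ r))
    (h' : I ^ r * J ≤ I ^ (r + n)) (x : Coh.HH X (CohIII.idealMul J F) p) :
    (cJ I (I ^ r) r le_rfl a : RB I) • Ubar A I X F p J n h x =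
      Ubar A I X F p (I ^ r * J) (r + n) h' (CohIII.HmulMap (I ^ r) J F a p x) := by
  have h1 := pushEdge_smul (pi1 A I X) (FR A I X F)
    (Coh.toGlobal (X1 A I X ↘ Spec (CommRingCat.of (RB I))) (cJ I (I ^ r) r le_rfl a)) p
    (Hmap (U I (pi1 A I X) (j2 A I X) F (hpi1 A I X) (hj2 A I X) J n h) p x)
  refine h1.symm.trans ?_
  unfold Ubar
  rw [AddMonoidHom.comp_apply]
  congr 1
  have h2 := congrArg (fun φ => Hmap φ p x)
    (U_ρ I (pi1 A I X) (j2 A I X) F (hpi1 A I X) (hj2 A I X) J n h r a h')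
  simp only [Hmap_comp] at h2
  exact h2

section main

variable [IsNoetherianRing A] [IsProper (X ↘ Spec (CommRingCat.of A))]

instance : IsProper (X1 A I X ↘ Spec (CommRingCat.of (RB I))) :=
  inferInstanceAs (IsProper (pullback.snd (X ↘ Spec (CommRingCat.of A))
    (Spec.map (CommRingCat.ofHom (algebraMap A (RB I))))))

/-- **finiteness over the Rees algebra** -/
theorem finite_NR (hF : Coh.IsCoh F) : Module.Finite (RB I) (NR A I X F p) :=
  Groth.Agent.S0002.result (RB I) (X1 A I X) (FR A I X F)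
    (isCoh_F' (pi1 A I X) (j2 A I X) F hF) p

/-- the family of summands -/
abbrev Gfam : ULift.{u} ℕ → X.Modules := fun n => CohIII.idealMul (I ^ n.down) F

omit [IsNoetherianRing A] [IsProper (X ↘ Spec (CommRingCat.of A))] in
theorem Ubar_eq (n : ULift.{u} ℕ) (y : Coh.HH X (Gfam A I X F n) p) :
    Ubar A I X F p (I ^ n.down) n.down le_rfl y =
      CohPull.pushEdge (pi1 A I X) (FR A I X F) p
        (Hmap (ψ I (pi1 A I X) (j2 A I X) F (hpi1 A I X) (hj2 A I X)) p
          (Hmap (Sigma.ι (Gfam A I X F) n) p y)) := by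
  unfold Ubar
  rw [AddMonoidHom.comp_apply, ← Hmap_comp]
  congr 1
  exact congrArg (fun φ => Hmap φ p y) (ι_ψ I (pi1 A I X) (j2 A I X) F (hpi1 A I X) (hj2 A I X) n).symm

open Groth.Agent.Lib.Helper17.FlatBCH3 in
omit [IsNoetherianRing A] in
/-- **spanning** -/
theorem exists_sum_Ubar (hF : Coh.IsCoh F) (z : NR A I X F p) :
    ∃ (s : Finset (ULift.{u} ℕ)) (y : ∀ n : ULift.{u} ℕ, Coh.HH X (Gfam A I X F n) p),
      z = ∑ n ∈ s, Ubar A I X F p (I ^ n.down) n.down le_rfl (y n) := by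
  haveI : F.IsQuasicoherent := hF.1
  haveI : CompactSpace X := QuasiCompact.compactSpace_of_compactSpace (X ↘ Spec (CommRingCat.of A))
  haveI : QuasiSeparatedSpace X :=
    quasiSeparatedSpace_of_quasiSeparated (X ↘ Spec (CommRingCat.of A))
  obtain ⟨w, rfl⟩ := (pushEdge_bijective_of_isAffineHom (pi1 A I X) (FR A I X F) p).2 z
  haveI := isIso_ψ I (pi1 A I X) (j2 A I X) F (hpi1 A I X) (hj2 A I X)
  obtain ⟨v, rfl⟩ := (Hmap_bijective_of_isIso
    (ψ I (pi1 A I X) (j2 A I X) F (hpi1 A I X) (hj2 A I X)) p).2 w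
  obtain ⟨s, y, hv⟩ := Groth.Agent.Lib.Helper17.SigmaHH.exists_finset_sum_HH X (Gfam A I X F) p v
  refine ⟨s, y, ?_⟩
  rw [hv]
  refine (congrArg _ (map_sum (Hmap (ψ I (pi1 A I X) (j2 A I X) F (hpi1 A I X) (hj2 A I X)) p) _ s)).trans
    ((map_sum (CohPull.pushEdge (pi1 A I X) (FR A I X F) p) _ s).trans ?_)
  exact Finset.sum_congr rfl (fun n _ => (Ubar_eq A I X F p n (y n)).symm)

open Groth.Agent.Lib.Helper17.FlatBCH3 in
omit [IsNoetherianRing A] [IsProper (X ↘ Spec (CommRingCat.of A))] in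
/-- **independence** -/
theorem eq_zero_of_sum_Ubar_eq_zero (hF : Coh.IsCoh F) (s : Finset (ULift.{u} ℕ))
    (y : ∀ n : ULift.{u} ℕ, Coh.HH X (Gfam A I X F n) p)
    (h : ∑ n ∈ s, Ubar A I X F p (I ^ n.down) n.down le_rfl (y n) = 0) : ∀ n ∈ s, y n = 0 := by
  haveI : F.IsQuasicoherent := hF.1
  haveI := isIso_ψ I (pi1 A I X) (j2 A I X) F (hpi1 A I X) (hj2 A I X)
  have h1 : CohPull.pushEdge (pi1 A I X) (FR A I X F) p
      (Hmap (ψ I (pi1 A I X) (j2 A I X) F (hpi1 A I X) (hj2 A I X)) p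
        (∑ n ∈ s, Hmap (Sigma.ι (Gfam A I X F) n) p (y n))) = 0 := by
    refine Eq.trans ?_ h
    refine (congrArg _ (map_sum (Hmap (ψ I (pi1 A I X) (j2 A I X) F (hpi1 A I X) (hj2 A I X)) p) _ s)).trans
      ((map_sum (CohPull.pushEdge (pi1 A I X) (FR A I X F) p) _ s).trans ?_)
    exact Finset.sum_congr rfl (fun n _ => (Ubar_eq A I X F p n (y n)).symm)
  have h2 : ∑ n ∈ s, Hmap (Sigma.ι (Gfam A I X F) n) p (y n) = 0 := by
    apply (Hmap_bijective_of_isIso (ψ I (pi1 A I X) (j2 A I X) F (hpi1 A I X) (hj2 A I X)) p).1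
    apply (pushEdge_bijective_of_isAffineHom (pi1 A I X) (FR A I X F) p).1
    rw [h1, map_zero, map_zero]
  exact Groth.Agent.Lib.Helper17.SigmaH.eq_zero_of_sum_eq_zero (CohIII.HAb X p) (Gfam A I X F) s y h2

end main

end Groth.Agent.Lib.Helper17.Rees5
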