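import Mathlib
set_option backward.isDefEq.respectTransparency.types false
set_option autoImplicit false
universe w v u
open CategoryTheory CategoryTheory.Limits

noncomputable section

namespace Groth.Agent.Lib.Helper17.SigmaH

variable {C : Type*} [Category C] [Preadditive C]

open Classical in
/-- the projection of a coproduct onto a summand -/
def proj {α : Type*} (f : α → C) [HasCoproduct f] (a : α) : ∐ f ⟶ f a :=
  Sigma.desc (Pi.single (M := fun b => f b ⟶ f a) a (𝟙 (f a)))

@[reassoc]
theorem ι_proj_same {α : Type*} (f : α → C) [HasCoproduct f] (a : α) :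
    Sigma.ι f a ≫ proj f a = 𝟙 _ := by
  classical
  unfold proj
  rw [Sigma.ι_desc, Pi.single_eq_same]

@[reassoc]
theorem ι_proj_ne {α : Type*} (f : α → C) [HasCoproduct f] {a b : α} (h : b ≠ a) :
    Sigma.ι f b ≫ proj f a = 0 := by
  classical
  unfold proj
  rw [Sigma.ι_desc, Pi.single_eq_of_ne h]

theorem sum_proj_ι {α : Type*} [Fintype α] (f : α → C) [HasCoproduct f] :
    ∑ a, proj f a ≫ Sigma.ι f a = 𝟙 (∐ f) := by
  classical
  apply Sigma.hom_ext
  intro b
  rw [Preadditive.comp_sum, Category.comp_id]
  rw [Finset.sum_eq_single b]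
  · rw [ι_proj_same_assoc]
  · intro a _ hab
    rw [ι_proj_ne_assoc f (Ne.symm hab), zero_comp]
  · intro h
    exact absurd (Finset.mem_univ b) h

variable (H : C ⥤ AddCommGrpCat.{w}) [H.Additive]

omit [Preadditive C] in
theorem hom_sum_apply {ι : Type*} (s : Finset ι) {M N : AddCommGrpCat.{w}} (φ : ι → (M ⟶ N)) (x : M) :
    (∑ a ∈ s, φ a).hom x = ∑ a ∈ s, (φ a).hom x := by
  classical
  induction s using Finset.induction_on with
  | empty => simp
  | insert a s ha ih =>
    rw [Finset.sum_insert ha, Finset.sum_insert ha, AddCommGrpCat.hom_add, AddMonoidHom.add_apply, ih]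

omit [Preadditive C] [H.Additive] in
theorem map_comp_apply {X Y Z : C} (φ : X ⟶ Y) (ψ : Y ⟶ Z) (x : H.obj X) :
    (H.map ψ).hom ((H.map φ).hom x) = (H.map (φ ≫ ψ)).hom x := by
  rw [H.map_comp]; rfl

/-- independence of the summands in the value of an additive functor on a coproduct -/
theorem eq_zero_of_sum_eq_zero {α : Type*} (f : α → C) [HasCoproduct f] (s : Finset α)
    (y : ∀ a, H.obj (f a)) (h : ∑ a ∈ s, (H.map (Sigma.ι f a)).hom (y a) = 0) :
    ∀ a ∈ s, y a = 0 := by
  classical
  intro a ha
  have h1 := congrArg (fun z => (H.map (proj f a)).hom z) h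
  simp only [map_sum, map_zero] at h1
  rw [Finset.sum_eq_single a] at h1
  · rw [map_comp_apply, ι_proj_same, H.map_id] at h1
    exact h1
  · intro b _ hb
    rw [map_comp_apply, ι_proj_ne f hb, H.map_zero]
    rfl
  · intro h'
    exact absurd ha h'

/-- in a finite coproduct every element of the value of an additive functor is a sum of
components -/
theorem eq_sum_of_fintype {α : Type*} [Fintype α] (f : α → C) [HasCoproduct f] (x : H.obj (∐ f)) :
    x = ∑ a, (H.map (Sigma.ι f a)).hom ((H.map (proj f a)).hom x) := by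
  have h := congrArg (fun φ => (H.map φ).hom x) (sum_proj_ι f)
  simp only [H.map_id] at h
  rw [H.map_sum] at h
  refine Eq.trans ?_ (Eq.trans h.symm ?_)
  · rfl
  · change (∑ a, H.map (proj f a ≫ Sigma.ι f a)).hom x = _
    rw [hom_sum_apply]
    exact Finset.sum_congr rfl (fun a _ => (map_comp_apply H _ _ x).symm)

open CoproductsFromFiniteFiltered in
/-- if `H` commutes with the filtered colimit of finite subcoproducts then every element of
`H (∐ f)` is a finite sum of elements coming from the summands -/
theorem exists_finset_sum {α : Type w} (f : α → C) [HasCoproduct f] [HasFiniteCoproducts C]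
    [HasColimitsOfShape (Finset (Discrete α)) C]
    [PreservesColimit (liftToFinsetObj (Discrete.functor f)) H] (x : H.obj (∐ f)) :
    ∃ (s : Finset α) (y : ∀ a, H.obj (f a)), x = ∑ a ∈ s, (H.map (Sigma.ι f a)).hom (y a) := by
  classical
  have hc := isColimitOfPreserves H (isColimitFiniteSubproductsCocone f)
  obtain ⟨S, y, hy⟩ := Concrete.isColimit_exists_rep _ hc x
  let g : (↥S) → C := fun t => (Discrete.functor f).obj t.1
  have hy' : (H.map (Sigma.desc fun t : ↥S => Sigma.ι f t.1.as)).hom y = x := hy
  have h1 := eq_sum_of_fintype H g y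
  let z : ∀ t : ↥S, H.obj (f t.1.as) := fun t => (H.map (proj g t)).hom y
  have h2 : x = ∑ t : ↥S, (H.map (Sigma.ι f t.1.as)).hom (z t) := by
    rw [← hy', h1, map_sum]
    refine Finset.sum_congr rfl (fun t _ => ?_)
    rw [map_comp_apply, Sigma.ι_desc]
  let y' : ∀ a, H.obj (f a) := fun a => if h : Discrete.mk a ∈ S then z ⟨Discrete.mk a, h⟩ else 0
  refine ⟨S.image Discrete.as, y', ?_⟩
  rw [h2, Finset.sum_image (fun a _ b _ h => Discrete.ext h)]
  rw [← Finset.sum_coe_sort S]
  refine Finset.sum_congr rfl (fun t _ => ?_)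
  have : y' t.1.as = z t := by
    change (if h : Discrete.mk t.1.as ∈ S then z ⟨Discrete.mk t.1.as, h⟩ else 0) = z t
    rw [dif_pos t.2]
  rw [this]

end Groth.Agent.Lib.Helper17.SigmaH
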