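import Groth.Agent.Lib.Helper17.AdicFlatA
import Groth.Agent.Lib.Helper17.SigmaH
import Groth.Agent.Lib.Helper17.Rees5
import Groth.Agent.Lib.Helper2.Bridge2
import Groth.Agent.Lib.Helper4.VanClass
import Mathlib
set_option backward.isDefEq.respectTransparency.types false
set_option autoImplicit false
set_option linter.style.haveILetI false
set_option linter.unusedSectionVars false

/-!
# Cohomology of `f^*(N~)` for modules `N` which are sums of copies of `R/𝔪`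
-/

universe u
open CategoryTheory CategoryTheory.Limits AlgebraicGeometry Opposite TopologicalSpace

noncomputable section
namespace Groth.Agent.Lib.Helper17.AdicFlat

open Groth.Agent.Lib.Helper23.FQuot

variable (R : Type u) [CommRing R] {X : Scheme.{u}} [X.Over (Spec (CommRingCat.of R))]

/-- `H^q(X, f^*((R/𝔪)~)) = H^q(X₀, O_{X₀})` for the closed fibre `X₀` -/
theorem subsingleton_HH_TT_quot {X₀ : Scheme.{u}} (j : X₀ ⟶ X) [IsClosedImmersion j] (𝔪 : Ideal R)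
    (h𝔪 : 𝔪.FG) (p₀ : X₀ ⟶ Spec (CommRingCat.of (R ⧸ 𝔪)))
    (hpb₀ : IsPullback j p₀ (X ↘ Spec (CommRingCat.of R))
      (Spec.map (CommRingCat.ofHom (Ideal.Quotient.mk 𝔪)))) (q : ℕ)
    (h : Subsingleton (Coh.HH X₀ (Coh.structureModule X₀) q)) :
    Subsingleton (Coh.HH X ((TT R (X := X)).obj (ModuleCat.of R (R ⧸ 𝔪))) q) := by
  obtain ⟨e, -⟩ := exists_iso_push R j 𝔪 h𝔪 p₀ hpb₀
  obtain ⟨eq, -⟩ := Groth.Agent.Lib.Helper2.Bridge2.exists_natural_equiv j q
  haveI : (Coh.structureModule X₀).IsQuasicoherent := inferInstance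
  have h1 : Subsingleton (Coh.HH X ((Scheme.Modules.pushforward j).obj (Coh.structureModule X₀)) q) :=
    (eq _ inferInstance).toEquiv.subsingleton
  have e2 : (Scheme.Modules.pushforward j).obj (Coh.structureModule X₀) ≅
      (TT R (X := X)).obj (ModuleCat.of R (R ⧸ 𝔪)) :=
    ((Scheme.Modules.pushforward j).mapIso (Groth.Agent.Lib.Helper16.RS.pullbackUnitIso j)).symm ≪≫ e.symm
  exact Groth.Agent.Lib.Helper4.VanClass.subsingleton_HH_of_iso e2 q h1

/-- finite sums -/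
theorem subsingleton_HH_TT_sigma (K : ModuleCat.{u} R) (r : ℕ) (q : ℕ)
    (h : Subsingleton (Coh.HH X ((TT R (X := X)).obj K) q)) :
    Subsingleton (Coh.HH X ((TT R (X := X)).obj (∐ fun _ : Fin r => K)) q) := by
  refine ⟨fun x y => ?_⟩
  have key : ∀ z : Coh.HH X ((TT R (X := X)).obj (∐ fun _ : Fin r => K)) q, z = 0 := by
    intro z
    have hz := Groth.Agent.Lib.Helper17.SigmaH.eq_sum_of_fintype
      (TT R (X := X) ⋙ CohIII.HAb X q) (fun _ : Fin r => K) z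
    rw [hz]
    refine Finset.sum_eq_zero fun a _ => ?_
    have h0 : ((TT R (X := X) ⋙ CohIII.HAb X q).map
        (Groth.Agent.Lib.Helper17.SigmaH.proj (fun _ : Fin r => K) a)).hom z = 0 :=
      h.elim _ _
    rw [h0]
    exact map_zero _
  rw [key x, key y]


/-- a finitely generated ideal killed by a maximal ideal is a finite sum of copies of the residue
field -/
theorem exists_iso_sigma_of_killed (𝔪 J : Ideal R) [h𝔪 : 𝔪.IsMaximal] (hJ : J.FG)
    (hk : ∀ a ∈ 𝔪, ∀ b ∈ J, a * b = 0) :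
    ∃ r : ℕ, Nonempty (ModuleCat.of R J ≅ ∐ fun _ : Fin r => ModuleCat.of R (R ⧸ 𝔪)) := by
  letI : Field (R ⧸ 𝔪) := Ideal.Quotient.field 𝔪
  have htor : Module.IsTorsionBySet R J (𝔪 : Set R) := by
    intro x a
    apply Subtype.ext
    change (a : R) * (x : R) = 0
    exact hk a a.2 x x.2
  letI : Module (R ⧸ 𝔪) J := htor.module
  haveI : IsScalarTower R (R ⧸ 𝔪) J := htor.isScalarTower
  haveI : Module.Finite R J := Module.Finite.iff_fg.2 hJ
  haveI : Module.Finite (R ⧸ 𝔪) J := Module.Finite.of_restrictScalars_finite R (R ⧸ 𝔪) J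
  let b := Module.finBasis (R ⧸ 𝔪) J
  let e : J ≃ₗ[R] (Fin (Module.finrank (R ⧸ 𝔪) J) → R ⧸ 𝔪) := b.equivFun.restrictScalars R
  refine ⟨Module.finrank (R ⧸ 𝔪) J, ⟨e.toModuleIso ≪≫
    (ModuleCat.biproductIsoPi (fun _ : Fin (Module.finrank (R ⧸ 𝔪) J) => ModuleCat.of R (R ⧸ 𝔪))).symm ≪≫
    biproduct.isoCoproduct _⟩⟩


/-- **cohomology of the ideal of a thickening of the closed fibre of a flat scheme** -/
theorem subsingleton_HH_kernel_unit [Flat (X ↘ Spec (CommRingCat.of R))]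
    {Z : Scheme.{u}} (ι : Z ⟶ X) [IsClosedImmersion ι] (J : Ideal R) (hJ : J.FG)
    (p : Z ⟶ Spec (CommRingCat.of (R ⧸ J)))
    (hpb : IsPullback ι p (X ↘ Spec (CommRingCat.of R))
      (Spec.map (CommRingCat.ofHom (Ideal.Quotient.mk J))))
    {X₀ : Scheme.{u}} (j : X₀ ⟶ X) [IsClosedImmersion j] (𝔪 : Ideal R) [𝔪.IsMaximal]
    (h𝔪 : 𝔪.FG) (p₀ : X₀ ⟶ Spec (CommRingCat.of (R ⧸ 𝔪)))
    (hpb₀ : IsPullback j p₀ (X ↘ Spec (CommRingCat.of R))
      (Spec.map (CommRingCat.ofHom (Ideal.Quotient.mk 𝔪))))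
    (hk : ∀ a ∈ 𝔪, ∀ b ∈ J, a * b = 0) (q : ℕ)
    (h : Subsingleton (Coh.HH X₀ (Coh.structureModule X₀) q)) :
    Subsingleton (Coh.HH X
      (kernel ((Scheme.Modules.pullbackPushforwardAdjunction ι).unit.app (Coh.structureModule X))) q) := by
  obtain ⟨κ⟩ := nonempty_kernel_unit_iso R ι J hJ p hpb
  obtain ⟨r, ⟨σ⟩⟩ := exists_iso_sigma_of_killed R 𝔪 J hJ hk
  have h1 := subsingleton_HH_TT_quot R j 𝔪 h𝔪 p₀ hpb₀ q h
  have h2 := subsingleton_HH_TT_sigma R (X := X) (ModuleCat.of R (R ⧸ 𝔪)) r q h1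
  exact Groth.Agent.Lib.Helper4.VanClass.subsingleton_HH_of_iso
    ((TT R (X := X)).mapIso σ.symm ≪≫ κ.symm) q h2

end Groth.Agent.Lib.Helper17.AdicFlat
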