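import Groth.Agent.Lib.Helper17.SqZeroD
import Groth.Agent.Lib.Helper28.AmpleUnit
import Mathlib
set_option backward.isDefEq.respectTransparency.types false
set_option autoImplicit false
universe u
open AlgebraicGeometry CategoryTheory Opposite TopologicalSpace CategoryTheory.Limits

namespace Groth.Agent.Lib.Helper17.AdicFlat
open Scheme.Modules Groth.Agent.Lib.Helper17.SqZero

/-- from the cohomology of the ideal on `X` to the cohomology of the conormal module on `Z` -/
theorem subsingleton_HH_pullback_idealMod {X : Scheme.{u}} (I : X.IdealSheafData) (hI : I ^ 2 = ⊥)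
    (h : Subsingleton (Coh.HH X (kernel ((Scheme.Modules.pullbackPushforwardAdjunction
      I.subschemeι).unit.app (Coh.structureModule X))) 1)) :
    Subsingleton (Coh.HH I.subscheme
      ((Scheme.Modules.pullback I.subschemeι).obj (ClSub.idealMod I)) 1) := by
  have hN : PicF.IsInvertible (Coh.structureModule X) :=
    Groth.Agent.Lib.Helper28.AmpleUnit.isInvertible_structureModule X
  have h' : Subsingleton (Coh.HH X (KK I (Coh.structureModule X)) 1) := h
  haveI := isQuasicoherent_KK I (Coh.structureModule X) hN
  haveI := Groth.Agent.Lib.Helper17.ClosedUnit.isIso_unit_of_killed I.subschemeι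
    (KK I (Coh.structureModule X))
    (fun U a ha s => killed I (Coh.structureModule X) hI hN U a (by rwa [I.ker_subschemeι] at ha) s)
  have h3 : Subsingleton (Coh.HH X ((Scheme.Modules.pushforward I.subschemeι).obj
      ((Scheme.Modules.pullback I.subschemeι).obj (KK I (Coh.structureModule X)))) 1) :=
    Groth.Agent.Lib.Helper4.VanClass.subsingleton_HH_of_iso
      (asIso ((Scheme.Modules.pullbackPushforwardAdjunction I.subschemeι).unit.app
        (KK I (Coh.structureModule X)))) 1 h'
  obtain ⟨e, -⟩ := Groth.Agent.Lib.Helper2.Bridge2.exists_natural_equiv I.subschemeι 1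
  have h2 : Subsingleton (Coh.HH I.subscheme
      ((Scheme.Modules.pullback I.subschemeι).obj (KK I (Coh.structureModule X))) 1) :=
    (e _ inferInstance).symm.toEquiv.subsingleton
  obtain ⟨a⟩ := nonempty_pullback_KK_iso I (Coh.structureModule X) hN
    (Groth.Agent.Lib.Helper16.RS.pullbackUnitIso I.subschemeι)
  exact Groth.Agent.Lib.Helper4.VanClass.subsingleton_HH_of_iso a 1 h2

end Groth.Agent.Lib.Helper17.AdicFlat
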