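import Groth.Agent.Lib.Helper17.AdicFlatB
import Groth.Agent.Lib.Helper17.AdicFlatC
import Mathlib
set_option backward.isDefEq.respectTransparency.types false
set_option autoImplicit false
set_option linter.style.haveILetI false
set_option linter.unusedSectionVars false

universe u
open CategoryTheory CategoryTheory.Limits AlgebraicGeometry Opposite TopologicalSpace

noncomputable section
namespace Groth.Agent.Lib.Helper17.AdicFlat

/-- put a pullback square over `Spec S ⟶ Spec R` (`R → S` surjective) in the form over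
`Spec (R/ker) ⟶ Spec R` -/
theorem exists_isPullback_mk {R S : Type u} [CommRing R] [CommRing S] (φ : R →+* S)
    (hφ : Function.Surjective φ) {Y Y₀ Y₀' : Scheme.{u}} (f : Y ⟶ Spec (CommRingCat.of R))
    (ι : Y₀ ⟶ Y) (p : Y₀ ⟶ Spec (CommRingCat.of S))
    (hpb : IsPullback ι p f (Spec.map (CommRingCat.ofHom φ))) (w : Y₀' ≅ Y₀) :
    ∃ p' : Y₀' ⟶ Spec (CommRingCat.of (R ⧸ RingHom.ker φ)),
      IsPullback (w.hom ≫ ι) p' f (Spec.map (CommRingCat.ofHom (Ideal.Quotient.mk (RingHom.ker φ)))) := by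
  let e : (R ⧸ RingHom.ker φ) ≃+* S := RingHom.quotientKerEquivOfSurjective hφ
  let E : Spec (CommRingCat.of S) ≅ Spec (CommRingCat.of (R ⧸ RingHom.ker φ)) :=
    Scheme.Spec.mapIso e.toCommRingCatIso.op
  have hE : E.hom = Spec.map (CommRingCat.ofHom e.toRingHom) := rfl
  refine ⟨w.hom ≫ p ≫ E.hom, IsPullback.of_iso hpb w.symm (Iso.refl _) E (Iso.refl _) ?_ ?_ ?_ ?_⟩
  · simp
  · simp
  · simp
  · rw [Iso.refl_hom, Category.comp_id, hE, ← Spec.map_comp, ← CommRingCat.ofHom_comp]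
    congr 2

/-- the composite transition maps from level `0` -/
def jj (Xs : ℕ → Scheme.{u}) (ts : ∀ n : ℕ, Xs n ⟶ Xs (n + 1)) : ∀ n, Xs 0 ⟶ Xs n
  | 0 => 𝟙 _
  | n + 1 => jj Xs ts n ≫ ts n


section Adic

variable (A : Type u) [CommRing A] (m : Ideal A)
  (Xs : ℕ → Scheme.{u}) (fs : ∀ n : ℕ, Xs n ⟶ (Spec (CommRingCat.of (A ⧸ m ^ (n + 1)))))
  (ts : ∀ n : ℕ, Xs n ⟶ Xs (n + 1))
  (hcart : ∀ n : ℕ, IsPullback (ts n) (fs n) (fs (n + 1)) (Spec.map (CommRingCat.ofHom
    (Ideal.Quotient.factor (Ideal.pow_le_pow_right (Nat.le_succ (n + 1)))))))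

include hcart in
theorem isPullback_jj (n : ℕ) :
    IsPullback (jj Xs ts n) (fs 0) (fs n) (Spec.map (CommRingCat.ofHom
      (Ideal.Quotient.factor (Ideal.pow_le_pow_right (I := m) (Nat.succ_le_succ (Nat.zero_le n)))))) := by
  induction n with
  | zero =>
    have h : (Ideal.Quotient.factor (Ideal.pow_le_pow_right (I := m) (Nat.succ_le_succ (Nat.zero_le 0)))) =
        RingHom.id _ := Ideal.Quotient.factor_eq
    rw [h]
    change IsPullback (𝟙 _) (fs 0) (fs 0) (Spec.map (𝟙 _))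
    rw [Spec.map_id]
    exact IsPullback.of_id_fst
  | succ n ih =>
    have h := ih.paste_horiz (hcart n)
    rw [← Spec.map_comp, ← CommRingCat.ofHom_comp, Ideal.Quotient.factor_comp] at h
    exact h


open Groth.Agent.Lib.Helper17.Tow Groth.Agent.Lib.Helper21.ThickDict in
include hcart in
/-- the inductive step: the transition maps of a flat adic system over a Noetherian ring are
square-zero closed immersions whose conormal module has no `H¹` if `H¹(X₀, O) = 0` -/
theorem step [IsNoetherianRing A] [hm : m.IsMaximal] (hflat : ∀ n, Flat (fs n))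
    (h1 : Subsingleton (Coh.HH (Xs 0) (Coh.structureModule (Xs 0)) 1)) (n : ℕ) :
    ∃ (_ : IsClosedImmersion (ts n)), (ts n).ker ^ 2 = ⊥ ∧
      Subsingleton (Coh.HH (ts n).ker.subscheme
        ((Scheme.Modules.pullback (ts n).ker.subschemeι).obj (ClSub.idealMod (ts n).ker)) 1) := by
  let R := A ⧸ m ^ (n + 1 + 1)
  letI : (Xs (n + 1)).Over (Spec (CommRingCat.of R)) := ⟨fs (n + 1)⟩
  haveI : Flat (Xs (n + 1) ↘ Spec (CommRingCat.of R)) := hflat (n + 1)
  let φ : R →+* A ⧸ m ^ (n + 1) :=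
    Ideal.Quotient.factor (Ideal.pow_le_pow_right (Nat.le_succ (n + 1)))
  have hφ : Function.Surjective φ := Ideal.Quotient.factor_surjective _
  let φ₀ : R →+* A ⧸ m ^ (0 + 1) :=
    Ideal.Quotient.factor (Ideal.pow_le_pow_right (I := m) (Nat.succ_le_succ (Nat.zero_le (n + 1))))
  have hφ₀ : Function.Surjective φ₀ := Ideal.Quotient.factor_surjective _
  haveI hci : IsClosedImmersion (ts n) :=
    MorphismProperty.of_isPullback (P := @IsClosedImmersion) (hcart n).flip
      (IsClosedImmersion.spec_of_surjective _ hφ)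
  have hpj := isPullback_jj A m Xs fs ts hcart (n + 1)
  haveI hcj : IsClosedImmersion (jj Xs ts (n + 1)) :=
    MorphismProperty.of_isPullback (P := @IsClosedImmersion) hpj.flip
      (IsClosedImmersion.spec_of_surjective _ hφ₀)
  let I := (ts n).ker
  let w : I.subscheme ≅ Xs n := (asIso (ts n).toImage).symm
  have hw : w.hom ≫ ts n = I.subschemeι := by
    rw [Iso.symm_hom, asIso_inv, IsIso.inv_comp_eq]
    exact ((ts n).toImage_imageι).symm
  obtain ⟨p', hp'⟩ := exists_isPullback_mk φ hφ (fs (n + 1)) (ts n) (fs n) (hcart n) w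
  rw [hw] at hp'
  obtain ⟨p₀', hp₀'⟩ := exists_isPullback_mk φ₀ hφ₀ (fs (n + 1)) (jj Xs ts (n + 1)) (fs 0) hpj (Iso.refl _)
  rw [Iso.refl_hom, Category.id_comp] at hp₀'
  have hJ : (RingHom.ker φ).FG := IsNoetherian.noetherian _
  have h𝔪 : (RingHom.ker φ₀).FG := IsNoetherian.noetherian _
  have hm1 : (m ^ (0 + 1)).IsMaximal := by simpa using hm
  letI : Field (A ⧸ m ^ (0 + 1)) := Ideal.Quotient.field _
  haveI : (RingHom.ker φ₀).IsMaximal := RingHom.ker_isMaximal_of_surjective φ₀ hφ₀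
  have hk : ∀ a ∈ RingHom.ker φ₀, ∀ b ∈ RingHom.ker φ, a * b = 0 := by
    intro a ha b hb
    rw [Ideal.Quotient.factor_ker] at ha hb
    have hab := Ideal.mul_mem_mul ha hb
    rw [← Ideal.map_mul, ← pow_add, show 0 + 1 + (n + 1) = n + 1 + 1 by omega,
      Ideal.map_quotient_self] at hab
    exact (Ideal.mem_bot).1 hab
  have hJle : RingHom.ker φ ≤ RingHom.ker φ₀ := by
    intro x hx
    rw [RingHom.mem_ker] at hx ⊢
    have : φ₀ x = Ideal.Quotient.factor (Ideal.pow_le_pow_right (I := m)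
        (Nat.succ_le_succ (Nat.zero_le n))) (φ x) := by
      rw [Ideal.Quotient.factor_comp_apply]
    rw [this, hx, map_zero]
  have hI2 : I ^ 2 = ⊥ := by
    apply Scheme.IdealSheafData.ext
    funext U
    change (I.ideal U) ^ 2 = ⊥
    rw [eq_bot_iff, pow_two, Ideal.mul_le]
    intro r hr s hs
    have hmem : ∀ r ∈ I.ideal U, r ∈ Ideal.map (phiU (fs (n + 1)) U.1) (RingHom.ker φ) := by
      intro r hr
      refine mem_map_of_isPullback (RingHom.ker φ) (fs (n + 1)) I.subschemeι p' hp' U.1 U.2 r ?_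
      have : r ∈ I.subschemeι.ker.ideal U := by rw [I.ker_subschemeι]; exact hr
      rw [Scheme.Hom.ker_apply, RingHom.mem_ker] at this
      exact this
    have hrs := Ideal.mul_mem_mul (hmem r hr) (hmem s hs)
    rw [← Ideal.map_mul] at hrs
    have hz : RingHom.ker φ * RingHom.ker φ = ⊥ := by
      rw [eq_bot_iff, Ideal.mul_le]
      intro a ha b hb
      exact (Ideal.mem_bot).2 (hk a (hJle ha) b hb)
    rw [hz, Ideal.map_bot] at hrs
    exact hrs
  refine ⟨hci, hI2, ?_⟩
  have h2 := subsingleton_HH_kernel_unit R I.subschemeι (RingHom.ker φ) hJ p' hp'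
    (jj Xs ts (n + 1)) (RingHom.ker φ₀) h𝔪 p₀' hp₀' hk 1 h1
  exact subsingleton_HH_pullback_idealMod I hI2 h2


include hcart in
/-- **uniqueness of compatible systems of invertible modules on a flat adic system** -/
theorem adic_unique [IsNoetherianRing A] [hm : m.IsMaximal] (hflat : ∀ n, Flat (fs n))
    (h1 : Subsingleton (Coh.HH (Xs 0) (Coh.structureModule (Xs 0)) 1))
    (L L' : ∀ n : ℕ, (Xs n).Modules) (hL : ∀ n, PicF.IsInvertible (L n))
    (hL' : ∀ n, PicF.IsInvertible (L' n))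
    (hLt : ∀ n, Nonempty ((Scheme.Modules.pullback (ts n)).obj (L (n + 1)) ≅ L n))
    (hL't : ∀ n, Nonempty ((Scheme.Modules.pullback (ts n)).obj (L' (n + 1)) ≅ L' n))
    (e₀ : L 0 ≅ L' 0) : ∀ n, Nonempty (L n ≅ L' n)
  | 0 => ⟨e₀⟩
  | n + 1 => by
    obtain ⟨e⟩ := adic_unique hflat h1 L L' hL hL' hLt hL't e₀ n
    obtain ⟨hci, hI2, hH⟩ := step A m Xs fs ts hcart hflat h1 n
    obtain ⟨a⟩ := hLt n
    obtain ⟨a'⟩ := hL't n
    let I := (ts n).ker
    let w : I.subscheme ≅ Xs n := (asIso (ts n).toImage).symm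
    have hw : w.hom ≫ ts n = I.subschemeι := by
      rw [Iso.symm_hom, asIso_inv, IsIso.inv_comp_eq]
      exact ((ts n).toImage_imageι).symm
    let c : ∀ M : (Xs (n + 1)).Modules, (Scheme.Modules.pullback I.subschemeι).obj M ≅
        (Scheme.Modules.pullback w.hom).obj ((Scheme.Modules.pullback (ts n)).obj M) := fun M =>
      (Scheme.Modules.pullbackCongr hw.symm).app M ≪≫ (Scheme.Modules.pullbackComp w.hom (ts n)).symm.app M
    exact Groth.Agent.Lib.Helper17.SqZero.main (Xs (n + 1)) I hI2 hH (L (n + 1)) (L' (n + 1))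
      (hL _) (hL' _)
      (c (L (n + 1)) ≪≫ (Scheme.Modules.pullback w.hom).mapIso (a ≪≫ e ≪≫ a'.symm) ≪≫
        (c (L' (n + 1))).symm)

end Adic

end Groth.Agent.Lib.Helper17.AdicFlat
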