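import Groth.Agent.Lib.Helper17.AdicFlatB
import Mathlib
set_option backward.isDefEq.respectTransparency.types false
set_option autoImplicit false
set_option linter.style.haveILetI false
set_option linter.unusedSectionVars false

/-!
# Versions of the `AdicFlat` lemmas without finite generation of the ideal
-/

universe u
open CategoryTheory CategoryTheory.Limits AlgebraicGeometry Opposite TopologicalSpace TensorProduct

namespace Groth.Agent.Lib.Helper17.Tow

open Groth.Agent.Lib.Helper17.PullbackBC Groth.Agent.Lib.Helper17.ClosedUnit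
open Groth.Agent.Lib.Helper28 Groth.Agent.Lib.Helper28.QCohLoc Groth.Agent.Lib.Helper28.PullbackInv
open Groth.Agent.Lib.Helper23.FQuot Groth.Agent.Lib.Helper21.ThickDict

variable {A : Type u} [CommRing A] {Y Y' : Scheme.{u}} [Y.Over (Spec (CommRingCat.of A))]
  [Y'.Over (Spec (CommRingCat.of A))] (i : Y ⟶ Y') [IsClosedImmersion i]

/-- **the unit of a closed immersion whose ideal is generated by the ideal `J` of the base ring is the
quotient by `J`** -/
theorem isQuot_unit' (hi : i ≫ (Y' ↘ Spec (CommRingCat.of A)) = Y ↘ Spec (CommRingCat.of A))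
    (J : Ideal A)
    (hker : ∀ (U : Y'.Opens), IsAffineOpen U → ∀ r : Γ(Y', U), (i.app U).hom r = 0 →
      r ∈ Ideal.map (phiU (Y' ↘ Spec (CommRingCat.of A)) U) J)
    (hzero : ∀ c ∈ J, ∀ N : Y.Modules, Formal.smulMod A N c = 0)
    (M : Y'.Modules) [M.IsQuasicoherent] :
    IsQuot J ((Scheme.Modules.pullbackPushforwardAdjunction i).unit.app M) := by
  let η : M ⟶ (Scheme.Modules.pushforward i).obj ((Scheme.Modules.pullback i).obj M) :=
    (Scheme.Modules.pullbackPushforwardAdjunction i).unit.app M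
  show IsQuot J η
  haveI : ((Scheme.Modules.pushforward i).obj ((Scheme.Modules.pullback i).obj M)).IsQuasicoherent :=
    isQuasicoherent_pushforward i _
  have hz : ∀ c ∈ J, Formal.smulMod A M c ≫ η = 0 := by
    intro c hc
    rw [smulMod_naturality, ← pushforward_map_smulMod i hi, hzero c hc, Functor.map_zero, comp_zero]
  let q := cokernel.π (Formal.smulFamily J M)
  have hq : IsQuot J q := isQuot_cokernelπ J M
  obtain ⟨θ, hθ⟩ := hq.fac η hz
  haveI : (∐ fun _ : J => M).IsQuasicoherent :=
    Groth.Agent.Lib.Helper16.QCohSigma.isQuasicoherent_sigma (fun _ : J => M)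
  haveI : (cokernel (Formal.smulFamily J M)).IsQuasicoherent :=
    Groth.Agent.Lib.Helper17.CohKer.isQuasicoherent_cokernel _
  haveI := hq.epi
  haveI : Epi η := epi_unit i M
  have hiso : IsIso θ := by
    refine isIso_of_affine_cover θ (fun U : Y'.affineOpens => U.1) (fun U => U.2) ?cov
      (fun U => isLocOn_of_isQuasicoherent _ U.2) (fun U => isLocOn_of_isQuasicoherent _ U.2) ?bij
    case cov =>
      intro x
      obtain ⟨W, hW, hxW, -⟩ := Opens.isBasis_iff_nbhd.mp Y'.isBasis_affineOpens
        (show x ∈ (⊤ : Y'.Opens) from trivial)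
      exact ⟨⟨W, hW⟩, hxW⟩
    case bij =>
      intro U
      have hηU : ∀ m : Γ(M, U.1), θ.app U.1 (q.app U.1 m) = η.app U.1 m := fun m => by
        rw [← hθ]; rfl
      constructor
      · rw [injective_iff_map_eq_zero]
        intro n hn
        obtain ⟨m, hm⟩ := Groth.Agent.Lib.Helper23.Tower.surj_sections_of_epi q U.2 n
        have hm' : q.app U.1 m = n := hm
        subst hm'
        rw [hηU] at hn
        have hW' : IsAffineOpen (i ⁻¹ᵁ U.1) := U.2.preimage i
        have hbc := isBC_pullback i U.2 hW' le_rfl M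
        have hsurj : Function.Surjective (i.appLE U.1 (i ⁻¹ᵁ U.1) le_rfl).hom := by
          rw [← Scheme.Hom.app_eq_appLE]
          exact i.app_surjective U.1 U.2
        have hmem := mem_smul_top_of_isBC _ hsurj _ hbc m
          (by rw [res_self]; exact hn)
        refine Submodule.smul_induction_on hmem (fun r hr m' _ => ?_) (fun x y hx hy => ?_)
        · have hr' : (i.app U.1).hom r = 0 := by
            rw [RingHom.mem_ker] at hr
            rw [Scheme.Hom.app_eq_appLE]
            exact hr
          exact app_smul_eq_zero_of_mem_map J M q hq U.1 r (hker U.1 U.2 r hr') m'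
        · rw [map_add, hx, hy, add_zero]
      · intro z
        obtain ⟨m, hm⟩ := Groth.Agent.Lib.Helper23.Tower.surj_sections_of_epi η U.2 z
        have hm' : η.app U.1 m = z := hm
        exact ⟨q.app U.1 m, (hηU m).trans hm'⟩
  rw [← hθ]
  exact IsQuot.comp_iso hq

end Groth.Agent.Lib.Helper17.Tow

noncomputable section
namespace Groth.Agent.Lib.Helper17.AdicFlat

open Formal Groth.Agent.Lib.Helper23.FQuot Groth.Agent.Lib.Lead.FormalA
open Groth.Agent.Lib.Helper6.TensAQuot Groth.Agent.Lib.Helper17.Tow Groth.Agent.Lib.Helper21.ThickDict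

variable (R : Type u) [CommRing R] {X : Scheme.{u}} [X.Over (Spec (CommRingCat.of R))]

/-- the adjunction `f^* ∘ tilde ⊣ Γ ∘ f_*` -/
def TTadj : TT R (X := X) ⊣
    Scheme.Modules.pushforward (X ↘ Spec (CommRingCat.of R)) ⋙ moduleSpecΓFunctor (R := CommRingCat.of R) :=
  (tilde.adjunction (R := CommRingCat.of R)).comp
    (Scheme.Modules.pullbackPushforwardAdjunction (X ↘ Spec (CommRingCat.of R)))

/-- `T(R) → T(R/J)` is the quotient by `J`, for any ideal `J` -/
theorem isQuot_TT_mkQ' (J : Ideal R) :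
    IsQuot J ((TT R (X := X)).map (ModuleCat.ofHom (Submodule.mkQ J))) := by
  haveI : Epi (ModuleCat.ofHom (Submodule.mkQ J)) :=
    (ModuleCat.epi_iff_surjective _).2 (Submodule.mkQ_surjective J)
  refine ⟨inferInstance, ?_, ?_⟩
  · intro a ha
    rw [← TT_map_smul, ← Functor.map_comp]
    have : (a • 𝟙 (ModuleCat.of R R)) ≫ ModuleCat.ofHom (Submodule.mkQ J) = 0 := by
      apply ModuleCat.hom_ext
      apply LinearMap.ext
      intro x
      change Submodule.mkQ J (a • x) = 0
      rw [Submodule.mkQ_apply, Submodule.Quotient.mk_eq_zero]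
      exact J.mul_mem_right x ha
    rw [this, Functor.map_zero]
  · intro T g hg
    let g' := (TTadj R).homEquiv _ _ g
    have hk : J ≤ LinearMap.ker g'.hom := by
      intro a ha
      have h1 : (a • 𝟙 (ModuleCat.of R R)) ≫ g' = 0 := by
        haveI : (Scheme.Modules.pushforward (X ↘ Spec (CommRingCat.of R)) ⋙
            moduleSpecΓFunctor (R := CommRingCat.of R)).Additive := (TTadj R).right_adjoint_additive
        rw [← Adjunction.homEquiv_naturality_left, TT_map_smul, hg a ha, Adjunction.homEquiv_unit,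
          Functor.map_zero, comp_zero]
      have h2 := congrArg (fun φ : ModuleCat.of R R ⟶ _ => φ.hom (1 : R)) h1
      simp only [] at h2
      rw [LinearMap.mem_ker]
      have : g'.hom a = g'.hom (a • (1 : R)) := by rw [smul_eq_mul, mul_one]
      rw [this]
      exact h2
    let g'' : ModuleCat.of R (R ⧸ J) ⟶ _ := ModuleCat.ofHom (Submodule.liftQ J g'.hom hk)
    refine ⟨((TTadj R).homEquiv _ _).symm g'', ?_⟩
    rw [← Adjunction.homEquiv_naturality_left_symm]
    have : ModuleCat.ofHom (Submodule.mkQ J) ≫ g'' = g' := by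
      apply ModuleCat.hom_ext
      apply LinearMap.ext
      intro x
      exact Submodule.liftQ_apply J g'.hom (h := hk) x
    rw [this]
    exact Equiv.symm_apply_apply _ g


section Closed

variable {Z : Scheme.{u}} (ι : Z ⟶ X) [IsClosedImmersion ι] (J : Ideal R)
  (p : Z ⟶ Spec (CommRingCat.of (R ⧸ J)))
  (hpb : IsPullback ι p (X ↘ Spec (CommRingCat.of R))
    (Spec.map (CommRingCat.ofHom (Ideal.Quotient.mk J))))

include hpb in
theorem isQuot_unit_structure' :
    IsQuot J ((Scheme.Modules.pullbackPushforwardAdjunction ι).unit.app (Coh.structureModule X)) := by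
  letI : Z.Over (Spec (CommRingCat.of R)) := ⟨ι ≫ (X ↘ Spec (CommRingCat.of R))⟩
  refine isQuot_unit' ι rfl J
    (fun U hU r hr => mem_map_of_isPullback J _ ι p hpb U hU r hr) ?_ (Coh.structureModule X)
  intro c hc N
  unfold Formal.smulMod
  have h0 : Coh.toGlobal (Z ↘ Spec (CommRingCat.of R)) c = 0 := by
    change Coh.toGlobal (ι ≫ (X ↘ Spec (CommRingCat.of R))) c = 0
    rw [hpb.w]
    exact toGlobal_eq_zero J p c hc
  rw [h0]
  exact KLin.smulModΓ_zero N

include hpb in
theorem exists_iso_push' :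
    ∃ e : (TT R (X := X)).obj (ModuleCat.of R (R ⧸ J)) ≅
        (Scheme.Modules.pushforward ι).obj ((Scheme.Modules.pullback ι).obj (Coh.structureModule X)),
      (TT R (X := X)).map (ModuleCat.ofHom (Submodule.mkQ J)) ≫ e.hom =
        (TTself R).hom ≫
          (Scheme.Modules.pullbackPushforwardAdjunction ι).unit.app (Coh.structureModule X) :=
  (isQuot_TT_mkQ' R J).exists_iso (IsQuot.iso_comp (isQuot_unit_structure' R ι J p hpb))

include hpb in
theorem nonempty_kernel_unit_iso' [Flat (X ↘ Spec (CommRingCat.of R))] :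
    Nonempty (kernel ((Scheme.Modules.pullbackPushforwardAdjunction ι).unit.app (Coh.structureModule X)) ≅
      (TT R (X := X)).obj (ModuleCat.of R J)) := by
  obtain ⟨e, he⟩ := exists_iso_push' R ι J p hpb
  have hS := (idealSeq_shortExact R J).map_of_exact (TT R (X := X))
  let k1 : kernel ((TT R (X := X)).map (ModuleCat.ofHom (Submodule.mkQ J))) ≅
      (TT R (X := X)).obj (ModuleCat.of R J) :=
    IsLimit.conePointUniqueUpToIso (kernelIsKernel _) hS.fIsKernel
  let k2 : kernel ((TT R (X := X)).map (ModuleCat.ofHom (Submodule.mkQ J))) ≅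
      kernel ((Scheme.Modules.pullbackPushforwardAdjunction ι).unit.app (Coh.structureModule X)) :=
    kernel.mapIso _ _ (TTself R) e he
  exact ⟨k2.symm ≪≫ k1⟩

include hpb in
theorem subsingleton_HH_TT_quot' (q : ℕ)
    (h : Subsingleton (Coh.HH Z (Coh.structureModule Z) q)) :
    Subsingleton (Coh.HH X ((TT R (X := X)).obj (ModuleCat.of R (R ⧸ J))) q) := by
  obtain ⟨e, -⟩ := exists_iso_push' R ι J p hpb
  obtain ⟨eq, -⟩ := Groth.Agent.Lib.Helper2.Bridge2.exists_natural_equiv ι q
  haveI : (Coh.structureModule Z).IsQuasicoherent := inferInstance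
  have h1 : Subsingleton (Coh.HH X ((Scheme.Modules.pushforward ι).obj (Coh.structureModule Z)) q) :=
    (eq _ inferInstance).toEquiv.subsingleton
  have e2 : (Scheme.Modules.pushforward ι).obj (Coh.structureModule Z) ≅
      (TT R (X := X)).obj (ModuleCat.of R (R ⧸ J)) :=
    ((Scheme.Modules.pushforward ι).mapIso (Groth.Agent.Lib.Helper16.RS.pullbackUnitIso ι)).symm ≪≫ e.symm
  exact Groth.Agent.Lib.Helper4.VanClass.subsingleton_HH_of_iso e2 q h1

end Closed

/-- **cohomology of the ideal of a thickening of the closed fibre of a flat scheme**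
(the maximal ideal need not be finitely generated) -/
theorem subsingleton_HH_kernel_unit' [Flat (X ↘ Spec (CommRingCat.of R))]
    {Z : Scheme.{u}} (ι : Z ⟶ X) [IsClosedImmersion ι] (J : Ideal R) (hJ : J.FG)
    (p : Z ⟶ Spec (CommRingCat.of (R ⧸ J)))
    (hpb : IsPullback ι p (X ↘ Spec (CommRingCat.of R))
      (Spec.map (CommRingCat.ofHom (Ideal.Quotient.mk J))))
    {X₀ : Scheme.{u}} (j : X₀ ⟶ X) [IsClosedImmersion j] (𝔪 : Ideal R) [𝔪.IsMaximal]
    (p₀ : X₀ ⟶ Spec (CommRingCat.of (R ⧸ 𝔪)))
    (hpb₀ : IsPullback j p₀ (X ↘ Spec (CommRingCat.of R))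
      (Spec.map (CommRingCat.ofHom (Ideal.Quotient.mk 𝔪))))
    (hk : ∀ a ∈ 𝔪, ∀ b ∈ J, a * b = 0) (q : ℕ)
    (h : Subsingleton (Coh.HH X₀ (Coh.structureModule X₀) q)) :
    Subsingleton (Coh.HH X
      (kernel ((Scheme.Modules.pullbackPushforwardAdjunction ι).unit.app (Coh.structureModule X))) q) := by
  obtain ⟨κ⟩ := nonempty_kernel_unit_iso' R ι J p hpb
  obtain ⟨r, ⟨σ⟩⟩ := exists_iso_sigma_of_killed R 𝔪 J hJ hk
  have h1 := subsingleton_HH_TT_quot' R j 𝔪 p₀ hpb₀ q h
  have h2 := subsingleton_HH_TT_sigma R (X := X) (ModuleCat.of R (R ⧸ 𝔪)) r q h1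
  exact Groth.Agent.Lib.Helper4.VanClass.subsingleton_HH_of_iso
    ((TT R (X := X)).mapIso σ.symm ≪≫ κ.symm) q h2

end Groth.Agent.Lib.Helper17.AdicFlat
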