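import Groth.Agent.Lib.Helper28.GenLocus
import Mathlib

/-!
# Invertible quasi-coherent modules on `Spec R` and invertible `R`-modules
-/
set_option autoImplicit false
set_option backward.isDefEq.respectTransparency.types false
universe u
open CategoryTheory CategoryTheory.Limits AlgebraicGeometry Opposite TopologicalSpace
noncomputable section
namespace Groth.Agent.Lib.Helper17.AffineInvLoc

open Groth.Agent.Lib.Helper28 Groth.Agent.Lib.Helper28.QCohLoc Groth.Agent.Lib.Helper28.GenLocus

variable {R : CommRingCat.{u}}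

theorem isLocalizedModule_res (L : (Spec R).Modules) [L.IsQuasicoherent] (f : R) :
    IsLocalizedModule (.powers f)
      ((modulesSpecToSheaf.obj L).obj.map (PrimeSpectrum.basicOpen f).leTop.op).hom := by
  have h1 : IsIso L.fromTildeΓ := (isQuasicoherent_iff_isIso_fromTildeΓ L).1 inferInstance
  exact (isIso_fromTildeΓ_iff_isLocalizing L).1 h1 f

/-- the equivalence defined by a generator, as an `R`-linear equivalence -/
def genEquiv (L : (Spec R).Modules) {U D : (Spec R).Opens} (g : Γ(L, U)) (hg : IsGen L U g) (hD : D ≤ U) :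
    Γ(Spec R, D) ≃ₗ[R] Γ(L, D) :=
  LinearEquiv.ofBijective
    { toFun := fun c => (c • res L hD g : Γ(L, D))
      map_add' := fun c c' => add_smul c c' (res L hD g)
      map_smul' := fun r c => by
        rw [RingHom.id_apply, Scheme.Modules.smul_Spec_def, Algebra.smul_def, mul_smul]
        rfl }
    (hg D hD)

/-- a quasi-coherent module on `Spec R` with a generator over `U ⊇ D(f)` has free rank one localization at `f` -/
theorem nonempty_away_equiv (L : (Spec R).Modules) [L.IsQuasicoherent] {U : (Spec R).Opens} (g : Γ(L, U))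
    (hg : IsGen L U g) (f : R) (hD : PrimeSpectrum.basicOpen f ≤ U) :
    Nonempty (LocalizedModule.Away f Γ(L, ⊤) ≃ₗ[Localization.Away f] Localization.Away f) := by
  let ρ0 := ((modulesSpecToSheaf.obj L).obj.map (PrimeSpectrum.basicOpen f).leTop.op).hom
  let ρ : Γ(L, ⊤) →ₗ[R] Γ(L, PrimeSpectrum.basicOpen f) := ρ0
  haveI : IsLocalizedModule (.powers f) ρ := isLocalizedModule_res L f
  let e1 : LocalizedModule.Away f Γ(L, ⊤) ≃ₗ[R] Γ(L, PrimeSpectrum.basicOpen f) :=
    IsLocalizedModule.iso (.powers f) ρ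
  let e2 : Γ(Spec R, PrimeSpectrum.basicOpen f) ≃ₗ[R] Γ(L, PrimeSpectrum.basicOpen f) := genEquiv L g hg hD
  let e3 : Localization.Away f ≃ₗ[R] Γ(Spec R, PrimeSpectrum.basicOpen f) :=
    (IsLocalization.algEquiv (.powers f) (Localization.Away f) Γ(Spec R, PrimeSpectrum.basicOpen f)).toLinearEquiv
  let e : LocalizedModule.Away f Γ(L, ⊤) ≃ₗ[R] Localization.Away f := e1 ≪≫ₗ e2.symm ≪≫ₗ e3.symm
  exact ⟨LinearEquiv.extendScalarsOfIsLocalization (.powers f) (Localization.Away f) e⟩

/-- an invertible quasi-coherent module on `Spec R` has Zariski-locally free rank one global sections -/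
theorem exists_span_free (L : (Spec R).Modules) (hL : PicF.IsInvertible L) [L.IsQuasicoherent] :
    ∃ s : Set R, Ideal.span s = ⊤ ∧ ∀ f ∈ s,
      Nonempty (LocalizedModule.Away f Γ(L, ⊤) ≃ₗ[Localization.Away f] Localization.Away f) := by
  refine ⟨{f | Nonempty (LocalizedModule.Away f Γ(L, ⊤) ≃ₗ[Localization.Away f] Localization.Away f)}, ?_,
    fun f hf => hf⟩
  by_contra hne
  obtain ⟨𝔪, h𝔪, hle⟩ := Ideal.exists_le_maximal _ hne
  let x : Spec R := ⟨𝔪, h𝔪.isPrime⟩
  obtain ⟨U, g, hxU, hg⟩ := exists_isGen L hL x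
  obtain ⟨_, ⟨f, rfl⟩, hxf, hfU⟩ :=
    PrimeSpectrum.isTopologicalBasis_basic_opens.exists_subset_of_mem_open hxU U.2
  have hfs : f ∈ {f | Nonempty (LocalizedModule.Away f Γ(L, ⊤) ≃ₗ[Localization.Away f] Localization.Away f)} :=
    nonempty_away_equiv L g hg f hfU
  exact hxf (hle (Ideal.subset_span hfs))

theorem projective_and_rank_of_invertible (R : Type u) [CommRing R] (Q : Type u) [AddCommGroup Q] [Module R Q]
    [Module.Invertible R Q] :
    Module.Projective R Q ∧ ∀ p : PrimeSpectrum R, Module.finrank (Localization.AtPrime p.asIdeal)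
      (LocalizedModule p.asIdeal.primeCompl Q) = 1 := by
  refine ⟨inferInstance, fun p => ?_⟩
  haveI : Module.Free (Localization.AtPrime p.asIdeal) (LocalizedModule p.asIdeal.primeCompl Q) := inferInstance
  exact Module.Invertible.finrank_eq_one _ _

end Groth.Agent.Lib.Helper17.AffineInvLoc
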