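import Groth.Agent.Lib.Helper17.ModPullback
import Groth.Agent.Lib.Helper17.FinTypeConv
import Groth.Agent.Lib.Helper28.FinType
import Groth.Agent.Lib.Helper28.QCohPush
import Mathlib
set_option backward.isDefEq.respectTransparency.types false
set_option autoImplicit false
universe u
open CategoryTheory CategoryTheory.Limits AlgebraicGeometry TopologicalSpace Opposite TensorProduct
noncomputable section
namespace Groth.Agent.Lib.Helper17.FinTypePushPull

variable {X Y : Scheme.{u}}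

/-- the pullback of a quasi-coherent module of finite type is of finite type -/
theorem isFiniteType_pullback (f : X ⟶ Y) (G : Y.Modules) [G.IsQuasicoherent]
    [SheafOfModules.IsFiniteType.{u} (R := Y.ringCatSheaf) G] :
    SheafOfModules.IsFiniteType.{u} (R := X.ringCatSheaf) ((Scheme.Modules.pullback f).obj G) := by
  let ι := {p : X.Opens × Y.Opens // IsAffineOpen p.1 ∧ IsAffineOpen p.2 ∧ p.1 ≤ f ⁻¹ᵁ p.2}
  refine FinTypeConv.isFiniteType_of_finite_sections _ (fun i : ι => i.1.1) ?_ (fun i => i.2.1) (fun i => ?_)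
  · refine IsOpenCover.mk (eq_top_iff.mpr fun x _ => ?_)
    obtain ⟨U, V, hU, hV, hxU, hUV⟩ := ModPullback.exists_affine_pair f x
    exact Opens.mem_iSup.mpr ⟨⟨(U, V), hU, hV, hUV⟩, hxU⟩
  · letI := (f.appLE i.1.2 i.1.1 i.2.2.2).hom.toAlgebra
    obtain ⟨e⟩ := ModPullback.nonempty_linearEquiv_pullback_sections f G i.2.1 i.2.2.1 i.2.2.2
    haveI : Module.Finite Γ(Y, i.1.2) Γ(G, i.1.2) :=
      Groth.Agent.Lib.Helper28.FinType.finite_of_isAffineOpen G i.2.2.1
    haveI : Module.Finite Γ(X, i.1.1) (Γ(X, i.1.1) ⊗[Γ(Y, i.1.2)] Γ(G, i.1.2)) := inferInstance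
    exact Module.Finite.equiv e.symm

/-- the direct image of a quasi-coherent module of finite type along a finite morphism is of finite type -/
theorem isFiniteType_pushforward (p : X ⟶ Y) [IsFinite p] (F : X.Modules) [F.IsQuasicoherent]
    [SheafOfModules.IsFiniteType.{u} (R := X.ringCatSheaf) F] :
    SheafOfModules.IsFiniteType.{u} (R := Y.ringCatSheaf) ((Scheme.Modules.pushforward p).obj F) := by
  haveI : ((Scheme.Modules.pushforward p).obj F).IsQuasicoherent :=
    Groth.Agent.Lib.Helper28.QCohLoc.isQuasicoherent_pushforward p F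
  refine FinTypeConv.isFiniteType_of_forall_finite_sections _ (fun U => ?_)
  have hU' : IsAffineOpen (p ⁻¹ᵁ U.1) := U.2.preimage p
  haveI h1 : Module.Finite Γ(X, p ⁻¹ᵁ U.1) Γ(F, p ⁻¹ᵁ U.1) :=
    Groth.Agent.Lib.Helper28.FinType.finite_of_isAffineOpen F hU'
  have h2 : (p.app U.1).hom.Finite := IsFinite.finite_app p U.1 U.2
  letI := (p.app U.1).hom.toAlgebra
  haveI : Module.Finite Γ(Y, U.1) Γ(X, p ⁻¹ᵁ U.1) := h2
  letI : Module Γ(Y, U.1) Γ(F, p ⁻¹ᵁ U.1) := Module.compHom _ (p.app U.1).hom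
  haveI : IsScalarTower Γ(Y, U.1) Γ(X, p ⁻¹ᵁ U.1) Γ(F, p ⁻¹ᵁ U.1) :=
    ⟨fun a b m => by
      show ((a • b) • m) = (p.app U.1).hom a • (b • m)
      rw [Algebra.smul_def, mul_smul]; rfl⟩
  haveI h3 : Module.Finite Γ(Y, U.1) Γ(F, p ⁻¹ᵁ U.1) := Module.Finite.trans Γ(X, p ⁻¹ᵁ U.1) _
  let e : Γ(F, p ⁻¹ᵁ U.1) ≃ₗ[Γ(Y, U.1)] Γ((Scheme.Modules.pushforward p).obj F, U.1) :=
    { toFun := fun x => x
      invFun := fun x => x
      map_add' := fun _ _ => rfl
      map_smul' := fun _ _ => rfl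
      left_inv := fun _ => rfl
      right_inv := fun _ => rfl }
  exact Module.Finite.equiv e

end Groth.Agent.Lib.Helper17.FinTypePushPull
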