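import Groth.Agent.Lib.Helper17.TowD
import Groth.Agent.Lib.Helper17.PullbackBC
import Mathlib
set_option backward.isDefEq.respectTransparency.types false
set_option autoImplicit false

/-!
# Inverse images commute with twists: `h^*(M ⊗ L^d) ≅ h^* M ⊗ (h^* L)^d`

for `M` quasi-coherent and `L` invertible.  The comparison map is the adjoint of
`M ⊗ L^d ⟶ (h_* h^* M) ⊗ L^d ≅ h_*(h^* M ⊗ (h^* L)^d)` (projection formula); it is an isomorphism because on affine
charts both sides are base changes of `Γ(M, W)`.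
-/

universe u
open CategoryTheory CategoryTheory.Limits AlgebraicGeometry Opposite TopologicalSpace TensorProduct
noncomputable section

namespace Groth.Agent.Lib.Helper17.PullTwist

open Groth.Agent.Lib.Helper28 Groth.Agent.Lib.Helper28.QCohLoc Groth.Agent.Lib.Helper28.TensorGen
  Groth.Agent.Lib.Helper28.GenLocus Groth.Agent.Lib.Helper28.PullbackInv
  Groth.Agent.Lib.Helper17.H0Neg Groth.Agent.Lib.Helper17.Tow Groth.Agent.Lib.Helper17.PullbackBC

section alg

/-- a linear map between two base changes, compatible with the structure maps up to a linear bijection of the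
sources, is bijective -/
theorem bijective_of_isBC_of_isBC {R S : Type u} [CommRing R] [CommRing S] (φ : R →+* S)
    {P₁ P₂ T₁ T₂ : Type u} [AddCommGroup P₁] [Module R P₁] [AddCommGroup P₂] [Module R P₂]
    [AddCommGroup T₁] [Module S T₁] [AddCommGroup T₂] [Module S T₂]
    (c₁ : P₁ → T₁) (c₂ : P₂ → T₂) (h₁ : IsBC φ c₁) (h₂ : IsBC φ c₂)
    (θ : P₂ → P₁) (hθ : Function.Bijective θ) (hθa : ∀ x y, θ (x + y) = θ x + θ y)
    (hθs : ∀ (r : R) (x : P₂), θ (r • x) = r • θ x)
    (u : T₁ → T₂) (hua : ∀ x y, u (x + y) = u x + u y) (hus : ∀ (s : S) (t : T₁), u (s • t) = s • u t)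
    (huc : ∀ p, u (c₁ (θ p)) = c₂ p) : Function.Bijective u := by
  letI := φ.toAlgebra
  obtain ⟨e₁, he₁⟩ := (isBC_iff φ c₁).mp h₁
  obtain ⟨e₂, he₂⟩ := (isBC_iff φ c₂).mp h₂
  let θl : P₂ ≃ₗ[R] P₁ := LinearEquiv.ofBijective
    { toFun := θ, map_add' := hθa, map_smul' := hθs } hθ
  let Θ : S ⊗[R] P₂ ≃ₗ[S] S ⊗[R] P₁ := TensorProduct.AlgebraTensorModule.congr (LinearEquiv.refl S S) θl
  have hu0 : u 0 = 0 := by
    have := hua 0 0
    rw [add_zero] at this
    exact left_eq_add.1 this
  have key : ∀ z : S ⊗[R] P₂, e₂ (u (e₁.symm (Θ z))) = z := by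
    intro z
    induction z using TensorProduct.induction_on with
    | zero => rw [map_zero, map_zero, hu0, map_zero]
    | add x y hx hy => rw [map_add, map_add, hua, map_add, hx, hy]
    | tmul s p =>
      have h1 : Θ (s ⊗ₜ[R] p) = s • e₁ (c₁ (θ p)) := by
        rw [he₁]
        show (s ⊗ₜ[R] θ p : S ⊗[R] P₁) = s • ((1 : S) ⊗ₜ[R] θ p)
        rw [TensorProduct.smul_tmul', smul_eq_mul, mul_one]
      rw [h1, map_smul, LinearEquiv.symm_apply_apply, hus, huc, map_smul, he₂, TensorProduct.smul_tmul',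
        smul_eq_mul, mul_one]
  have hu' : u = e₂.symm ∘ Θ.symm ∘ e₁ := by
    funext t
    have := key (Θ.symm (e₁ t))
    rw [LinearEquiv.apply_symm_apply, LinearEquiv.symm_apply_apply] at this
    show u t = e₂.symm (Θ.symm (e₁ t))
    rw [← this, LinearEquiv.symm_apply_apply]
  rw [hu']
  exact e₂.symm.bijective.comp (Θ.symm.bijective.comp e₁.bijective)

end alg

variable {X' X : Scheme.{u}} (h : X' ⟶ X) (M L : X.Modules) (d : ℕ)

/-- the projection formula for twists, with its formula on sections -/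
theorem exists_push_iso (hL : PicF.IsInvertible L) :
    ∃ ψ : (Scheme.Modules.pushforward h).obj
        (Pn ((Scheme.Modules.pullback h).obj M) ((Scheme.Modules.pullback h).obj L) d) ≅
        Pn ((Scheme.Modules.pushforward h).obj ((Scheme.Modules.pullback h).obj M)) L d,
      ∀ (W : X.Opens) (g : Γ(L, W)), IsGen L W g →
        ∀ x : Γ((Scheme.Modules.pushforward h).obj ((Scheme.Modules.pullback h).obj M), W),
        ψ.hom.app W (Θn ((Scheme.Modules.pullback h).obj M) ((Scheme.Modules.pullback h).obj L) d (h ⁻¹ᵁ W)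
          (pbs h L W g) x) =
          Θn ((Scheme.Modules.pushforward h).obj ((Scheme.Modules.pullback h).obj M)) L d W g x :=
  (isTwist_push h (isTwist_Pn ((Scheme.Modules.pullback h).obj M) ((Scheme.Modules.pullback h).obj L) d)).exists_iso
    (isTwist_Pn ((Scheme.Modules.pushforward h).obj ((Scheme.Modules.pullback h).obj M)) L d) hL

/-- the comparison morphism `h^*(M ⊗ L^d) ⟶ h^* M ⊗ (h^* L)^d` -/
def cmp (ψ : (Scheme.Modules.pushforward h).obj
      (Pn ((Scheme.Modules.pullback h).obj M) ((Scheme.Modules.pullback h).obj L) d) ≅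
      Pn ((Scheme.Modules.pushforward h).obj ((Scheme.Modules.pullback h).obj M)) L d) :
    (Scheme.Modules.pullback h).obj (Pn M L d) ⟶
      Pn ((Scheme.Modules.pullback h).obj M) ((Scheme.Modules.pullback h).obj L) d :=
  pbLift h (LimSh.tensorModMap ((Scheme.Modules.pullbackPushforwardAdjunction h).unit.app M)
    (CohB1.tensorPow L d) ≫ ψ.inv)

theorem cmp_pbs (ψ : (Scheme.Modules.pushforward h).obj
      (Pn ((Scheme.Modules.pullback h).obj M) ((Scheme.Modules.pullback h).obj L) d) ≅
      Pn ((Scheme.Modules.pushforward h).obj ((Scheme.Modules.pullback h).obj M)) L d)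
    (hψ : ∀ (W : X.Opens) (g : Γ(L, W)), IsGen L W g →
        ∀ x : Γ((Scheme.Modules.pushforward h).obj ((Scheme.Modules.pullback h).obj M), W),
        ψ.hom.app W (Θn ((Scheme.Modules.pullback h).obj M) ((Scheme.Modules.pullback h).obj L) d (h ⁻¹ᵁ W)
          (pbs h L W g) x) =
          Θn ((Scheme.Modules.pushforward h).obj ((Scheme.Modules.pullback h).obj M)) L d W g x)
    (W : X.Opens) (g : Γ(L, W)) (hg : IsGen L W g) (m : Γ(M, W)) :
    (cmp h M L d ψ).app (h ⁻¹ᵁ W) (pbs h (Pn M L d) W (Θn M L d W g m)) =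
      Θn ((Scheme.Modules.pullback h).obj M) ((Scheme.Modules.pullback h).obj L) d (h ⁻¹ᵁ W)
        (pbs h L W g) (pbs h M W m) := by
  unfold cmp
  rw [pbLift_pbs]
  have h1 : (LimSh.tensorModMap ((Scheme.Modules.pullbackPushforwardAdjunction h).unit.app M)
      (CohB1.tensorPow L d)).app W (Θn M L d W g m) =
      Θn ((Scheme.Modules.pushforward h).obj ((Scheme.Modules.pullback h).obj M)) L d W g (pbs h M W m) :=
    tensorModMap_tmulSec _ _ _ _
  have h2 : (LimSh.tensorModMap ((Scheme.Modules.pullbackPushforwardAdjunction h).unit.app M)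
      (CohB1.tensorPow L d) ≫ ψ.inv).app W (Θn M L d W g m) =
      ψ.inv.app W ((LimSh.tensorModMap ((Scheme.Modules.pullbackPushforwardAdjunction h).unit.app M)
      (CohB1.tensorPow L d)).app W (Θn M L d W g m)) := rfl
  rw [h2, h1, ← hψ W g hg (pbs h M W m)]
  have h3 := congrArg (fun θ : ((Scheme.Modules.pushforward h).obj
      (Pn ((Scheme.Modules.pullback h).obj M) ((Scheme.Modules.pullback h).obj L) d) ⟶
      (Scheme.Modules.pushforward h).obj
      (Pn ((Scheme.Modules.pullback h).obj M) ((Scheme.Modules.pullback h).obj L) d)) =>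
    θ.app W (Θn ((Scheme.Modules.pullback h).obj M) ((Scheme.Modules.pullback h).obj L) d (h ⁻¹ᵁ W)
      (pbs h L W g) (pbs h M W m))) ψ.hom_inv_id
  exact h3

/-- the comparison morphism is an isomorphism -/
theorem isIso_cmp [M.IsQuasicoherent] (hL : PicF.IsInvertible L)
    (ψ : (Scheme.Modules.pushforward h).obj
      (Pn ((Scheme.Modules.pullback h).obj M) ((Scheme.Modules.pullback h).obj L) d) ≅
      Pn ((Scheme.Modules.pushforward h).obj ((Scheme.Modules.pullback h).obj M)) L d)
    (hψ : ∀ (W : X.Opens) (g : Γ(L, W)), IsGen L W g →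
        ∀ x : Γ((Scheme.Modules.pushforward h).obj ((Scheme.Modules.pullback h).obj M), W),
        ψ.hom.app W (Θn ((Scheme.Modules.pullback h).obj M) ((Scheme.Modules.pullback h).obj L) d (h ⁻¹ᵁ W)
          (pbs h L W g) x) =
          Θn ((Scheme.Modules.pushforward h).obj ((Scheme.Modules.pullback h).obj M)) L d W g x) :
    IsIso (cmp h M L d ψ) := by
  have hL' : PicF.IsInvertible ((Scheme.Modules.pullback h).obj L) := isInvertible_pullback (f := h) hL
  haveI hq1 : (Pn M L d).IsQuasicoherent := (isTwist_Pn M L d).isQuasicoherent hL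
  haveI hq2 : ((Scheme.Modules.pullback h).obj (Pn M L d)).IsQuasicoherent := inferInstance
  haveI hq3 : ((Scheme.Modules.pullback h).obj M).IsQuasicoherent := inferInstance
  haveI hq4 : (Pn ((Scheme.Modules.pullback h).obj M) ((Scheme.Modules.pullback h).obj L) d).IsQuasicoherent :=
    (isTwist_Pn _ _ d).isQuasicoherent hL'
  let ι := {t : X.Opens × X'.Opens // IsAffineOpen t.1 ∧ IsAffineOpen t.2 ∧ t.2 ≤ h ⁻¹ᵁ t.1 ∧
    ∃ g : Γ(L, t.1), IsGen L t.1 g}
  refine isIso_of_affine_cover (cmp h M L d ψ) (fun i : ι => i.1.2) (fun i => i.2.2.1) ?cov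
    (fun i => isLocOn_of_isQuasicoherent _ i.2.2.1) (fun i => isLocOn_of_isQuasicoherent _ i.2.2.1) ?bij
  case cov =>
    intro x'
    obtain ⟨W, g, hxW, hW, hg⟩ := exists_chart hL (h x')
    obtain ⟨W', hW', hxW', hle⟩ := Opens.isBasis_iff_nbhd.mp X'.isBasis_affineOpens
      (show x' ∈ h ⁻¹ᵁ W from hxW)
    exact ⟨⟨(W, W'), hW, hW', hle, g, hg⟩, hxW'⟩
  case bij =>
    rintro ⟨⟨W, W'⟩, hW, hW', e, g, hg⟩
    show Function.Bijective ((cmp h M L d ψ).app W')
    have hg' : IsGen ((Scheme.Modules.pullback h).obj L) W'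
        (res ((Scheme.Modules.pullback h).obj L) e (pbs h L W g)) := (isGen_pbs (f := h) hg).res e
    have hT := isTwist_Pn M L d
    have hT' := isTwist_Pn ((Scheme.Modules.pullback h).obj M) ((Scheme.Modules.pullback h).obj L) d
    have hθ' := hT'.bij W' _ hg'
    let E' := Equiv.ofBijective _ hθ'
    have hE' : ∀ t, Θn ((Scheme.Modules.pullback h).obj M) ((Scheme.Modules.pullback h).obj L) d W'
        (res ((Scheme.Modules.pullback h).obj L) e (pbs h L W g)) (E'.symm t) = t :=
      fun t => E'.apply_symm_apply t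
    have hE'inj : Function.Injective
        (Θn ((Scheme.Modules.pullback h).obj M) ((Scheme.Modules.pullback h).obj L) d W'
        (res ((Scheme.Modules.pullback h).obj L) e (pbs h L W g))) := hθ'.1
    have hu : Function.Bijective (fun t : Γ((Scheme.Modules.pullback h).obj (Pn M L d), W') =>
        E'.symm ((cmp h M L d ψ).app W' t)) := by
      refine bijective_of_isBC_of_isBC (h.appLE W W' e).hom
        (P₁ := Γ(Pn M L d, W)) (P₂ := Γ(M, W))
        (T₁ := Γ((Scheme.Modules.pullback h).obj (Pn M L d), W'))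
        (T₂ := Γ((Scheme.Modules.pullback h).obj M, W'))
        (fun p => res ((Scheme.Modules.pullback h).obj (Pn M L d)) e (pbs h (Pn M L d) W p))
        (fun m => res ((Scheme.Modules.pullback h).obj M) e (pbs h M W m))
        (isBC_pullback h hW hW' e (Pn M L d)) (isBC_pullback h hW hW' e M)
        (Θn M L d W g) (hT.bij W g hg) (hT.add W g) (fun r x => hT.smul W g r x) _ ?_ ?_ ?_
      · intro x y
        apply hE'inj
        rw [hE', hT'.add, hE', hE']
        exact map_add _ _ _
      · intro s t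
        apply hE'inj
        rw [hE', hT'.smul, hE']
        exact Scheme.Modules.Hom.app_smul _ _ _
      · intro m
        apply hE'inj
        rw [hE', app_res, cmp_pbs h M L d ψ hψ W g hg m, hT'.res _ _ e]
    have hfun : (cmp h M L d ψ).app W' = (fun t => E' t) ∘
        (fun t : Γ((Scheme.Modules.pullback h).obj (Pn M L d), W') => E'.symm ((cmp h M L d ψ).app W' t)) := by
      funext t
      exact (E'.apply_symm_apply _).symm
    rw [hfun]
    exact E'.bijective.comp hu

/-- **inverse images commute with twists** -/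
theorem nonempty_pullback_Pn_iso [M.IsQuasicoherent] (hL : PicF.IsInvertible L) :
    Nonempty ((Scheme.Modules.pullback h).obj (Pn M L d) ≅
      Pn ((Scheme.Modules.pullback h).obj M) ((Scheme.Modules.pullback h).obj L) d) := by
  obtain ⟨ψ, hψ⟩ := exists_push_iso h M L d hL
  haveI := isIso_cmp h M L d hL ψ hψ
  exact ⟨asIso (cmp h M L d ψ)⟩

end Groth.Agent.Lib.Helper17.PullTwist
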