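import Groth.Agent.Lib.Helper17.GGDescent
import Mathlib

/-!
# Global generation and jointly surjective families of flat base changes (helper17)
-/

set_option backward.isDefEq.respectTransparency.types false
set_option autoImplicit false
universe u
open AlgebraicGeometry CategoryTheory Opposite TopologicalSpace TensorProduct CategoryTheory.Limits

namespace Groth.Agent.Lib.Helper17.GGDescentFam
open Scheme.Modules
open Groth.Agent.Lib.Helper17.PullbackBC Groth.Agent.Lib.Helper17.FlatMV Groth.Agent.Lib.Helper17.FlatBC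
open Groth.Agent.Lib.Helper28.PullbackInv Groth.Agent.Lib.Helper28.QCohLoc
open Groth.Agent.Lib.Helper17.GGDescent

noncomputable section

section PureAlg
variable {A : Type u} [CommRing A]

/-- if `A'` is flat over `A` and `1 ⊗ c = 0` in `A' ⊗ C`, then the annihilator of `c` generates the unit ideal in `A'` -/
theorem one_mem_torsionOf_smul_top (A' : Type u) [CommRing A'] [Algebra A A'] [Module.Flat A A']
    {C : Type u} [AddCommGroup C] [Module A C] (c : C) (hc : (1 : A') ⊗ₜ[A] c = 0) :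
    (1 : A') ∈ (Ideal.torsionOf A C c • (⊤ : Submodule A A')) := by
  set I := Ideal.torsionOf A C c with hI
  let j : (A ⧸ I) →ₗ[A] C := Submodule.liftQ I (LinearMap.toSpanSingleton A C c) (le_of_eq rfl)
  have hj : Function.Injective j := by
    rw [← LinearMap.ker_eq_bot]
    exact Submodule.ker_liftQ_eq_bot _ _ _ (le_of_eq rfl)
  have hinj := Module.Flat.lTensor_preserves_injective_linearMap (M := A') j hj
  have h1 : (j.lTensor A') ((1 : A') ⊗ₜ[A] (Ideal.Quotient.mk I 1)) = 0 := by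
    rw [LinearMap.lTensor_tmul]
    have : j (Ideal.Quotient.mk I 1) = c := by
      show (LinearMap.toSpanSingleton A C c) 1 = c
      simp
    rw [this, hc]
  have h2 : (1 : A') ⊗ₜ[A] (Ideal.Quotient.mk I (1 : A)) = 0 := hinj (by rw [h1, map_zero])
  have h3 := congrArg (TensorProduct.tensorQuotEquivQuotSMul A' I) h2
  rw [TensorProduct.tensorQuotEquivQuotSMul_tmul_mk, map_zero, one_smul] at h3
  exact (Submodule.Quotient.mk_eq_zero _).1 h3

theorem surjective_of_forall_lTensor {ι : Type*} (A' : ι → Type u) [∀ i, CommRing (A' i)]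
    [∀ i, Algebra A (A' i)] [∀ i, Module.Flat A (A' i)]
    (hcov : ∀ p : Ideal A, p.IsMaximal → ∃ (i : ι) (P : Ideal (A' i)), P.IsPrime ∧
      p ≤ P.comap (algebraMap A (A' i)))
    {N N₁ : Type u} [AddCommGroup N] [Module A N] [AddCommGroup N₁] [Module A N₁]
    (ρ : N →ₗ[A] N₁) (h : ∀ i, Function.Surjective (ρ.lTensor (A' i))) : Function.Surjective ρ := by
  by_contra hns
  rw [← LinearMap.range_eq_top] at hns
  obtain ⟨x, -, hx⟩ := SetLike.exists_of_lt (lt_top_iff_ne_top.2 hns)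
  set c : N₁ ⧸ LinearMap.range ρ := (LinearMap.range ρ).mkQ x with hc
  have hc0 : c ≠ 0 := by
    rw [hc, Submodule.mkQ_apply, Ne, Submodule.Quotient.mk_eq_zero]
    exact hx
  have hI : Ideal.torsionOf A _ c ≠ ⊤ := fun h => hc0 ((Ideal.torsionOf_eq_top_iff (R := A) c).1 h)
  obtain ⟨m, hm, hIm⟩ := Ideal.exists_le_maximal _ hI
  obtain ⟨i, P, hP, hmP⟩ := hcov m hm
  have h1c : (1 : A' i) ⊗ₜ[A] c = 0 := by
    obtain ⟨z, hz⟩ := h i ((1 : A' i) ⊗ₜ[A] x)
    have : (1 : A' i) ⊗ₜ[A] c = ((LinearMap.range ρ).mkQ.lTensor (A' i)) ((ρ.lTensor (A' i)) z) := by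
      rw [hz, LinearMap.lTensor_tmul]
    rw [this, ← LinearMap.comp_apply, ← LinearMap.lTensor_comp, LinearMap.range_mkQ_comp,
      LinearMap.lTensor_zero, LinearMap.zero_apply]
  have h1 := one_mem_torsionOf_smul_top (A' i) c h1c
  have hle : (Ideal.torsionOf A _ c • (⊤ : Submodule A (A' i))) ≤ P.restrictScalars A := by
    rw [Submodule.smul_le]
    intro r hr n _
    have : algebraMap A (A' i) r ∈ P := hmP (hIm hr)
    rw [Algebra.smul_def]
    exact P.mul_mem_right _ this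
  exact hP.ne_top ((Ideal.eq_top_iff_one P).2 (hle h1))

end PureAlg

section Alg
variable {A : Type u} [CommRing A] {ι : Type*} {A' : ι → Type u} [∀ i, CommRing (A' i)] (φ : ∀ i, A →+* A' i)
  {N N₁ : Type u} {T T₁ : ι → Type u} [AddCommGroup N] [Module A N] [∀ i, AddCommGroup (T i)]
  [∀ i, Module (A' i) (T i)]
  [AddCommGroup N₁] [Module A N₁] [∀ i, AddCommGroup (T₁ i)] [∀ i, Module (A' i) (T₁ i)]

theorem surjective_descent_family (hflat : ∀ i, (φ i).Flat)
    (hcov : ∀ p : Ideal A, p.IsMaximal → ∃ (i : ι) (P : Ideal (A' i)), P.IsPrime ∧ p ≤ P.comap (φ i))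
    (c : ∀ i, N →+ T i) (c₁ : ∀ i, N₁ →+ T₁ i) (h₀ : ∀ i, LinBij (φ i) (c i)) (h₁ : ∀ i, LinBij (φ i) (c₁ i))
    (ρ : N →ₗ[A] N₁) (r : ∀ i, T i →+ T₁ i) (hr : ∀ i (a' : A' i) (t : T i), r i (a' • t) = a' • r i t)
    (h : ∀ i n, r i (c i n) = c₁ i (ρ n))
    (hsurj : ∀ i, Function.Surjective (r i)) : Function.Surjective ρ := by
  letI : ∀ i, Algebra A (A' i) := fun i => (φ i).toAlgebra
  haveI : ∀ i, Module.Flat A (A' i) := fun i => hflat i
  refine surjective_of_forall_lTensor A' hcov ρ fun i => ?_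
  obtain ⟨hc, hb⟩ := h₀ i
  obtain ⟨hc₁, hb₁⟩ := h₁ i
  intro z₁
  obtain ⟨t, ht⟩ := hsurj i (lin (c₁ i) hc₁ z₁)
  obtain ⟨z, rfl⟩ := hb.2 t
  refine ⟨z, hb₁.1 ?_⟩
  rw [lin_lTensor (c i) hc (c₁ i) hc₁ ρ (r i) (hr i) (h i) z, ht]

end Alg

section Square
variable {X S : Scheme.{u}} (f : X ⟶ S) {ι : Type*} {X' S' : ι → Scheme.{u}} (g : ∀ i, S' i ⟶ S)
  (g' : ∀ i, X' i ⟶ X) (f' : ∀ i, X' i ⟶ S' i) (h : ∀ i, IsPullback (g' i) (f' i) f (g i))
  {W : S.Opens} {W' : ∀ i, (S' i).Opens} (e : ∀ i, W' i ≤ (g i) ⁻¹ᵁ W) {M N : X.Modules} (q : M ⟶ N)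

include h in
theorem surjective_app_of_pullback_family [M.IsQuasicoherent] [N.IsQuasicoherent]
    (hW : IsAffineOpen W) (hW' : ∀ i, IsAffineOpen (W' i))
    (hflat : ∀ i, ((g i).appLE W (W' i) (e i)).hom.Flat)
    (hcov : ∀ p : Ideal Γ(S, W), p.IsMaximal → ∃ (i : ι) (P : Ideal Γ(S' i, W' i)), P.IsPrime ∧
      p ≤ P.comap ((g i).appLE W (W' i) (e i)).hom)
    (U : X.Opens) (hUaff : IsAffineOpen U) (hU : U ≤ f ⁻¹ᵁ W)
    (hq : ∀ i, Function.Surjective (((Scheme.Modules.pullback (g' i)).map q).app (pr (g' i) (f' i) (W' i) U))) :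
    Function.Surjective (q.app U) := by
  have hb := fun i => linBij_of_isAffineOpen f (g i) (g' i) (f' i) (h i) (e i) M hW (hW' i) hUaff hU
  have hb₁ := fun i => linBij_of_isAffineOpen f (g i) (g' i) (f' i) (h i) (e i) N hW (hW' i) hUaff hU
  exact surjective_descent_family (fun i => ((g i).appLE W (W' i) (e i)).hom) hflat hcov
    (fun i => cU f (g' i) (f' i) (W' := W' i) M U hU) (fun i => cU f (g' i) (f' i) (W' := W' i) N U hU) hb hb₁
    (appL f q U hU)
    (fun i => appR (f' i) ((Scheme.Modules.pullback (g' i)).map q) (pr (g' i) (f' i) (W' i) U)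
      (pr_le_right (g' i) (f' i) U))
    (fun i a' t => appR_smul (f' i) _ _ _ a' t) (fun i n => cU_map f (g' i) (f' i) q U hU n) hq

end Square

/-- joint surjectivity on points gives joint surjectivity on (maximal) primes of global functions -/
theorem exists_prime_of_jointly_surjective {S : Scheme.{u}} [IsAffine S] {ι : Type*} {S' : ι → Scheme.{u}}
    (g : ∀ i, S' i ⟶ S) (hcov : ∀ s : S, ∃ (i : ι) (s' : S' i), g i s' = s)
    (p : Ideal Γ(S, ⊤)) (hp : p.IsMaximal) :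
    ∃ (i : ι) (P : Ideal Γ(S' i, ⊤)), P.IsPrime ∧ p ≤ P.comap (g i).appTop.hom := by
  let pp : PrimeSpectrum Γ(S, ⊤) := ⟨p, hp.isPrime⟩
  obtain ⟨i, s', hs'⟩ := hcov (S.isoSpec.inv pp)
  let P : PrimeSpectrum Γ(S' i, ⊤) := (S' i).toSpecΓ s'
  refine ⟨i, P.asIdeal, P.isPrime, ?_⟩
  have h1 : (Spec.map (g i).appTop) ((S' i).toSpecΓ s') = S.toSpecΓ (g i s') := by
    rw [← Scheme.Hom.comp_apply, ← Scheme.Hom.comp_apply, Scheme.toSpecΓ_naturality]
  have h2 : S.toSpecΓ (g i s') = pp := by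
    rw [hs']
    show S.isoSpec.hom (S.isoSpec.inv pp) = pp
    rw [← Scheme.Hom.comp_apply, Iso.inv_hom_id]
    rfl
  have h3 : (Spec.map (g i).appTop) ((S' i).toSpecΓ s') = pp := h1.trans h2
  have h4 : (P.asIdeal.comap (g i).appTop.hom) = p := congrArg PrimeSpectrum.asIdeal h3
  exact le_of_eq h4.symm

section Main
variable {X S : Scheme.{u}} (f : X ⟶ S) {ι : Type*} {X' S' : ι → Scheme.{u}} (g : ∀ i, S' i ⟶ S)
  (g' : ∀ i, X' i ⟶ X) (f' : ∀ i, X' i ⟶ S' i) (h : ∀ i, IsPullback (g' i) (f' i) f (g i))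

include h in
theorem isGloballyGenerated_of_pullback_family [IsAffine S] [∀ i, IsAffine (S' i)] [∀ i, Flat (g i)]
    (hcov : ∀ s : S, ∃ (i : ι) (s' : S' i), g i s' = s)
    [QuasiCompact f] [QuasiSeparated f] (F : X.Modules) [F.IsQuasicoherent]
    (hF' : ∀ i, Curv2.IsGloballyGenerated ((Scheme.Modules.pullback (g' i)).obj F)) :
    Curv2.IsGloballyGenerated F := by
  have e : ∀ i, (⊤ : (S' i).Opens) ≤ (g i) ⁻¹ᵁ (⊤ : S.Opens) := fun i => le_rfl
  have hW : IsAffineOpen (⊤ : S.Opens) := isAffineOpen_top S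
  have hW' : ∀ i, IsAffineOpen (⊤ : (S' i).Opens) := fun i => isAffineOpen_top (S' i)
  have hfl0 : ∀ i, (g i).appTop.hom.Flat := fun i =>
    (HasRingHomProperty.iff_of_isAffine (P := @Flat) (f := g i)).1 inferInstance
  have happ : ∀ i, (g i).appLE ⊤ ⊤ (e i) = (g i).appTop := by
    intro i
    simp [Scheme.Hom.appLE, Scheme.Hom.appTop]
  have hfl : ∀ i, ((g i).appLE ⊤ ⊤ (e i)).hom.Flat := by
    intro i; rw [happ]; exact hfl0 i
  have hcov' : ∀ p : Ideal Γ(S, ⊤), p.IsMaximal → ∃ (i : ι) (P : Ideal Γ(S' i, ⊤)), P.IsPrime ∧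
      p ≤ P.comap ((g i).appLE ⊤ ⊤ (e i)).hom := by
    intro p hp
    obtain ⟨i, P, hP, hle⟩ := exists_prime_of_jointly_surjective g hcov p hp
    refine ⟨i, P, hP, ?_⟩
    rw [happ]; exact hle
  haveI : CompactSpace X := QuasiCompact.compactSpace_of_compactSpace f
  haveI : ∀ i, IsAffineHom (g' i) := fun i =>
    MorphismProperty.of_isPullback (P := @IsAffineHom) (h i).flip inferInstance
  let M : X.Modules := SheafOfModules.free (F.val.obj (op ⊤))
  let q : M ⟶ F := fromFree F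
  have hqtop : Function.Surjective (q.app ⊤) := by
    intro m
    refine ⟨(SheafOfModules.freeSection (R := X.ringCatSheaf) m).1 (op ⊤), ?_⟩
    exact (fromFree_app F ⊤ m).trans (res_self F m)
  have hU : (⊤ : X.Opens) ≤ f ⁻¹ᵁ (⊤ : S.Opens) := le_rfl
  have hq'epi : ∀ i, Epi ((Scheme.Modules.pullback (g' i)).map q) := by
    intro i
    have hq'pr := surjective_app_pullback f (g i) (g' i) (f' i) (h i) (e i) q hW (hW' i) (hfl i) ⊤
      isCompact_univ hU hqtop
    have hpr : pr (g' i) (f' i) (⊤ : (S' i).Opens) (⊤ : X.Opens) = ⊤ := by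
      ext x; simp [pr]
    have hq'top : Function.Surjective (((Scheme.Modules.pullback (g' i)).map q).app ⊤) := by
      intro t
      obtain ⟨y, hy⟩ := hq'pr (res _ (le_of_eq hpr) t)
      refine ⟨res _ (le_of_eq hpr.symm) y, ?_⟩
      rw [app_res, hy, res_res, res_self]
    obtain ⟨κ, p, hp⟩ := hF' i
    obtain ⟨r, hr⟩ := exists_lift_free ((Scheme.Modules.pullback (g' i)).map q) hq'top p
    exact @epi_of_epi_fac _ _ _ _ _ r ((Scheme.Modules.pullback (g' i)).map q) p hp hr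
  refine ⟨_, q, ?_⟩
  apply epi_of_locally_in_range (G := M) (F := F)
  intro U y x hx
  obtain ⟨_, ⟨V, (hV : IsAffineOpen V), rfl⟩, hxV, hVU⟩ :=
    X.isBasis_affineOpens.exists_subset_of_mem_open hx U.2
  have hVU' : V ≤ U := hVU
  refine ⟨V, hVU', hxV, ?_⟩
  have hs := surjective_app_of_pullback_family f g g' f' h e q hW hW' hfl hcov' V hV le_top (fun i => ?_)
  · exact hs _
  · have hprV : pr (g' i) (f' i) (⊤ : (S' i).Opens) V = (g' i) ⁻¹ᵁ V := by
      ext x; simp [pr]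
    have hV' : IsAffineOpen (pr (g' i) (f' i) (⊤ : (S' i).Opens) V) := by
      rw [hprV]; exact hV.preimage (g' i)
    haveI := hq'epi i
    exact Groth.Agent.S8306.surjective_app_of_epi ((Scheme.Modules.pullback (g' i)).map q) hV'

end Main

end

end Groth.Agent.Lib.Helper17.GGDescentFam
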