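import Groth.Agent.Lib.Helper17.AmpleDescent
import Groth.Agent.Lib.Helper17.GGDescentFam
import Groth.Agent.Lib.Helper28.AmpleBaseChange
import Groth.Agent.S0079
import Groth.Agent.S0081
import Mathlib
set_option backward.isDefEq.respectTransparency.types false
set_option autoImplicit false

/-!
# Descent of (relative) ampleness along quasi-compact flat surjective base changes (helper17)
-/

universe u
open CategoryTheory CategoryTheory.Limits AlgebraicGeometry Opposite TopologicalSpace
noncomputable section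

namespace Groth.Agent.Lib.Helper17.AmpleDescentFam

open Groth.Agent.Lib.Helper28 Groth.Agent.Lib.Helper28.QCohLoc Groth.Agent.Lib.Helper28.GenLocus
  Groth.Agent.Lib.Helper28.TensorGen Groth.Agent.Lib.Helper17.TwHom Groth.Agent.Lib.Helper17.H0Neg
  Groth.Agent.Lib.Helper17.AmpleDescent Groth.Agent.Lib.Helper28.AmpleLocal

/-- **descent of ampleness along a finite jointly surjective family of flat morphisms of affine base schemes** -/
theorem isAmple_of_isAmple_pullback_family {X Y : Scheme.{u}} [IsAffine Y] (f : X ⟶ Y) [QuasiCompact f]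
    [IsSeparated f] {ι : Type*} [Finite ι] {Y' : ι → Scheme.{u}} [∀ i, IsAffine (Y' i)]
    (g : ∀ i, Y' i ⟶ Y) [∀ i, Flat (g i)] (hcov : ∀ y : Y, ∃ (i : ι) (y' : Y' i), g i y' = y)
    (L : X.Modules) (hL : PicF.IsInvertible L)
    (h : ∀ i, CohB1.IsAmple ((Scheme.Modules.pullback (pullback.fst f (g i))).obj L)) :
    CohB1.IsAmple L := by
  have hpb : ∀ i, IsPullback (pullback.fst f (g i)) (pullback.snd f (g i)) f (g i) :=
    fun i => .of_hasPullback f (g i)
  haveI : CompactSpace X := QuasiCompact.compactSpace_of_compactSpace f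
  haveI : X.IsSeparated := by
    haveI : IsSeparated (f ≫ terminal.from Y) := inferInstance
    constructor
    rw [← terminal.comp_from f]
    infer_instance
  haveI : QuasiSeparatedSpace X := inferInstance
  refine Groth.Agent.Lib.Helper17.GGAmple.isAmple_of_gg hL fun J j hJq hJf => ?_
  haveI := hJq
  haveI := hJf
  have hJ' : ∀ i, Coh.IsCoh ((Scheme.Modules.pullback (pullback.fst f (g i))).obj J) := fun i =>
    ⟨inferInstance, Groth.Agent.Lib.Helper17.FinTypePushPull.isFiniteType_pullback (pullback.fst f (g i)) J⟩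
  have hN : ∀ i, ∃ N : ℕ, ∀ n, N ≤ n → Curv2.IsGloballyGenerated
      (Pn ((Scheme.Modules.pullback (pullback.fst f (g i))).obj J)
        ((Scheme.Modules.pullback (pullback.fst f (g i))).obj L) n) := by
    intro i
    haveI : CompactSpace ↥(pullback f (g i)) := (h i).2.1
    haveI : (pullback f (g i)).IsSeparated := isSeparated_of_isAmple (h i)
    exact exists_forall_isGloballyGenerated (h i) _ (hJ' i)
  choose N hN using hN
  obtain ⟨N₀, hN₀⟩ := Finite.exists_le N
  refine ⟨max N₀ 1, by omega, ?_⟩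
  haveI : (Pn J L (max N₀ 1)).IsQuasicoherent := (isTwist_Pn J L (max N₀ 1)).isQuasicoherent hL
  refine Groth.Agent.Lib.Helper17.GGDescentFam.isGloballyGenerated_of_pullback_family f g
    (fun i => pullback.fst f (g i)) (fun i => pullback.snd f (g i)) hpb hcov (Pn J L (max N₀ 1)) (fun i => ?_)
  have hgg' := hN i (max N₀ 1) ((hN₀ i).trans (le_max_left _ _))
  obtain ⟨e⟩ := Groth.Agent.Lib.Helper17.PullTwist.nonempty_pullback_Pn_iso (pullback.fst f (g i))
    (M := J) (L := L) (d := max N₀ 1) hL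
  exact isGloballyGenerated_of_iso e.symm hgg'

end Groth.Agent.Lib.Helper17.AmpleDescentFam

namespace Groth.Agent.Lib.Helper17.AmpleDescentFam

open Groth.Agent.Lib.Helper28 Groth.Agent.Lib.Helper28.QCohLoc Groth.Agent.Lib.Helper28.GenLocus
  Groth.Agent.Lib.Helper28.TensorGen Groth.Agent.Lib.Helper17.TwHom Groth.Agent.Lib.Helper17.H0Neg
  Groth.Agent.Lib.Helper17.AmpleDescent Groth.Agent.Lib.Helper28.AmpleLocal

/-- the second projection of a base change is separated as soon as a module on the base change is relatively ample -/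
theorem isSeparated_of_isRelAmple {X Y : Scheme.{u}} (f : X ⟶ Y) (L : X.Modules)
    (h : RelAmple.IsRelAmple f L) : IsSeparated f := by
  rw [HasAffineProperty.eq_targetAffineLocally (P := @IsSeparated)]
  intro U
  exact isSeparated_of_isAmple (h.2 U)

/-- **relative ampleness descends along quasi-compact flat surjective base changes** -/
theorem isRelAmple_of_isRelAmple_baseChange {X S S' : Scheme.{u}} (f : X ⟶ S) (L : X.Modules)
    (hL : PicF.IsInvertible L) (g : S' ⟶ S) [QuasiCompact g] [Flat g] [Surjective g]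
    (h : RelAmple.IsRelAmple (pullback.snd f g) ((Scheme.Modules.pullback (pullback.fst f g)).obj L)) :
    RelAmple.IsRelAmple f L := by
  have hQ : (@Surjective ⊓ @Flat ⊓ @QuasiCompact : MorphismProperty Scheme.{u}) g :=
    ⟨⟨‹Surjective g›, ‹Flat g›⟩, ‹QuasiCompact g›⟩
  haveI : QuasiCompact (pullback.snd f g) := h.1
  haveI : IsSeparated (pullback.snd f g) := isSeparated_of_isRelAmple _ _ h
  haveI : QuasiCompact f := by
    haveI := Groth.Agent.S0079.result.{u}
    exact MorphismProperty.of_pullback_snd_of_descendsAlong (P := @QuasiCompact)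
      (Q := (@Surjective ⊓ @Flat ⊓ @QuasiCompact : MorphismProperty Scheme.{u})) (f := f) (g := g)
      hQ ‹QuasiCompact (pullback.snd f g)›
  haveI : IsSeparated f := by
    haveI := Groth.Agent.S0081.result.{u}
    exact MorphismProperty.of_pullback_snd_of_descendsAlong (P := @IsSeparated)
      (Q := (@Surjective ⊓ @Flat ⊓ @QuasiCompact : MorphismProperty Scheme.{u})) (f := f) (g := g)
      hQ ‹IsSeparated (pullback.snd f g)›
  refine ⟨inferInstance, fun V => ?_⟩
  obtain ⟨V, hV⟩ := V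
  have hcpt : IsCompact ((g ⁻¹ᵁ V : S'.Opens) : Set S') :=
    QuasiCompact.isCompact_preimage (f := g) _ V.isOpen hV.isCompact
  obtain ⟨s, hs, hsV⟩ := isCompact_and_isOpen_iff_finite_and_eq_biUnion_affineOpens.1 ⟨hcpt, (g ⁻¹ᵁ V).isOpen⟩
  haveI : Finite s := hs.to_subtype
  have hle : ∀ i : s, (i.1 : S'.Opens) ≤ g ⁻¹ᵁ V := by
    intro i x hx
    have : x ∈ ((g ⁻¹ᵁ V : S'.Opens) : Set S') := by
      rw [hsV]
      exact Set.mem_biUnion i.2 hx
    exact this
  haveI : IsAffine (↑V : Scheme.{u}) := hV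
  haveI : ∀ i : s, IsAffine (↑(i.1 : S'.Opens) : Scheme.{u}) := fun i => i.1.2
  have hcov : ∀ y : (↑V : Scheme.{u}), ∃ (i : s) (y' : (↑(i.1 : S'.Opens) : Scheme.{u})),
      (g.resLE V (i.1 : S'.Opens) (hle i)) y' = y := by
    intro y
    obtain ⟨s', hs'⟩ := ‹Surjective g›.surj y.1
    have hs'V : s' ∈ ((g ⁻¹ᵁ V : S'.Opens) : Set S') := by
      show g s' ∈ V
      rw [hs']; exact y.2
    rw [hsV] at hs'V
    obtain ⟨i, hi, hs'i⟩ := Set.mem_iUnion₂.1 hs'V
    refine ⟨⟨i, hi⟩, ⟨s', hs'i⟩, ?_⟩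
    apply V.ι.isOpenEmbedding.injective
    rw [← Scheme.Hom.comp_apply, Scheme.Hom.resLE_comp_ι, Scheme.Hom.comp_apply]
    exact hs'
  refine isAmple_of_isAmple_pullback_family (f ∣_ V) (fun i : s => g.resLE V (i.1 : S'.Opens) (hle i)) hcov
    (L.restrict (f ⁻¹ᵁ V).ι) (AmpleIso.isInvertible_restrict _ _ hL) (fun i => ?_)
  obtain ⟨⟨V', hV'⟩, hi⟩ := i
  have hle' : V' ≤ g ⁻¹ᵁ V := hle ⟨⟨V', hV'⟩, hi⟩
  show CohB1.IsAmple ((Scheme.Modules.pullback (pullback.fst (f ∣_ V) (g.resLE V V' hle'))).obj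
    (L.restrict (f ⁻¹ᵁ V).ι))
  have hA := h.2 ⟨V', hV'⟩
  have e₁ : (f ∣_ V) ≫ V.ι = (f ⁻¹ᵁ V).ι ≫ f := morphismRestrict_ι f V
  have e₂ : g.resLE V V' hle' ≫ V.ι = V'.ι ≫ g := Scheme.Hom.resLE_comp_ι g hle'
  have hm : pullback.map (f ∣_ V) (g.resLE V V' hle') f g (f ⁻¹ᵁ V).ι V'.ι V.ι e₁ e₂ ≫ pullback.fst f g =
      pullback.fst (f ∣_ V) (g.resLE V V' hle') ≫ (f ⁻¹ᵁ V).ι := by
    exact pullback.lift_fst _ _ _
  have h2 : CohB1.IsAmple (((Scheme.Modules.pullback (pullback.fst f g)).obj L).restrict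
      (pullback.map (f ∣_ V) (g.resLE V V' hle') f g (f ⁻¹ᵁ V).ι V'.ι V.ι e₁ e₂)) := by
    refine isAmple_restrict_of_range_eq _ _ ?_ _ hA
    rw [Scheme.Opens.range_ι, Scheme.Pullback.range_map, Scheme.Opens.range_ι, Scheme.Opens.range_ι]
    ext z
    constructor
    · intro hz
      exact hz.2
    · intro hz
      refine ⟨?_, hz⟩
      show f (pullback.fst f g z) ∈ V
      have : f (pullback.fst f g z) = g (pullback.snd f g z) := by
        rw [← Scheme.Hom.comp_apply, ← Scheme.Hom.comp_apply, pullback.condition]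
      rw [this]
      exact hle' hz
  exact AmpleIso.isAmple_of_iso ((restrictSquareIso _ _ _ _ hm).app L) h2

end Groth.Agent.Lib.Helper17.AmpleDescentFam
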