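import Groth.Agent.Lib.Helper16.Sky4
import Groth.Agent.Lib.Helper28.TwistGG
import Groth.Agent.Lib.Helper28.SecPow
import Mathlib

/-!
# A globally generated module is generated by its global sections at every point

The converse of helper28's `isGloballyGenerated_of_ggAt`, through helper16's stalk functor (a left adjoint, so it
preserves coproducts and epimorphisms).
-/

set_option autoImplicit false
set_option backward.isDefEq.respectTransparency.types false
universe u
open CategoryTheory CategoryTheory.Limits AlgebraicGeometry Opposite TopologicalSpace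
noncomputable section
namespace Groth.Agent.Lib.Helper17.GGStalk

open Groth.Agent.Lib.Helper16.Stk Groth.Agent.Lib.Helper28 Groth.Agent.Lib.Helper28.QCohLoc
  Groth.Agent.Lib.Helper28.GenLocus Groth.Agent.Lib.Helper28.TwistAmple

variable {X : Scheme.{u}}

/-- the germ at `x` of a section, as an element of the stalk module -/
def germAt (N : X.Modules) (x : X) (U : X.Opens) (hx : x ∈ U) (m : Γ(N, U)) : ((stk x).obj N : Type u) :=
  (N.presheaf.germ U x hx).hom m

theorem germAt_res (N : X.Modules) (x : X) {U V : X.Opens} (h : V ≤ U) (hx : x ∈ V) (m : Γ(N, U)) :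
    germAt N x V hx (res N h m) = germAt N x U (h hx) m :=
  TopCat.Presheaf.germ_res_apply N.presheaf (homOfLE h) x hx m

theorem germAt_smul (N : X.Modules) (x : X) (U : X.Opens) (hx : x ∈ U) (c : Γ(X, U)) (m : Γ(N, U)) :
    germAt N x U hx (c • m) = ((X.presheaf.germ U x hx).hom c • germAt N x U hx m : ((stk x).obj N : Type u)) :=
  PresheafOfModules.germ_smul N.val x U hx c m

theorem germAt_add (N : X.Modules) (x : X) (U : X.Opens) (hx : x ∈ U) (m m' : Γ(N, U)) :
    germAt N x U hx (m + m') = germAt N x U hx m + germAt N x U hx m' :=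
  map_add (N.presheaf.germ U x hx).hom m m'

theorem stk_map_germAt {M N : X.Modules} (φ : M ⟶ N) (x : X) (U : X.Opens) (hx : x ∈ U) (m : Γ(M, U)) :
    ((stk x).map φ).hom (germAt M x U hx m) = germAt N x U hx (φ.app U m) :=
  DerSch.stalkFunctor_map_germ x φ U hx m

theorem exists_germAt (N : X.Modules) (x : X) (a : ((stk x).obj N : Type u)) :
    ∃ (U : X.Opens) (hx : x ∈ U) (m : Γ(N, U)), germAt N x U hx m = a :=
  TopCat.Presheaf.exists_germ_eq N.presheaf a

theorem germAt_eq (N : X.Modules) (x : X) {U V : X.Opens} (hxU : x ∈ U) (hxV : x ∈ V) (m : Γ(N, U)) (m' : Γ(N, V))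
    (h : germAt N x U hxU m = germAt N x V hxV m') :
    ∃ (W : X.Opens) (hWU : W ≤ U) (hWV : W ≤ V), x ∈ W ∧ res N hWU m = res N hWV m' := by
  obtain ⟨W, hxW, iU, iV, hW⟩ := TopCat.Presheaf.germ_eq N.presheaf x hxU hxV m m' h
  exact ⟨W, iU.le, iV.le, hxW, hW⟩


/-- the `j`-th section of the target of `p : O^(ι) ⟶ N`, as a morphism from the structure sheaf -/
def sect {ι : Type u} {N : X.Modules} (p : (SheafOfModules.free ι : X.Modules) ⟶ N) (j : ι) :
    Coh.structureModule X ⟶ N :=
  (SheafOfModules.ιFree j : Coh.structureModule X ⟶ (SheafOfModules.free ι : X.Modules)) ≫ p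

/-- **the germs of the global sections `p ∘ e_j` span the stalk of the target of an epimorphism `p : O^(ι) ⟶ N`** -/
theorem span_germs_eq_top {ι : Type u} {N : X.Modules} (p : (SheafOfModules.free ι : X.Modules) ⟶ N) (hp : Epi p)
    (x : X) :
    Submodule.span (X.presheaf.stalk x)
      (Set.range fun j : ι => germAt N x ⊤ trivial (secOf (sect p j))) = ⊤ := by
  set S : Submodule (X.presheaf.stalk x) ((stk x).obj N) := Submodule.span (X.presheaf.stalk x)
      (Set.range fun j : ι => germAt N x ⊤ trivial (secOf (sect p j))) with hS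
  let q : (stk x).obj N ⟶ ModuleCat.of (X.presheaf.stalk x) (((stk x).obj N) ⧸ S) := ModuleCat.ofHom S.mkQ
  haveI : PreservesColimitsOfSize.{u, u} (stk x) := (stkSkyAdj x).leftAdjoint_preservesColimits
  have hc := isColimitOfPreserves (stk x) (SheafOfModules.isColimitFreeCofan (R := X.ringCatSheaf) ι)
  have hq : (stk x).map p ≫ q = 0 := by
    apply hc.hom_ext
    rintro ⟨j⟩
    have h1 : ((stk x).mapCocone (SheafOfModules.freeCofan (R := X.ringCatSheaf) ι)).ι.app ⟨j⟩ =
        (stk x).map (SheafOfModules.ιFree j) := rfl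
    rw [h1]
    refine Eq.trans ?_ (comp_zero).symm
    have h0 : (stk x).map (SheafOfModules.ιFree j) ≫ (stk x).map p ≫ q =
        (stk x).map (sect p j) ≫ q := by
      unfold sect
      rw [(stk x).map_comp, Category.assoc]
    refine h0.trans ?_
    ext a
    obtain ⟨U, hxU, c, rfl⟩ := exists_germAt (Coh.structureModule X) x a
    show S.mkQ (((stk x).map (sect p j)).hom (germAt (Coh.structureModule X) x U hxU c)) = 0
    rw [stk_map_germAt, Submodule.mkQ_apply, Submodule.Quotient.mk_eq_zero]
    have h2 : (sect p j).app U c =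
        ((show Γ(X, U) from c) • res N (le_top : U ≤ ⊤) (secOf (sect p j)) : Γ(N, U)) :=
      app_eq_smul (sect p j) U c
    rw [h2, germAt_smul, germAt_res]
    exact S.smul_mem _ (Submodule.subset_span ⟨j, rfl⟩)
  haveI : (stk x).PreservesEpimorphisms := (stk x).preservesEpimorphisms_of_adjunction (stkSkyAdj x)
  haveI : Epi ((stk x).map p) := @Functor.map_epi _ _ _ _ (stk x) _ _ _ p hp
  have hq0 : q = 0 := by
    rw [← cancel_epi ((stk x).map p), hq, comp_zero]
  rw [eq_top_iff]
  intro b _
  have h3 : S.mkQ b = 0 := by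
    have := congrArg (fun φ => φ.hom b) hq0
    exact this
  exact (Submodule.Quotient.mk_eq_zero S).1 h3

/-- restriction preserves the span of the restrictions of the global sections -/
theorem res_mem_span (N : X.Modules) {V V' : X.Opens} (h : V' ≤ V) (m : Γ(N, V))
    (hm : m ∈ Submodule.span Γ(X, V) (Set.range fun T : Γ(N, ⊤) => res N (le_top : V ≤ ⊤) T)) :
    res N h m ∈ Submodule.span Γ(X, V') (Set.range fun T : Γ(N, ⊤) => res N (le_top : V' ≤ ⊤) T) := by
  induction hm using Submodule.span_induction with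
  | mem m hm =>
    obtain ⟨T, rfl⟩ := hm
    rw [res_res]
    exact Submodule.subset_span ⟨T, rfl⟩
  | zero =>
    rw [res_zero]
    exact Submodule.zero_mem _
  | add m m' _ _ ih ih' =>
    have : res N h (m + m') = res N h m + res N h m' := map_add _ _ _
    rw [this]
    exact Submodule.add_mem _ ih ih'
  | smul a m _ ih =>
    rw [res_smul]
    exact Submodule.smul_mem _ _ ih

/-- the target of an epimorphism from a free module is generated by its global sections at every point -/
theorem ggAt_of_epi {ι : Type u} {N : X.Modules} (p : (SheafOfModules.free ι : X.Modules) ⟶ N) (hp : Epi p)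
    (x : X) : GGAt N x := by
  intro U y hx
  have key : ∀ b ∈ Submodule.span (X.presheaf.stalk x)
      (Set.range fun j : ι => germAt N x ⊤ trivial (secOf (sect p j))),
      ∃ (V : X.Opens) (hxV : x ∈ V) (m : Γ(N, V)),
        m ∈ Submodule.span Γ(X, V) (Set.range fun T : Γ(N, ⊤) => res N (le_top : V ≤ ⊤) T) ∧
        germAt N x V hxV m = b := by
    intro b hb
    induction hb using Submodule.span_induction with
    | mem b hb =>
      obtain ⟨j, rfl⟩ := hb
      exact ⟨⊤, trivial, secOf (sect p j), Submodule.subset_span ⟨_, res_self N _⟩, rfl⟩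
    | zero => exact ⟨⊤, trivial, 0, Submodule.zero_mem _, map_zero _⟩
    | add b b' _ _ ih ih' =>
      obtain ⟨V, hxV, m, hm, rfl⟩ := ih
      obtain ⟨V', hxV', m', hm', rfl⟩ := ih'
      refine ⟨V ⊓ V', ⟨hxV, hxV'⟩, res N inf_le_left m + res N inf_le_right m',
        Submodule.add_mem _ (res_mem_span N _ m hm) (res_mem_span N _ m' hm'), ?_⟩
      rw [germAt_add, germAt_res, germAt_res]
    | smul a b _ ih =>
      obtain ⟨V, hxV, m, hm, rfl⟩ := ih
      obtain ⟨W, hxW, c, rfl⟩ := TopCat.Presheaf.exists_germ_eq X.presheaf a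
      refine ⟨V ⊓ W, ⟨hxV, hxW⟩, (resO (inf_le_right : V ⊓ W ≤ W) c • res N inf_le_left m : Γ(N, V ⊓ W)),
        Submodule.smul_mem _ _ (res_mem_span N _ m hm), ?_⟩
      rw [germAt_smul, germAt_res]
      congr 1
      exact TopCat.Presheaf.germ_res_apply X.presheaf (homOfLE (inf_le_right : V ⊓ W ≤ W)) x ⟨hxV, hxW⟩ c
  rw [span_germs_eq_top p hp x] at key
  obtain ⟨V, hxV, m, hm, hgerm⟩ := key (germAt N x U hx y) trivial
  obtain ⟨W, hWV, hWU, hxW, hW⟩ := germAt_eq N x hxV hx m y hgerm
  refine ⟨W, hWU, hxW, ?_⟩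
  rw [← hW]
  exact res_mem_span N hWV m hm

/-- **a globally generated module is generated by its global sections at every point** -/
theorem ggAt_of_isGloballyGenerated (N : X.Modules) (h : Curv2.IsGloballyGenerated N) (x : X) : GGAt N x := by
  obtain ⟨ι, p, hp⟩ := h
  exact ggAt_of_epi p hp x

theorem isGloballyGenerated_iff_ggAt (N : X.Modules) : Curv2.IsGloballyGenerated N ↔ ∀ x : X, GGAt N x :=
  ⟨ggAt_of_isGloballyGenerated N, isGloballyGenerated_of_ggAt N⟩

/-- **a globally generated invertible module has, at every point, a global section generating it there** -/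
theorem exists_mem_genLocus (L : X.Modules) (hL : PicF.IsInvertible L) (hgg : Curv2.IsGloballyGenerated L)
    (x : X) : ∃ T : Coh.structureModule X ⟶ L, x ∈ CohB1.genLocus L T := by
  by_contra hcon
  rw [not_exists] at hcon
  obtain ⟨U, g, hxU, hg⟩ := exists_isGen L hL x
  obtain ⟨V, hV, hxV, hmem⟩ := ggAt_of_isGloballyGenerated L hgg x U g hxU
  have hgV : IsGen L V (res L hV g) := hg.res hV
  have key : ∀ m ∈ Submodule.span Γ(X, V) (Set.range fun T : Γ(L, ⊤) => res L (le_top : V ≤ ⊤) T),
      ∃ c : Γ(X, V), m = (c • res L hV g : Γ(L, V)) ∧ x ∉ X.basicOpen c := by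
    intro m hm
    induction hm using Submodule.span_induction with
    | mem m hm =>
      obtain ⟨T, rfl⟩ := hm
      let r : Γ(X, V) := hgV.coef le_rfl (res L (le_top : V ≤ ⊤) T)
      have hr : res L (le_top : V ≤ ⊤) T = (r • res L hV g : Γ(L, V)) := by
        have := hgV.coef_smul le_rfl (res L (le_top : V ≤ ⊤) T)
        rw [res_self] at this
        exact this.symm
      refine ⟨r, hr, fun hxr => hcon (TwistGen.ofSection L T) ?_⟩
      have h1 := genLocus_inf_eq (TwistGen.ofSection L T) V (res L hV g) hgV r (by rw [secOf_ofSection]; exact hr)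
      have : x ∈ CohB1.genLocus L (TwistGen.ofSection L T) ⊓ V := by rw [h1]; exact hxr
      exact this.1
    | zero =>
      refine ⟨0, (zero_smul _ _).symm, ?_⟩
      rw [Scheme.basicOpen_zero]
      exact fun h => h
    | add m m' _ _ ih ih' =>
      obtain ⟨c, rfl, hc⟩ := ih
      obtain ⟨c', rfl, hc'⟩ := ih'
      refine ⟨c + c', (add_smul _ _ _).symm, fun h => ?_⟩
      rw [Scheme.mem_basicOpen _ _ _ hxV] at h hc hc'
      rw [map_add] at h
      rcases IsLocalRing.isUnit_or_isUnit_of_isUnit_add h with h | h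
      · exact hc h
      · exact hc' h
    | smul a m _ ih =>
      obtain ⟨c, rfl, hc⟩ := ih
      refine ⟨a * c, (mul_smul _ _ _).symm, fun h => ?_⟩
      rw [Scheme.basicOpen_mul] at h
      exact hc h.2
  obtain ⟨c, hc, hxc⟩ := key _ hmem
  have h1 : c = 1 := by
    apply (hgV V le_rfl).1
    show (c • res L le_rfl (res L hV g) : Γ(L, V)) = ((1 : Γ(X, V)) • res L le_rfl (res L hV g) : Γ(L, V))
    rw [res_self, one_smul]
    exact hc.symm
  rw [h1, Scheme.basicOpen_one] at hxc
  exact hxc hxV

end Groth.Agent.Lib.Helper17.GGStalk
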