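import Groth.Agent.Lib.Helper17.ArTwistB
import Groth.Agent.Lib.Helper8.GGKill
import Mathlib
set_option backward.isDefEq.respectTransparency.types false
set_option autoImplicit false
set_option linter.style.haveILetI false
set_option linter.unusedSectionVars false
universe u
open CategoryTheory CategoryTheory.Limits AlgebraicGeometry Opposite TopologicalSpace

noncomputable section
namespace Groth.Agent.Lib.Helper17.ArTwist

open Groth.Agent.Lib.Helper17.ExcH1 Groth.Agent.Lib.Helper17.P1Pic Groth.Agent.Lib.Helper17.ArInter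
open Groth.Agent.Lib.Helper28 Groth.Agent.Lib.Helper4.VanClass

/-- a module of degree zero on a copy of the projective line is trivial -/
theorem nonempty_pullback_iso_of_hasDeg_zero {k : Type u} [Field k] {D X : Scheme.{u}}
    (a : CohB1.ProjSpace 1 k ≅ D) (j : D ⟶ X) (W : X.Modules) (h : HasDeg (a.hom ≫ j) W 0) :
    Nonempty ((Scheme.Modules.pullback j).obj W ≅ Coh.structureModule D) := by
  obtain ⟨ψ⟩ := h
  obtain ⟨z0⟩ := TwistCov.nonempty_twist_zero_iso (CohB1.polyGrading 1 k) (VeryAmpleImm.projSpace_cover 1 k)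
  have e1 : (Scheme.Modules.pullback a.hom).obj ((Scheme.Modules.pullback j).obj W) ≅
      Coh.structureModule (CohB1.ProjSpace 1 k) :=
    (Scheme.Modules.pullbackComp a.hom j).app W ≪≫ ψ ≪≫ z0
  have e2 : (Scheme.Modules.pullback j).obj W ≅
      (Scheme.Modules.pullback a.inv).obj
        ((Scheme.Modules.pullback a.hom).obj ((Scheme.Modules.pullback j).obj W)) :=
    (Scheme.Modules.pullbackId D).symm.app _ ≪≫
      (Scheme.Modules.pullbackCongr (a.inv_hom_id).symm).app _ ≪≫
      (Scheme.Modules.pullbackComp a.inv a.hom).symm.app _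
  exact ⟨e2 ≪≫ (Scheme.Modules.pullback a.inv).mapIso e1 ≪≫ PicLoc.pullbackStructureIso a.inv⟩


section Main

variable (R : Type u) [CommRing R] [IsDomain R] [IsDiscreteValuationRing R]
  (X : Over (Spec (CommRingCat.of R))) (E : ArSurf.VertComp R X)

theorem main
    (hP1 : ∃ (k' : Type u) (_ : Field k') (_ : Algebra (IsLocalRing.ResidueField R) k')
      (e : E.curve.left ≅ CohB1.ProjSpace 1 k'),
      e.hom ≫ CohB1.ProjSpace.toSpec 1 k' ≫
        Spec.map (CommRingCat.ofHom (algebraMap (IsLocalRing.ResidueField R) k')) = E.curve.hom)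
    (LE : X.left.Modules) (hLE : ClSub.IsInverseOf LE (ClSub.idealMod E.ι.ker))
    (hneg : ArSurf.inter R X LE E < 0)
    (H : X.left.IdealSheafData)
    (LH : X.left.Modules) (hLH : ClSub.IsInverseOf LH (ClSub.idealMod H))
    (h1 : Subsingleton (Coh.HH X.left LH 1)) :
    (∀ i : ℕ, (i : ℤ) * (-ArSurf.inter R X LE E) ≤ ArSurf.inter R X LH E →
        Subsingleton (Coh.HH X.left (CohB1.tensorMod LH (CohB1.tensorPow LE i)) 1)) ∧
      ∀ r : ℕ, Curv2.IsGloballyGenerated LH → ArSurf.inter R X LH E = (r : ℤ) * (-ArSurf.inter R X LE E) →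
        Nonempty ((Scheme.Modules.pullback E.ι).obj (CohB1.tensorMod LH (CohB1.tensorPow LE r)) ≅
            Coh.structureModule E.curve.left) ∧
          Curv2.IsGloballyGenerated (CohB1.tensorMod LH (CohB1.tensorPow LE r)) := by
  obtain ⟨k', _, _, e, he⟩ := hP1
  obtain ⟨hcartE, hIE, hLEi⟩ := isInvertible_of_isInverseOf E.ι.ker LE hLE
  obtain ⟨-, -, hLHi⟩ := isInvertible_of_isInverseOf H LH hLH
  obtain ⟨aE, hdE⟩ := exists_hasDeg (θ R X E k' e) LE hLEi
  obtain ⟨aH, hdH⟩ := exists_hasDeg (θ R X E k' e) LH hLHi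
  have hiE := inter_eq R X E k' e he LE aE hdE
  have hiH := inter_eq R X E k' e he LH aH hdH
  set m : ℤ := (Module.finrank (IsLocalRing.ResidueField R) k' : ℤ) with hm
  have hm0 : 0 ≤ m := Int.natCast_nonneg _
  rw [hiE] at hneg
  have hmpos : 0 < m := by
    rcases hm0.lt_or_eq with h | h
    · exact h
    · rw [← h, zero_mul] at hneg; exact absurd hneg (lt_irrefl _)
  have haE : aE < 0 := by
    by_contra hcon
    push Not at hcon
    have := mul_nonneg hm0 hcon
    linarith
  have hεE := hLE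
  obtain ⟨εE⟩ := hLE
  -- part (a)
  have partA : ∀ i : ℕ, (i : ℤ) * (-aE) ≤ aH →
      Subsingleton (Coh.HH X.left (CohB1.tensorMod LH (CohB1.tensorPow LE i)) 1) := by
    intro i hi
    refine subsingleton_H1_twist_pow E.ι e.symm LE hLEi hIE εE LH hLHi aE aH hdE hdH h1 i ?_
    intro j hj1 hji
    have h2 : aE * (i : ℤ) ≤ aE * (j : ℤ) :=
      mul_le_mul_of_nonpos_left (by exact_mod_cast hji) haE.le
    linarith
  have hconv : ∀ i : ℕ, (i : ℤ) * (-ArSurf.inter R X LE E) ≤ ArSurf.inter R X LH E →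
      (i : ℤ) * (-aE) ≤ aH := by
    intro i hi
    rw [hiE, hiH] at hi
    have : m * ((i : ℤ) * (-aE)) ≤ m * aH := by linarith
    exact le_of_mul_le_mul_left this hmpos
  refine ⟨fun i hi => partA i (hconv i hi), ?_⟩
  intro r hgg hr
  rw [hiE, hiH] at hr
  have hr' : aH = (r : ℤ) * (-aE) := by
    have : m * aH = m * ((r : ℤ) * (-aE)) := by linarith
    exact mul_left_cancel₀ hmpos.ne' this
  set W := CohB1.tensorMod LH (CohB1.tensorPow LE r) with hWdef
  have hLEr := Groth.Agent.Lib.Helper28.GenLocus.isInvertible_tensorPow hLEi r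
  have hW : PicF.IsInvertible W := Groth.Agent.Lib.Helper28.GenLocus.isInvertible_tensorMod hLHi hLEr
  have hWd : HasDeg (θ R X E k' e) W 0 := by
    have h := hdH.tensor hLHi hLEr (hdE.tensorPow hLEi r)
    have h0 : aH + aE * (r : ℤ) = 0 := by rw [hr']; ring
    rwa [h0] at h
  have hι : e.symm.hom ≫ E.ι = θ R X E k' e := rfl
  refine ⟨nonempty_pullback_iso_of_hasDeg_zero e.symm E.ι W (by rw [hι]; exact hWd), ?_⟩
  -- global generation
  rcases Nat.eq_zero_or_pos r with hr0 | hrpos
  · subst hr0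
    obtain ⟨u⟩ := AmpleUnit.nonempty_tensor_unit_iso LH
    exact Groth.Agent.Lib.Helper8.GGKill.isGloballyGenerated_of_iso u.symm hgg
  · refine isGloballyGenerated_of_forall_mem_genLocus fun x => ?_
    by_cases hx : x ∈ E.ι.ker.support
    · -- on the curve
      obtain ⟨r', rfl⟩ : ∃ r', r = r' + 1 := ⟨r - 1, by omega⟩
      have hA := partA r' (by rw [hr']; push_cast; nlinarith)
      obtain ⟨jI⟩ := nonempty_twist_ideal_iso E.ι LE hLEi hIE εE LH hLHi r'
      have h1' : Subsingleton (Coh.HH X.left (CohB1.tensorMod W (ClSub.idealMod E.ι.ker)) 1) :=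
        subsingleton_HH_of_iso jI.symm 1 hA
      let εD : CohB1.ProjSpace 1 k' ≅ E.ι.ker.subscheme := e.symm ≪≫ asIso E.ι.toImage
      have hθD : εD.hom ≫ E.ι.ker.subschemeι = θ R X E k' e := by
        show (e.symm.hom ≫ E.ι.toImage) ≫ E.ι.imageι = _
        rw [Category.assoc, Scheme.Hom.toImage_imageι]
        rfl
      obtain ⟨φD⟩ := nonempty_pullback_iso_of_hasDeg_zero εD E.ι.ker.subschemeι W (by rw [hθD]; exact hWd)
      haveI : IsIntegral E.ι.ker.subscheme := by
        haveI : Nonempty E.ι.ker.subscheme := by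
          haveI : Nonempty E.curve.left := inferInstance
          exact Nonempty.map E.ι.toImage.base ‹_›
        exact isIntegral_of_isOpenImmersion (inv E.ι.toImage)
      haveI : UniversallyClosed (εD.inv ≫ CohB1.ProjSpace.toSpec 1 k') := by
        haveI := ProjSpaceBasic.isProper_toSpec 1 k'
        infer_instance
      have hfield := isField_of_universallyClosed k' (εD.inv ≫ CohB1.ProjSpace.toSpec 1 k')
      exact exists_mem_genLocus_on E.ι.ker W hW h1' φD hfield x hx
    · exact exists_mem_genLocus_off E.ι.ker LE hεE LH hLHi hgg r hrpos x hx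

end Main

end Groth.Agent.Lib.Helper17.ArTwist
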