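import Mathlib.Algebra.Azumaya.Defs
import Mathlib.LinearAlgebra.Contraction
import Mathlib.LinearAlgebra.TensorProduct.Opposite
import Mathlib.RingTheory.TensorProduct.Finite
import Mathlib.Algebra.Module.Projective
import Mathlib.RingTheory.Nakayama
import Mathlib.RingTheory.Finiteness.Projective
import Mathlib.RingTheory.Spectrum.Prime.RingHom

set_option autoImplicit false
universe u v w

namespace Groth.Agent.Lib.Helper17.AzumayaBC

open TensorProduct MulOpposite

section comm
variable (R : Type u) [CommRing R] (S : Type v) [CommRing S] [Algebra R S]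
  (B : Type w) [Ring B] [Algebra R B]

/-- `S ⊗ Bᵐᵒᵖ ≃ (S ⊗ B)ᵐᵒᵖ` -/
noncomputable def opE : S ⊗[R] Bᵐᵒᵖ ≃ₗ[S] (S ⊗[R] B)ᵐᵒᵖ :=
  (TensorProduct.AlgebraTensorModule.congr (LinearEquiv.refl S S) (opLinearEquiv R).symm) ≪≫ₗ
    opLinearEquiv S

/-- `S ⊗ (B ⊗ Bᵐᵒᵖ) ≃ (S ⊗ B) ⊗_S (S ⊗ B)ᵐᵒᵖ` -/
noncomputable def sigma : S ⊗[R] (B ⊗[R] Bᵐᵒᵖ) ≃ₗ[S] (S ⊗[R] B) ⊗[S] (S ⊗[R] B)ᵐᵒᵖ :=
  TensorProduct.AlgebraTensorModule.distribBaseChange R S B Bᵐᵒᵖ ≪≫ₗ
    TensorProduct.congr (LinearEquiv.refl S (S ⊗[R] B)) (opE R S B)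

variable [Module.Finite R B] [Module.Projective R B]

theorem comm :
    ((AlgHom.mulLeftRight S (S ⊗[R] B)).toLinearMap ∘ₗ (sigma R S B).toLinearMap).restrictScalars R =
      ((LinearMap.liftBaseChangeEquiv S :
          (B →ₗ[R] S ⊗[R] B) ≃ₗ[S] (S ⊗[R] B →ₗ[S] S ⊗[R] B)).toLinearMap.restrictScalars R) ∘ₗ
        (lTensorHomEquivHomLTensor R B S B).toLinearMap ∘ₗ
          ((AlgHom.mulLeftRight R B).toLinearMap.lTensor S) := by
  ext s a a' x
  simp [sigma, opE]

/-- the multiplication map of the base change is bijective iff the base change of the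
multiplication map is. -/
theorem bijective_iff :
    Function.Bijective (AlgHom.mulLeftRight S (S ⊗[R] B)) ↔
      Function.Bijective ((AlgHom.mulLeftRight R B).toLinearMap.lTensor S) := by
  have h0 : ⇑((AlgHom.mulLeftRight S (S ⊗[R] B)).toLinearMap ∘ₗ (sigma R S B).toLinearMap) =
      ⇑(((LinearMap.liftBaseChangeEquiv S :
          (B →ₗ[R] S ⊗[R] B) ≃ₗ[S] (S ⊗[R] B →ₗ[S] S ⊗[R] B)).toLinearMap.restrictScalars R) ∘ₗ
        (lTensorHomEquivHomLTensor R B S B).toLinearMap ∘ₗ
          ((AlgHom.mulLeftRight R B).toLinearMap.lTensor S)) := by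
    rw [← comm]
    rfl
  have h1 : Function.Bijective (AlgHom.mulLeftRight S (S ⊗[R] B)) ↔ Function.Bijective
      ((AlgHom.mulLeftRight S (S ⊗[R] B)).toLinearMap ∘ₗ (sigma R S B).toLinearMap) := by
    rw [LinearMap.coe_comp]
    exact (Function.Bijective.of_comp_iff _ (sigma R S B).bijective).symm
  rw [h1, h0, LinearMap.coe_comp, LinearMap.coe_comp]
  have hb3 : Function.Bijective ⇑((LinearMap.liftBaseChangeEquiv S :
      (B →ₗ[R] S ⊗[R] B) ≃ₗ[S] (S ⊗[R] B →ₗ[S] S ⊗[R] B)).toLinearMap.restrictScalars R) :=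
    (LinearMap.liftBaseChangeEquiv S :
      (B →ₗ[R] S ⊗[R] B) ≃ₗ[S] (S ⊗[R] B →ₗ[S] S ⊗[R] B)).bijective
  have hb2 : Function.Bijective ⇑(lTensorHomEquivHomLTensor R B S B).toLinearMap :=
    (lTensorHomEquivHomLTensor R B S B).bijective
  rw [Function.Bijective.of_comp_iff' hb3, Function.Bijective.of_comp_iff' hb2]

end comm

section descent
variable {R : Type u} [CommRing R] {S : Type v} [CommRing S] [Algebra R S]
  (hS : Function.Surjective (PrimeSpectrum.comap (algebraMap R S)))
include hS

/-- an ideal whose extension to `S` is the unit ideal is the unit ideal -/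
lemma ideal_eq_top_of_map_eq_top (I : Ideal R) (hI : I.map (algebraMap R S) = ⊤) : I = ⊤ := by
  by_contra hne
  obtain ⟨m, hm, hIm⟩ := Ideal.exists_le_maximal I hne
  obtain ⟨q, hq⟩ := hS ⟨m, hm.isPrime⟩
  have h1 : I.map (algebraMap R S) ≤ q.asIdeal := by
    rw [Ideal.map_le_iff_le_comap]
    intro x hx
    have := congrArg PrimeSpectrum.asIdeal hq
    simp only [PrimeSpectrum.comap_asIdeal] at this
    rw [this]
    exact hIm hx
  rw [hI, top_le_iff] at h1
  exact q.isPrime.ne_top h1

/-- cyclic case -/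
lemma subsingleton_of_cyclic (Q : Type w) [AddCommGroup Q] [Module R Q] (q₀ : Q)
    (hq : ∀ x : Q, ∃ r : R, x = r • q₀) (h0 : Subsingleton (S ⊗[R] Q)) : Subsingleton Q := by
  let f : R →ₗ[R] Q := LinearMap.toSpanSingleton R Q q₀
  have hf : Function.Surjective f := by
    intro x
    obtain ⟨r, rfl⟩ := hq x
    exact ⟨r, by simp [f]⟩
  let I : Ideal R := LinearMap.ker f
  let g : R →ₗ[R] S ⧸ I.map (algebraMap R S) :=
    ((Submodule.mkQ (I.map (algebraMap R S))).restrictScalars R).comp
      (Algebra.linearMap R S)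
  have hg : ∀ r, g r = Ideal.Quotient.mk (I.map (algebraMap R S)) (algebraMap R S r) := fun r => rfl
  have hIg : LinearMap.ker f ≤ LinearMap.ker g := by
    intro r hr
    rw [LinearMap.mem_ker, hg, Ideal.Quotient.eq_zero_iff_mem]
    exact Ideal.mem_map_of_mem _ hr
  let ψ : Q →ₗ[R] S ⧸ I.map (algebraMap R S) :=
    (Submodule.liftQ (LinearMap.ker f) g hIg).comp (f.quotKerEquivOfSurjective hf).symm.toLinearMap
  have hψ : ψ q₀ = 1 := by
    have h1 : (f.quotKerEquivOfSurjective hf).symm q₀ = Submodule.Quotient.mk (1 : R) := by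
      rw [LinearEquiv.symm_apply_eq, LinearMap.quotKerEquivOfSurjective_apply_mk]
      simp [f]
    simp only [ψ, LinearMap.comp_apply, LinearEquiv.coe_coe, h1, Submodule.liftQ_apply, hg]
    simp
  have h2 : (ψ.liftBaseChange S) (1 ⊗ₜ q₀) = 1 := by
    rw [LinearMap.liftBaseChange_tmul, one_smul, hψ]
  have h3 : (1 : S) ⊗ₜ[R] q₀ = 0 := Subsingleton.elim _ _
  rw [h3, map_zero] at h2
  have h4 : (1 : S) ∈ I.map (algebraMap R S) := by
    rw [← Ideal.Quotient.eq_zero_iff_mem]
    exact h2.symm
  have h5 : I = ⊤ := ideal_eq_top_of_map_eq_top hS I ((Ideal.eq_top_iff_one _).mpr h4)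
  have h6 : q₀ = 0 := by
    have : (1 : R) ∈ I := h5 ▸ Submodule.mem_top
    have := LinearMap.mem_ker.mp this
    simpa [f] using this
  refine ⟨fun x y => ?_⟩
  obtain ⟨r, rfl⟩ := hq x
  obtain ⟨r', rfl⟩ := hq y
  rw [h6, smul_zero, smul_zero]

end descent

section descent2
variable {R : Type u} [CommRing R] {S : Type v} [CommRing S] [Algebra R S]
  (hS : Function.Surjective (PrimeSpectrum.comap (algebraMap R S)))
include hS

lemma subsingleton_of_span_fin : ∀ (n : ℕ) (C : Type w) [AddCommGroup C] [Module R C]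
    (c : Fin n → C), Submodule.span R (Set.range c) = ⊤ → Subsingleton (S ⊗[R] C) →
    Subsingleton C := by
  intro n
  induction n with
  | zero =>
    intro C _ _ c hc _
    have : Set.range c = ∅ := Set.range_eq_empty c
    rw [this, Submodule.span_empty] at hc
    exact (Submodule.subsingleton_iff R).mp (subsingleton_of_bot_eq_top hc)
  | succ n ih =>
    intro C _ _ c hc h0
    let C'' : Submodule R C := Submodule.span R (Set.range (Fin.tail c))
    have hq : ∀ x : C ⧸ C'', ∃ r : R, x = r • (Submodule.Quotient.mk (c 0) : C ⧸ C'') := by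
      intro x
      obtain ⟨y, rfl⟩ := Submodule.Quotient.mk_surjective C'' x
      have hy : y ∈ Submodule.span R (Set.range c) := hc ▸ Submodule.mem_top
      rw [Fin.range_fin_succ, Submodule.span_insert, Submodule.mem_sup] at hy
      obtain ⟨u, hu, v, hv, rfl⟩ := hy
      obtain ⟨r, rfl⟩ := Submodule.mem_span_singleton.mp hu
      refine ⟨r, ?_⟩
      rw [Submodule.Quotient.mk_add, (Submodule.Quotient.mk_eq_zero C'').mpr hv, add_zero,
        Submodule.Quotient.mk_smul]
    have h1 : Subsingleton (S ⊗[R] (C ⧸ C'')) :=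
      (LinearMap.lTensor_surjective S (Submodule.mkQ_surjective C'')).subsingleton
    have h2 : Subsingleton (C ⧸ C'') := subsingleton_of_cyclic hS _ _ hq h1
    have h3 : C'' = ⊤ := Submodule.Quotient.subsingleton_iff.mp h2
    exact ih C (Fin.tail c) h3 h0

/-- a finite module whose base change along a map surjective on spectra vanishes is zero -/
lemma subsingleton_of_finite (C : Type w) [AddCommGroup C] [Module R C] [Module.Finite R C]
    (h0 : Subsingleton (S ⊗[R] C)) : Subsingleton C := by
  obtain ⟨n, c, hc⟩ := Module.Finite.exists_fin (R := R) (M := C)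
  exact subsingleton_of_span_fin hS n C c hc h0

end descent2

section descent3
variable {R : Type u} [CommRing R] {S : Type v} [CommRing S] [Algebra R S]
  (hS : Function.Surjective (PrimeSpectrum.comap (algebraMap R S)))
include hS

lemma surjective_of_lTensor_surjective {M : Type w} {N : Type w} [AddCommGroup M] [Module R M]
    [AddCommGroup N] [Module R N] [Module.Finite R N] (φ : M →ₗ[R] N)
    (h : Function.Surjective (φ.lTensor S)) : Function.Surjective φ := by
  have h1 : Subsingleton (S ⊗[R] (N ⧸ LinearMap.range φ)) := by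
    have hz : ∀ z : S ⊗[R] N, ((LinearMap.range φ).mkQ.lTensor S) z = 0 := by
      intro z
      obtain ⟨y, rfl⟩ := h z
      rw [← LinearMap.comp_apply, ← LinearMap.lTensor_comp]
      have : (LinearMap.range φ).mkQ ∘ₗ φ = 0 := by
        ext m
        simp
      rw [this, LinearMap.lTensor_zero, LinearMap.zero_apply]
    refine ⟨fun x y => ?_⟩
    obtain ⟨x', rfl⟩ := LinearMap.lTensor_surjective S (Submodule.mkQ_surjective _) x
    obtain ⟨y', rfl⟩ := LinearMap.lTensor_surjective S (Submodule.mkQ_surjective _) y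
    rw [hz, hz]
  have h2 : Subsingleton (N ⧸ LinearMap.range φ) := subsingleton_of_finite hS _ h1
  exact LinearMap.range_eq_top.mp (Submodule.Quotient.subsingleton_iff.mp h2)

lemma bijective_of_lTensor_bijective {M : Type w} {N : Type w} [AddCommGroup M] [Module R M]
    [AddCommGroup N] [Module R N] [Module.Finite R M] [Module.Finite R N] [Module.Projective R N]
    (φ : M →ₗ[R] N) (h : Function.Bijective (φ.lTensor S)) : Function.Bijective φ := by
  have hsurj : Function.Surjective φ := surjective_of_lTensor_surjective hS φ h.2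
  obtain ⟨ι, hι⟩ := Module.projective_lifting_property φ LinearMap.id hsurj
  -- π = id - ι φ is idempotent with range the kernel
  let π : M →ₗ[R] M := LinearMap.id - ι ∘ₗ φ
  have hφπ : φ ∘ₗ π = 0 := by
    simp only [π, LinearMap.comp_sub, LinearMap.comp_id, ← LinearMap.comp_assoc, hι,
      LinearMap.id_comp, sub_self]
  have hππ : π ∘ₗ π = π := by
    simp only [π]
    rw [LinearMap.sub_comp, LinearMap.id_comp, LinearMap.comp_assoc]
    have : φ ∘ₗ (LinearMap.id - ι ∘ₗ φ) = 0 := hφπ
    rw [this, LinearMap.comp_zero, sub_zero]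
  -- S ⊗ π = 0
  have hSπ : π.lTensor S = 0 := by
    have h1 : (φ.lTensor S) ∘ₗ (π.lTensor S) = 0 := by
      rw [← LinearMap.lTensor_comp, hφπ, LinearMap.lTensor_zero]
    refine LinearMap.ext fun z => ?_
    apply h.1
    have := congrArg (fun f => f z) h1
    simpa using this
  let K := LinearMap.range π
  let π' : M →ₗ[R] K := π.rangeRestrict
  have hπ'j : π' ∘ₗ K.subtype = LinearMap.id := by
    ext ⟨k, m, rfl⟩
    have := congrArg (fun f => f m) hππ
    simpa [π'] using this
  have hjπ' : K.subtype ∘ₗ π' = π := by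
    ext m
    rfl
  have hK : Subsingleton (S ⊗[R] K) := by
    refine ⟨fun x y => ?_⟩
    have hz : ∀ z : S ⊗[R] K, z = 0 := by
      intro z
      have h1 : z = (π'.lTensor S) ((K.subtype.lTensor S) z) := by
        rw [← LinearMap.comp_apply, ← LinearMap.lTensor_comp, hπ'j, LinearMap.lTensor_id,
          LinearMap.id_apply]
      have h2 : (K.subtype.lTensor S) z = 0 := by
        rw [h1, ← LinearMap.comp_apply, ← LinearMap.lTensor_comp, hjπ', hSπ, LinearMap.zero_apply]
      rw [h1, h2, map_zero]
    rw [hz x, hz y]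
  have hKfin : Module.Finite R K := Module.Finite.range π
  have hK0 : Subsingleton K := subsingleton_of_finite hS K hK
  have hπ0 : π = 0 := by
    ext m
    have : π' m = 0 := Subsingleton.elim _ _
    have := congrArg Subtype.val this
    simpa [π'] using this
  refine ⟨?_, hsurj⟩
  rw [← LinearMap.ker_eq_bot, LinearMap.ker_eq_bot']
  intro m hm
  have := congrArg (fun f => f m) hπ0
  simp only [π, LinearMap.sub_apply, LinearMap.id_apply, LinearMap.comp_apply, hm, map_zero,
    sub_zero, LinearMap.zero_apply] at this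
  exact this

end descent3

section faithful
variable {R : Type u} [CommRing R] {S : Type v} [CommRing S] [Algebra R S]
  (hS : Function.Surjective (PrimeSpectrum.comap (algebraMap R S)))
include hS

/-- annihilators of `B` die in `S` when `S ⊗ B` is faithful -/
lemma exists_retraction_of_baseChange_faithful (B : Type w) [Ring B] [Algebra R B]
    [Module.Finite R B] [Module.Projective R B] [FaithfulSMul S (S ⊗[R] B)] :
    ∃ s : B →ₗ[R] R, s 1 = 1 := by
  obtain ⟨n, f, g, -, -, hfg⟩ := Module.Finite.exists_comp_eq_id_of_projective R B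
  let ev : (B →ₗ[R] R) →ₗ[R] R := LinearMap.applyₗ (1 : B)
  let I : Ideal R := LinearMap.range ev
  have hI : ∀ (φ : B →ₗ[R] R) (a : B), φ a ∈ I := by
    intro φ a
    refine ⟨φ.comp (LinearMap.mulRight R a), ?_⟩
    simp [ev]
  have hle : (⊤ : Submodule R B) ≤ I • (⊤ : Submodule R B) := by
    intro a _
    have h1 : a = f (g a) := by
      have := congrArg (fun h : B →ₗ[R] B => h a) hfg
      simpa using this.symm
    have h2 : g a = ∑ i, (g a i) • (Pi.single i 1 : Fin n → R) := by
      ext j
      simp [Finset.sum_apply, Pi.single_apply]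
    rw [h1, h2, map_sum]
    refine Submodule.sum_mem _ fun i _ => ?_
    rw [map_smul]
    exact Submodule.smul_mem_smul (hI ((LinearMap.proj i).comp g) a) Submodule.mem_top
  obtain ⟨r, hr, hr0⟩ := Submodule.exists_sub_one_mem_and_smul_eq_zero_of_fg_of_le_smul I
    (⊤ : Submodule R B) Module.Finite.fg_top hle
  -- `r` maps to zero in `S`
  have hrS : algebraMap R S r = 0 := by
    apply eq_of_smul_eq_smul (α := S ⊗[R] B)
    intro z
    rw [zero_smul]
    induction z using TensorProduct.induction_on with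
    | zero => simp
    | tmul s b =>
      have h3 : algebraMap R S r * s = r • s := (Algebra.smul_def r s).symm
      rw [TensorProduct.smul_tmul', smul_eq_mul, h3, TensorProduct.smul_tmul,
        hr0 b Submodule.mem_top, TensorProduct.tmul_zero]
    | add x y hx hy => rw [smul_add, hx, hy, add_zero]
  -- hence `r` lies in every maximal ideal and `1 - r` is a unit
  have hunit : IsUnit (1 - r) := by
    by_contra hnu
    obtain ⟨m, hm, hmem⟩ := exists_max_ideal_of_mem_nonunits (mem_nonunits_iff.mpr hnu)
    obtain ⟨q, hq⟩ := hS ⟨m, hm.isPrime⟩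
    have hrm : r ∈ m := by
      have := congrArg PrimeSpectrum.asIdeal hq
      simp only [PrimeSpectrum.comap_asIdeal] at this
      rw [← this, Ideal.mem_comap, hrS]
      exact q.asIdeal.zero_mem
    have : (1 : R) ∈ m := by
      have := m.add_mem hmem hrm
      simpa using this
    exact hm.ne_top ((Ideal.eq_top_iff_one _).mpr this)
  have h1I : (1 - r) ∈ I := by
    have := I.neg_mem hr
    simpa using this
  have h1 : (1 : R) ∈ I := by
    obtain ⟨u, hu⟩ := hunit
    have := I.mul_mem_left (↑u⁻¹ : R) h1I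
    rwa [← hu, Units.inv_mul] at this
  obtain ⟨s, hs⟩ := h1
  exact ⟨s, hs⟩

lemma faithful_of_baseChange_faithful (B : Type w) [Ring B] [Algebra R B]
    [Module.Finite R B] [Module.Projective R B] [FaithfulSMul S (S ⊗[R] B)] :
    FaithfulSMul R B := by
  obtain ⟨s, hs⟩ := exists_retraction_of_baseChange_faithful hS B
  rw [faithfulSMul_iff_algebraMap_injective]
  apply Function.LeftInverse.injective (g := fun b => s b)
  intro r
  simp [Algebra.algebraMap_eq_smul_one, hs]

end faithful

section endo
variable (R : Type u) [CommRing R] (P : Type w) [AddCommGroup P] [Module R P]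
  [Module.Finite R P] [Module.Projective R P]

lemma projective_end : Module.Projective R (Module.End R P) :=
  Module.Projective.of_equiv
    (LinearEquiv.ofBijective (dualTensorHom R P P) dualTensorHom_bijective)

lemma finite_end : Module.Finite R (Module.End R P) :=
  Module.Finite.equiv
    (LinearEquiv.ofBijective (dualTensorHom R P P) dualTensorHom_bijective)

end endo

end Groth.Agent.Lib.Helper17.AzumayaBC
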