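import Groth.Agent.Lib.Helper17.AzumayaBC

set_option autoImplicit false
universe u v w

namespace Groth.Agent.Lib.Helper17.AzumayaFam

open TensorProduct MulOpposite

section descent
variable {R : Type u} [CommRing R] {ι : Type*} (S : ι → Type v) [∀ i, CommRing (S i)]
  [∀ i, Algebra R (S i)]
  (Hc : ∀ I : Ideal R, (∀ i, I.map (algebraMap R (S i)) = ⊤) → I = ⊤)
include Hc

/-- cyclic case -/
lemma subsingleton_of_cyclic (Q : Type w) [AddCommGroup Q] [Module R Q] (q₀ : Q)
    (hq : ∀ x : Q, ∃ r : R, x = r • q₀) (h0 : ∀ i, Subsingleton (S i ⊗[R] Q)) :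
    Subsingleton Q := by
  let f : R →ₗ[R] Q := LinearMap.toSpanSingleton R Q q₀
  have hf : Function.Surjective f := by
    intro x
    obtain ⟨r, rfl⟩ := hq x
    exact ⟨r, by simp [f]⟩
  let I : Ideal R := LinearMap.ker f
  have hI : ∀ i, I.map (algebraMap R (S i)) = ⊤ := by
    intro i
    let g : R →ₗ[R] S i ⧸ I.map (algebraMap R (S i)) :=
      ((Submodule.mkQ (I.map (algebraMap R (S i)))).restrictScalars R).comp
        (Algebra.linearMap R (S i))
    have hg : ∀ r, g r = Ideal.Quotient.mk (I.map (algebraMap R (S i))) (algebraMap R (S i) r) :=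
      fun r => rfl
    have hIg : LinearMap.ker f ≤ LinearMap.ker g := by
      intro r hr
      rw [LinearMap.mem_ker, hg, Ideal.Quotient.eq_zero_iff_mem]
      exact Ideal.mem_map_of_mem _ hr
    let ψ : Q →ₗ[R] S i ⧸ I.map (algebraMap R (S i)) :=
      (Submodule.liftQ (LinearMap.ker f) g hIg).comp
        (f.quotKerEquivOfSurjective hf).symm.toLinearMap
    have hψ : ψ q₀ = 1 := by
      have h1 : (f.quotKerEquivOfSurjective hf).symm q₀ = Submodule.Quotient.mk (1 : R) := by
        rw [LinearEquiv.symm_apply_eq, LinearMap.quotKerEquivOfSurjective_apply_mk]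
        simp [f]
      simp only [ψ, LinearMap.comp_apply, LinearEquiv.coe_coe, h1, Submodule.liftQ_apply, hg]
      simp
    have h2 : (ψ.liftBaseChange (S i)) (1 ⊗ₜ q₀) = 1 := by
      rw [LinearMap.liftBaseChange_tmul, one_smul, hψ]
    have h3 : (1 : S i) ⊗ₜ[R] q₀ = 0 := (h0 i).elim _ _
    rw [h3, map_zero] at h2
    have h4 : (1 : S i) ∈ I.map (algebraMap R (S i)) := by
      rw [← Ideal.Quotient.eq_zero_iff_mem]
      exact h2.symm
    exact (Ideal.eq_top_iff_one _).mpr h4
  have h5 : I = ⊤ := Hc I hI
  have h6 : q₀ = 0 := by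
    have : (1 : R) ∈ I := h5 ▸ Submodule.mem_top
    have := LinearMap.mem_ker.mp this
    simpa [f] using this
  refine ⟨fun x y => ?_⟩
  obtain ⟨r, rfl⟩ := hq x
  obtain ⟨r', rfl⟩ := hq y
  rw [h6, smul_zero, smul_zero]

lemma subsingleton_of_span_fin : ∀ (n : ℕ) (C : Type w) [AddCommGroup C] [Module R C]
    (c : Fin n → C), Submodule.span R (Set.range c) = ⊤ → (∀ i, Subsingleton (S i ⊗[R] C)) →
    Subsingleton C := by
  intro n
  induction n with
  | zero =>
    intro C _ _ c hc _
    have : Set.range c = ∅ := Set.range_eq_empty c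
    rw [this, Submodule.span_empty] at hc
    exact (Submodule.subsingleton_iff R).mp (subsingleton_of_bot_eq_top hc)
  | succ n ih =>
    intro C _ _ c hc h0
    let C'' : Submodule R C := Submodule.span R (Set.range (Fin.tail c))
    have hq : ∀ x : C ⧸ C'', ∃ r : R, x = r • (Submodule.Quotient.mk (c 0) : C ⧸ C'') := by
      intro x
      obtain ⟨y, rfl⟩ := Submodule.Quotient.mk_surjective C'' x
      have hy : y ∈ Submodule.span R (Set.range c) := hc ▸ Submodule.mem_top
      rw [Fin.range_fin_succ, Submodule.span_insert, Submodule.mem_sup] at hy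
      obtain ⟨u, hu, v, hv, rfl⟩ := hy
      obtain ⟨r, rfl⟩ := Submodule.mem_span_singleton.mp hu
      refine ⟨r, ?_⟩
      rw [Submodule.Quotient.mk_add, (Submodule.Quotient.mk_eq_zero C'').mpr hv, add_zero,
        Submodule.Quotient.mk_smul]
    have h1 : ∀ i, Subsingleton (S i ⊗[R] (C ⧸ C'')) := fun i =>
      haveI := h0 i
      (LinearMap.lTensor_surjective (S i) (Submodule.mkQ_surjective C'')).subsingleton
    have h2 : Subsingleton (C ⧸ C'') := subsingleton_of_cyclic S Hc _ _ hq h1
    have h3 : C'' = ⊤ := Submodule.Quotient.subsingleton_iff.mp h2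
    exact ih C (Fin.tail c) h3 h0

lemma subsingleton_of_finite (C : Type w) [AddCommGroup C] [Module R C] [Module.Finite R C]
    (h0 : ∀ i, Subsingleton (S i ⊗[R] C)) : Subsingleton C := by
  obtain ⟨n, c, hc⟩ := Module.Finite.exists_fin (R := R) (M := C)
  exact subsingleton_of_span_fin S Hc n C c hc h0

lemma surjective_of_lTensor_surjective {M : Type w} {N : Type w} [AddCommGroup M] [Module R M]
    [AddCommGroup N] [Module R N] [Module.Finite R N] (φ : M →ₗ[R] N)
    (h : ∀ i, Function.Surjective (φ.lTensor (S i))) : Function.Surjective φ := by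
  have h1 : ∀ i, Subsingleton (S i ⊗[R] (N ⧸ LinearMap.range φ)) := by
    intro i
    have hz : ∀ z : S i ⊗[R] N, ((LinearMap.range φ).mkQ.lTensor (S i)) z = 0 := by
      intro z
      obtain ⟨y, rfl⟩ := h i z
      rw [← LinearMap.comp_apply, ← LinearMap.lTensor_comp]
      have : (LinearMap.range φ).mkQ ∘ₗ φ = 0 := by
        ext m
        simp
      rw [this, LinearMap.lTensor_zero, LinearMap.zero_apply]
    refine ⟨fun x y => ?_⟩
    obtain ⟨x', rfl⟩ := LinearMap.lTensor_surjective (S i) (Submodule.mkQ_surjective _) x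
    obtain ⟨y', rfl⟩ := LinearMap.lTensor_surjective (S i) (Submodule.mkQ_surjective _) y
    rw [hz, hz]
  have h2 : Subsingleton (N ⧸ LinearMap.range φ) := subsingleton_of_finite S Hc _ h1
  exact LinearMap.range_eq_top.mp (Submodule.Quotient.subsingleton_iff.mp h2)

lemma bijective_of_lTensor_bijective {M : Type w} {N : Type w} [AddCommGroup M] [Module R M]
    [AddCommGroup N] [Module R N] [Module.Finite R M] [Module.Finite R N] [Module.Projective R N]
    (φ : M →ₗ[R] N) (h : ∀ i, Function.Bijective (φ.lTensor (S i))) : Function.Bijective φ := by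
  have hsurj : Function.Surjective φ := surjective_of_lTensor_surjective S Hc φ fun i => (h i).2
  obtain ⟨j, hj⟩ := Module.projective_lifting_property φ LinearMap.id hsurj
  let π : M →ₗ[R] M := LinearMap.id - j ∘ₗ φ
  have hφπ : φ ∘ₗ π = 0 := by
    simp only [π, LinearMap.comp_sub, LinearMap.comp_id, ← LinearMap.comp_assoc, hj,
      LinearMap.id_comp, sub_self]
  have hππ : π ∘ₗ π = π := by
    simp only [π]
    rw [LinearMap.sub_comp, LinearMap.id_comp, LinearMap.comp_assoc]
    have : φ ∘ₗ (LinearMap.id - j ∘ₗ φ) = 0 := hφπ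
    rw [this, LinearMap.comp_zero, sub_zero]
  have hSπ : ∀ i, π.lTensor (S i) = 0 := by
    intro i
    have h1 : (φ.lTensor (S i)) ∘ₗ (π.lTensor (S i)) = 0 := by
      rw [← LinearMap.lTensor_comp, hφπ, LinearMap.lTensor_zero]
    refine LinearMap.ext fun z => ?_
    apply (h i).1
    have := congrArg (fun f => f z) h1
    simpa using this
  let K := LinearMap.range π
  let π' : M →ₗ[R] K := π.rangeRestrict
  have hπ'j : π' ∘ₗ K.subtype = LinearMap.id := by
    ext ⟨k, m, rfl⟩
    have := congrArg (fun f => f m) hππ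
    simpa [π'] using this
  have hjπ' : K.subtype ∘ₗ π' = π := by
    ext m
    rfl
  have hK : ∀ i, Subsingleton (S i ⊗[R] K) := by
    intro i
    refine ⟨fun x y => ?_⟩
    have hz : ∀ z : S i ⊗[R] K, z = 0 := by
      intro z
      have h1 : z = (π'.lTensor (S i)) ((K.subtype.lTensor (S i)) z) := by
        rw [← LinearMap.comp_apply, ← LinearMap.lTensor_comp, hπ'j, LinearMap.lTensor_id,
          LinearMap.id_apply]
      have h2 : (K.subtype.lTensor (S i)) z = 0 := by
        rw [h1, ← LinearMap.comp_apply, ← LinearMap.lTensor_comp, hjπ', hSπ i,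
          LinearMap.zero_apply]
      rw [h1, h2, map_zero]
    rw [hz x, hz y]
  have hKfin : Module.Finite R K := Module.Finite.range π
  have hK0 : Subsingleton K := subsingleton_of_finite S Hc K hK
  have hπ0 : π = 0 := by
    ext m
    have : π' m = 0 := Subsingleton.elim _ _
    have := congrArg Subtype.val this
    simpa [π'] using this
  refine ⟨?_, hsurj⟩
  rw [← LinearMap.ker_eq_bot, LinearMap.ker_eq_bot']
  intro m hm
  have := congrArg (fun f => f m) hπ0
  simp only [π, LinearMap.sub_apply, LinearMap.id_apply, LinearMap.comp_apply, hm, map_zero,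
    sub_zero, LinearMap.zero_apply] at this
  exact this

end descent

section faithful
variable {R : Type u} [CommRing R]

/-- if the annihilator of a finite projective algebra lies in every maximal ideal then the
algebra has a linear retraction to the base ring (so it is faithful) -/
lemma exists_retraction_of_ann_le (B : Type w) [Ring B] [Algebra R B]
    [Module.Finite R B] [Module.Projective R B]
    (hann : ∀ r : R, (∀ b : B, r • b = 0) → ∀ m : Ideal R, m.IsMaximal → r ∈ m) :
    ∃ s : B →ₗ[R] R, s 1 = 1 := by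
  obtain ⟨n, f, g, -, -, hfg⟩ := Module.Finite.exists_comp_eq_id_of_projective R B
  let ev : (B →ₗ[R] R) →ₗ[R] R := LinearMap.applyₗ (1 : B)
  let I : Ideal R := LinearMap.range ev
  have hI : ∀ (φ : B →ₗ[R] R) (a : B), φ a ∈ I := by
    intro φ a
    refine ⟨φ.comp (LinearMap.mulRight R a), ?_⟩
    simp [ev]
  have hle : (⊤ : Submodule R B) ≤ I • (⊤ : Submodule R B) := by
    intro a _
    have h1 : a = f (g a) := by
      have := congrArg (fun h : B →ₗ[R] B => h a) hfg
      simpa using this.symm
    have h2 : g a = ∑ i, (g a i) • (Pi.single i 1 : Fin n → R) := by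
      ext j
      simp [Finset.sum_apply, Pi.single_apply]
    rw [h1, h2, map_sum]
    refine Submodule.sum_mem _ fun i _ => ?_
    rw [map_smul]
    exact Submodule.smul_mem_smul (hI ((LinearMap.proj i).comp g) a) Submodule.mem_top
  obtain ⟨r, hr, hr0⟩ := Submodule.exists_sub_one_mem_and_smul_eq_zero_of_fg_of_le_smul I
    (⊤ : Submodule R B) Module.Finite.fg_top hle
  have hunit : IsUnit (1 - r) := by
    by_contra hnu
    obtain ⟨m, hm, hmem⟩ := exists_max_ideal_of_mem_nonunits (mem_nonunits_iff.mpr hnu)
    have hrm : r ∈ m := hann r (fun b => hr0 b Submodule.mem_top) m hm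
    have : (1 : R) ∈ m := by
      have := m.add_mem hmem hrm
      simpa using this
    exact hm.ne_top ((Ideal.eq_top_iff_one _).mpr this)
  have h1I : (1 - r) ∈ I := by
    have := I.neg_mem hr
    simpa using this
  have h1 : (1 : R) ∈ I := by
    obtain ⟨u, hu⟩ := hunit
    have := I.mul_mem_left (↑u⁻¹ : R) h1I
    rwa [← hu, Units.inv_mul] at this
  obtain ⟨s, hs⟩ := h1
  exact ⟨s, hs⟩

lemma faithful_of_retraction (B : Type w) [Ring B] [Algebra R B] (s : B →ₗ[R] R) (hs : s 1 = 1) :
    FaithfulSMul R B := by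
  rw [faithfulSMul_iff_algebraMap_injective]
  apply Function.LeftInverse.injective (g := fun b => s b)
  intro r
  simp [Algebra.algebraMap_eq_smul_one, hs]

end faithful

end Groth.Agent.Lib.Helper17.AzumayaFam
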