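import Groth.Agent.Lib.Helper28.SecPow
import Groth.Agent.Lib.Helper28.AmpleUnit
import Groth.Agent.Lib.Helper28.TensorPowGen
import Mathlib

/-!
# Base loci of the tensor powers of an invertible module
-/

set_option autoImplicit false
set_option backward.isDefEq.respectTransparency.types false
universe u
open CategoryTheory CategoryTheory.Limits AlgebraicGeometry Opposite TopologicalSpace
noncomputable section
namespace Groth.Agent.Lib.Helper17.BaseLocus

open Groth.Agent.Lib.Helper28 Groth.Agent.Lib.Helper28.QCohLoc Groth.Agent.Lib.Helper28.GenLocus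
open Groth.Agent.Lib.Helper28.AmpleUnit

variable {X : Scheme.{u}}

/-- the union of the loci `X_s` of the global sections of `L^m` (the complement of the base locus of `L^m`) -/
def UU (L : X.Modules) (m : ℕ) : X.Opens :=
  ⨆ s : Coh.structureModule X ⟶ CohB1.tensorPow L m, CohB1.genLocus _ s

theorem mem_UU_iff (L : X.Modules) (m : ℕ) (x : X) :
    x ∈ UU L m ↔ ∃ s : Coh.structureModule X ⟶ CohB1.tensorPow L m, x ∈ CohB1.genLocus _ s := by
  unfold UU
  exact Opens.mem_iSup

theorem bs_eq (L : X.Modules) (m : ℕ) :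
    {x : X | ∀ s : Coh.structureModule X ⟶ CohB1.tensorPow L m, x ∉ CohB1.genLocus (CohB1.tensorPow L m) s} =
      ((UU L m : Set X))ᶜ := by
  ext x
  simp only [Set.mem_setOf_eq, Set.mem_compl_iff, SetLike.mem_coe, mem_UU_iff, not_exists]

/-- powers of sections: the base locus of `L^(km)` is contained in that of `L^m` -/
theorem UU_le_mul {L : X.Modules} (hL : PicF.IsInvertible L) (m k : ℕ) (hk : 0 < k) : UU L m ≤ UU L (k * m) := by
  intro x hx
  obtain ⟨s, hs⟩ := (mem_UU_iff L m x).1 hx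
  obtain ⟨ψ, -⟩ := exists_tensorPow_tensorPow_iso hL m k (k * m) (by ring)
  refine (mem_UU_iff L (k * m) x).2 ⟨spow s k ≫ ψ.hom, ?_⟩
  rw [genLocus_comp_iso, genLocus_spow (isInvertible_tensorPow hL m) s k hk]
  exact hs

/-- the base locus of the `m`-th power of `L^p` is that of `L^(pm)` -/
theorem UU_pow {L : X.Modules} (hL : PicF.IsInvertible L) (p m : ℕ) :
    UU (CohB1.tensorPow L p) m = UU L (p * m) := by
  obtain ⟨ψ, -⟩ := exists_tensorPow_tensorPow_iso hL p m (p * m) rfl
  apply le_antisymm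
  · intro x hx
    obtain ⟨s, hs⟩ := (mem_UU_iff _ m x).1 hx
    refine (mem_UU_iff L (p * m) x).2 ⟨s ≫ ψ.hom, ?_⟩
    rw [genLocus_comp_iso]
    exact hs
  · intro x hx
    obtain ⟨s, hs⟩ := (mem_UU_iff _ _ x).1 hx
    refine (mem_UU_iff _ m x).2 ⟨s ≫ ψ.inv, ?_⟩
    have := genLocus_comp_iso s ψ.symm
    rw [Iso.symm_hom] at this
    rw [this]
    exact hs

/-- on a Noetherian space the base loci of the powers of `L` have a smallest member -/
theorem exists_stable {L : X.Modules} (hL : PicF.IsInvertible L) [NoetherianSpace X] :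
    ∃ n₀ : ℕ, 0 < n₀ ∧ ∀ m : ℕ, 0 < m → UU L m ≤ UU L n₀ := by
  haveI : WellFoundedGT (Opens X) := ‹NoetherianSpace X›
  let S : Set (Opens X) := {U | ∃ m : ℕ, 0 < m ∧ U = UU L m}
  have hne : S.Nonempty := ⟨UU L 1, 1, Nat.one_pos, rfl⟩
  obtain ⟨_, ⟨n₀, hn₀, rfl⟩, hmax⟩ := (wellFounded_gt (α := Opens X)).has_min S hne
  refine ⟨n₀, hn₀, fun m hm => ?_⟩
  have h1 : UU L m ≤ UU L (n₀ * m) := UU_le_mul hL m n₀ hn₀
  have h2 : UU L n₀ ≤ UU L (n₀ * m) := by
    have := UU_le_mul hL n₀ m hm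
    rwa [mul_comm] at this
  have h3 : ¬ UU L (n₀ * m) > UU L n₀ := hmax _ ⟨n₀ * m, Nat.mul_pos hn₀ hm, rfl⟩
  have h4 : UU L (n₀ * m) = UU L n₀ := by
    by_contra hne
    exact h3 (lt_of_le_of_ne h2 (Ne.symm hne))
  exact h4 ▸ h1

/-- a quasi-compact scheme locally of finite type over a field is a Noetherian space -/
theorem noetherianSpace_of_locallyOfFiniteType {k : Type u} [Field k] (f : X ⟶ Spec (CommRingCat.of k))
    [LocallyOfFiniteType f] [CompactSpace X] : NoetherianSpace X := by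
  haveI : IsLocallyNoetherian X := LocallyOfFiniteType.isLocallyNoetherian f
  haveI : IsNoetherian X := { }
  infer_instance

/-- the stable base locus is the base locus of `L^n₀` -/
theorem stable_eq {L : X.Modules} (n₀ : ℕ) (hn₀ : 0 < n₀) (h : ∀ m : ℕ, 0 < m → UU L m ≤ UU L n₀) :
    {x : X | ∀ m : ℕ, 0 < m → ∀ s : Coh.structureModule X ⟶ CohB1.tensorPow L m,
      x ∉ CohB1.genLocus (CohB1.tensorPow L m) s} = ((UU L n₀ : Set X))ᶜ := by
  ext x
  simp only [Set.mem_setOf_eq, Set.mem_compl_iff, SetLike.mem_coe, mem_UU_iff, not_exists]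
  constructor
  · intro hx
    exact hx n₀ hn₀
  · intro hx m hm s hs
    have h1 : x ∈ UU L n₀ := h m hm ((mem_UU_iff L m x).2 ⟨s, hs⟩)
    obtain ⟨t, ht⟩ := (mem_UU_iff L n₀ x).1 h1
    exact hx t ht

end Groth.Agent.Lib.Helper17.BaseLocus
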