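import Groth.Agent.Lib.Helper17.CechElem
import Groth.Agent.Lib.Helper28.QCohConv
import Groth.Agent.Lib.Helper28.ModAffineExt
import Mathlib
set_option backward.isDefEq.respectTransparency.types false
set_option autoImplicit false
universe u
open CategoryTheory CategoryTheory.Limits Opposite TopologicalSpace AlgebraicGeometry

namespace Groth.Agent.Lib.Helper17.CechAffine

open Groth.Agent.Lib.Helper17.CechElem Groth.Agent.Lib.Helper28.QCohLoc

variable {X : Scheme.{u}} (M : X.Modules)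

/-- transported surjectivity part of the localization property -/
theorem surj_of_isLocOn {U W' T : X.Opens} (hW'U : W' ≤ U) (hloc : IsLocOn M W') (f : Γ(X, U))
    (hT : T ≤ W') (hTf : T ≤ X.basicOpen f) (hTe : W' ⊓ X.basicOpen f ≤ T) (y : Γ(M, T)) :
    ∃ (n : ℕ) (b : Γ(M, W')), ((resO (hT.trans hW'U) f) ^ n • y : Γ(M, T)) = res M hT b := by
  have e : T = X.basicOpen (resO hW'U f) := by
    rw [basicOpen_resO]
    exact le_antisymm (le_inf hT hTf) hTe
  subst e
  obtain ⟨n, b, hb⟩ := hloc.surj (resO hW'U f) y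
  refine ⟨n, b, ?_⟩
  rw [← hb, resO_resO]

/-- transported injectivity part of the localization property -/
theorem inj_of_isLocOn {U W' T : X.Opens} (hW'U : W' ≤ U) (hloc : IsLocOn M W') (f : Γ(X, U))
    (hT : T ≤ W') (hTf : T ≤ X.basicOpen f) (hTe : W' ⊓ X.basicOpen f ≤ T) (e : Γ(M, W'))
    (he : res M hT e = 0) : ∃ n : ℕ, ((resO hW'U f) ^ n • e : Γ(M, W')) = 0 := by
  have e' : T = X.basicOpen (resO hW'U f) := by
    rw [basicOpen_resO]
    exact le_antisymm (le_inf hT hTf) hTe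
  subst e'
  exact hloc.inj (resO hW'U f) e he

section main

variable {ι : Type u} {U : X.Opens} (r : ι → Γ(X, U))

/-- the basic opens of the family -/
abbrev bo (i : ι) : X.Opens := X.basicOpen (r i)

theorem W_le_U {n : ℕ} (x : Fin (n + 1) → ι) : W (bo r) x ≤ U :=
  (W_le (bo r) x 0).trans (X.basicOpen_le _)

/-- components as sections of the module -/
noncomputable def compΓ {n : ℕ} (α : (K (bo r) M.presheaf).X n) (x : Fin (n + 1) → ι) : Γ(M, W (bo r) x) :=
  comp (bo r) M.presheaf α x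

theorem resO_add {A B : X.Opens} (h : B ≤ A) (a b : Γ(X, A)) : resO h (a + b) = resO h a + resO h b :=
  map_add _ _ _
theorem resO_mul {A B : X.Opens} (h : B ≤ A) (a b : Γ(X, A)) : resO h (a * b) = resO h a * resO h b :=
  map_mul _ _ _
theorem resO_one {A B : X.Opens} (h : B ≤ A) : resO h (1 : Γ(X, A)) = 1 := map_one _
theorem res_add' {A B : X.Opens} (h : B ≤ A) (a b : Γ(M, A)) : res M h (a + b) = res M h a + res M h b :=
  map_add _ _ _

/-- componentwise scalar multiplication on families -/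
noncomputable def smulFam {n : ℕ} (a : Γ(X, U)) (α : (K (bo r) M.presheaf).X n) :
    ∀ x : Fin (n + 1) → ι, M.presheaf.obj (op (W (bo r) x)) := fun x =>
    ((resO (W_le_U r x) a • compΓ M r α x : Γ(M, W (bo r) x)))

/-- componentwise scalar multiplication on cochains -/
noncomputable def smulC {n : ℕ} (a : Γ(X, U)) (α : (K (bo r) M.presheaf).X n) : (K (bo r) M.presheaf).X n :=
  mk (bo r) M.presheaf (smulFam M r a α)

theorem compΓ_smulC {n : ℕ} (a : Γ(X, U)) (α : (K (bo r) M.presheaf).X n) (x : Fin (n + 1) → ι) :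
    compΓ M r (smulC M r a α) x = resO (W_le_U r x) a • compΓ M r α x :=
  comp_mk _ _ _ x

theorem compΓ_add {n : ℕ} (α β : (K (bo r) M.presheaf).X n) (x : Fin (n + 1) → ι) :
    compΓ M r (α + β) x = compΓ M r α x + compΓ M r β x :=
  map_add _ _ _

theorem extΓ {n : ℕ} (α β : (K (bo r) M.presheaf).X n) (h : ∀ x, compΓ M r α x = compΓ M r β x) : α = β :=
  CechElem.ext _ _ α β h

theorem smulC_add {n : ℕ} (a b : Γ(X, U)) (α : (K (bo r) M.presheaf).X n) :
    smulC M r (a + b) α = smulC M r a α + smulC M r b α := by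
  apply extΓ
  intro x
  rw [compΓ_add, compΓ_smulC, compΓ_smulC, compΓ_smulC, resO_add, add_smul]

theorem smulC_mul {n : ℕ} (a b : Γ(X, U)) (α : (K (bo r) M.presheaf).X n) :
    smulC M r (a * b) α = smulC M r a (smulC M r b α) := by
  apply extΓ
  intro x
  rw [compΓ_smulC, compΓ_smulC, compΓ_smulC, resO_mul, mul_smul]

theorem smulC_one {n : ℕ} (α : (K (bo r) M.presheaf).X n) : smulC M r 1 α = α := by
  apply extΓ
  intro x
  rw [compΓ_smulC, resO_one, one_smul]

/-- the components of the differential -/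
theorem compΓ_d {n : ℕ} (α : (K (bo r) M.presheaf).X n) (y : Fin (n + 2) → ι) :
    compΓ M r ((K (bo r) M.presheaf).d n (n + 1) α) y =
      ∑ i : Fin (n + 2), (-1 : ℤ) ^ (i : ℕ) •
        res M (W_face_le (bo r) y i) (compΓ M r α (y ∘ Fin.succAbove i)) :=
  comp_d (bo r) M.presheaf α y

/-- the differential commutes with scalar multiplication -/
theorem d_smulC {n : ℕ} (a : Γ(X, U)) (α : (K (bo r) M.presheaf).X n) :
    (K (bo r) M.presheaf).d n (n + 1) (smulC M r a α) = smulC M r a ((K (bo r) M.presheaf).d n (n + 1) α) := by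
  apply extΓ
  intro y
  rw [compΓ_smulC, compΓ_d, compΓ_d, Finset.smul_sum]
  refine Finset.sum_congr rfl fun i _ => ?_
  rw [compΓ_smulC, smul_comm, res_smul, resO_resO]

theorem W_cons_le (k : ι) {n : ℕ} (x : Fin (n + 1) → ι) :
    W (bo r) (Fin.cons k x : Fin (n + 2) → ι) ≤ W (bo r) x :=
  le_W _ _ _ fun a => by
    have := W_le (bo r) (Fin.cons k x : Fin (n + 2) → ι) a.succ
    rwa [Fin.cons_succ] at this

theorem W_cons_le_bo (k : ι) {n : ℕ} (x : Fin (n + 1) → ι) :
    W (bo r) (Fin.cons k x : Fin (n + 2) → ι) ≤ X.basicOpen (r k) := by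
  have := W_le (bo r) (Fin.cons k x : Fin (n + 2) → ι) 0
  rwa [Fin.cons_zero] at this

theorem inf_le_W_cons (k : ι) {n : ℕ} (x : Fin (n + 1) → ι) :
    W (bo r) x ⊓ X.basicOpen (r k) ≤ W (bo r) (Fin.cons k x : Fin (n + 2) → ι) := by
  refine le_W _ _ _ (Fin.cases ?_ (fun a => ?_))
  · rw [Fin.cons_zero]
    exact inf_le_right
  · rw [Fin.cons_succ]
    exact inf_le_left.trans (W_le _ x a)

theorem compΓ_mk {n : ℕ} (f : ∀ x : Fin (n + 1) → ι, M.presheaf.obj (op (W (bo r) x))) (x : Fin (n + 1) → ι) :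
    compΓ M r (mk (bo r) M.presheaf f) x = f x :=
  comp_mk _ _ _ x

variable [Finite ι] (hloc : ∀ (n : ℕ) (x : Fin (n + 1) → ι), IsLocOn M (W (bo r) x))

include hloc in
theorem step1 (k : ι) {p : ℕ} (α : (K (bo r) M.presheaf).X (p + 1)) :
    ∃ (N : ℕ) (β : (K (bo r) M.presheaf).X p), ∀ x : Fin (p + 1) → ι,
      res M (W_cons_le r k x) (compΓ M r β x) =
        (resO (W_le_U r (Fin.cons k x : Fin (p + 2) → ι)) (r k)) ^ N •
          compΓ M r α (Fin.cons k x : Fin (p + 2) → ι) := by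
  have h1 : ∀ x : Fin (p + 1) → ι, ∃ (n : ℕ) (b : Γ(M, W (bo r) x)),
      ((resO (W_le_U r (Fin.cons k x : Fin (p + 2) → ι)) (r k)) ^ n •
          compΓ M r α (Fin.cons k x : Fin (p + 2) → ι) : Γ(M, W (bo r) (Fin.cons k x : Fin (p + 2) → ι))) =
        res M (W_cons_le r k x) b := fun x =>
    surj_of_isLocOn M (W_le_U r x) (hloc p x) (r k) (W_cons_le r k x) (W_cons_le_bo r k x)
      (inf_le_W_cons r k x) _
  choose n b hb using h1
  haveI : Fintype (Fin (p + 1) → ι) := Fintype.ofFinite _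
  let N := Finset.univ.sup n
  let fam : ∀ x : Fin (p + 1) → ι, M.presheaf.obj (op (W (bo r) x)) := fun x =>
    ((resO (W_le_U r x) (r k)) ^ (N - n x) • b x : Γ(M, W (bo r) x))
  refine ⟨N, mk (bo r) M.presheaf fam, fun x => ?_⟩
  rw [compΓ_mk]
  have hn : n x ≤ N := Finset.le_sup (Finset.mem_univ x)
  change res M (W_cons_le r k x) ((resO (W_le_U r x) (r k)) ^ (N - n x) • b x) = _
  rw [res_smul, ← hb, resO_pow, resO_resO, smul_smul, ← pow_add, Nat.sub_add_cancel hn]

omit [Finite ι] in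
theorem compΓ_congr {n : ℕ} (α : (K (bo r) M.presheaf).X n) {x x' : Fin (n + 1) → ι} (h : x = x')
    (hle : W (bo r) x' ≤ W (bo r) x) : res M hle (compΓ M r α x) = compΓ M r α x' := by
  subst h
  exact res_self M _

omit [Finite ι] in
theorem compΓ_zero {n : ℕ} (x : Fin (n + 1) → ι) : compΓ M r (0 : (K (bo r) M.presheaf).X n) x = 0 :=
  map_zero _

theorem res_sum {A B : X.Opens} (h : B ≤ A) {J : Type*} (s : Finset J) (f : J → Γ(M, A)) :
    res M h (∑ i ∈ s, f i) = ∑ i ∈ s, res M h (f i) := map_sum _ _ _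

theorem res_zsmul {A B : X.Opens} (h : B ≤ A) (c : ℤ) (m : Γ(M, A)) :
    res M h (c • m) = c • res M h m := map_zsmul _ _ _

omit [Finite ι] in
theorem W_cons_face_le (k : ι) {p : ℕ} (y : Fin (p + 2) → ι) (i : Fin (p + 2)) :
    W (bo r) (Fin.cons k y : Fin (p + 3) → ι) ≤
      W (bo r) (Fin.cons k (y ∘ Fin.succAbove i) : Fin (p + 2) → ι) := by
  refine le_W _ _ _ fun a => ?_
  have h := W_le (bo r) (Fin.cons k y : Fin (p + 3) → ι) (Fin.succAbove i.succ a)
  rwa [Groth.Agent.Lib.Helper8.CechContr.cons_comp_succAbove_succ k p i y a] at h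

omit [Finite ι] in
/-- the cocycle identity at a tuple starting with `k` -/
theorem cocycle_cons (k : ι) {p : ℕ} (α : (K (bo r) M.presheaf).X (p + 1))
    (hα : (K (bo r) M.presheaf).d (p + 1) (p + 2) α = 0) (y : Fin (p + 2) → ι) :
    res M (W_cons_le r k y) (compΓ M r α y) =
      ∑ i : Fin (p + 2), (-1 : ℤ) ^ (i : ℕ) •
        res M (W_cons_face_le r k y i) (compΓ M r α (Fin.cons k (y ∘ Fin.succAbove i) : Fin (p + 2) → ι)) := by
  have h0 := compΓ_d M r α (Fin.cons k y : Fin (p + 3) → ι)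
  rw [hα, compΓ_zero, Fin.sum_univ_succ] at h0
  -- the zeroth term
  have e0 : y = (Fin.cons k y : Fin (p + 3) → ι) ∘ Fin.succAbove 0 := by
    funext a
    simp [Fin.succAbove_zero]
  have t0 : res M (W_face_le (bo r) (Fin.cons k y : Fin (p + 3) → ι) 0)
      (compΓ M r α ((Fin.cons k y : Fin (p + 3) → ι) ∘ Fin.succAbove 0)) =
      res M (W_cons_le r k y) (compΓ M r α y) := by
    have hle : W (bo r) ((Fin.cons k y : Fin (p + 3) → ι) ∘ Fin.succAbove 0) ≤ W (bo r) y := by
      rw [← e0]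
    rw [← compΓ_congr M r α e0 hle, res_res]
  have ti : ∀ i : Fin (p + 2), res M (W_face_le (bo r) (Fin.cons k y : Fin (p + 3) → ι) i.succ)
      (compΓ M r α ((Fin.cons k y : Fin (p + 3) → ι) ∘ Fin.succAbove i.succ)) =
      res M (W_cons_face_le r k y i)
        (compΓ M r α (Fin.cons k (y ∘ Fin.succAbove i) : Fin (p + 2) → ι)) := by
    intro i
    have ei : (Fin.cons k (y ∘ Fin.succAbove i) : Fin (p + 2) → ι) =
        (Fin.cons k y : Fin (p + 3) → ι) ∘ Fin.succAbove i.succ := by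
      funext a
      exact (Groth.Agent.Lib.Helper8.CechContr.cons_comp_succAbove_succ k p i y a).symm
    have hle : W (bo r) ((Fin.cons k y : Fin (p + 3) → ι) ∘ Fin.succAbove i.succ) ≤
        W (bo r) (Fin.cons k (y ∘ Fin.succAbove i) : Fin (p + 2) → ι) := by
      rw [← ei]
    rw [← compΓ_congr M r α ei hle, res_res]
  rw [t0] at h0
  simp only [ti] at h0
  have h1 : ∀ i : Fin (p + 2), ((-1 : ℤ) ^ ((i.succ : Fin (p + 3)) : ℕ)) = -((-1 : ℤ) ^ (i : ℕ)) := by
    intro i
    rw [Fin.val_succ, pow_succ]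
    ring
  simp only [h1, neg_smul, Finset.sum_neg_distrib, Fin.val_zero, pow_zero, one_smul] at h0
  exact (sub_eq_zero.1 (by rw [sub_eq_add_neg]; exact h0.symm))

omit [Finite ι] in
theorem step2 (k : ι) {p : ℕ} (α : (K (bo r) M.presheaf).X (p + 1))
    (hα : (K (bo r) M.presheaf).d (p + 1) (p + 2) α = 0) (N : ℕ) (β : (K (bo r) M.presheaf).X p)
    (hβ : ∀ x : Fin (p + 1) → ι, res M (W_cons_le r k x) (compΓ M r β x) =
        (resO (W_le_U r (Fin.cons k x : Fin (p + 2) → ι)) (r k)) ^ N •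
          compΓ M r α (Fin.cons k x : Fin (p + 2) → ι))
    (y : Fin (p + 2) → ι) :
    res M (W_cons_le r k y) (compΓ M r ((K (bo r) M.presheaf).d p (p + 1) β) y) =
      (resO (W_le_U r (Fin.cons k y : Fin (p + 3) → ι)) (r k)) ^ N •
        res M (W_cons_le r k y) (compΓ M r α y) := by
  rw [cocycle_cons M r k α hα y, compΓ_d, res_sum, Finset.smul_sum]
  refine Finset.sum_congr rfl fun i _ => ?_
  rw [res_zsmul, res_res, smul_comm]
  congr 1
  have h1 : res M ((W_cons_le r k y).trans (W_face_le (bo r) y i)) (compΓ M r β (y ∘ Fin.succAbove i)) =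
      res M (W_cons_face_le r k y i) (res M (W_cons_le r k (y ∘ Fin.succAbove i))
        (compΓ M r β (y ∘ Fin.succAbove i))) := (res_res M _ _ _).symm
  rw [h1, hβ, res_smul, resO_pow, resO_resO]

include hloc in
/-- a power of each `r k` multiplies a cocycle into a coboundary -/
theorem exists_pow_smulC_eq_d (k : ι) {p : ℕ} (α : (K (bo r) M.presheaf).X (p + 1))
    (hα : (K (bo r) M.presheaf).d (p + 1) (p + 2) α = 0) :
    ∃ (N : ℕ) (β : (K (bo r) M.presheaf).X p),
      (K (bo r) M.presheaf).d p (p + 1) β = smulC M r (r k ^ N) α := by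
  obtain ⟨N, β, hβ⟩ := step1 M r hloc k α
  have h2 := step2 M r k α hα N β hβ
  -- the error terms are killed by a power of `r k`
  have h3 : ∀ y : Fin (p + 2) → ι, ∃ n : ℕ,
      ((resO (W_le_U r y) (r k)) ^ n •
        (compΓ M r ((K (bo r) M.presheaf).d p (p + 1) β) y -
          (resO (W_le_U r y) (r k)) ^ N • compΓ M r α y) : Γ(M, W (bo r) y)) = 0 := by
    intro y
    refine inj_of_isLocOn M (W_le_U r y) (hloc (p + 1) y) (r k) (W_cons_le r k y) (W_cons_le_bo r k y)
      (inf_le_W_cons r k y) _ ?_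
    rw [res_sub, h2 y, res_smul, resO_pow, resO_resO, sub_self]
  choose n hn using h3
  haveI : Fintype (Fin (p + 2) → ι) := Fintype.ofFinite _
  let N' := Finset.univ.sup n
  refine ⟨N' + N, smulC M r (r k ^ N') β, ?_⟩
  rw [d_smulC]
  apply extΓ
  intro y
  rw [compΓ_smulC, compΓ_smulC, resO_pow, resO_pow]
  have hle : n y ≤ N' := Finset.le_sup (Finset.mem_univ y)
  have h4 : ((resO (W_le_U r y) (r k)) ^ N' •
        (compΓ M r ((K (bo r) M.presheaf).d p (p + 1) β) y -
          (resO (W_le_U r y) (r k)) ^ N • compΓ M r α y) : Γ(M, W (bo r) y)) = 0 := by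
    rw [← Nat.sub_add_cancel hle, pow_add, mul_smul, hn y, smul_zero]
  rw [smul_sub, sub_eq_zero, smul_smul, ← pow_add] at h4
  exact h4

include hloc in
/-- **Čech acyclicity**: exactness of the Čech complex of a family of basic opens covering an affine open -/
theorem exists_d_eq (hcov : Ideal.span (Set.range r) = ⊤) {p : ℕ} (α : (K (bo r) M.presheaf).X (p + 1))
    (hα : (K (bo r) M.presheaf).d (p + 1) (p + 2) α = 0) :
    ∃ β : (K (bo r) M.presheaf).X p, (K (bo r) M.presheaf).d p (p + 1) β = α := by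
  let 𝔞 : Ideal Γ(X, U) :=
    { carrier := {a | ∃ β : (K (bo r) M.presheaf).X p, (K (bo r) M.presheaf).d p (p + 1) β = smulC M r a α}
      add_mem' := by
        rintro a b ⟨β, hβ⟩ ⟨β', hβ'⟩
        exact ⟨β + β', by rw [map_add, hβ, hβ', smulC_add]⟩
      zero_mem' := by
        refine ⟨0, ?_⟩
        rw [map_zero]
        apply extΓ
        intro x
        rw [compΓ_zero, compΓ_smulC]
        have : resO (W_le_U r x) (0 : Γ(X, U)) = 0 := map_zero _
        rw [this, zero_smul]
      smul_mem' := by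
        rintro c a ⟨β, hβ⟩
        exact ⟨smulC M r c β, by rw [d_smulC, hβ, smul_eq_mul, smulC_mul]⟩ }
  have hk : ∀ k : ι, ∃ N : ℕ, r k ^ N ∈ 𝔞 := fun k => by
    obtain ⟨N, β, hβ⟩ := exists_pow_smulC_eq_d M r hloc k α hα
    exact ⟨N, β, hβ⟩
  choose N hN using hk
  haveI : Fintype ι := Fintype.ofFinite _
  let N₀ := Finset.univ.sup N
  have hk' : ∀ k : ι, r k ^ N₀ ∈ 𝔞 := fun k => by
    have hle : N k ≤ N₀ := Finset.le_sup (Finset.mem_univ k)
    rw [← Nat.sub_add_cancel hle, pow_add]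
    exact 𝔞.mul_mem_left _ (hN k)
  have htop : 𝔞 = ⊤ := by
    rw [eq_top_iff, ← Ideal.span_pow_eq_top _ hcov N₀, Ideal.span_le]
    rintro _ ⟨_, ⟨k, rfl⟩, rfl⟩
    exact hk' k
  have h1 : (1 : Γ(X, U)) ∈ 𝔞 := by rw [htop]; trivial
  obtain ⟨β, hβ⟩ := h1
  exact ⟨β, by rw [hβ, smulC_one]⟩

end main

section qcoh

variable {ι : Type u} {U : X.Opens} (r : ι → Γ(X, U))

theorem mem_basicOpen_prod {J : Type*} (s : Finset J) (g : J → Γ(X, U)) (z : X) :
    z ∈ X.basicOpen (∏ a ∈ s, g a) ↔ z ∈ U ∧ ∀ a ∈ s, z ∈ X.basicOpen (g a) := by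
  classical
  induction s using Finset.induction_on with
  | empty => simp
  | insert a s ha ih =>
    rw [Finset.prod_insert ha, Scheme.basicOpen_mul]
    constructor
    · rintro ⟨h1, h2⟩
      obtain ⟨hU, h3⟩ := ih.1 h2
      refine ⟨hU, fun b hb => ?_⟩
      rcases Finset.mem_insert.1 hb with rfl | hb
      · exact h1
      · exact h3 b hb
    · rintro ⟨hU, h⟩
      exact ⟨h a (Finset.mem_insert_self a s), ih.2 ⟨hU, fun b hb => h b (Finset.mem_insert_of_mem hb)⟩⟩

theorem W_eq_basicOpen {n : ℕ} (x : Fin (n + 1) → ι) :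
    W (bo r) x = X.basicOpen (∏ a, r (x a)) := by
  apply le_antisymm
  · intro z hz
    exact (mem_basicOpen_prod Finset.univ (fun a => r (x a)) z).2
      ⟨W_le_U r x hz, fun a _ => W_le (bo r) x a hz⟩
  · refine le_W _ _ _ fun a z hz => ?_
    exact ((mem_basicOpen_prod Finset.univ (fun a => r (x a)) z).1 hz).2 a (Finset.mem_univ a)

theorem isAffineOpen_W (hU : IsAffineOpen U) {n : ℕ} (x : Fin (n + 1) → ι) : IsAffineOpen (W (bo r) x) := by
  rw [W_eq_basicOpen]
  exact hU.basicOpen _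

/-- **Čech acyclicity of quasi-coherent modules** for a finite family of basic opens of an affine open generating the
unit ideal. -/
theorem isZero_cechH [Finite ι] [M.IsQuasicoherent] (hU : IsAffineOpen U)
    (hcov : Ideal.span (Set.range r) = ⊤) (p : ℕ) :
    IsZero (((cechComplexFunctor (fun i => X.basicOpen (r i))).obj M.presheaf).homology (p + 1)) :=
  isZero_homology_succ (bo r) M.presheaf p fun α hα =>
    exists_d_eq M r (fun n x => isLocOn_of_isQuasicoherent M (isAffineOpen_W r hU x)) hcov α hα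

end qcoh

end Groth.Agent.Lib.Helper17.CechAffine
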