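import Mathlib
set_option backward.isDefEq.respectTransparency.types false
set_option autoImplicit false

/-!
# A point of a proper scheme over a field whose closure lies in an affine open is closed
-/

universe u
open CategoryTheory CategoryTheory.Limits AlgebraicGeometry Opposite TopologicalSpace

namespace Groth.Agent.Lib.Helper17.ClosedPt

theorem isClosed_singleton_of_closure_subset_affine {k : Type u} [Field k] {X : Scheme.{u}}
    (f : X ⟶ Spec (CommRingCat.of k)) [IsProper f] {U : X.Opens} (hU : IsAffineOpen U) (y : X)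
    (hy : closure ({y} : Set X) ⊆ U) : IsClosed ({y} : Set X) := by
  have hyU : y ∈ U := hy (subset_closure rfl)
  obtain ⟨P, hP⟩ : ∃ P : ↥(Spec Γ(X, U)), hU.fromSpec P = y := by
    have : y ∈ Set.range hU.fromSpec := by rw [hU.range_fromSpec]; exact hyU
    exact this
  let Q : PrimeSpectrum Γ(X, U) := P
  haveI : Q.asIdeal.IsPrime := Q.2
  let π : Γ(X, U) ⟶ CommRingCat.of (Γ(X, U) ⧸ Q.asIdeal) := CommRingCat.ofHom (Ideal.Quotient.mk Q.asIdeal)
  have hπ : Function.Surjective π.hom := Ideal.Quotient.mk_surjective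
  let i : Spec (CommRingCat.of (Γ(X, U) ⧸ Q.asIdeal)) ⟶ X := Spec.map π ≫ hU.fromSpec
  have hemb : Topology.IsOpenEmbedding hU.fromSpec := hU.fromSpec.isOpenEmbedding
  have hsing : hU.fromSpec '' ({P} : Set (Spec Γ(X, U))) = {y} := by rw [Set.image_singleton, hP]
  have himg : hU.fromSpec '' closure ({P} : Set (Spec Γ(X, U))) = closure ({y} : Set X) := by
    rw [hemb.isInducing.closure_eq_preimage_closure_image, hsing,
      Set.image_preimage_eq_inter_range, hU.range_fromSpec]
    exact Set.inter_eq_left.2 hy
  have hcl : closure ({P} : Set (Spec Γ(X, U))) = PrimeSpectrum.zeroLocus (Q.asIdeal : Set Γ(X, U)) :=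
    PrimeSpectrum.closure_singleton Q
  have hrange : Set.range i = closure ({y} : Set X) := by
    have h1 : Set.range i = hU.fromSpec '' Set.range (Spec.map π) := by
      rw [← Set.range_comp]
      rfl
    have h2 : Set.range (Spec.map π) = PrimeSpectrum.zeroLocus (Q.asIdeal : Set Γ(X, U)) := by
      have := range_comap_of_surjective _ π.hom hπ
      have hker : RingHom.ker π.hom = Q.asIdeal := Ideal.mk_ker
      rw [hker] at this
      exact this
    rw [h1, h2, ← hcl, himg]
  haveI : IsClosedImmersion i := IsClosedImmersion.of_isPreimmersion i (by rw [hrange]; exact isClosed_closure)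
  haveI : IsProper (i ≫ f) := inferInstance
  have hfield : IsField Γ(Spec (CommRingCat.of (Γ(X, U) ⧸ Q.asIdeal)), ⊤) :=
    isField_of_universallyClosed k (i ≫ f)
  have hfield' : IsField (Γ(X, U) ⧸ Q.asIdeal) :=
    (Scheme.ΓSpecIso (CommRingCat.of (Γ(X, U) ⧸ Q.asIdeal))).commRingCatIsoToRingEquiv.symm.toMulEquiv.isField
      hfield
  have hmax : Q.asIdeal.IsMaximal := Ideal.Quotient.maximal_of_isField _ hfield'
  have hPc : IsClosed ({P} : Set (Spec Γ(X, U))) := (PrimeSpectrum.isClosed_singleton_iff_isMaximal Q).2 hmax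
  rw [hPc.closure_eq, hsing] at himg
  rw [himg]
  exact isClosed_closure

end Groth.Agent.Lib.Helper17.ClosedPt
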