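import Mathlib
import Groth.Agent.Lib.Helper17.ColimSysProps

/-!
Descent of (formal) smoothness of a base change to a finite level of a directed system.
-/

namespace Groth.Agent.Lib.Helper17.ColimSys

open TensorProduct

universe u

section Data

variable {B₀ : Type u} [CommRing B₀] {C₀ : Type u} [CommRing C₀] [Algebra B₀ C₀]
  {n m : ℕ} (P : Algebra.Presentation B₀ C₀ (Fin n) (Fin m))

/-- The relations of the presentation, base changed to `T`. -/
noncomputable def rel (T : Type u) [CommRing T] [Algebra B₀ T] (j : Fin m) :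
    MvPolynomial (Fin n) T :=
  MvPolynomial.map (algebraMap B₀ T) (P.relation j)

/-- Index type of the polynomial data witnessing a section of `P/I² → C`. -/
abbrev Idx (n m : ℕ) : Type := Fin n ⊕ ((Fin n × Fin m) ⊕ (Fin m × (Fin m × Fin m)))

/-- The identities to be satisfied by the data. -/
noncomputable def err (T : Type u) [CommRing T] [Algebra B₀ T]
    (d : Idx n m → MvPolynomial (Fin n) T) : Fin n ⊕ Fin m → MvPolynomial (Fin n) T
  | .inl k => d (.inl k) - MvPolynomial.X k - ∑ j, d (.inr (.inl (k, j))) * rel P T j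
  | .inr j => MvPolynomial.bind₁ (fun k => d (.inl k)) (rel P T j) -
      ∑ ab : Fin m × Fin m, d (.inr (.inr (j, ab))) * (rel P T ab.1 * rel P T ab.2)

def SmoothData (T : Type u) [CommRing T] [Algebra B₀ T] : Prop :=
  ∃ d : Idx n m → MvPolynomial (Fin n) T, ∀ e, err P T d e = 0

theorem map_rel {T T' : Type u} [CommRing T] [Algebra B₀ T] [CommRing T'] [Algebra B₀ T']
    (φ : T →ₐ[B₀] T') (j : Fin m) :
    MvPolynomial.map (φ : T →+* T') (rel P T j) = rel P T' j := by
  rw [rel, rel, MvPolynomial.map_map]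
  have : (φ : T →+* T').comp (algebraMap B₀ T) = algebraMap B₀ T' := by
    ext b
    simp
  rw [this]

theorem map_err {T T' : Type u} [CommRing T] [Algebra B₀ T] [CommRing T'] [Algebra B₀ T']
    (φ : T →ₐ[B₀] T') (d : Idx n m → MvPolynomial (Fin n) T) (e : Fin n ⊕ Fin m) :
    MvPolynomial.map (φ : T →+* T') (err P T d e) =
      err P T' (fun x => MvPolynomial.map (φ : T →+* T') (d x)) e := by
  rcases e with k | j
  · simp only [err, map_sub, map_sum, map_mul, MvPolynomial.map_X, map_rel]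
  · simp only [err, map_sub, map_sum, map_mul, MvPolynomial.map_bind₁, map_rel]

theorem SmoothData.map {T T' : Type u} [CommRing T] [Algebra B₀ T] [CommRing T'] [Algebra B₀ T']
    (φ : T →ₐ[B₀] T') (h : SmoothData P T) : SmoothData P T' := by
  obtain ⟨d, hd⟩ := h
  exact ⟨fun x => MvPolynomial.map (φ : T →+* T') (d x), fun e => by
    rw [← map_err, hd e, map_zero]⟩

theorem formallySmooth_of_smoothData (T : Type u) [CommRing T] [Algebra B₀ T]
    (h : SmoothData P T) : Algebra.FormallySmooth T (T ⊗[B₀] C₀) := by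
  obtain ⟨d, hd⟩ := h
  let PT := P.baseChange T
  let f : PT.Ring →ₐ[T] T ⊗[B₀] C₀ := IsScalarTower.toAlgHom T PT.Ring _
  have hf : Function.Surjective f := PT.algebraMap_surjective
  have hkerf : RingHom.ker f.toRingHom = Ideal.span (Set.range (rel P T)) :=
    PT.span_range_relation_eq_ker.symm
  have hrel : ∀ j, f (rel P T j) = 0 := by
    intro j
    have : rel P T j ∈ RingHom.ker f.toRingHom := by
      rw [hkerf]; exact Ideal.subset_span ⟨j, rfl⟩
    exact this
  let hh : Fin n → PT.Ring := fun k => d (.inl k)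
  have ha : ∀ k, f (hh k) = f (MvPolynomial.X k) := by
    intro k
    have h0 := hd (.inl k)
    simp only [err] at h0
    have h1 : hh k = MvPolynomial.X k + ∑ j, d (.inr (.inl (k, j))) * rel P T j := by
      linear_combination h0
    rw [h1, map_add, map_sum]
    simp [hrel]
  have hfa : ∀ y : PT.Ring, f (MvPolynomial.aeval hh y) = f y := by
    intro y
    rw [MvPolynomial.comp_aeval_apply]
    simp_rw [ha]
    rw [← MvPolynomial.comp_aeval_apply, MvPolynomial.aeval_X_left_apply]
  let φ : PT.Ring →ₐ[T] PT.Ring ⧸ RingHom.ker f.toRingHom ^ 2 :=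
    (Ideal.Quotient.mkₐ T _).comp (MvPolynomial.aeval hh)
  have hφ : ∀ a ∈ RingHom.ker f, φ a = 0 := by
    intro a ha'
    have ha'' : a ∈ Ideal.span (Set.range (rel P T)) := by rw [← hkerf]; exact ha'
    have hle : Ideal.span (Set.range (rel P T)) ≤ RingHom.ker φ.toRingHom := by
      rw [Ideal.span_le]
      rintro _ ⟨j, rfl⟩
      have h0 := hd (.inr j)
      simp only [err] at h0
      have h1 : MvPolynomial.aeval hh (rel P T j) =
          ∑ ab : Fin m × Fin m, d (.inr (.inr (j, ab))) * (rel P T ab.1 * rel P T ab.2) := by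
        rw [sub_eq_zero] at h0
        exact h0
      change φ (rel P T j) = 0
      simp only [φ, AlgHom.comp_apply, h1, map_sum]
      refine Finset.sum_eq_zero fun ab _ => ?_
      rw [Ideal.Quotient.mkₐ_eq_mk, Ideal.Quotient.eq_zero_iff_mem, pow_two]
      refine Ideal.mul_mem_left _ _ (Ideal.mul_mem_mul ?_ ?_)
      · exact hrel ab.1
      · exact hrel ab.2
    exact hle ha''
  let g₀ : PT.Ring ⧸ RingHom.ker f →ₐ[T] PT.Ring ⧸ RingHom.ker f.toRingHom ^ 2 :=
    Ideal.Quotient.liftₐ (RingHom.ker f) φ hφ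
  let e := Ideal.quotientKerAlgEquivOfSurjective hf
  refine Algebra.FormallySmooth.of_split f (g₀.comp (e.symm : _ →ₐ[T] _)) ?_
  apply AlgHom.ext
  intro x
  obtain ⟨y, rfl⟩ := hf x
  have h1 : e.symm (f y) = Ideal.Quotient.mk _ y := by
    apply e.injective
    rw [AlgEquiv.apply_symm_apply]
    rfl
  simp only [AlgHom.comp_apply, AlgEquiv.coe_algHom, h1, AlgHom.id_apply]
  change f.kerSquareLift (φ y) = f y
  simp only [φ, AlgHom.comp_apply, Ideal.Quotient.mkₐ_eq_mk]
  rw [AlgHom.kerSquareLift_mk]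
  exact hfa y

theorem smoothData_of_formallySmooth (T : Type u) [CommRing T] [Algebra B₀ T]
    [Algebra.FormallySmooth T (T ⊗[B₀] C₀)] : SmoothData P T := by
  let PT := P.baseChange T
  let f : PT.Ring →ₐ[T] T ⊗[B₀] C₀ := IsScalarTower.toAlgHom T PT.Ring _
  have hf : Function.Surjective f := PT.algebraMap_surjective
  have hkerf : RingHom.ker f.toRingHom = Ideal.span (Set.range (rel P T)) :=
    PT.span_range_relation_eq_ker.symm
  have hrel : ∀ j, f (rel P T j) = 0 := by
    intro j
    have : rel P T j ∈ RingHom.ker f.toRingHom := by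
      rw [hkerf]; exact Ideal.subset_span ⟨j, rfl⟩
    exact this
  obtain ⟨g, hg⟩ := (Algebra.FormallySmooth.iff_split_surjection f hf).mp inferInstance
  have hsurjmk := fun k : Fin n => Ideal.Quotient.mk_surjective (g (f (MvPolynomial.X k)))
  choose hh hhh using hsurjmk
  have ha : ∀ k, hh k - MvPolynomial.X k ∈ Ideal.span (Set.range (rel P T)) := by
    intro k
    rw [← hkerf]
    change f (hh k - MvPolynomial.X k) = 0
    rw [map_sub, sub_eq_zero]
    have h1 := congrArg f.kerSquareLift (hhh k)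
    rw [AlgHom.kerSquareLift_mk] at h1
    rw [h1]
    exact DFunLike.congr_fun hg (f (MvPolynomial.X k))
  simp_rw [Ideal.mem_span_range_iff_exists_fun] at ha
  choose q hq using ha
  have hcomp : (Ideal.Quotient.mkₐ T (RingHom.ker f.toRingHom ^ 2)).comp
      (MvPolynomial.aeval hh) = g.comp f := by
    apply MvPolynomial.algHom_ext
    intro k
    simp only [AlgHom.comp_apply, MvPolynomial.aeval_X, Ideal.Quotient.mkₐ_eq_mk]
    exact hhh k
  have hb : ∀ j, MvPolynomial.aeval hh (rel P T j) ∈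
      Ideal.span (Set.range (fun ab : Fin m × Fin m => rel P T ab.1 * rel P T ab.2)) := by
    intro j
    have h1 : Ideal.Quotient.mk (RingHom.ker f.toRingHom ^ 2)
        (MvPolynomial.aeval hh (rel P T j)) = 0 := by
      have := DFunLike.congr_fun hcomp (rel P T j)
      simp only [AlgHom.comp_apply, Ideal.Quotient.mkₐ_eq_mk] at this
      rw [this, hrel, map_zero]
    rw [Ideal.Quotient.eq_zero_iff_mem, hkerf, pow_two, Ideal.span_mul_span'] at h1
    convert h1 using 2
    ext x
    simp only [Set.mem_range, Prod.exists, Set.mem_mul, exists_exists_eq_and]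
  simp_rw [Ideal.mem_span_range_iff_exists_fun] at hb
  choose p hp using hb
  refine ⟨fun x => match x with
    | .inl k => hh k
    | .inr (.inl (k, j)) => q k j
    | .inr (.inr (j, ab)) => p j ab, ?_⟩
  rintro (k | j)
  · simp only [err]
    rw [hq k, sub_self]
  · simp only [err]
    rw [hp j]
    exact sub_self _

end Data

variable {ι : Type u} [Preorder ι] [IsDirected ι (· ≤ ·)] [Nonempty ι]
  {A₀ : Type u} [CommRing A₀] {G : ι → Type u} [∀ i, CommRing (G i)] [∀ i, Algebra A₀ (G i)]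
  {A : Type u} [CommRing A] [Algebra A₀ A] (g : ∀ i, G i →ₐ[A₀] A)
  (f : ∀ i j, i ≤ j → (G i →ₐ[A₀] G j))
  (hg : ∀ i j (h : i ≤ j), (g j).comp (f i j h) = g i)
  (hsurj : ∀ a : A, ∃ i, ∃ x : G i, g i x = a)
  (hker : ∀ i (x : G i), g i x = 0 → ∃ j, ∃ h : i ≤ j, f i j h x = 0)
  (B₀ : Type u) [CommRing B₀] [Algebra A₀ B₀] (C₀ : Type u) [CommRing C₀] [Algebra B₀ C₀]

include hg hsurj hker in
theorem exists_smoothData {n m : ℕ} (P : Algebra.Presentation B₀ C₀ (Fin n) (Fin m)) (i : ι)
    (h : SmoothData P (B₀ ⊗[A₀] A)) :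
    ∃ l, ∃ _ : Adm g i l, SmoothData P (B₀ ⊗[A₀] G l) := by
  obtain ⟨d, hd⟩ := h
  obtain ⟨l₁, F₁, d', hd'⟩ := lift_mvPoly g f hg hsurj hker B₀ i d
  have he : ∀ e, MvPolynomial.map (Bmap B₀ (g l₁) : B₀ ⊗[A₀] G l₁ →+* B₀ ⊗[A₀] A)
      (err P _ d' e) = 0 := by
    intro e
    rw [map_err]
    have : (fun x => MvPolynomial.map (Bmap B₀ (g l₁) : B₀ ⊗[A₀] G l₁ →+* B₀ ⊗[A₀] A) (d' x)) = d :=
      funext hd'
    rw [this]
    exact hd e
  obtain ⟨l₂, F₂, h₂⟩ := kill_mvPoly g f hg hsurj hker B₀ l₁ (err P _ d') he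
  refine ⟨l₂, Adm.comp g _ _ _ F₁ F₂,
    fun x => MvPolynomial.map (Bmap B₀ F₂.1 : B₀ ⊗[A₀] G l₁ →+* B₀ ⊗[A₀] G l₂) (d' x), fun e => ?_⟩
  rw [← map_err]
  exact h₂ e

end Groth.Agent.Lib.Helper17.ColimSys
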