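import Mathlib

/-!
# Global functions of a connected reduced scheme that are integral over an algebraically closed field
-/

set_option backward.isDefEq.respectTransparency.types false
set_option autoImplicit false
universe u
open CategoryTheory CategoryTheory.Limits AlgebraicGeometry Opposite TopologicalSpace
noncomputable section

namespace Groth.Agent.Lib.Helper17.ConnSections

/-- On a connected reduced scheme, a global function that is integral over an algebraically closed
field of constants is a constant. -/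
theorem exists_eq_of_isIntegral {Z : Scheme.{u}} [IsReduced Z] [ConnectedSpace Z] {K : Type u} [Field K]
    [IsAlgClosed K] (ψ : K →+* Γ(Z, ⊤)) (s : Γ(Z, ⊤)) (hs : ψ.IsIntegralElem s) : ∃ c : K, s = ψ c := by
  classical
  obtain ⟨P, hP, hPs⟩ := hs
  have hsplit : P.Splits := IsAlgClosed.splits P
  have key : ∀ z : Z, ∃ a ∈ P.roots, z ∉ Z.basicOpen (s - ψ a) := by
    intro z
    let φ : Γ(Z, ⊤) →+* Z.residueField z := (Z.Γevaluation z).hom
    have h1 : (P.map (φ.comp ψ)).eval (φ s) = 0 := by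
      rw [Polynomial.eval_map, ← Polynomial.hom_eval₂, hPs, map_zero]
    have hroot : φ s ∈ (P.map (φ.comp ψ)).roots :=
      (Polynomial.mem_roots (hP.map _).ne_zero).mpr h1
    rw [hsplit.roots_map] at hroot
    obtain ⟨a, ha, hav⟩ := Multiset.mem_map.mp hroot
    refine ⟨a, ha, ?_⟩
    rw [← Scheme.evaluation_eq_zero_iff_notMem_basicOpen Z z (show z ∈ (⊤ : Z.Opens) from trivial)]
    show φ (s - ψ a) = 0
    rw [map_sub, sub_eq_zero]
    exact hav.symm
  obtain ⟨z₀⟩ := (inferInstance : Nonempty Z)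
  obtain ⟨a₀, ha₀, hz₀⟩ := key z₀
  have hne : ∀ (z : Z) (a b : K), a ≠ b → z ∉ Z.basicOpen (s - ψ b) → z ∈ Z.basicOpen (s - ψ a) := by
    intro z a b hab hzb
    let φ : Γ(Z, ⊤) →+* Z.residueField z := (Z.Γevaluation z).hom
    rw [← Scheme.evaluation_eq_zero_iff_notMem_basicOpen Z z (show z ∈ (⊤ : Z.Opens) from trivial)] at hzb
    rw [← Scheme.evaluation_ne_zero_iff_mem_basicOpen Z z (show z ∈ (⊤ : Z.Opens) from trivial)]
    change φ (s - ψ b) = 0 at hzb
    show φ (s - ψ a) ≠ 0
    rw [map_sub, sub_eq_zero] at hzb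
    rw [map_sub, hzb, ← map_sub, ← map_sub]
    intro h0
    have h1 : (φ.comp ψ) (b - a) = 0 := h0
    exact hab ((sub_eq_zero.mp ((map_eq_zero (φ.comp ψ)).mp h1)).symm)
  have hU : ((Z.basicOpen (s - ψ a₀) : Z.Opens) : Set Z) =
      ⋃ b ∈ (P.roots.toFinset.erase a₀), ((Z.basicOpen (s - ψ b) : Z.Opens) : Set Z)ᶜ := by
    ext z
    simp only [Set.mem_iUnion, Set.mem_compl_iff, SetLike.mem_coe, Finset.mem_erase, Multiset.mem_toFinset,
      exists_prop]
    constructor
    · intro hz
      obtain ⟨b, hb, hzb⟩ := key z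
      refine ⟨b, ⟨?_, hb⟩, hzb⟩
      rintro rfl
      exact hzb hz
    · rintro ⟨b, ⟨hba, -⟩, hzb⟩
      exact hne z a₀ b (Ne.symm hba) hzb
  have hclosed : IsClosed ((Z.basicOpen (s - ψ a₀) : Z.Opens) : Set Z) := by
    rw [hU]
    exact (Finset.finite_toSet _).isClosed_biUnion (fun b _ => (Z.basicOpen (s - ψ b)).2.isClosed_compl)
  have hclopen : IsClopen ((Z.basicOpen (s - ψ a₀) : Z.Opens) : Set Z) := ⟨hclosed, (Z.basicOpen _).2⟩
  rcases isClopen_iff.mp hclopen with h | h
  · refine ⟨a₀, ?_⟩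
    have hbot : Z.basicOpen (s - ψ a₀) = ⊥ := by
      ext z
      simp only [SetLike.mem_coe]
      rw [← SetLike.mem_coe, h]
      simp
    exact sub_eq_zero.mp ((AlgebraicGeometry.basicOpen_eq_bot_iff _).mp hbot)
  · exfalso
    apply hz₀
    rw [← SetLike.mem_coe, h]
    trivial

end Groth.Agent.Lib.Helper17.ConnSections
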