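import Groth.Agent.Lib.Helper17.GGStalk2
import Groth.Agent.Lib.Helper28.CounitGen
import Mathlib

/-!
# Stalks of a module whose counit `f^* f_* M ⟶ M` is an epimorphism are spanned by the germs of sections over
preimages of opens of the base
-/

set_option autoImplicit false
set_option backward.isDefEq.respectTransparency.types false
universe w u
open CategoryTheory CategoryTheory.Limits AlgebraicGeometry Opposite TopologicalSpace
noncomputable section
namespace Groth.Agent.Lib.Helper17.CounitStalk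

open Groth.Agent.Lib.Helper16.Stk Groth.Agent.Lib.Helper28 Groth.Agent.Lib.Helper28.QCohLoc
  Groth.Agent.Lib.Helper28.GenLocus Groth.Agent.Lib.Helper28.PullbackInv Groth.Agent.Lib.Helper17.GGStalk

variable {X Y : Scheme.{u}}

/-- the morphism `M ⟶ sky_x(Q)` attached to a linear map `M_x → Q` -/
def toSky (M : X.Modules) (x : X) (Q : ModuleCat.{u} (X.presheaf.stalk x)) (π : (stk x).obj M ⟶ Q) :
    M ⟶ skyMod x Q :=
  (show SheafOfModules.Hom (R := X.ringCatSheaf) M (skyMod x Q) from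
    ⟨skyUnit (R := X.presheaf) x (DCoh.toP.obj M) ≫ skyPMap (R := X.presheaf) x π.hom⟩)

theorem toSky_app_apply (M : X.Modules) (x : X) (Q : ModuleCat.{u} (X.presheaf.stalk x))
    (π : (stk x).obj M ⟶ Q) (W : X.Opens) (t : Γ(M, W)) (h : PLift (x ∈ W)) :
    (show PLift (x ∈ W) → Q from (toSky M x Q π).app W t) h = π.hom (germAt M x W h.down t) := rfl

/-- **the germs at `x` of the sections of `M` over the `f⁻¹V'` span the stalk when the counit is an epimorphism** -/
theorem span_germs_eq_top_of_epi_counit (f : X ⟶ Y) (M : X.Modules)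
    (hepi : Epi ((Scheme.Modules.pullbackPushforwardAdjunction f).counit.app M)) (x : X) :
    Submodule.span (X.presheaf.stalk x)
      {b : (stk x).obj M | ∃ (V' : Y.Opens) (hx : x ∈ f ⁻¹ᵁ V') (t : Γ(M, f ⁻¹ᵁ V')),
        germAt M x (f ⁻¹ᵁ V') hx t = b} = ⊤ := by
  set S : Submodule (X.presheaf.stalk x) ((stk x).obj M) := Submodule.span (X.presheaf.stalk x)
      {b : (stk x).obj M | ∃ (V' : Y.Opens) (hx : x ∈ f ⁻¹ᵁ V') (t : Γ(M, f ⁻¹ᵁ V')),
        germAt M x (f ⁻¹ᵁ V') hx t = b} with hS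
  let Q : ModuleCat.{u} (X.presheaf.stalk x) := ModuleCat.of (X.presheaf.stalk x) (((stk x).obj M) ⧸ S)
  let π : (stk x).obj M ⟶ Q := ModuleCat.ofHom S.mkQ
  have hzero : (Scheme.Modules.pullbackPushforwardAdjunction f).counit.app M ≫ toSky M x Q π = 0 := by
    refine pb_hom_ext f _ _ ?_
    intro V' t
    show (toSky M x Q π).app (f ⁻¹ᵁ V')
      (((Scheme.Modules.pullbackPushforwardAdjunction f).counit.app M).app (f ⁻¹ᵁ V')
        (pbs f ((Scheme.Modules.pushforward f).obj M) V' t)) = 0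
    rw [CounitGen.counit_app_pbs]
    show (show PLift (x ∈ f ⁻¹ᵁ V') → Q from (toSky M x Q π).app (f ⁻¹ᵁ V') t) = 0
    funext h
    refine (toSky_app_apply M x Q π (f ⁻¹ᵁ V') (show Γ(M, f ⁻¹ᵁ V') from t) h).trans ?_
    show S.mkQ _ = 0
    rw [Submodule.mkQ_apply, Submodule.Quotient.mk_eq_zero]
    exact Submodule.subset_span ⟨V', h.down, t, rfl⟩
  have ha : toSky M x Q π = 0 := by
    have h1 : (Scheme.Modules.pullbackPushforwardAdjunction f).counit.app M ≫ toSky M x Q π =
        (Scheme.Modules.pullbackPushforwardAdjunction f).counit.app M ≫ 0 := by rw [hzero, comp_zero]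
    exact (cancel_epi _).1 h1
  rw [eq_top_iff]
  intro b _
  obtain ⟨W, hxW, t, rfl⟩ := exists_germAt M x b
  have h2 := toSky_app_apply M x Q π W t ⟨hxW⟩
  rw [ha] at h2
  have h3 : S.mkQ (germAt M x W hxW t) = 0 := h2.symm
  exact (Submodule.Quotient.mk_eq_zero S).1 h3

/-- **over an affine open `V` of the base with `f⁻¹V` quasi-compact and quasi-separated, the germs of the sections over
`f⁻¹V` already span the stalk** -/
theorem span_germs_preimage_eq_top (f : X ⟶ Y) (M : X.Modules) [M.IsQuasicoherent]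
    (hepi : Epi ((Scheme.Modules.pullbackPushforwardAdjunction f).counit.app M))
    (V : Y.Opens) (hV : IsAffineOpen V) (hUc : IsCompact ((f ⁻¹ᵁ V : X.Opens) : Set X))
    (hUqs : IsQuasiSeparated ((f ⁻¹ᵁ V : X.Opens) : Set X)) (x : X) (hx : x ∈ f ⁻¹ᵁ V) :
    Submodule.span (X.presheaf.stalk x)
      (Set.range fun t : Γ(M, f ⁻¹ᵁ V) => germAt M x (f ⁻¹ᵁ V) hx t) = ⊤ := by
  rw [eq_top_iff, ← span_germs_eq_top_of_epi_counit f M hepi x]
  refine Submodule.span_le.2 ?_
  rintro _ ⟨V', hxV', t, rfl⟩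
  have hfx : f x ∈ V ⊓ V' := ⟨hx, hxV'⟩
  obtain ⟨r, hr, hxr⟩ := hV.exists_basicOpen_le (V := V ⊓ V') ⟨f x, hfx⟩ hx
  have hbo : X.basicOpen (f.app V r) = f ⁻¹ᵁ (Y.basicOpen r) := (Scheme.preimage_basicOpen f r).symm
  have hle' : X.basicOpen (f.app V r) ≤ f ⁻¹ᵁ V' := by
    rw [hbo]; exact f.preimage_mono (hr.trans inf_le_right)
  obtain ⟨n, σ, hσ⟩ := exists_pow_smul_eq_res_of_qcqs M hUc hUqs (f.app V r) (res M hle' t)
  have hxρ : x ∈ X.basicOpen (f.app V r) := by rw [hbo]; exact hxr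
  -- germs
  have h1 := congrArg (germAt M x (X.basicOpen (f.app V r)) hxρ) hσ
  rw [germAt_res, germAt_smul, germAt_res] at h1
  have hu : IsUnit ((X.presheaf.germ (X.basicOpen (f.app V r)) x hxρ).hom
      (resO (X.basicOpen_le (f.app V r)) (f.app V r) ^ n)) := by
    have h2 : IsUnit (resO (X.basicOpen_le (f.app V r)) (f.app V r) ^ n) :=
      (X.toRingedSpace.isUnit_res_basicOpen (f.app V r)).pow n
    exact h2.map _
  obtain ⟨u, hu'⟩ := hu
  have h3 : germAt M x (f ⁻¹ᵁ V') hxV' t =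
      ((↑u⁻¹ : X.presheaf.stalk x) • germAt M x (f ⁻¹ᵁ V) hx σ : (stk x).obj M) := by
    rw [h1, ← hu', smul_smul, Units.inv_mul, one_smul]
  show germAt M x (f ⁻¹ᵁ V') hxV' t ∈ _
  rw [h3]
  exact Submodule.smul_mem _ _ (Submodule.subset_span ⟨σ, rfl⟩)

/-- restriction preserves the span of the restrictions of a family of sections over `W` -/
theorem res_mem_span_over (N : X.Modules) {J : Type w} {W : X.Opens} (T : J → Γ(N, W)) {V V' : X.Opens}
    (hVW : V ≤ W) (h : V' ≤ V) (m : Γ(N, V))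
    (hm : m ∈ Submodule.span Γ(X, V) (Set.range fun j : J => res N hVW (T j))) :
    res N h m ∈ Submodule.span Γ(X, V') (Set.range fun j : J => res N (h.trans hVW) (T j)) := by
  induction hm using Submodule.span_induction with
  | mem m hm =>
    obtain ⟨j, rfl⟩ := hm
    rw [res_res]
    exact Submodule.subset_span ⟨j, rfl⟩
  | zero =>
    rw [res_zero]
    exact Submodule.zero_mem _
  | add m m' _ _ ih ih' =>
    have : res N h (m + m') = res N h m + res N h m' := map_add _ _ _
    rw [this]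
    exact Submodule.add_mem _ ih ih'
  | smul a m _ ih =>
    rw [res_smul]
    exact Submodule.smul_mem _ _ ih

/-- a section whose germ lies in the span of the germs of a family of sections over `W` lies, near the point, in the
span of the restrictions of the family -/
theorem exists_res_mem_span_over (N : X.Modules) {J : Type w} {W : X.Opens} (T : J → Γ(N, W)) (x : X)
    (hxW : x ∈ W) {U : X.Opens} (hUW : U ≤ W) (hx : x ∈ U) (y : Γ(N, U))
    (hy : germAt N x U hx y ∈ Submodule.span (X.presheaf.stalk x)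
      (Set.range fun j : J => germAt N x W hxW (T j))) :
    ∃ (V : X.Opens) (hV : V ≤ U), x ∈ V ∧
      res N hV y ∈ Submodule.span Γ(X, V) (Set.range fun j : J => res N (hV.trans hUW) (T j)) := by
  have key : ∀ b ∈ Submodule.span (X.presheaf.stalk x) (Set.range fun j : J => germAt N x W hxW (T j)),
      ∃ (V : X.Opens) (hVW : V ≤ W) (hxV : x ∈ V) (m : Γ(N, V)),
        m ∈ Submodule.span Γ(X, V) (Set.range fun j : J => res N hVW (T j)) ∧
        germAt N x V hxV m = b := by
    intro b hb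
    induction hb using Submodule.span_induction with
    | mem b hb =>
      obtain ⟨j, rfl⟩ := hb
      exact ⟨W, le_rfl, hxW, T j, Submodule.subset_span ⟨j, res_self N _⟩, rfl⟩
    | zero => exact ⟨W, le_rfl, hxW, 0, Submodule.zero_mem _, map_zero _⟩
    | add b b' _ _ ih ih' =>
      obtain ⟨V, hVW, hxV, m, hm, rfl⟩ := ih
      obtain ⟨V', hVW', hxV', m', hm', rfl⟩ := ih'
      refine ⟨V ⊓ V', inf_le_left.trans hVW, ⟨hxV, hxV'⟩, res N inf_le_left m + res N inf_le_right m',
        Submodule.add_mem _ (res_mem_span_over N T hVW _ m hm) (res_mem_span_over N T hVW' _ m' hm'), ?_⟩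
      rw [germAt_add, germAt_res, germAt_res]
    | smul a b _ ih =>
      obtain ⟨V, hVW, hxV, m, hm, rfl⟩ := ih
      obtain ⟨W', hxW', r, rfl⟩ := TopCat.Presheaf.exists_germ_eq X.presheaf a
      refine ⟨V ⊓ W', inf_le_left.trans hVW, ⟨hxV, hxW'⟩,
        (resO (inf_le_right : V ⊓ W' ≤ W') r • res N inf_le_left m : Γ(N, V ⊓ W')),
        Submodule.smul_mem _ _ (res_mem_span_over N T hVW _ m hm), ?_⟩
      rw [germAt_smul, germAt_res]
      congr 1
      exact TopCat.Presheaf.germ_res_apply X.presheaf (homOfLE (inf_le_right : V ⊓ W' ≤ W')) x ⟨hxV, hxW'⟩ r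
  obtain ⟨V, hVW, hxV, m, hm, hgerm⟩ := key _ hy
  obtain ⟨V₁, hV₁V, hV₁U, hxV₁, hV₁⟩ := germAt_eq N x hxV hx m y hgerm
  refine ⟨V₁, hV₁U, hxV₁, ?_⟩
  rw [← hV₁]
  exact res_mem_span_over N T hVW hV₁V m hm

end Groth.Agent.Lib.Helper17.CounitStalk
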