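import Mathlib

namespace Groth.Agent.Lib.Helper17.Dihedral

variable {G : Type*} [Group G]

theorem closure_pair_eq (a b : G) (ha : a * a = 1) (hb : b * b = 1) :
    ((Subgroup.closure ({a, b} : Set G) : Subgroup G) : Set G) =
      (Subgroup.zpowers (a * b) : Set G) ∪ (fun h => a * h) '' (Subgroup.zpowers (a * b) : Set G) := by
  have hainv : a⁻¹ = a := inv_eq_of_mul_eq_one_left ha
  have hbinv : b⁻¹ = b := inv_eq_of_mul_eq_one_left hb
  have hba : b * a = (a * b)⁻¹ := by rw [mul_inv_rev, hainv, hbinv]
  have hb' : b = a * (a * b) := by rw [← mul_assoc, ha, one_mul]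
  apply Set.Subset.antisymm
  · intro x hx
    have hx' : x ∈ Subgroup.closure ({a, b} : Set G) := hx
    clear hx
    have step : ∀ z ∈ ({a, b} : Set G), ∀ y : G,
        y ∈ (Subgroup.zpowers (a * b) : Set G) ∪ (fun h => a * h) '' (Subgroup.zpowers (a * b) : Set G) →
        z * y ∈ (Subgroup.zpowers (a * b) : Set G) ∪ (fun h => a * h) '' (Subgroup.zpowers (a * b) : Set G) := by
      intro z hz y hy
      rcases hz with rfl | hz
      · rcases hy with hy | ⟨h, hh, rfl⟩
        · exact Or.inr ⟨y, hy, rfl⟩
        · left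
          change z * (z * h) ∈ _
          rw [← mul_assoc, ha, one_mul]; exact hh
      · have hz : z = b := hz
        subst hz
        rcases hy with hy | ⟨h, hh, rfl⟩
        · right
          refine ⟨(a * z) * y, Subgroup.mul_mem _ (Subgroup.mem_zpowers _) hy, ?_⟩
          change a * ((a * z) * y) = z * y
          rw [← mul_assoc, ← hb']
        · left
          change z * (a * h) ∈ _
          rw [← mul_assoc, hba]
          exact Subgroup.mul_mem _ (Subgroup.inv_mem _ (Subgroup.mem_zpowers _)) hh
    induction hx' using Subgroup.closure_induction_left with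
    | one => exact Or.inl (Subgroup.one_mem _)
    | mul_left z hz y _ ih => exact step z hz y ih
    | inv_mul_cancel z hz y _ ih =>
      have : z⁻¹ = z := by
        rcases hz with rfl | hz
        · exact hainv
        · rw [hz]; exact hbinv
      rw [this]
      exact step z hz y ih
  · have hr : a * b ∈ Subgroup.closure ({a, b} : Set G) :=
      Subgroup.mul_mem _ (Subgroup.subset_closure (by simp)) (Subgroup.subset_closure (by simp))
    have hH : Subgroup.zpowers (a * b) ≤ Subgroup.closure ({a, b} : Set G) := by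
      rw [Subgroup.zpowers_le]; exact hr
    rintro x (hx | ⟨h, hh, rfl⟩)
    · exact hH hx
    · exact Subgroup.mul_mem _ (Subgroup.subset_closure (by simp)) (hH hh)

theorem card_closure_pair (a b : G) (ha : a * a = 1) (hb : b * b = 1) (hfin : 0 < orderOf (a * b))
    (hnot : a ∉ Subgroup.zpowers (a * b)) :
    Nat.card (Subgroup.closure ({a, b} : Set G)) = 2 * orderOf (a * b) := by
  have h1 : Nat.card (Subgroup.closure ({a, b} : Set G)) =
      ((Subgroup.closure ({a, b} : Set G) : Subgroup G) : Set G).ncard := rfl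
  rw [h1, closure_pair_eq a b ha hb]
  have hHfin : (Subgroup.zpowers (a * b) : Set G).Finite := by
    have : IsOfFinOrder (a * b) := orderOf_pos_iff.mp hfin
    exact this.finite_zpowers
  have hdisj : Disjoint (Subgroup.zpowers (a * b) : Set G)
      ((fun h => a * h) '' (Subgroup.zpowers (a * b) : Set G)) := by
    rw [Set.disjoint_left]
    rintro x hx ⟨h, hh, rfl⟩
    apply hnot
    have h2 : (a * h) * h⁻¹ ∈ Subgroup.zpowers (a * b) :=
      Subgroup.mul_mem _ hx (Subgroup.inv_mem _ hh)
    rwa [mul_assoc, mul_inv_cancel, mul_one] at h2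
  rw [Set.ncard_union_eq hdisj hHfin (hHfin.image _),
    Set.ncard_image_of_injective _ (mul_right_injective a)]
  have : (Subgroup.zpowers (a * b) : Set G).ncard = orderOf (a * b) := by
    rw [← Nat.card_zpowers]; rfl
  rw [this]; ring

theorem not_mem_zpowers (a b : G) (ha : a * a = 1) (hb : b * b = 1) (ha1 : a ≠ 1) (hb1 : b ≠ 1) :
    a ∉ Subgroup.zpowers (a * b) := by
  have hainv : a⁻¹ = a := inv_eq_of_mul_eq_one_left ha
  have hbinv : b⁻¹ = b := inv_eq_of_mul_eq_one_left hb
  rintro ⟨k, hk⟩
  have hk' : (a * b) ^ k = a := hk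
  -- a commutes with r
  have hcomm : a * (a * b) = (a * b) * a := by
    have : Commute ((a * b) ^ k) (a * b) := (Commute.refl (a * b)).zpow_left k
    rw [hk'] at this
    exact this.eq
  have hr2 : (a * b) * (a * b) = 1 := by
    calc (a * b) * (a * b) = ((a * b) * a) * b := by group
      _ = (a * (a * b)) * b := by rw [hcomm]
      _ = 1 := by rw [← mul_assoc, ha, one_mul, hb]
  have hr2' : (a * b) ^ (2 : ℤ) = 1 := by rw [zpow_two]; exact hr2
  have hkk : (a * b) ^ k = (a * b) ^ (k % 2) := by
    conv_lhs => rw [← Int.emod_add_mul_ediv k 2]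
    rw [zpow_add, zpow_mul, hr2', one_zpow, mul_one]
  rcases Int.emod_two_eq_zero_or_one k with h | h
  · rw [hkk, h, zpow_zero] at hk'
    exact ha1 hk'.symm
  · rw [hkk, h, zpow_one] at hk'
    apply hb1
    have : a * b = a * 1 := by rw [mul_one]; exact hk'
    exact mul_left_cancel this

end Groth.Agent.Lib.Helper17.Dihedral
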