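import Groth.Agent.Lib.Helper29.QCohStalk2
import Mathlib

/-!
# Local analysis at a point of a discrete complement with Noetherian local ring of dimension `≤ 1`
-/
set_option autoImplicit false
set_option backward.isDefEq.respectTransparency.types false
universe u
open CategoryTheory CategoryTheory.Limits AlgebraicGeometry Opposite TopologicalSpace
noncomputable section
namespace Groth.Agent.Lib.Helper17.DiscLocal

open Groth.Agent.Lib.Helper29.QCohStalk

/-- a Noetherian local ring of dimension `≤ 1` has finitely many primes -/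
theorem finite_primeSpectrum (R : Type*) [CommRing R] [IsLocalRing R] [IsNoetherianRing R]
    (hdim : ringKrullDim R ≤ 1) : Finite (PrimeSpectrum R) := by
  have h1 : Ring.KrullDimLE 1 R := by
    rw [Ring.KrullDimLE, Order.krullDimLE_iff]
    exact hdim
  have h2 := Ring.krullDimLE_one_iff.1 h1
  have hfin : (minimalPrimes R ∪ {IsLocalRing.maximalIdeal R}).Finite :=
    (minimalPrimes.finite_of_isNoetherianRing R).union (Set.finite_singleton _)
  have hsub : Set.range (PrimeSpectrum.asIdeal (R := R)) ⊆ minimalPrimes R ∪ {IsLocalRing.maximalIdeal R} := by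
    rintro _ ⟨P, rfl⟩
    rcases h2 P.asIdeal P.2 with h | h
    · exact Or.inl h
    · exact Or.inr (IsLocalRing.eq_maximalIdeal h)
  have hfin2 : (Set.range (PrimeSpectrum.asIdeal (R := R))).Finite := hfin.subset hsub
  have hinj : Function.Injective (PrimeSpectrum.asIdeal (R := R)) := fun P Q h => PrimeSpectrum.ext h
  exact (Set.finite_range_iff hinj).1 hfin2 |> fun h => h

/-- finitely many generizations of a point with Noetherian local ring of dimension `≤ 1` -/
theorem finite_generizations (X : Scheme.{u}) (p : X) (hN : IsNoetherianRing (X.presheaf.stalk p))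
    (hdim : ringKrullDim (X.presheaf.stalk p) ≤ 1) : {y : X | y ⤳ p}.Finite := by
  haveI : Finite (PrimeSpectrum (X.presheaf.stalk p)) := finite_primeSpectrum (X.presheaf.stalk p) hdim
  haveI : Finite ↥(Spec (X.presheaf.stalk p)) := ‹Finite (PrimeSpectrum (X.presheaf.stalk p))›
  rw [← Scheme.range_fromSpecStalk]
  exact Set.finite_range _


/-- prime avoidance: a function vanishing at `p` but at none of its finitely many proper generizations -/
theorem exists_function {X : Scheme.{u}} {W : X.Opens} (hW : IsAffineOpen W) (p : X) (hp : p ∈ W)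
    (hfin : {y : X | y ⤳ p}.Finite) :
    ∃ g : Γ(X, W), p ∉ X.basicOpen g ∧ ∀ y : X, y ⤳ p → y ≠ p → y ∈ X.basicOpen g := by
  classical
  let F : Finset X := hfin.toFinset.erase p
  have hF : ∀ y, y ∈ F ↔ (y ≠ p ∧ y ⤳ p) := by
    intro y
    simp [F]
  have hFW : ∀ y ∈ F, y ∈ W := fun y hy => ((hF y).1 hy).2.mem_open W.2 hp
  let f : {y // y ∈ F} → Ideal Γ(X, W) := fun y => germPrime W y.1 (hFW y.1 y.2)
  have hnot : ¬ ((germPrime W p hp : Set Γ(X, W)) ⊆ ⋃ i ∈ (F.attach : Set {y // y ∈ F}), f i) := by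
    intro hsub
    by_cases hne : F.attach.Nonempty
    · obtain ⟨a, -⟩ := hne
      rw [Ideal.subset_union_prime a a (fun i _ _ _ => by show (germPrime W i.1 _).IsPrime; infer_instance)] at hsub
      obtain ⟨y, -, hy⟩ := hsub
      have h1 : p ⤳ y.1 := specializes_of_germPrime_le hW p y.1 hp (hFW y.1 y.2) hy
      have h2 := (hF y.1).1 y.2
      exact h2.1 (h2.2.antisymm h1).eq
    · rw [Finset.not_nonempty_iff_eq_empty] at hne
      rw [hne] at hsub
      simp only [Finset.coe_empty, Set.mem_empty_iff_false, Set.iUnion_of_empty, Set.iUnion_empty,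
        Set.subset_empty_iff] at hsub
      have : (0 : Γ(X, W)) ∈ (germPrime W p hp : Set Γ(X, W)) := (germPrime W p hp).zero_mem
      rw [hsub] at this
      exact this
  rw [Set.not_subset] at hnot
  obtain ⟨g, hgp, hg⟩ := hnot
  refine ⟨g, (mem_germPrime_iff_notMem_basicOpen W p hp g).1 hgp, fun y hy hne => ?_⟩
  have hyF : y ∈ F := (hF y).2 ⟨hne, hy⟩
  by_contra hcon
  apply hg
  simp only [Set.mem_iUnion]
  exact ⟨⟨y, hyF⟩, by simp, (mem_germPrime_iff_notMem_basicOpen W y (hFW y hyF) g).2 hcon⟩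


/-- in an affine open, a set of the form `K₁ ∪ (W ∖ K₂)` with `K₁, K₂` compact opens, stable under generization,
is open -/
theorem isOpen_of_stableUnderGeneralization {X : Scheme.{u}} {W : X.Opens} (hW : IsAffineOpen W)
    (K₁ K₂ : X.Opens) (h1 : K₁ ≤ W) (hc1 : IsCompact (K₁ : Set X)) (hc2 : IsCompact (K₂ : Set X))
    (h2 : K₂ ≤ W)
    (hgen : StableUnderGeneralization ((K₁ : Set X) ∪ ((W : Set X) \ (K₂ : Set X)))) :
    IsOpen ((K₁ : Set X) ∪ ((W : Set X) \ (K₂ : Set X))) := by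
  set S : Set X := (K₁ : Set X) ∪ ((W : Set X) \ (K₂ : Set X)) with hS
  have hemb : Topology.IsOpenEmbedding hW.fromSpec := hW.fromSpec.isOpenEmbedding
  have hrange : Set.range hW.fromSpec = (W : Set X) := hW.range_fromSpec
  have hSW : S ⊆ Set.range hW.fromSpec := by
    rw [hrange]
    rintro z (hz | hz)
    · exact h1 hz
    · exact hz.1
  have himg : hW.fromSpec '' (hW.fromSpec ⁻¹' S) = S := Set.image_preimage_eq_of_subset hSW
  rw [← himg]
  apply hemb.isOpenMap
  have hpre : hW.fromSpec ⁻¹' S = (hW.fromSpec ⁻¹' (K₁ : Set X)) ∪ (hW.fromSpec ⁻¹' (K₂ : Set X))ᶜ := by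
    ext z
    simp only [hS, Set.mem_preimage, Set.mem_union, Set.mem_diff, Set.mem_compl_iff]
    have : hW.fromSpec z ∈ (W : Set X) := by rw [← hrange]; exact ⟨z, rfl⟩
    tauto
  have hgen' : StableUnderGeneralization (hW.fromSpec ⁻¹' S) := hgen.preimage hemb.continuous
  have hk1 : IsCompact (hW.fromSpec ⁻¹' (K₁ : Set X)) :=
    (hemb.isInducing.isCompact_preimage_iff (by rw [hrange]; exact h1)).2 hc1
  have hk2 : IsCompact (hW.fromSpec ⁻¹' (K₂ : Set X)) :=
    (hemb.isInducing.isCompact_preimage_iff (by rw [hrange]; exact h2)).2 hc2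
  have ho1 : IsOpen (hW.fromSpec ⁻¹' (K₁ : Set X)) := K₁.2.preimage hemb.continuous
  have ho2 : IsOpen (hW.fromSpec ⁻¹' (K₂ : Set X)) := K₂.2.preimage hemb.continuous
  have hcons : Topology.IsConstructible (hW.fromSpec ⁻¹' S) := by
    rw [hpre]
    exact (hk1.isConstructible ho1).union (hk2.isConstructible ho2).compl
  exact PrimeSpectrum.isOpen_of_stableUnderGeneralization_of_isConstructible hgen' hcons


/-- an affine neighbourhood of a point of the discrete complement meeting the complement only in that point -/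
theorem exists_affine_nhd {X : Scheme.{u}} (U : X.Opens) (hdisc : DiscreteTopology ↥((U : Set X)ᶜ))
    (p : X) (hp : p ∉ U) : ∃ W : X.Opens, IsAffineOpen W ∧ p ∈ W ∧ ∀ z ∈ W, z ∉ U → z = p := by
  have hopen : IsOpen ({⟨p, hp⟩} : Set ↥((U : Set X)ᶜ)) := isOpen_discrete _
  rw [isOpen_induced_iff] at hopen
  obtain ⟨V, hV, hVeq⟩ := hopen
  have hpV : p ∈ V := by
    have : (⟨p, hp⟩ : ↥((U : Set X)ᶜ)) ∈ Subtype.val ⁻¹' V := by rw [hVeq]; rfl
    exact this
  obtain ⟨W, hW, hpW, hWV⟩ := exists_isAffineOpen_mem_and_subset (X := X) (x := p) (U := ⟨V, hV⟩) hpV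
  refine ⟨W, hW, hpW, fun z hz hzU => ?_⟩
  have : (⟨z, hzU⟩ : ↥((U : Set X)ᶜ)) ∈ Subtype.val ⁻¹' V := hWV hz
  rw [hVeq] at this
  exact congrArg Subtype.val this

/-- adjoining the point `p` to a compact open containing all its proper generizations gives an open -/
theorem exists_open_insert {X : Scheme.{u}} (U : X.Opens) {W : X.Opens} (hW : IsAffineOpen W) (p : X)
    (hpW : p ∈ W) (hWU : ∀ z ∈ W, z ∉ U → z = p) (hpU : p ∉ U)
    (hc : IsCompact ((W ⊓ U : X.Opens) : Set X))
    (O : X.Opens) (hO : O ≤ W) (hOc : IsCompact (O : Set X)) (hgen : ∀ y : X, y ⤳ p → y ≠ p → y ∈ O) :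
    ∃ W' : X.Opens, p ∈ W' ∧ W' ≤ W ∧ ∀ z, z ∈ W' ↔ (z ∈ O ∨ z = p) := by
  have hmem : ∀ z, z ∈ ((O : Set X) ∪ ((W : Set X) \ ((W ⊓ U : X.Opens) : Set X))) ↔ (z ∈ O ∨ z = p) := by
    intro z
    simp only [Set.mem_union, Set.mem_diff, SetLike.mem_coe, Opens.coe_inf, Set.mem_inter_iff]
    constructor
    · rintro (h | ⟨h1, h2⟩)
      · exact Or.inl h
      · exact Or.inr (hWU z h1 (fun hzU => h2 ⟨h1, hzU⟩))
    · rintro (h | rfl)
      · exact Or.inl h
      · exact Or.inr ⟨hpW, fun h => hpU h.2⟩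
  have hopen := isOpen_of_stableUnderGeneralization hW O (W ⊓ U) hO hOc hc inf_le_left (by
    intro z y hyz hz
    rw [hmem] at hz ⊢
    rcases hz with hz | rfl
    · exact Or.inl (hyz.mem_open O.2 hz)
    · by_cases hyp : y = z
      · exact Or.inr hyp
      · exact Or.inl (hgen y hyz hyp))
  refine ⟨⟨_, hopen⟩, (hmem p).2 (Or.inr rfl), ?_, fun z => hmem z⟩
  intro z hz
  rcases (hmem z).1 hz with h | rfl
  · exact hO h
  · exact hpW


theorem isCompact_inf_of_quasiCompact {X : Scheme.{u}} (U : X.Opens) [QuasiCompact U.ι] {W : X.Opens}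
    (hW : IsAffineOpen W) : IsCompact ((W ⊓ U : X.Opens) : Set X) := by
  have h1 : IsCompact (U.ι ⁻¹' (W : Set X)) :=
    QuasiCompact.isCompact_preimage (f := U.ι) _ W.2 hW.isCompact
  have h2 := h1.image U.ι.continuous
  have h3 : (U.ι '' (U.ι ⁻¹' (W : Set X))) = ((W ⊓ U : X.Opens) : Set X) := by
    ext z
    constructor
    · rintro ⟨y, hy, rfl⟩
      exact ⟨hy, y.2⟩
    · rintro ⟨hzW, hzU⟩
      exact ⟨⟨z, hzU⟩, hzW, rfl⟩
  rwa [h3] at h2

/-- the local data at a point of the complement -/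
theorem exists_local_data {X : Scheme.{u}} (U : X.Opens) [QuasiCompact U.ι]
    (hdisc : DiscreteTopology ↥((U : Set X)ᶜ)) (p : X) (hp : p ∉ U)
    (hN : IsNoetherianRing (X.presheaf.stalk p)) (hdim : ringKrullDim (X.presheaf.stalk p) ≤ 1) :
    ∃ (W : X.Opens) (_ : IsAffineOpen W) (g : Γ(X, W)), p ∈ W ∧ (∀ z ∈ W, z ∉ U → z = p) ∧
      IsCompact ((W ⊓ U : X.Opens) : Set X) ∧ p ∉ X.basicOpen g ∧ X.basicOpen g ≤ U ∧
      (∀ y : X, y ⤳ p → y ≠ p → y ∈ X.basicOpen g) := by
  obtain ⟨W, hW, hpW, hWU⟩ := exists_affine_nhd U hdisc p hp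
  obtain ⟨g, hg1, hg2⟩ := exists_function hW p hpW (finite_generizations X p hN hdim)
  refine ⟨W, hW, g, hpW, hWU, isCompact_inf_of_quasiCompact U hW, hg1, ?_, hg2⟩
  intro z hz
  by_contra hzU
  have := hWU z (X.basicOpen_le g hz) hzU
  rw [this] at hz
  exact hg1 hz

/-- a neighbourhood of `p` and a function on it whose nonvanishing locus is the part inside `U` -/
theorem exists_nhd_function {X : Scheme.{u}} (U : X.Opens) [QuasiCompact U.ι]
    (hdisc : DiscreteTopology ↥((U : Set X)ᶜ)) (p : X) (hp : p ∉ U)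
    (hN : IsNoetherianRing (X.presheaf.stalk p)) (hdim : ringKrullDim (X.presheaf.stalk p) ≤ 1) :
    ∃ (W' : X.Opens) (φ : Γ(X, W')), p ∈ W' ∧ (∀ z ∈ W', z ∉ U → z = p) ∧ X.basicOpen φ = W' ⊓ U := by
  obtain ⟨W, hW, g, hpW, hWU, hc, hg1, hgU, hg2⟩ := exists_local_data U hdisc p hp hN hdim
  obtain ⟨W', hpW', hW'W, hW'⟩ := exists_open_insert U hW p hpW hWU hp hc (X.basicOpen g) (X.basicOpen_le g)
    (hW.basicOpen g).isCompact hg2
  refine ⟨W', X.presheaf.map (homOfLE hW'W).op g, hpW', fun z hz hzU => hWU z (hW'W hz) hzU, ?_⟩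
  rw [Scheme.basicOpen_res]
  ext z
  simp only [Opens.coe_inf, Set.mem_inter_iff, SetLike.mem_coe]
  constructor
  · rintro ⟨h1, h2⟩
    exact ⟨h1, hgU h2⟩
  · rintro ⟨h1, h2⟩
    refine ⟨h1, ?_⟩
    rcases (hW' z).1 h1 with h | rfl
    · exact h
    · exact absurd h2 hp


end Groth.Agent.Lib.Helper17.DiscLocal
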