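import Groth.Agent.Lib.Helper17.InvDesc
import Mathlib

/-!
# Descent of local generators of an invertible module, with local trivialisations on the cover

Generalisation of `InvDesc`: `g'^* L` is only assumed to have local generators over `Y'`.
-/

set_option backward.isDefEq.respectTransparency.types false
set_option autoImplicit false
universe u
open CategoryTheory CategoryTheory.Limits AlgebraicGeometry Opposite TopologicalSpace TensorProduct
noncomputable section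

namespace Groth.Agent.Lib.Helper17.InvDescLoc

open Groth.Agent.Lib.Helper28 Groth.Agent.Lib.Helper28.QCohLoc Groth.Agent.Lib.Helper28.GenLocus
open Groth.Agent.Lib.Helper28.PullbackInv Groth.Agent.Lib.Helper28.GrTwistGenVal Groth.Agent.Lib.Helper28.RelTwistVal
open Groth.Agent.Lib.Helper17.FlatMV Groth.Agent.Lib.Helper17.FlatBC Groth.Agent.Lib.Helper17.PullbackBC
open Groth.Agent.Lib.Helper17.InvDescAlg Groth.Agent.Lib.Helper17.InvDesc

section GenLemmas

variable {Z : Scheme.{u}} {M : Z.Modules} {U : Z.Opens}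

/-- a unit multiple of a generator is a generator -/
theorem IsGen.smul_unit {l : Γ(M, U)} (hl : IsGen M U l) (c : Γ(Z, U)) (hc : IsUnit c) :
    IsGen M U (c • l : Γ(M, U)) := by
  intro W hW
  have hfun : (fun b : Γ(Z, W) => (b • res M hW (c • l : Γ(M, U)) : Γ(M, W))) =
      (fun b : Γ(Z, W) => (b • res M hW l : Γ(M, W))) ∘ (fun b : Γ(Z, W) => b * resO hW c) := by
    funext b
    rw [Function.comp_apply, res_smul, mul_smul]
  rw [hfun]
  refine (hl W hW).comp ?_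
  have hu : IsUnit (resO hW c) := hc.map _
  obtain ⟨ru, hru⟩ := hu
  rw [← hru]
  exact Units.mulRight_bijective ru

/-- being a generator is a local property -/
theorem isGen_of_locally (σ : Γ(M, U))
    (hloc : ∀ p : Z, p ∈ U → ∃ (O : Z.Opens) (hO : O ≤ U), p ∈ O ∧ IsGen M O (res M hO σ)) : IsGen M U σ := by
  refine isGen_of_bijective_on_basis M U σ
    (fun Q => ∃ (O : Z.Opens) (hO : O ≤ U), Q ≤ O ∧ IsGen M O (res M hO σ)) ?_ ?_
  · intro V p hpV hVU
    obtain ⟨O, hO, hpO, hgen⟩ := hloc p (hVU hpV)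
    exact ⟨V ⊓ O, ⟨O, hO, inf_le_right, hgen⟩, ⟨hpV, hpO⟩, inf_le_left⟩
  · rintro Q hQ ⟨O, hO, hQO, hgen⟩
    have := hgen Q hQO
    simp only [res_res] at this
    exact this

/-- the coefficient between two generators is a unit -/
theorem isUnit_of_isGen_smul {l : Γ(M, U)} (hl : IsGen M U l) (c : Γ(Z, U))
    (hcl : IsGen M U (c • l : Γ(M, U))) : IsUnit c := by
  -- `l = d • (c • l)`
  set d := hcl.coef le_rfl l with hd
  have h1 : (d • res M le_rfl (c • l : Γ(M, U)) : Γ(M, U)) = l := hcl.coef_smul le_rfl l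
  rw [res_self, ← mul_smul] at h1
  have h2 : d * c = 1 := by
    apply (hl U le_rfl).1
    show ((d * c) • res M le_rfl l : Γ(M, U)) = ((1 : Γ(Z, U)) • res M le_rfl l : Γ(M, U))
    rw [res_self, h1, one_smul]
  exact IsUnit.of_mul_eq_one_right d h2

end GenLemmas


variable {X Y X' Y' : Scheme.{u}} (f : X ⟶ Y) (g : Y' ⟶ Y) (g' : X' ⟶ X) (f' : X' ⟶ Y')
  (h : IsPullback g' f' f g)

section Tau

variable [QuasiCompact f] [QuasiSeparated f] [Flat g] (hf' : ∀ W' : Y'.Opens, Function.Bijective (f'.app W'))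
  (L : X.Modules) [L.IsQuasicoherent]
  {W : Y.Opens} (hW : IsAffineOpen W) {W' : Y'.Opens} (hW' : IsAffineOpen W') (e : W' ≤ g ⁻¹ᵁ W)
  {l : Γ((Scheme.Modules.pullback g').obj L, f' ⁻¹ᵁ W')}
  (hl : IsGen ((Scheme.Modules.pullback g').obj L) (f' ⁻¹ᵁ W') l)

/-- the inverse of `f'^♯` over `W'` -/
def fInv (W' : Y'.Opens) : Γ(X', f' ⁻¹ᵁ W') ≃+* Γ(Y', W') :=
  (RingEquiv.ofBijective (f'.app W').hom (hf' W')).symm

theorem fInv_app (W' : Y'.Opens) (a' : Γ(Y', W')) : fInv f' hf' W' ((f'.app W').hom a') = a' :=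
  (RingEquiv.ofBijective (f'.app W').hom (hf' W')).symm_apply_apply a'

theorem app_fInv (W' : Y'.Opens) (c : Γ(X', f' ⁻¹ᵁ W')) : (f'.app W').hom (fInv f' hf' W' c) = c :=
  (RingEquiv.ofBijective (f'.app W').hom (hf' W')).apply_symm_apply c

/-- the coefficient of the inverse image of a section of `L` over `f⁻¹ W` with respect to the generator `l` -/
def sigma (n : Γ(L, f ⁻¹ᵁ W)) : Γ(X', f' ⁻¹ᵁ W') :=
  hl.coef le_rfl (res _ (le_preimage' f g g' f' h e) (pbs g' L (f ⁻¹ᵁ W) n))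

theorem sigma_smul (n : Γ(L, f ⁻¹ᵁ W)) :
    (sigma f g g' f' h L e hl n • l : Γ((Scheme.Modules.pullback g').obj L, f' ⁻¹ᵁ W')) =
      res _ (le_preimage' f g g' f' h e) (pbs g' L (f ⁻¹ᵁ W) n) := by
  have := hl.coef_smul le_rfl (res _ (le_preimage' f g g' f' h e) (pbs g' L (f ⁻¹ᵁ W) n))
  rw [res_self] at this
  exact this

/-- the semilinear map `L(f⁻¹W) → Γ(Y', W')` -/
def tau : SecOver f W L (f ⁻¹ᵁ W) le_rfl →+ Γ(Y', W') :=
  AddMonoidHom.mk' (fun n => fInv f' hf' W' (sigma f g g' f' h L e hl n)) (fun a b => by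
    unfold sigma
    have h1 : pbs g' L (f ⁻¹ᵁ W) ((show Γ(L, f ⁻¹ᵁ W) from a) + (show Γ(L, f ⁻¹ᵁ W) from b)) =
        pbs g' L (f ⁻¹ᵁ W) a + pbs g' L (f ⁻¹ᵁ W) b := pbs_add g' L _ _ _
    change fInv f' hf' W' (hl.coef le_rfl (res _ (le_preimage' f g g' f' h e)
      (pbs g' L (f ⁻¹ᵁ W) ((show Γ(L, f ⁻¹ᵁ W) from a) + (show Γ(L, f ⁻¹ᵁ W) from b))))) = _
    rw [h1, res_add, hl.coef_add, map_add])

theorem tau_apply (n : SecOver f W L (f ⁻¹ᵁ W) le_rfl) :
    tau f g g' f' h hf' L e hl n = fInv f' hf' W' (sigma f g g' f' h L e hl n) := rfl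

theorem app_tau (n : SecOver f W L (f ⁻¹ᵁ W) le_rfl) :
    (f'.app W').hom (tau f g g' f' h hf' L e hl n) = sigma f g g' f' h L e hl n := by
  rw [tau_apply, app_fInv]

include hW hW' in
theorem linBij_tau : LinBij (g.appLE W W' e).hom (tau f g g' f' h hf' L e hl) := by
  have hflat : (g.appLE W W' e).hom.Flat := Flat.flat_appLE g hW hW' e
  have hVc : IsCompact ((f ⁻¹ᵁ W : X.Opens) : Set X) := QuasiCompact.isCompact_preimage (f := f) _ W.2 hW.isCompact
  have h₂ := linBij_of_isCompact f g g' f' h e L hW hW' hflat (f ⁻¹ᵁ W) hVc le_rfl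
  have heq := pr_preimage_eq f g g' f' h e
  let M' := (Scheme.Modules.pullback g').obj L
  let u : SecOver f' W' M' (pr g' f' W' (f ⁻¹ᵁ W)) (pr_le_right g' f' _) →+ Γ(Y', W') :=
    AddMonoidHom.mk' (fun t => fInv f' hf' W' (hl.coef le_rfl (res M' heq.ge t)))
      (fun a b => by
        change fInv f' hf' W' (hl.coef le_rfl
          (res M' heq.ge ((show Γ(M', pr g' f' W' (f ⁻¹ᵁ W)) from a) + (show Γ(M', pr g' f' W' (f ⁻¹ᵁ W)) from b)))) = _
        rw [res_add, hl.coef_add, map_add])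
  have hcomp : tau f g g' f' h hf' L e hl = u.comp (cU f g' f' (W' := W') L (f ⁻¹ᵁ W) le_rfl) := by
    ext n
    show fInv f' hf' W' (hl.coef le_rfl (res M' (le_preimage' f g g' f' h e)
      (pbs g' L (f ⁻¹ᵁ W) n))) = fInv f' hf' W' (hl.coef le_rfl (res M' heq.ge
      (res M' (pr_le_left g' f' _) (pbs g' L (f ⁻¹ᵁ W) n))))
    rw [res_res]
  rw [hcomp]
  refine linBij_comp _ h₂ u ?_ ?_
  · intro a' t
    show fInv f' hf' W' (hl.coef le_rfl (res M' heq.ge
      (((f'.appLE W' (pr g' f' W' (f ⁻¹ᵁ W)) (pr_le_right g' f' _)).hom a' •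
        (show Γ(M', pr g' f' W' (f ⁻¹ᵁ W)) from t) : Γ(M', pr g' f' W' (f ⁻¹ᵁ W)))))) =
      a' * fInv f' hf' W' (hl.coef le_rfl (res M' heq.ge t))
    rw [res_smul, hl.coef_smul_left]
    have h1 : resO heq.ge ((f'.appLE W' (pr g' f' W' (f ⁻¹ᵁ W)) (pr_le_right g' f' _)).hom a') =
        (f'.app W').hom a' := by
      have := Scheme.Hom.appLE_map f' (pr_le_right g' f' (f ⁻¹ᵁ W) : pr g' f' W' (f ⁻¹ᵁ W) ≤ f' ⁻¹ᵁ W')
        (homOfLE heq.ge).op
      have h2 := congrArg (fun ψ => ψ.hom a') this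
      refine h2.trans ?_
      rw [Scheme.Hom.app_eq_appLE]
    rw [h1, map_mul, fInv_app]
  · have hb1 : Function.Bijective (fun t : SecOver f' W' M' (pr g' f' W' (f ⁻¹ᵁ W)) (pr_le_right g' f' _) =>
        res M' heq.ge t) := by
      refine ⟨fun a b hab => ?_, fun t => ⟨res M' heq.le t, ?_⟩⟩
      · have := congrArg (res M' heq.le) hab
        change res M' heq.le (res M' heq.ge a) = res M' heq.le (res M' heq.ge b) at this
        rw [res_res, res_res, res_self, res_self] at this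
        exact this
      · change res M' heq.ge (res M' heq.le t) = t
        rw [res_res, res_self]
    have hb2 : Function.Bijective (fun t : Γ(M', f' ⁻¹ᵁ W') => hl.coef le_rfl t) :=
      (Equiv.ofBijective _ (hl (f' ⁻¹ᵁ W') le_rfl)).symm.bijective
    have hb3 : Function.Bijective (fInv f' hf' W') := (fInv f' hf' W').bijective
    exact hb3.comp (hb2.comp hb1)

end Tau


section Local

variable [QuasiCompact f] [QuasiSeparated f] [Flat g] [Surjective g] [QuasiCompact g]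
  (hf' : ∀ W' : Y'.Opens, Function.Bijective (f'.app W'))
  (L : X.Modules) [L.IsQuasicoherent]
  (hloc : ∀ y' : Y', ∃ (W' : Y'.Opens) (l : Γ((Scheme.Modules.pullback g').obj L, f' ⁻¹ᵁ W')), y' ∈ W' ∧
    IsGen ((Scheme.Modules.pullback g').obj L) (f' ⁻¹ᵁ W') l)

include h hf' hloc in
/-- **local generators**: every point of `Y` has an open neighbourhood `D` with a section of `L` over `f⁻¹ D` whose
inverse image is a generator of `g'^* L` -/
theorem exists_isGen_pbs (y : Y) : ∃ (D : Y.Opens) (x : Γ(L, f ⁻¹ᵁ D)), y ∈ D ∧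
    IsGen ((Scheme.Modules.pullback g').obj L) (g' ⁻¹ᵁ (f ⁻¹ᵁ D)) (pbs g' L (f ⁻¹ᵁ D) x) := by
  let M' := (Scheme.Modules.pullback g').obj L
  obtain ⟨W, hW, hyW, -⟩ := Opens.isBasis_iff_nbhd.mp Y.isBasis_affineOpens (show y ∈ (⊤ : Y.Opens) from trivial)
  have hc : IsCompact ((g ⁻¹ᵁ W : Y'.Opens) : Set Y') :=
    QuasiCompact.isCompact_preimage (f := g) _ W.2 hW.isCompact
  -- small affine neighbourhoods with generators
  have hsmall : ∀ z : (g ⁻¹ᵁ W : Y'.Opens), ∃ (A : Y'.Opens), IsAffineOpen A ∧ z.1 ∈ A ∧ A ≤ g ⁻¹ᵁ W ∧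
      ∃ l : Γ(M', f' ⁻¹ᵁ A), IsGen M' (f' ⁻¹ᵁ A) l := by
    intro z
    obtain ⟨W'z, lz, hzW', hlz⟩ := hloc z.1
    obtain ⟨A, hA, hzA, hAle⟩ := Opens.isBasis_iff_nbhd.mp Y'.isBasis_affineOpens
      (show z.1 ∈ W'z ⊓ g ⁻¹ᵁ W from ⟨hzW', z.2⟩)
    exact ⟨A, hA, hzA, hAle.trans inf_le_right, res M' (f'.preimage_mono (hAle.trans inf_le_left)) lz,
      hlz.res (f'.preimage_mono (hAle.trans inf_le_left))⟩
  choose A hA hzA hAle lA hlA using hsmall
  obtain ⟨t, ht⟩ := hc.elim_finite_subcover (fun z : (g ⁻¹ᵁ W : Y'.Opens) => ((A z : Y'.Opens) : Set Y'))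
    (fun z => (A z).2) (fun z' hz' => Set.mem_iUnion.2 ⟨⟨z', hz'⟩, hzA ⟨z', hz'⟩⟩)
  let I := {z : (g ⁻¹ᵁ W : Y'.Opens) // z ∈ t}
  haveI : Fintype I := inferInstanceAs (Fintype {z : (g ⁻¹ᵁ W : Y'.Opens) // z ∈ t})
  have hcov : ∀ z' : Y', z' ∈ g ⁻¹ᵁ W → ∃ i : I, z' ∈ A i.1 := by
    intro z' hz'
    obtain ⟨z, hz⟩ := Set.mem_iUnion.1 (ht hz')
    obtain ⟨hzt, hz'A⟩ := Set.mem_iUnion.1 hz
    exact ⟨⟨z, hzt⟩, hz'A⟩
  obtain ⟨y', rfl⟩ := g.surjective y
  obtain ⟨i₀, hy'i⟩ := hcov y' hyW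
  let q := RingHom.ker (Y'.evaluation (A i₀.1) y' hy'i).hom
  haveI : q.IsPrime := RingHom.ker_isPrime _
  obtain ⟨x, a, haq, hdvd⟩ := exists_dvd (P := SecOver f W L (f ⁻¹ᵁ W) le_rfl) (fun i : I => Γ(Y', A i.1))
    (fun i => (g.appLE W (A i.1) (hAle i.1)).hom)
    (fun i => tau f g g' f' h hf' L (hAle i.1) (hlA i.1))
    (fun i => linBij_tau f g g' f' h hf' L hW (hA i.1) (hAle i.1) (hlA i.1)) i₀
    (Flat.flat_appLE g hW (hA i₀.1) _) q
  have hDW : Y.basicOpen a ≤ W := Y.basicOpen_le a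
  refine ⟨Y.basicOpen a, res L (f.preimage_mono hDW) x, ?_, ?_⟩
  · -- the point lies in `D`
    have h1 : (Y'.evaluation (A i₀.1) y' hy'i).hom ((g.appLE W (A i₀.1) (hAle i₀.1)).hom a) ≠ 0 := fun h0 =>
      haq ((RingHom.mem_ker).2 h0)
    have h2 := (Scheme.evaluation_ne_zero_iff_mem_basicOpen Y' y' hy'i _).1 h1
    rw [Scheme.basicOpen_appLE] at h2
    exact h2.2
  · -- the generator
    rw [pbs_res]
    have hOW : g' ⁻¹ᵁ (f ⁻¹ᵁ (Y.basicOpen a)) ≤ g' ⁻¹ᵁ (f ⁻¹ᵁ W) := g'.preimage_mono (f.preimage_mono hDW)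
    refine isGen_of_locally _ ?_
    intro x'₀ hx'₀
    have hfx : f' x'₀ ∈ g ⁻¹ᵁ W := by
      have h1 : g (f' x'₀) = f (g' x'₀) := by
        have := congrArg (fun k => k.base x'₀) h.w
        exact this.symm
      show g (f' x'₀) ∈ W
      rw [h1]
      exact hDW hx'₀
    obtain ⟨i, hi⟩ := hcov _ hfx
    let O' : X'.Opens := f' ⁻¹ᵁ (A i.1) ⊓ g' ⁻¹ᵁ (f ⁻¹ᵁ (Y.basicOpen a))
    have hx'O' : x'₀ ∈ O' := ⟨hi, hx'₀⟩
    have hO'1 : O' ≤ g' ⁻¹ᵁ (f ⁻¹ᵁ W) := inf_le_right.trans hOW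
    have hO'2 : O' ≤ f' ⁻¹ᵁ (A i.1) := inf_le_left
    refine ⟨O', inf_le_right, hx'O', ?_⟩
    rw [res_res]
    have e1 : res M' hO'1 (pbs g' L (f ⁻¹ᵁ W) x) =
        (resO hO'2 (sigma f g g' f' h L (hAle i.1) (hlA i.1) x) • res M' hO'2 (lA i.1) : Γ(M', O')) := by
      rw [← res_smul, sigma_smul, res_res]
    rw [e1]
    refine IsGen.smul_unit ((hlA i.1).res hO'2) _ ?_
    -- the unit
    obtain ⟨b, hb⟩ := hdvd i
    have h3 : (f'.app (A i.1)).hom ((g.appLE W (A i.1) (hAle i.1)).hom a) =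
        sigma f g g' f' h L (hAle i.1) (hlA i.1) x * (f'.app (A i.1)).hom b := by
      rw [hb, map_mul, app_tau]
    have h4 : (f'.app (A i.1)).hom ((g.appLE W (A i.1) (hAle i.1)).hom a) =
        (g'.appLE (f ⁻¹ᵁ W) (f' ⁻¹ᵁ (A i.1)) (le_preimage' f g g' f' h (hAle i.1))).hom ((f.app W).hom a) := by
      have := appLE_comm f g g' f' h (hAle i.1) (f ⁻¹ᵁ W) le_rfl (f' ⁻¹ᵁ (A i.1)) le_rfl
        (le_preimage' f g g' f' h (hAle i.1))
      rw [← Scheme.Hom.app_eq_appLE, ← Scheme.Hom.app_eq_appLE] at this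
      exact (congrArg (fun ψ => ψ.hom a) this).symm
    have h5 : O' ≤ X'.basicOpen ((g'.appLE (f ⁻¹ᵁ W) (f' ⁻¹ᵁ (A i.1))
        (le_preimage' f g g' f' h (hAle i.1))).hom ((f.app W).hom a)) := by
      rw [Scheme.basicOpen_appLE, ← Scheme.preimage_basicOpen]
    have h6 := isUnit_resO_of_le_basicOpen _ h5
    have h7 : resO (h5.trans (X'.basicOpen_le _)) ((g'.appLE (f ⁻¹ᵁ W) (f' ⁻¹ᵁ (A i.1))
        (le_preimage' f g g' f' h (hAle i.1))).hom ((f.app W).hom a)) =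
        resO hO'2 (sigma f g g' f' h L (hAle i.1) (hlA i.1) x) * resO hO'2 ((f'.app (A i.1)).hom b) := by
      have h8 : ∀ (c d : Γ(X', f' ⁻¹ᵁ (A i.1))) (k1 k2 : O' ≤ f' ⁻¹ᵁ (A i.1)), c = d →
          resO k1 c = resO k2 d := by
        intro c d k1 k2 hcd
        subst hcd
        rfl
      exact (h8 _ _ _ hO'2 (h4.symm.trans h3)).trans (map_mul _ _ _)
    rw [h7] at h6
    exact isUnit_of_mul_isUnit_left h6

end Local


section Gen

variable [Surjective g'] (L : X.Modules) (hL : PicF.IsInvertible L)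

omit h in
include hL in
/-- a section whose inverse image is a generator is a generator -/
theorem isGen_of_isGen_pbs (D : Y.Opens) (x : Γ(L, f ⁻¹ᵁ D))
    (hu : IsGen ((Scheme.Modules.pullback g').obj L) (g' ⁻¹ᵁ (f ⁻¹ᵁ D)) (pbs g' L (f ⁻¹ᵁ D) x)) :
    IsGen L (f ⁻¹ᵁ D) x := by
  refine isGen_of_bijective_on_basis L (f ⁻¹ᵁ D) x (fun Q => ∃ l : Γ(L, Q), IsGen L Q l) ?_ ?_
  · intro V p hpV _
    obtain ⟨U, gU, hpU, hgU⟩ := exists_isGen L hL p
    exact ⟨U ⊓ V, ⟨res L inf_le_left gU, hgU.res inf_le_left⟩, ⟨hpU, hpV⟩, inf_le_right⟩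
  · rintro Q hQ ⟨l, hl⟩
    set r := hl.coef le_rfl (res L hQ x) with hr
    have hrl : (r • l : Γ(L, Q)) = res L hQ x := by
      have := hl.coef_smul le_rfl (res L hQ x)
      rw [res_self] at this
      exact this
    -- `r` is a unit
    have hunit : IsUnit r := by
      have hsuff : Q ≤ X.basicOpen r := by
        intro p hp
        obtain ⟨p', rfl⟩ := g'.surjective p
        have h1 : IsUnit ((g'.app Q).hom r) := by
          have e1 : pbs g' L Q (res L hQ x) = ((g'.app Q).hom r • pbs g' L Q l :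
              Γ((Scheme.Modules.pullback g').obj L, g' ⁻¹ᵁ Q)) := by
            rw [← hrl, pbs_smul]
          have e2 : IsGen ((Scheme.Modules.pullback g').obj L) (g' ⁻¹ᵁ Q) (pbs g' L Q (res L hQ x)) := by
            rw [pbs_res]
            exact hu.res (g'.preimage_mono hQ)
          rw [e1] at e2
          exact isUnit_of_isGen_smul (isGen_pbs (f := g') hl) _ e2
        have h2 : g' ⁻¹ᵁ Q ≤ X'.basicOpen ((g'.app Q).hom r) := by
          refine le_basicOpen_of_isUnit_resO _ le_rfl ?_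
          rw [resO_refl]
          exact h1
        have h3 := h2 hp
        rw [← Scheme.preimage_basicOpen] at h3
        exact h3
      have := isUnit_resO_of_le_basicOpen r hsuff
      rw [resO_refl] at this
      exact this
    have hfun : (fun c : Γ(X, Q) => (c • res L hQ x : Γ(L, Q))) =
        (fun c : Γ(X, Q) => (c • res L le_rfl l : Γ(L, Q))) ∘ (fun c : Γ(X, Q) => c * r) := by
      funext c
      rw [Function.comp_apply, res_self, ← hrl, mul_smul]
    rw [hfun]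
    refine (hl Q le_rfl).comp ?_
    obtain ⟨ru, hru⟩ := hunit
    rw [← hru]
    exact (Units.mulRight_bijective ru)

end Gen

section Final

variable [QuasiCompact f] [QuasiSeparated f] [Flat g] [Surjective g] [QuasiCompact g]
  (hf : ∀ V : Y.Opens, Function.Bijective (f.app V))
  (hf' : ∀ W' : Y'.Opens, Function.Bijective (f'.app W'))
  (L : X.Modules) (hL : PicF.IsInvertible L)
  (hloc : ∀ y' : Y', ∃ (W' : Y'.Opens) (l : Γ((Scheme.Modules.pullback g').obj L, f' ⁻¹ᵁ W')), y' ∈ W' ∧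
    IsGen ((Scheme.Modules.pullback g').obj L) (f' ⁻¹ᵁ W') l)

include h hf hf' hL hloc in
theorem exists_common_gen (y : Y) :
    ∃ (D : Y.Opens) (x : Γ(L, f ⁻¹ᵁ D)), y ∈ D ∧ IsGen L (f ⁻¹ᵁ D) x ∧
      IsGen ((Scheme.Modules.pushforward f).obj L) D (show Γ((Scheme.Modules.pushforward f).obj L, D) from x) := by
  haveI : L.IsQuasicoherent := Groth.Agent.Lib.Helper28.InvQC.isQuasicoherent_of_isInvertible L hL
  haveI : Surjective g' := MorphismProperty.of_isPullback (P := @Surjective) h.flip inferInstance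
  obtain ⟨D, x, hyD, hu⟩ := exists_isGen_pbs f g g' f' h hf' L hloc y
  have hx := isGen_of_isGen_pbs f g' L hL D x hu
  exact ⟨D, x, hyD, hx, isGen_pushforward f L hf D x hx⟩

include h hf hf' hL hloc in
/-- `f_* L` is invertible -/
theorem isInvertible_pushforward : PicF.IsInvertible ((Scheme.Modules.pushforward f).obj L) := by
  intro y
  obtain ⟨D, x, hyD, -, hx'⟩ := exists_common_gen f g g' f' h hf hf' L hL hloc y
  exact ⟨D, hyD, nonempty_restrict_iso_of_isGen _ D _ hx'⟩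

include h hf hf' hL hloc in
/-- the counit `f^* f_* L ⟶ L` is an isomorphism -/
theorem isIso_counit : IsIso ((Scheme.Modules.pullbackPushforwardAdjunction f).counit.app L) := by
  refine Groth.Agent.Lib.Helper28.TensorIso.isIso_of_bijective_on_basis _
    (fun Q => ∃ (D : Y.Opens) (x : Γ(L, f ⁻¹ᵁ D)), Q ≤ f ⁻¹ᵁ D ∧ IsGen L (f ⁻¹ᵁ D) x ∧
      IsGen ((Scheme.Modules.pushforward f).obj L) D (show Γ((Scheme.Modules.pushforward f).obj L, D) from x)) ?_ ?_
  · intro U p hpU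
    obtain ⟨D, x, hyD, hx, hx'⟩ := exists_common_gen f g g' f' h hf hf' L hL hloc (f p)
    exact ⟨U ⊓ f ⁻¹ᵁ D, ⟨D, x, inf_le_right, hx, hx'⟩, ⟨hpU, hyD⟩, inf_le_left⟩
  · rintro Q ⟨D, x, hQ, hx, hx'⟩
    exact counit_bijective f L D x hx hx' Q hQ

end Final

end Groth.Agent.Lib.Helper17.InvDescLoc
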