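import Groth.Agent.Lib.Helper17.FlatDescBij
import Mathlib

/-!
# Flat base change of `O_Y = f_* O_X`, and `O = f_* O_X` for `X ⟶ Spec Γ(X, O_X)` with `X` qcqs
-/

set_option backward.isDefEq.respectTransparency.types false
set_option autoImplicit false
universe u
open CategoryTheory CategoryTheory.Limits AlgebraicGeometry Opposite TopologicalSpace TensorProduct
noncomputable section

namespace Groth.Agent.Lib.Helper17.FlatBCUnit

open Groth.Agent.Lib.Helper28 Groth.Agent.Lib.Helper28.QCohLoc Groth.Agent.Lib.Helper28.GenLocus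
open Groth.Agent.Lib.Helper28.PullbackInv
open Groth.Agent.Lib.Helper17.FlatMV Groth.Agent.Lib.Helper17.FlatBC Groth.Agent.Lib.Helper17.PullbackBC
open Groth.Agent.Lib.Helper17.InvDesc Groth.Agent.Lib.Helper17.FlatDescAlg Groth.Agent.Lib.Helper17.FlatDescBij
open Groth.Agent.Lib.Helper16.MR Groth.Agent.Lib.Helper16.RS

variable {X Y X' Y' : Scheme.{u}} (f : X ⟶ Y) (g : Y' ⟶ Y) (g' : X' ⟶ X) (f' : X' ⟶ Y')
  (h : IsPullback g' f' f g)

section BC

variable [QuasiCompact f] [QuasiSeparated f] [Flat g] (hf : ∀ V : Y.Opens, Function.Bijective (f.app V))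

include h hf in
theorem bijective_app_baseChange_of_affine {W : Y.Opens} (hW : IsAffineOpen W) {W' : Y'.Opens}
    (hW' : IsAffineOpen W') (e : W' ≤ g ⁻¹ᵁ W) : Function.Bijective (f'.app W') := by
  letI := (g.appLE W W' e).hom.toAlgebra
  obtain ⟨hc, hb⟩ := linBij_bmap f g g' f' h hW hW' e
  let u : Γ(Y, W) →ₗ[Γ(Y, W)] SecOver f W (Coh.structureModule X) (f ⁻¹ᵁ W) le_rfl :=
    { toFun := fun c => (show Γ(Coh.structureModule X, f ⁻¹ᵁ W) from (f.app W).hom c)
      map_add' := fun c d => map_add (f.app W).hom c d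
      map_smul' := fun c d => by
        show (f.app W).hom (c * d) = (f.appLE W (f ⁻¹ᵁ W) le_rfl).hom c * (f.app W).hom d
        rw [map_mul, Scheme.Hom.app_eq_appLE] }
  let jL : Γ(Y, W) ≃ₗ[Γ(Y, W)] SecOver f W (Coh.structureModule X) (f ⁻¹ᵁ W) le_rfl :=
    LinearEquiv.ofBijective u (hf W)
  have key : ∀ a' : Γ(Y', W'), (show SecOver f' W' (Coh.structureModule X') (f' ⁻¹ᵁ W') le_rfl from
      (f'.app W').hom a') =
      lin (bmap f g g' f' h e) hc ((LinearEquiv.lTensor Γ(Y', W') jL) ((TensorProduct.rid Γ(Y, W) Γ(Y', W')).symm a')) := by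
    intro a'
    rw [TensorProduct.rid_symm_apply]
    show _ = lin (bmap f g g' f' h e) hc (a' ⊗ₜ[Γ(Y, W)] (jL 1))
    rw [lin_tmul]
    have h1 : jL 1 = (show Γ(Coh.structureModule X, f ⁻¹ᵁ W) from (1 : Γ(X, f ⁻¹ᵁ W))) := by
      show (show Γ(Coh.structureModule X, f ⁻¹ᵁ W) from (f.app W).hom 1) = _
      rw [map_one]
    rw [h1, bmap_apply, map_one]
    show (f'.app W').hom a' = (f'.appLE W' (f' ⁻¹ᵁ W') le_rfl).hom a' * 1
    rw [mul_one, Scheme.Hom.app_eq_appLE]
  have hfun : ⇑(f'.app W').hom = ⇑(lin (bmap f g g' f' h e) hc) ∘ ⇑(LinearEquiv.lTensor Γ(Y', W') jL) ∘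
      ⇑(TensorProduct.rid Γ(Y, W) Γ(Y', W')).symm := funext key
  show Function.Bijective ⇑(f'.app W').hom
  rw [hfun]
  exact hb.comp ((LinearEquiv.lTensor Γ(Y', W') jL).bijective.comp (TensorProduct.rid Γ(Y, W) Γ(Y', W')).symm.bijective)

include h hf in
/-- **flat base change of `O_Y = f_* O_X`** -/
theorem bijective_app_baseChange (V' : Y'.Opens) : Function.Bijective (f'.app V') := by
  haveI : IsIso (unitPush f') := by
    refine Groth.Agent.Lib.Helper28.TensorIso.isIso_of_bijective_on_basis _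
      (fun W' => IsAffineOpen W' ∧ ∃ W : Y.Opens, IsAffineOpen W ∧ W' ≤ g ⁻¹ᵁ W) ?_ ?_
    · intro U y' hy'U
      obtain ⟨W, hW, hyW, -⟩ := Opens.isBasis_iff_nbhd.mp Y.isBasis_affineOpens
        (show g y' ∈ (⊤ : Y.Opens) from trivial)
      have hy' : y' ∈ U ⊓ g ⁻¹ᵁ W := ⟨hy'U, hyW⟩
      obtain ⟨W', hW', hy'W', hle⟩ := Opens.isBasis_iff_nbhd.mp Y'.isBasis_affineOpens hy'
      exact ⟨W', ⟨hW', W, hW, hle.trans inf_le_right⟩, hy'W', hle.trans inf_le_left⟩
    · rintro W' ⟨hW', W, hW, e⟩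
      exact bijective_app_baseChange_of_affine f g g' f' h hf hW hW' e
  exact app_bijective_of_isIso (unitPush f') V'

end BC

/-- for `X` quasi-compact and quasi-separated, `O = f_* O_X` for the canonical `f : X ⟶ Spec Γ(X, O_X)` -/
theorem bijective_toSpecΓ_app (X : Scheme.{u}) [CompactSpace X] [QuasiSeparatedSpace X]
    (V : (Spec Γ(X, ⊤)).Opens) : Function.Bijective (X.toSpecΓ.app V) := by
  haveI : IsIso (unitPush X.toSpecΓ) := by
    refine Groth.Agent.Lib.Helper28.TensorIso.isIso_of_bijective_on_basis _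
      (fun W => ∃ a : Γ(X, ⊤), W = PrimeSpectrum.basicOpen a) ?_ ?_
    · intro U y hyU
      obtain ⟨_, ⟨a, rfl⟩, hya, hle⟩ := Opens.isBasis_iff_nbhd.mp PrimeSpectrum.isBasis_basic_opens hyU
      exact ⟨PrimeSpectrum.basicOpen a, ⟨a, rfl⟩, hya, hle⟩
    · rintro W ⟨a, rfl⟩
      have := isIso_ΓSpec_adjunction_unit_app_basicOpen (X := X) a
      have hb : Function.Bijective (X.toSpecΓ.app (PrimeSpectrum.basicOpen a)) :=
        (ConcreteCategory.isIso_iff_bijective _).mp this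
      exact hb
  exact app_bijective_of_isIso (unitPush X.toSpecΓ) V

end Groth.Agent.Lib.Helper17.FlatBCUnit
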