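import Groth.Agent.Lib.Helper17.GlueDisc
import Groth.Agent.Lib.Helper17.DiscLocal
import Groth.Agent.Lib.Helper17.InvDescLoc
import Groth.Agent.Lib.Helper28.TensorPowGen
import Groth.Agent.Lib.Helper28.TwistGen
import Groth.Agent.S19022
import Groth.Agent.S0232
import Mathlib

/-!
# Invertible modules across a discrete complement with Noetherian local rings of dimension `≤ 1`

* `exists_invertible_section`: an invertible module `L` with a section `s` such that `X_s = U`.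
* `exists_extension`: every invertible module on `U` extends to `X`.
-/

set_option autoImplicit false
set_option backward.isDefEq.respectTransparency.types false
universe u
open CategoryTheory CategoryTheory.Limits AlgebraicGeometry Opposite TopologicalSpace
noncomputable section
namespace Groth.Agent.Lib.Helper17.DiscPic

open Groth.Agent.Lib.Helper28 Groth.Agent.Lib.Helper28.QCohLoc Groth.Agent.Lib.Helper28.GenLocus
open Groth.Agent.Lib.Helper17 Groth.Agent.Lib.Helper17.GlueDisc Groth.Agent.Lib.Helper17.DiscLocal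
open Groth.Agent.Lib.Helper29.QCohStalk Groth.Agent.Lib.Helper29.FreeIso


/-- in dimension `≤ 1` the proper generizations of a point are pairwise incomparable -/
theorem eq_of_specializes_of_specializes (X : Scheme.{u}) (p : X)
    (hdim : ringKrullDim (X.presheaf.stalk p) ≤ 1) {y z : X} (hyz : y ⤳ z) (hzp : z ⤳ p) (hz : z ≠ p) :
    y = z := by
  have h1 : Ring.KrullDimLE 1 (X.presheaf.stalk p) := by
    rw [Ring.KrullDimLE, Order.krullDimLE_iff]
    exact hdim
  have h2 := Ring.krullDimLE_one_iff.1 h1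
  have hyp : y ⤳ p := hyz.trans hzp
  have hz' : z ∈ Set.range (X.fromSpecStalk p) := by rw [Scheme.range_fromSpecStalk]; exact hzp
  have hy' : y ∈ Set.range (X.fromSpecStalk p) := by rw [Scheme.range_fromSpecStalk]; exact hyp
  obtain ⟨Q, rfl⟩ := hz'
  obtain ⟨P, rfl⟩ := hy'
  have hemb : Topology.IsEmbedding (X.fromSpecStalk p) := (X.fromSpecStalk p).isEmbedding
  have hPQ : P ⤳ Q := (hemb.isInducing.specializes_iff).1 hyz
  have hle : P.asIdeal ≤ Q.asIdeal := (PrimeSpectrum.le_iff_specializes P Q).2 hPQ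
  rcases h2 Q.asIdeal Q.2 with hmin | hmax
  · have : Q.asIdeal ≤ P.asIdeal := hmin.2 ⟨P.2, bot_le⟩ hle
    have hPQ' : P = Q := PrimeSpectrum.ext (le_antisymm hle this)
    rw [hPQ']
  · exfalso
    apply hz
    have hQ : Q = IsLocalRing.closedPoint (X.presheaf.stalk p) := by
      apply PrimeSpectrum.ext
      exact IsLocalRing.eq_maximalIdeal hmax
    rw [hQ]
    exact Scheme.fromSpecStalk_closedPoint

/-- **trivialisation near finitely many pairwise non-specialising points of an affine open** -/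
theorem exists_basicOpen_trivial (Y : Scheme.{u}) (L : Y.Modules) (hL : PicF.IsInvertible L)
    {V : Y.Opens} (hV : IsAffineOpen V) (T : Finset Y) (hTV : ∀ x ∈ T, x ∈ V)
    (hinc : ∀ z ∈ T, ∀ w ∈ T, z ≠ w → ¬ (w ⤳ z)) :
    ∃ g : Γ(Y, V), (∀ x ∈ T, x ∈ Y.basicOpen g) ∧
      Nonempty (L.restrict (Y.basicOpen g).ι ≅ Coh.structureModule (↑(Y.basicOpen g) : Scheme.{u})) := by
  have hL1 : FlatMod.IsFinLocFreeOfRank 1 L := by
    intro y
    obtain ⟨U, hyU, ⟨e⟩⟩ := hL y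
    exact ⟨U, hyU, ⟨e ≪≫ (coproductUniqueIso (fun _ : Fin 1 => Coh.structureModule (↑U : Scheme.{u}))).symm⟩⟩
  obtain ⟨σ, f, hf⟩ := exists_isBasisOn_nhds_of_finset L hL1 hV T hTV hinc
  obtain ⟨g, hgT, hgle⟩ := Groth.Agent.S19022.exists_basicOpen_le_iSup hV T hTV hinc f (fun z hz => (hf z hz).1)
  have hbasis := isBasisOn_iSup L (fun z : {z // z ∈ T} => Y.basicOpen (f z.1))
    (fun z => Y.basicOpen_le (f z.1)) σ (fun z => (hf z.1 z.2).2)
  obtain ⟨e⟩ := (hbasis.mono hgle).nonempty_iso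
  exact ⟨g, hgT,
    ⟨e ≪≫ coproductUniqueIso (fun _ : Fin 1 => Coh.structureModule (↑(Y.basicOpen g) : Scheme.{u}))⟩⟩


variable {X : Scheme.{u}}

/-- from local functions cutting out `U` to an invertible module with a section whose nonvanishing locus is `U` -/
theorem exists_section_of_functions (U : X.Opens) {ι : Type u} (W : ι → X.Opens)
    (hcov : ∀ x : X, ∃ i, x ∈ W i) (hW : ∀ i j, i ≠ j → W i ⊓ W j ≤ U)
    (φ : ∀ i, Γ(X, W i)) (hφ : ∀ i, X.basicOpen (φ i) = W i ⊓ U) :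
    ∃ (L : X.Modules) (s : Coh.structureModule X ⟶ L), PicF.IsInvertible L ∧ CohB1.genLocus L s = U := by
  classical
  have hu : ∀ i, IsUnit (resO (inf_le_left : W i ⊓ U ≤ W i) (φ i)) := fun i =>
    isUnit_resO_of_le_basicOpen (φ i) (le_of_eq (hφ i).symm)
  obtain ⟨ψ, hψ⟩ : ∃ ψ : ∀ i, Γ(X, W i ⊓ U), ∀ i, resO (inf_le_left : W i ⊓ U ≤ W i) (φ i) * ψ i = 1 :=
    ⟨fun i => ((hu i).unit⁻¹ : (Γ(X, W i ⊓ U))ˣ), fun i => (hu i).mul_val_inv⟩
  have hψu : ∀ i, IsUnit (ψ i) := fun i => IsUnit.of_mul_eq_one _ (by rw [mul_comm]; exact hψ i)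
  obtain ⟨σ, hσdef⟩ : ∃ σ : ∀ i, Γ(Coh.structureModule X, W i ⊓ U),
      ∀ i, σ i = (ψ i • oneSec X (W i ⊓ U) : Γ(Coh.structureModule X, W i ⊓ U)) := ⟨_, fun _ => rfl⟩
  have hσ : ∀ i, IsGen (Coh.structureModule X) (W i ⊓ U) (σ i) := fun i => by
    rw [hσdef]
    exact InvDescLoc.IsGen.smul_unit (isGen_oneSec (W i ⊓ U)) (ψ i) (hψu i)
  obtain ⟨L, g, hg, hrel, -⟩ := exists_glue U (Coh.structureModule X) W hcov hW σ hσ
  obtain ⟨t, htdef⟩ : ∃ t : ∀ i, Γ(L, W i), ∀ i, t i = (φ i • g i : Γ(L, W i)) := ⟨_, fun _ => rfl⟩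
  have hcompat : ∀ i j, res L (inf_le_left : W i ⊓ W j ≤ W i) (t i) =
      res L (inf_le_right : W i ⊓ W j ≤ W j) (t j) := by
    intro i j
    by_cases hij : i = j
    · subst hij
      rfl
    · have hTi : W i ⊓ W j ≤ W i ⊓ U := le_inf inf_le_left (hW i j hij)
      have hTj : W i ⊓ W j ≤ W j ⊓ U := le_inf inf_le_right (hW i j hij)
      have ha : resO (inf_le_left : W i ⊓ W j ≤ W i) (φ i) * resO hTi (ψ i) = 1 := by
        have := congrArg (resO hTi) (hψ i)
        rwa [CocycleMod.resO_mul, resO_resO, CocycleMod.resO_one] at this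
      have hb : resO (inf_le_right : W i ⊓ W j ≤ W j) (φ j) * resO hTj (ψ j) = 1 := by
        have := congrArg (resO hTj) (hψ j)
        rwa [CocycleMod.resO_mul, resO_resO, CocycleMod.resO_one] at this
      have h1 := hrel i j hij (resO (inf_le_right : W i ⊓ W j ≤ W j) (φ j) * resO hTi (ψ i)) (by
        rw [hσdef, hσdef, res_smul, res_smul, res_oneSec, res_oneSec, ← mul_smul, mul_assoc,
          mul_comm (resO hTi (ψ i)), ← mul_assoc, hb, one_mul])
      rw [htdef, htdef, res_smul, res_smul, h1, ← mul_smul]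
      congr 1
      rw [mul_comm (resO (inf_le_right : W i ⊓ W j ≤ W j) (φ j)), ← mul_assoc, ha, one_mul]
  obtain ⟨x, hx⟩ := exists_gluing (M := L) W ⊤ (fun _ => le_top) (by
    intro z _
    obtain ⟨i, hi⟩ := hcov z
    exact Opens.mem_iSup.2 ⟨i, hi⟩) t hcompat
  refine ⟨L, TwistGen.ofSection L x, isInvertible_of_isGen L (fun z => ?_), ?_⟩
  · obtain ⟨i, hi⟩ := hcov z
    exact ⟨W i, g i, hi, hg i⟩
  · have hloc : ∀ i, CohB1.genLocus L (TwistGen.ofSection L x) ⊓ W i = X.basicOpen (φ i) := by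
      intro i
      refine genLocus_inf_eq_basicOpen _ (W i) (g i) (hg i) (φ i) ?_
      rw [← htdef, ← hx i]
      exact TwistGen.ofSection_app_one L x (W i)
    ext z
    obtain ⟨i, hi⟩ := hcov z
    constructor
    · intro hz
      have : z ∈ CohB1.genLocus L (TwistGen.ofSection L x) ⊓ W i := ⟨hz, hi⟩
      rw [hloc i, hφ i] at this
      exact this.2
    · intro hz
      have : z ∈ W i ⊓ U := ⟨hi, hz⟩
      rw [← hφ i, ← hloc i] at this
      exact this.1


/-- generators of `N` on `U` give generators of the pushforward of `N` to `X` -/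
theorem exists_isGen_pushforward (U : X.Opens) (N : (↑U : Scheme.{u}).Modules) (T : (↑U : Scheme.{u}).Opens)
    (τ : Γ(N, T)) (hτ : IsGen N T τ) :
    ∃ τ' : Γ((Scheme.Modules.pushforward U.ι).obj N, U.ι ''ᵁ T),
      IsGen ((Scheme.Modules.pushforward U.ι).obj N) (U.ι ''ᵁ T) τ' := by
  let e : ((Scheme.Modules.pushforward U.ι).obj N).restrict U.ι ≅ N :=
    (Scheme.Modules.restrictFunctorAdjCounitIso U.ι).app N
  have h1 := Groth.Agent.S0232.isGen_of_iso e.symm hτ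
  exact ⟨_, isGen_of_isGen_restrict _ U _ h1⟩


/-- near a point of the complement, the pushforward of an invertible module on `U` has a generator on the part inside
`U` of a neighbourhood -/
theorem exists_nhd_generator (U : X.Opens) [QuasiCompact U.ι] (hdisc : DiscreteTopology ↥((U : Set X)ᶜ))
    (N : (↑U : Scheme.{u}).Modules) (hN : PicF.IsInvertible N) (p : X) (hp : p ∉ U)
    (hNoeth : IsNoetherianRing (X.presheaf.stalk p)) (hdim : ringKrullDim (X.presheaf.stalk p) ≤ 1) :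
    ∃ W : X.Opens, p ∈ W ∧ (∀ z ∈ W, z ∉ U → z = p) ∧
      ∃ σ : Γ((Scheme.Modules.pushforward U.ι).obj N, W ⊓ U),
        IsGen ((Scheme.Modules.pushforward U.ι).obj N) (W ⊓ U) σ := by
  classical
  obtain ⟨W₁, hW₁, g, hpW₁, hWU, hc, hg1, hgU, hg2⟩ := exists_local_data U hdisc p hp hNoeth hdim
  have hD : IsAffineOpen (X.basicOpen g) := hW₁.basicOpen g
  have hV : IsAffineOpen (U.ι ⁻¹ᵁ X.basicOpen g) :=
    hD.preimage_of_isOpenImmersion U.ι (by rw [Scheme.Opens.opensRange_ι]; exact hgU)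
  have hfin := finite_generizations X p hNoeth hdim
  let F : Finset X := hfin.toFinset.erase p
  have hF : ∀ y, y ∈ F ↔ (y ≠ p ∧ y ⤳ p) := by
    intro y
    simp [F]
  let Z : Finset (↑U : Scheme.{u}) := F.subtype (fun x => x ∈ U)
  have hZ : ∀ z : (↑U : Scheme.{u}), z ∈ Z ↔ (z.1 ≠ p ∧ z.1 ⤳ p) := by
    intro z
    rw [← hF]
    exact Finset.mem_subtype
  have hZV : ∀ z ∈ Z, z ∈ U.ι ⁻¹ᵁ X.basicOpen g := by
    intro z hz
    have := (hZ z).1 hz
    exact hg2 z.1 this.2 this.1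
  have hinc : ∀ z ∈ Z, ∀ w ∈ Z, z ≠ w → ¬ (w ⤳ z) := by
    intro z hz w hw hzw hwz
    have h1 : w.1 ⤳ z.1 := hwz.map U.ι.continuous
    have h2 := (hZ z).1 hz
    have := eq_of_specializes_of_specializes X p hdim h1 h2.2 h2.1
    exact hzw (Subtype.ext this.symm)
  obtain ⟨g', hg'Z, ⟨e'⟩⟩ := exists_basicOpen_trivial (↑U) N hN hV Z hZV hinc
  obtain ⟨τ, hτ⟩ : ∃ τ : Γ(N, (↑U : Scheme.{u}).basicOpen g'), IsGen N ((↑U : Scheme.{u}).basicOpen g') τ := by
    have := exists_isGen_of_iso N ((↑U : Scheme.{u}).basicOpen g') e'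
    rwa [Scheme.Opens.ι_image_top] at this
  obtain ⟨τ', hτ'⟩ := exists_isGen_pushforward U N _ τ hτ
  have hOW : U.ι ''ᵁ ((↑U : Scheme.{u}).basicOpen g') ≤ W₁ := by
    rintro _ ⟨y, hy, rfl⟩
    exact X.basicOpen_le g (((↑U : Scheme.{u}).basicOpen_le g') hy)
  have hOc : IsCompact ((U.ι ''ᵁ ((↑U : Scheme.{u}).basicOpen g') : X.Opens) : Set X) :=
    ((hV.basicOpen g').image_of_isOpenImmersion U.ι).isCompact
  have hgen : ∀ y : X, y ⤳ p → y ≠ p → y ∈ U.ι ''ᵁ ((↑U : Scheme.{u}).basicOpen g') := by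
    intro y hy hne
    have hyU : y ∈ U := hgU (hg2 y hy hne)
    exact ⟨⟨y, hyU⟩, hg'Z ⟨y, hyU⟩ ((hZ ⟨y, hyU⟩).2 ⟨hne, hy⟩), rfl⟩
  obtain ⟨W', hpW', hW'W, hW'⟩ := exists_open_insert U hW₁ p hpW₁ hWU hp hc _ hOW hOc hgen
  refine ⟨W', hpW', fun z hz hzU => hWU z (hW'W hz) hzU, ?_⟩
  have hle : W' ⊓ U ≤ U.ι ''ᵁ ((↑U : Scheme.{u}).basicOpen g') := by
    rintro z ⟨hz1, hz2⟩
    rcases (hW' z).1 hz1 with h | rfl
    · exact h
    · exact absurd hz2 hp
  exact ⟨res _ hle τ', hτ'.res hle⟩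



theorem inf_le_of_forall (U : X.Opens) (W : X → X.Opens) (h2 : ∀ p : X, ∀ z ∈ W p, z ∉ U → z = p)
    (p q : X) (hpq : p ≠ q) : W p ⊓ W q ≤ U := by
  rintro z ⟨hz1, hz2⟩
  by_contra hzU
  exact hpq ((h2 p z hz1 hzU).symm.trans (h2 q z hz2 hzU))

/-- **part (1)**: an invertible module with a section whose nonvanishing locus is `U` -/
theorem exists_invertible_section (X : Scheme.{u}) (U : X.Opens) [QuasiCompact U.ι]
    (hdisc : DiscreteTopology ↥((U : Set X)ᶜ))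
    (hloc : ∀ x : X, x ∉ U → IsNoetherianRing (X.presheaf.stalk x) ∧ ringKrullDim (X.presheaf.stalk x) ≤ 1) :
    ∃ (L : X.Modules) (s : Coh.structureModule X ⟶ L), PicF.IsInvertible L ∧ CohB1.genLocus L s = U := by
  have h : ∀ p : X, ∃ (W : X.Opens) (φ : Γ(X, W)), p ∈ W ∧ (∀ z ∈ W, z ∉ U → z = p) ∧
      X.basicOpen φ = W ⊓ U := by
    intro p
    by_cases hp : p ∈ U
    · refine ⟨U, 1, hp, fun z hz hzU => absurd hz hzU, ?_⟩
      rw [X.basicOpen_of_isUnit isUnit_one, inf_idem]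
    · exact exists_nhd_function U hdisc p hp (hloc p hp).1 (hloc p hp).2
  choose W φ h1 h2 h3 using h
  exact exists_section_of_functions U W (fun x => ⟨x, h1 x⟩) (inf_le_of_forall U W h2) φ h3

/-- **part (2)**: every invertible module on `U` extends to `X` -/
theorem exists_extension (X : Scheme.{u}) (U : X.Opens) [QuasiCompact U.ι]
    (hdisc : DiscreteTopology ↥((U : Set X)ᶜ))
    (hloc : ∀ x : X, x ∉ U → IsNoetherianRing (X.presheaf.stalk x) ∧ ringKrullDim (X.presheaf.stalk x) ≤ 1)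
    (N : (↑U : Scheme.{u}).Modules) (hN : PicF.IsInvertible N) :
    ∃ L : X.Modules, PicF.IsInvertible L ∧ Nonempty (L.restrict U.ι ≅ N) := by
  have h : ∀ p : X, ∃ W : X.Opens, p ∈ W ∧ (∀ z ∈ W, z ∉ U → z = p) ∧
      ∃ σ : Γ((Scheme.Modules.pushforward U.ι).obj N, W ⊓ U),
        IsGen ((Scheme.Modules.pushforward U.ι).obj N) (W ⊓ U) σ := by
    intro p
    by_cases hp : p ∈ U
    · obtain ⟨T, τ, hpT, hτ⟩ := exists_isGen N hN (⟨p, hp⟩ : (↑U : Scheme.{u}))
      obtain ⟨τ', hτ'⟩ := exists_isGen_pushforward U N T τ hτ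
      refine ⟨U.ι ''ᵁ T, ⟨⟨p, hp⟩, hpT, rfl⟩, ?_, res _ inf_le_left τ', hτ'.res inf_le_left⟩
      rintro _ ⟨y, -, rfl⟩ hzU
      exact absurd y.2 hzU
    · exact exists_nhd_generator U hdisc N hN p hp (hloc p hp).1 (hloc p hp).2
  choose W h1 h2 σ hσ using h
  obtain ⟨L, g, hg, -, ⟨ψ⟩⟩ := exists_glue U ((Scheme.Modules.pushforward U.ι).obj N) W (fun x => ⟨x, h1 x⟩)
    (inf_le_of_forall U W h2) σ hσ
  refine ⟨L, isInvertible_of_isGen L (fun x => ⟨W x, g x, h1 x, hg x⟩), ⟨ψ ≪≫ ?_⟩⟩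
  exact (Scheme.Modules.restrictFunctorAdjCounitIso U.ι).app N


end Groth.Agent.Lib.Helper17.DiscPic
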