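import Groth.Agent.Lib.Helper17.Serre
import Groth.Agent.Lib.Helper17.ConnSections
import Groth.Agent.Lib.Helper13.IdemClopen
import Groth.Agent.Lib.Helper28.ProjSpaceBasic
import Groth.Agent.Lib.Helper2.HLes
import Mathlib
set_option backward.isDefEq.respectTransparency.types false
set_option autoImplicit false
set_option linter.style.haveILetI false
set_option linter.unusedSectionVars false

/-!
# Connectedness of a closed subscheme and `H¹` of its ideal
-/

universe u
open CategoryTheory CategoryTheory.Limits AlgebraicGeometry Opposite TopologicalSpace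

noncomputable section
namespace Groth.Agent.Lib.Helper17.DivConn

variable {X : Scheme.{u}} (D : X.IdealSheafData)

theorem surjective_appTop_of_H1 (hvan : Subsingleton (Coh.HH X (ClSub.idealMod D) 1)) :
    Function.Surjective D.subschemeι.appTop.hom := by
  have h := Groth.Agent.Lib.Helper17.Serre.surjective_app_top_of_H1
    (Groth.Agent.Lib.Helper17.Serre.idealSES D) (Groth.Agent.Lib.Helper17.Serre.idealSES_shortExact D) hvan
  exact h

/-- a nonempty scheme whose ring of global functions is a quotient of a field is connected -/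
theorem connectedSpace_of_surjective {Z : Scheme.{u}} [Nonempty Z] {K : Type u} [Field K]
    (φ : K →+* Γ(Z, ⊤)) (hφ : Function.Surjective φ) : ConnectedSpace Z := by
  haveI : Nontrivial Γ(Z, ⊤) := by
    apply +allowSynthFailures Scheme.component_nontrivial
    exact ⟨⟨Classical.arbitrary Z, trivial⟩⟩
  have hinj : Function.Injective φ := φ.injective
  haveI : PreconnectedSpace Z := by
    rw [preconnectedSpace_iff_clopen]
    intro s hs
    let U : Z.Opens := ⟨s, hs.isOpen⟩
    obtain ⟨e, he, heU⟩ := Groth.Agent.Lib.Helper13.IdemClopen.exists_idempotent_of_isClopen Z U hs.isClosed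
    obtain ⟨a, rfl⟩ := hφ e
    have ha : IsIdempotentElem a := by
      apply hinj
      rw [map_mul]
      exact he
    have hs' : s = (Z.basicOpen (φ a) : Set Z) := (congrArg (fun O : Z.Opens => (O : Set Z)) heU).symm
    rcases IsIdempotentElem.iff_eq_zero_or_one.1 ha with h | h
    · left
      rw [hs', h, map_zero, Scheme.basicOpen_zero]; rfl
    · right
      rw [hs', h, map_one, Scheme.basicOpen_of_isUnit _ isUnit_one]; rfl
  exact { toNonempty := inferInstance }

section Proj

variable (k : Type u) [Field k] (X : Scheme.{u}) [X.Over (Spec (CommRingCat.of k))]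

theorem isProper_of_proj
    (hproj : ∃ (n : ℕ) (ι : X ⟶ CohB1.ProjSpace n k), IsClosedImmersion ι ∧
      ι ≫ CohB1.ProjSpace.toSpec n k = (X ↘ (Spec (CommRingCat.of k)))) :
    IsProper (X ↘ (Spec (CommRingCat.of k))) := by
  obtain ⟨n, ι, hι, hc⟩ := hproj
  rw [← hc]
  haveI := hι
  haveI := Groth.Agent.Lib.Helper28.ProjSpaceBasic.isProper_toSpec n k
  infer_instance

theorem connected_of_H1 [IsIntegral X] [IsProper (X ↘ (Spec (CommRingCat.of k)))]
    (D : X.IdealSheafData) (hne : Nonempty ↥D.subscheme)
    (hvan : Subsingleton (Coh.HH X (ClSub.idealMod D) 1)) :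
    ConnectedSpace ↥D.subscheme := by
  have hK : IsField Γ(X, ⊤) :=
    isField_of_universallyClosed (K := k) (X ↘ Spec (CommRingCat.of k))
  letI : Field Γ(X, ⊤) := hK.toField
  exact connectedSpace_of_surjective (K := Γ(X, ⊤)) D.subschemeι.appTop.hom
    (surjective_appTop_of_H1 D hvan)

theorem H1_of_connected [IsAlgClosed k] [IsProper (X ↘ (Spec (CommRingCat.of k)))]
    (hH1 : Subsingleton (Coh.HH X (Coh.structureModule X) 1))
    (D : X.IdealSheafData) [ConnectedSpace ↥D.subscheme] [IsReduced D.subscheme] :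
    Subsingleton (Coh.HH X (ClSub.idealMod D) 1) := by
  -- global functions on `D` are constants
  let f : D.subscheme ⟶ Spec (CommRingCat.of k) := D.subschemeι ≫ (X ↘ Spec (CommRingCat.of k))
  haveI : IsProper f := inferInstance
  have hint := isIntegral_appTop_of_universallyClosed f
  let ψ : k →+* Γ(D.subscheme, ⊤) := f.appTop.hom.comp (Scheme.ΓSpecIso (CommRingCat.of k)).inv.hom
  have hsurj : Function.Surjective D.subschemeι.appTop.hom := by
    intro s
    have hs : ψ.IsIntegralElem s := by
      obtain ⟨P, hP, hPs⟩ := hint s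
      refine ⟨P.map (Scheme.ΓSpecIso (CommRingCat.of k)).hom.hom, hP.map _, ?_⟩
      rw [Polynomial.eval₂_map]
      convert hPs using 2
      ext c
      show f.appTop.hom ((Scheme.ΓSpecIso (CommRingCat.of k)).inv.hom ((Scheme.ΓSpecIso (CommRingCat.of k)).hom.hom c)) = _
      have := congrArg (fun g => g.hom c) (Scheme.ΓSpecIso (CommRingCat.of k)).hom_inv_id
      simp only [CommRingCat.hom_comp, RingHom.comp_apply, CommRingCat.hom_id, RingHom.id_apply] at this
      rw [this]
    obtain ⟨c, hc⟩ := Groth.Agent.Lib.Helper17.ConnSections.exists_eq_of_isIntegral ψ s hs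
    refine ⟨(X ↘ Spec (CommRingCat.of k)).appTop.hom ((Scheme.ΓSpecIso (CommRingCat.of k)).inv.hom c), ?_⟩
    rw [hc]
    show _ = f.appTop.hom _
    have : f.appTop = (X ↘ Spec (CommRingCat.of k)).appTop ≫ D.subschemeι.appTop := Scheme.Hom.comp_appTop _ _
    rw [this]
    rfl
  -- the long exact sequence
  let S : ShortComplex (SheafOfModules.{u} X.ringCatSheaf) := Groth.Agent.Lib.Helper17.Serre.idealSES D
  have hS : S.ShortExact := Groth.Agent.Lib.Helper17.Serre.idealSES_shortExact D
  have hT := Groth.Agent.Lib.Helper17.Serre.shortExact_map_toSheaf' S hS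
  haveI : Subsingleton (Sheaf.H (S.map (SheafOfModules.toSheaf.{u} X.ringCatSheaf)).X₂ (0 + 1)) := hH1
  refine ⟨fun a b => ?_⟩
  have key : ∀ x : Coh.HH X (ClSub.idealMod D) 1, x = 0 := by
    intro x
    obtain ⟨x₃, rfl⟩ := Groth.Agent.Lib.Helper2.HLes.exact₁ hT 0 x (Subsingleton.elim _ _)
    have hterm : IsTerminal (⊤ : Opens X.toTopCat) := isTerminalTop
    let e₃ := Sheaf.H.equiv₀ (S.map (SheafOfModules.toSheaf.{u} X.ringCatSheaf)).X₃ hterm
    let e₂ := Sheaf.H.equiv₀ (S.map (SheafOfModules.toSheaf.{u} X.ringCatSheaf)).X₂ hterm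
    obtain ⟨r, hr⟩ := hsurj (e₃ x₃)
    have hx₃ : x₃ = Sheaf.H.map (S.map (SheafOfModules.toSheaf.{u} X.ringCatSheaf)).g 0 (e₂.symm r) := by
      apply e₃.injective
      have := Sheaf.H.equiv₀_naturality hterm (S.map (SheafOfModules.toSheaf.{u} X.ringCatSheaf)).g (e₂.symm r)
      rw [← this, AddEquiv.apply_symm_apply]
      exact hr.symm
    rw [hx₃]
    exact Groth.Agent.Lib.Helper2.HLes.δ_map_g hT 0 _
  rw [key a, key b]

end Proj

end Groth.Agent.Lib.Helper17.DivConn
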