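import Groth.Agent.Lib.Helper17.NegSec
import Groth.Agent.Lib.Helper17.GrVan
import Groth.Agent.Lib.Helper8.InvInverse
import Groth.Agent.Lib.Helper16.TA1
import Groth.Agent.Lib.Helper28.IdealDual
import Groth.Agent.Lib.Helper28.SymAlgUniv
import Groth.Agent.Lib.Helper28.ProjSpaceBasic
import Groth.Prelude.Def_Neron
import Mathlib
set_option backward.isDefEq.respectTransparency.types false
set_option autoImplicit false
set_option linter.style.haveILetI false
set_option linter.unusedSectionVars false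

/-!
# Linearly equivalent effective divisors, one contained in the other, are equal
-/

universe u
open CategoryTheory CategoryTheory.Limits AlgebraicGeometry Opposite TopologicalSpace

noncomputable section
namespace Groth.Agent.Lib.Helper17.DivEq

open Groth.Agent.Lib.Helper28 Groth.Agent.Lib.Helper17.NegSec

variable {X : Scheme.{u}}

/-- an injective endomorphism of an invertible module on a proper scheme over a field is an isomorphism -/
theorem isIso_of_mono_endo (k : Type u) [Field k] [X.Over (Spec (CommRingCat.of k))]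
    [IsProper (X ↘ Spec (CommRingCat.of k))] {A : X.Modules} (hA : PicF.IsInvertible A)
    (u : A ⟶ A) [Mono u] : IsIso u := by
  obtain ⟨J, hJ, ⟨ε⟩⟩ := Groth.Agent.Lib.Helper8.InvInverse.exists_isInverseOf hA
  let S : ShortComplex X.Modules := ShortComplex.mk u (cokernel.π u) (cokernel.condition u)
  have hS : S.ShortExact :=
    { exact := ShortComplex.exact_cokernel u
      mono_f := inferInstanceAs (Mono u)
      epi_g := inferInstanceAs (Epi (cokernel.π u)) }
  have hT := Groth.Agent.Lib.Helper6.K0Op.shortExact_tensor_of_flat J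
    (Groth.Agent.Lib.Helper6.K0Op.isFlat_of_isInvertible J hJ) S hS
  let Φ0 := (DCoh.tensorBi.obj J).map u
  let Φ : CohB1.tensorMod J A ⟶ CohB1.tensorMod J A := Φ0
  haveI : Mono Φ := hT.mono_f
  haveI : IsIso (ε.inv ≫ Φ ≫ ε.hom) := isIso_of_mono_unit k _
  haveI : IsIso (Φ ≫ ε.hom) := IsIso.of_isIso_comp_left ε.inv _
  haveI : IsIso Φ := IsIso.of_isIso_comp_right Φ ε.hom
  -- the cokernel vanishes after tensoring with `J`
  have hZ : IsZero ((DCoh.tensorBi.obj J).obj (cokernel u)) := by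
    have hg : (S.map (DCoh.tensorBi.obj J)).g = 0 := by
      haveI : Epi (S.map (DCoh.tensorBi.obj J)).f := by
        show Epi Φ
        infer_instance
      rw [← cancel_epi (S.map (DCoh.tensorBi.obj J)).f, (S.map (DCoh.tensorBi.obj J)).zero, comp_zero]
    exact @IsZero.of_epi_eq_zero _ _ _ _ _ (S.map (DCoh.tensorBi.obj J)).g hT.epi_g hg
  -- hence the cokernel vanishes
  have hC : IsZero (cokernel u) := by
    obtain ⟨ρ⟩ := AmpleUnit.nonempty_tensor_unit_iso (cokernel u)
    let e1 : cokernel u ≅ CohB1.tensorMod (Coh.structureModule X) (cokernel u) :=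
      ρ.symm ≪≫ Groth.Agent.Lib.Helper6.K0Inv.braidIso _ _
    let εAJ : CohB1.tensorMod A J ≅ Coh.structureModule X :=
      Groth.Agent.Lib.Helper6.K0Inv.braidIso _ _ ≪≫ ε
    let e2 : CohB1.tensorMod (CohB1.tensorMod A J) (cokernel u) ≅
        CohB1.tensorMod (Coh.structureModule X) (cokernel u) :=
      (DCoh.tensorBi.mapIso εAJ).app (cokernel u)
    let e3 := Groth.Agent.Lib.Helper16.TA.assocIso A J (cokernel u)
    have hz : IsZero ((DCoh.tensorBi.obj A).obj ((DCoh.tensorBi.obj J).obj (cokernel u))) :=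
      (DCoh.tensorBi.obj A).map_isZero hZ
    exact hz.of_iso (e1 ≪≫ e2.symm ≪≫ e3)
  haveI : Epi u := Abelian.epi_of_cokernel_π_eq_zero u (hC.eq_of_tgt _ _)
  exact isIso_of_mono_of_epi u

section Main

variable (D₁ D₂ : X.IdealSheafData) (hle : D₂ ≤ D₁)

include hle in
theorem comp_eq_zero : ClSub.idealModι D₂ ≫ ClSub.toSubscheme D₁ = 0 := by
  apply Groth.Agent.Lib.Helper28.SymAlg.hom_ext_affine
  intro U hU m
  have h1 : IdealDual.iota D₂ m ∈ D₂.ideal ⟨U, hU⟩ := IdealDual.iota_mem_ideal D₂ ⟨U, hU⟩ m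
  have h2 : IdealDual.iota D₂ m ∈ D₁.ideal ⟨U, hU⟩ := hle ⟨U, hU⟩ h1
  rw [← D₁.ker_subschemeι_app ⟨U, hU⟩, RingHom.mem_ker] at h2
  exact h2

/-- the inclusion of ideal modules -/
def incl : ClSub.idealMod D₂ ⟶ ClSub.idealMod D₁ :=
  kernel.lift (ClSub.toSubscheme D₁) (ClSub.idealModι D₂) (comp_eq_zero D₁ D₂ hle)

theorem incl_ι : incl D₁ D₂ hle ≫ ClSub.idealModι D₁ = ClSub.idealModι D₂ :=
  kernel.lift_ι _ _ _

instance : Mono (incl D₁ D₂ hle) := by
  haveI : Mono (incl D₁ D₂ hle ≫ ClSub.idealModι D₁) := by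
    rw [incl_ι]; infer_instance
  exact mono_of_mono (incl D₁ D₂ hle) (ClSub.idealModι D₁)

include hle in
theorem eq_of_iso (k : Type u) [Field k] [X.Over (Spec (CommRingCat.of k))]
    [IsProper (X ↘ Spec (CommRingCat.of k))]
    (h₁ : BlowUp.IsEffCartierIdeal D₁) (hiso : Nonempty (ClSub.idealMod D₁ ≅ ClSub.idealMod D₂)) :
    D₁ = D₂ := by
  obtain ⟨φ⟩ := hiso
  have hA := IdealDual.isInvertible_idealMod D₁ h₁
  haveI : Mono (φ.hom ≫ incl D₁ D₂ hle) := mono_comp _ _
  haveI : IsIso (φ.hom ≫ incl D₁ D₂ hle) := isIso_of_mono_endo k hA _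
  haveI : IsIso (incl D₁ D₂ hle) := IsIso.of_isIso_comp_left φ.hom _
  apply le_antisymm _ hle
  intro U a ha
  obtain ⟨m, hm⟩ := IdealDual.exists_iota_eq_of_mem D₁ U a ha
  -- `m` comes from `D₂`
  let m' : Γ(ClSub.idealMod D₂, U.1) := (inv (incl D₁ D₂ hle)).app U.1 m
  have hm' : (incl D₁ D₂ hle).app U.1 m' = m := by
    have := congrArg (fun ψ : ClSub.idealMod D₁ ⟶ ClSub.idealMod D₁ => ψ.app U.1 m)
      (IsIso.inv_hom_id (incl D₁ D₂ hle))
    exact this
  have h3 : IdealDual.iota D₂ m' = a := by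
    rw [← hm, ← hm']
    have := congrArg (fun ψ : ClSub.idealMod D₂ ⟶ Coh.structureModule X => ψ.app U.1 m') (incl_ι D₁ D₂ hle)
    exact this.symm
  rw [← h3]
  exact IdealDual.iota_mem_ideal D₂ U m'

end Main

end Groth.Agent.Lib.Helper17.DivEq
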