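import Mathlib

/-!
# Étale lifting of coprime monic factorizations (Stacks 00UH style, modulo an arbitrary ideal)
-/

namespace Groth.Agent.Lib.Helper17.EtaleFactor

open Polynomial TensorProduct

universe u

section homEquiv

variable {R : Type u} [CommRing R] (m k : ℕ) {n : ℕ} (hn : n = m + k) (p : MonicDegreeEq R n)
  {S : Type u} [CommRing S] [Algebra R S]

open UniversalCoprimeFactorizationRing in
theorem homEquiv_id_fst :
    (homEquiv (UniversalCoprimeFactorizationRing m k hn p) m k hn p (AlgHom.id R _)).1.1 =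
      factor₁ m k hn p := by
  ext1
  simp [homEquiv, UniversalFactorizationRing.homEquiv, factor₁, MonicDegreeEq.map] <;> rfl

open UniversalCoprimeFactorizationRing in
theorem homEquiv_id_snd :
    (homEquiv (UniversalCoprimeFactorizationRing m k hn p) m k hn p (AlgHom.id R _)).1.2 =
      factor₂ m k hn p := by
  ext1
  simp [homEquiv, UniversalFactorizationRing.homEquiv, factor₂, MonicDegreeEq.map] <;> rfl

open UniversalCoprimeFactorizationRing in
theorem homEquiv_fst (φ : UniversalCoprimeFactorizationRing m k hn p →ₐ[R] S) :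
    (homEquiv S m k hn p φ).1.1 = (factor₁ m k hn p).map φ := by
  have := homEquiv_comp_fst _ m k hn p (AlgHom.id R _) φ
  rw [AlgHom.comp_id, homEquiv_id_fst] at this
  exact this

open UniversalCoprimeFactorizationRing in
theorem homEquiv_snd (φ : UniversalCoprimeFactorizationRing m k hn p →ₐ[R] S) :
    (homEquiv S m k hn p φ).1.2 = (factor₂ m k hn p).map φ := by
  have := homEquiv_comp_snd _ m k hn p (AlgHom.id R _) φ
  rw [AlgHom.comp_id, homEquiv_id_snd] at this
  exact this

end homEquiv

/-- A section of a finite type unramified algebra is cut out by an idempotent-like element. -/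
theorem exists_idem_of_section {R B : Type*} [CommRing R] [CommRing B] [Algebra R B]
    [Algebra.FormallyUnramified R B] [Algebra.EssFiniteType R B] (σ : B →ₐ[R] R) :
    ∃ e : B, (∀ s : B, s * e = algebraMap R B (σ s) * e) ∧ σ e = 1 := by
  obtain ⟨t, ht1, ht2⟩ := (Algebra.FormallyUnramified.iff_exists_tensorProduct (R := R) (S := B)).1
    inferInstance
  let τ : B ⊗[R] B →ₐ[R] B :=
    Algebra.TensorProduct.lift (AlgHom.id R B) ((Algebra.ofId R B).comp σ) (fun _ _ => Commute.all _ _)
  have hτ : ∀ b₁ b₂ : B, τ (b₁ ⊗ₜ b₂) = b₁ * algebraMap R B (σ b₂) := by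
    intro b₁ b₂
    simp [τ, Algebra.ofId_apply]
  refine ⟨τ t, fun s => ?_, ?_⟩
  · have := congrArg τ (ht1 s)
    rw [map_mul, map_sub, hτ, hτ, map_zero, map_one, map_one, one_mul, mul_one] at this
    have h2 : (algebraMap R B (σ s) - s) * τ t = 0 := this
    rw [sub_mul, sub_eq_zero] at h2
    exact h2.symm
  · have hcomp : σ.comp τ = σ.comp (Algebra.TensorProduct.lmul' R) := by
      apply Algebra.TensorProduct.ext'
      intro b₁ b₂
      simp [hτ]
    have := AlgHom.congr_fun hcomp t
    simp only [AlgHom.comp_apply] at this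
    rw [this, ht2, map_one]


/-- Final step: localizing at a lift of the idempotent. -/
theorem final_step {A : Type u} [CommRing A] (I : Ideal A) {R' : Type u} [CommRing R']
    [Algebra A R'] (φ : R' →ₐ[A] A ⧸ I) (a : R') (hφau : IsUnit (φ a))
    (he1 : ∀ x : R', ∃ r : A, Ideal.Quotient.mk I r = φ x ∧
      x * a - algebraMap A R' r * a ∈ I.map (algebraMap A R'))
    (A'' : Type u) [CommRing A''] [Algebra R' A''] [Algebra A A''] [IsScalarTower A R' A'']
    [IsLocalization.Away a A''] :
    Function.Bijective (algebraMap (A ⧸ I) (A'' ⧸ I.map (algebraMap A A''))) ∧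
    ∀ G : R'[X], (G.map (algebraMap R' A'')).map (Ideal.Quotient.mk (I.map (algebraMap A A''))) =
      (G.map φ.toRingHom).map (algebraMap (A ⧸ I) (A'' ⧸ I.map (algebraMap A A''))) := by
  have hI'I'' : (I.map (algebraMap A R')).map (algebraMap R' A'') = I.map (algebraMap A A'') := by
    rw [Ideal.map_map, ← IsScalarTower.algebraMap_eq]
  have hau : IsUnit (algebraMap R' A'' a) := IsLocalization.Away.algebraMap_isUnit a
  let ψ : A'' →ₐ[A] (A ⧸ I) := IsLocalization.Away.liftAlgHom a (f := φ) hφau
  have hψ : ∀ x : R', ψ (algebraMap R' A'' x) = φ x := fun x =>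
    IsLocalization.Away.lift_eq a hφau x
  have hψI'' : ∀ y ∈ I.map (algebraMap A A''), ψ y = 0 := by
    intro y hy
    have : I.map (algebraMap A A'') ≤ RingHom.ker ψ.toRingHom := by
      rw [Ideal.map_le_iff_le_comap]
      intro i hi
      rw [Ideal.mem_comap, RingHom.mem_ker]
      show ψ (algebraMap A A'' i) = 0
      rw [AlgHom.commutes, Ideal.Quotient.algebraMap_eq, Ideal.Quotient.eq_zero_iff_mem]
      exact hi
    exact this hy
  let ρ : (A'' ⧸ I.map (algebraMap A A'')) →+* (A ⧸ I) :=
    Ideal.Quotient.lift (I.map (algebraMap A A'')) ψ.toRingHom hψI''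
  have hρι : ∀ r : A ⧸ I, ρ (algebraMap (A ⧸ I) (A'' ⧸ I.map (algebraMap A A'')) r) = r := by
    intro r
    obtain ⟨a₀, rfl⟩ := Ideal.Quotient.mk_surjective r
    rw [Ideal.Quotient.algebraMap_quotient_map_quotient]
    show ψ (algebraMap A A'' a₀) = _
    rw [AlgHom.commutes]; rfl
  have hconst : ∀ x : R', ∃ r : A, Ideal.Quotient.mk I r = φ x ∧
      algebraMap R' A'' x - algebraMap A A'' r ∈ I.map (algebraMap A A'') := by
    intro x
    obtain ⟨r, hr, h1⟩ := he1 x
    refine ⟨r, hr, ?_⟩
    have h2 : algebraMap R' A'' (x * a - algebraMap A R' r * a) ∈ I.map (algebraMap A A'') := by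
      rw [← hI'I'']; exact Ideal.mem_map_of_mem _ h1
    rw [map_sub, map_mul, map_mul, ← sub_mul, ← IsScalarTower.algebraMap_apply] at h2
    obtain ⟨v, hv⟩ := hau.exists_right_inv
    have h3 := Ideal.mul_mem_right v _ h2
    rwa [mul_assoc, hv, mul_one] at h3
  have hmk_a : Ideal.Quotient.mk (I.map (algebraMap A A'')) (algebraMap R' A'' a) =
      algebraMap (A ⧸ I) (A'' ⧸ I.map (algebraMap A A'')) (φ a) := by
    obtain ⟨r₁, hr₁, hr₁'⟩ := hconst a
    rw [← hr₁, Ideal.Quotient.algebraMap_quotient_map_quotient, Ideal.Quotient.eq]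
    exact hr₁'
  have hsurj : Function.Surjective (algebraMap (A ⧸ I) (A'' ⧸ I.map (algebraMap A A''))) := by
    intro z
    obtain ⟨y, rfl⟩ := Ideal.Quotient.mk_surjective z
    obtain ⟨j, x, hyx⟩ := IsLocalization.Away.surj a y
    obtain ⟨r, -, hr⟩ := hconst x
    obtain ⟨c, hc⟩ := hφau.exists_right_inv
    refine ⟨Ideal.Quotient.mk I r * c ^ j, ?_⟩
    have h1 := congrArg (Ideal.Quotient.mk (I.map (algebraMap A A''))) hyx
    rw [map_mul, map_pow, hmk_a] at h1
    have h2 : Ideal.Quotient.mk (I.map (algebraMap A A'')) (algebraMap R' A'' x) =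
        algebraMap (A ⧸ I) (A'' ⧸ I.map (algebraMap A A'')) (Ideal.Quotient.mk I r) := by
      rw [Ideal.Quotient.algebraMap_quotient_map_quotient, Ideal.Quotient.eq]
      exact hr
    rw [map_mul, map_pow, ← h2, ← h1, mul_assoc, ← mul_pow, ← map_mul, hc, map_one, one_pow,
      mul_one]
  have hιρ : ∀ z : A'' ⧸ I.map (algebraMap A A''),
      algebraMap (A ⧸ I) (A'' ⧸ I.map (algebraMap A A'')) (ρ z) = z := by
    intro z
    obtain ⟨r, rfl⟩ := hsurj z
    rw [hρι]
  refine ⟨⟨Function.LeftInverse.injective hρι, hsurj⟩, fun G => ?_⟩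
  rw [Polynomial.map_map, Polynomial.map_map]
  congr 1
  ext x
  simp only [RingHom.comp_apply]
  rw [← hιρ (Ideal.Quotient.mk (I.map (algebraMap A A'')) (algebraMap R' A'' x))]
  congr 1
  show ψ (algebraMap R' A'' x) = φ x
  exact hψ x


/-- Main step with an abstract étale algebra carrying a factorization and a map to `A ⧸ I`. -/
theorem main_step {A : Type u} [CommRing A] (I : Ideal A) (f : A[X])
    (g h : (A ⧸ I)[X]) (R' : Type u) [CommRing R'] [Algebra A R'] [Algebra.Etale A R']
    (φ : R' →ₐ[A] A ⧸ I) (G₁ G₂ : R'[X]) (hG₁ : G₁.Monic) (hG₂ : G₂.Monic)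
    (hcop : IsCoprime G₁ G₂) (hprod : G₁ * G₂ = f.map (algebraMap A R'))
    (hG₁φ : G₁.map φ.toRingHom = g) (hG₂φ : G₂.map φ.toRingHom = h)
    (u₀ : A) (hu₀ : IsUnit (Ideal.Quotient.mk I u₀)) :
    ∃ (A' : Type u) (_ : CommRing A') (_ : Algebra A A'), Algebra.Etale A A' ∧
      Function.Bijective (algebraMap (A ⧸ I) (A' ⧸ I.map (algebraMap A A'))) ∧
      IsUnit (algebraMap A A' u₀) ∧
      ∃ g' h' : A'[X], g'.Monic ∧ h'.Monic ∧ IsCoprime g' h' ∧
        f.map (algebraMap A A') = g' * h' ∧
        g'.map (Ideal.Quotient.mk (I.map (algebraMap A A'))) =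
          g.map (algebraMap (A ⧸ I) (A' ⧸ I.map (algebraMap A A'))) ∧
        h'.map (Ideal.Quotient.mk (I.map (algebraMap A A'))) =
          h.map (algebraMap (A ⧸ I) (A' ⧸ I.map (algebraMap A A'))) := by
  classical
  have hφI' : ∀ a ∈ I.map (algebraMap A R'), φ a = 0 := by
    intro a ha
    have : I.map (algebraMap A R') ≤ RingHom.ker φ.toRingHom := by
      rw [Ideal.map_le_iff_le_comap]
      intro i hi
      rw [Ideal.mem_comap, RingHom.mem_ker]
      show φ (algebraMap A R' i) = 0
      rw [AlgHom.commutes, Ideal.Quotient.algebraMap_eq, Ideal.Quotient.eq_zero_iff_mem]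
      exact hi
    exact this ha
  let σ₀ : (R' ⧸ I.map (algebraMap A R')) →+* (A ⧸ I) :=
    Ideal.Quotient.lift (I.map (algebraMap A R')) φ.toRingHom hφI'
  let σ : (R' ⧸ I.map (algebraMap A R')) →ₐ[A ⧸ I] (A ⧸ I) :=
    { σ₀ with
      commutes' := by
        intro r
        obtain ⟨a, rfl⟩ := Ideal.Quotient.mk_surjective r
        show σ₀ (algebraMap (A ⧸ I) (R' ⧸ I.map (algebraMap A R')) (Ideal.Quotient.mk I a)) = _
        rw [Ideal.Quotient.algebraMap_quotient_map_quotient]
        show φ (algebraMap A R' a) = _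
        rw [AlgHom.commutes]; rfl }
  have hσmk : ∀ x : R', σ (Ideal.Quotient.mk (I.map (algebraMap A R')) x) = φ x := fun x => rfl
  haveI : Algebra.FormallyUnramified A (R' ⧸ I.map (algebraMap A R')) :=
    Algebra.FormallyUnramified.of_surjective (Ideal.Quotient.mkₐ A (I.map (algebraMap A R')))
      Ideal.Quotient.mk_surjective
  haveI : Algebra.FormallyUnramified (A ⧸ I) (R' ⧸ I.map (algebraMap A R')) :=
    Algebra.FormallyUnramified.of_restrictScalars A (A ⧸ I) (R' ⧸ I.map (algebraMap A R'))
  haveI : Algebra.FiniteType A (R' ⧸ I.map (algebraMap A R')) :=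
    Algebra.FiniteType.of_surjective (Ideal.Quotient.mkₐ A (I.map (algebraMap A R')))
      Ideal.Quotient.mk_surjective
  haveI : Algebra.FiniteType (A ⧸ I) (R' ⧸ I.map (algebraMap A R')) :=
    Algebra.FiniteType.of_restrictScalars_finiteType A (A ⧸ I) (R' ⧸ I.map (algebraMap A R'))
  obtain ⟨ebar, he1, he2⟩ := exists_idem_of_section σ
  obtain ⟨a, rfl⟩ := Ideal.Quotient.mk_surjective ebar
  have hφa : φ a = 1 := by rw [← hσmk]; exact he2
  set b : R' := a * algebraMap A R' u₀ with hb
  have hφb : IsUnit (φ b) := by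
    rw [hb, map_mul, hφa, one_mul, AlgHom.commutes]
    exact hu₀
  have he1' : ∀ x : R', ∃ r : A, Ideal.Quotient.mk I r = φ x ∧
      x * b - algebraMap A R' r * b ∈ I.map (algebraMap A R') := by
    intro x
    obtain ⟨r, hr⟩ := Ideal.Quotient.mk_surjective
      (σ (Ideal.Quotient.mk (I.map (algebraMap A R')) x))
    refine ⟨r, hr, ?_⟩
    have h1 := he1 (Ideal.Quotient.mk (I.map (algebraMap A R')) x)
    rw [← hr, Ideal.Quotient.algebraMap_quotient_map_quotient, ← map_mul, ← map_mul,
      Ideal.Quotient.eq] at h1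
    have h2 := Ideal.mul_mem_right (algebraMap A R' u₀) _ h1
    have : x * b - algebraMap A R' r * b =
        (x * a - algebraMap A R' r * a) * algebraMap A R' u₀ := by rw [hb]; ring
    rw [this]
    exact h2
  haveI : Algebra.Etale A (Localization.Away b) := Algebra.Etale.comp A R' (Localization.Away b)
  obtain ⟨hbij, hred⟩ := final_step I φ b hφb he1' (Localization.Away b)
  have hbu : IsUnit (algebraMap R' (Localization.Away b) b) :=
    IsLocalization.Away.algebraMap_isUnit b
  have hu₀u : IsUnit (algebraMap A (Localization.Away b) u₀) := by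
    rw [hb, map_mul, IsUnit.mul_iff, ← IsScalarTower.algebraMap_apply] at hbu
    exact hbu.2
  refine ⟨Localization.Away b, inferInstance, inferInstance, inferInstance, hbij, hu₀u,
    G₁.map (algebraMap R' (Localization.Away b)), G₂.map (algebraMap R' (Localization.Away b)),
    hG₁.map _, hG₂.map _,
    hcop.map (Polynomial.mapRingHom (algebraMap R' (Localization.Away b))), ?_, ?_, ?_⟩
  · rw [← Polynomial.map_mul, hprod, Polynomial.map_map, ← IsScalarTower.algebraMap_eq]
  · rw [hred, hG₁φ]
  · rw [hred, hG₂φ]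

/-- **Étale lifting of a coprime monic factorization modulo an ideal**, making in addition a
given element `u₀` (a unit modulo `I`) invertible. -/
theorem exists_etale_lift_factor' {A : Type u} [CommRing A] (I : Ideal A) (f : A[X])
    (hf : f.Monic) (g h : (A ⧸ I)[X]) (hg : g.Monic) (hh : h.Monic) (hcop : IsCoprime g h)
    (hfgh : f.map (Ideal.Quotient.mk I) = g * h)
    (u₀ : A) (hu₀ : IsUnit (Ideal.Quotient.mk I u₀)) :
    ∃ (A' : Type u) (_ : CommRing A') (_ : Algebra A A'), Algebra.Etale A A' ∧
      Function.Bijective (algebraMap (A ⧸ I) (A' ⧸ I.map (algebraMap A A'))) ∧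
      IsUnit (algebraMap A A' u₀) ∧
      ∃ g' h' : A'[X], g'.Monic ∧ h'.Monic ∧ IsCoprime g' h' ∧
        f.map (algebraMap A A') = g' * h' ∧
        g'.map (Ideal.Quotient.mk (I.map (algebraMap A A'))) =
          g.map (algebraMap (A ⧸ I) (A' ⧸ I.map (algebraMap A A'))) ∧
        h'.map (Ideal.Quotient.mk (I.map (algebraMap A A'))) =
          h.map (algebraMap (A ⧸ I) (A' ⧸ I.map (algebraMap A A'))) := by
  classical
  rcases subsingleton_or_nontrivial (A ⧸ I) with hsub | hnt
  · -- trivial case: take the zero ring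
    haveI : Subsingleton (Localization.Away (0 : A)) :=
      IsLocalization.subsingleton (M := Submonoid.powers (0 : A)) ⟨1, by simp⟩
    haveI : Subsingleton (Localization.Away (0 : A) ⧸
        I.map (algebraMap A (Localization.Away (0 : A)))) :=
      (Ideal.Quotient.mk_surjective).subsingleton
    exact ⟨Localization.Away (0 : A), inferInstance, inferInstance, inferInstance,
      ⟨fun x y _ => Subsingleton.elim x y, fun y => ⟨0, Subsingleton.elim _ _⟩⟩,
      ⟨⟨_, 0, Subsingleton.elim _ _, Subsingleton.elim _ _⟩, rfl⟩,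
      1, 1, monic_one, monic_one, isCoprime_one_left, Subsingleton.elim _ _,
      Subsingleton.elim _ _, Subsingleton.elim _ _⟩
  -- main case
  have hn : f.natDegree = g.natDegree + h.natDegree := by
    have h1 := congrArg natDegree hfgh
    rwa [hf.natDegree_map, hg.natDegree_mul hh] at h1
  let p : MonicDegreeEq A f.natDegree := .mk f hf rfl
  let φ : UniversalCoprimeFactorizationRing g.natDegree h.natDegree hn p →ₐ[A] (A ⧸ I) :=
    (UniversalCoprimeFactorizationRing.homEquiv (A ⧸ I) g.natDegree h.natDegree hn p).symm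
      ⟨(.mk g hg rfl, .mk h hh rfl), hfgh.symm, hcop⟩
  have hG₁φ : (UniversalCoprimeFactorizationRing.factor₁ g.natDegree h.natDegree hn p).1.map
      φ.toRingHom = g := by
    have h1 := homEquiv_fst g.natDegree h.natDegree hn p φ
    have h2 : (UniversalCoprimeFactorizationRing.homEquiv (A ⧸ I) g.natDegree h.natDegree hn p
        φ).1.1 = .mk g hg rfl := by
      simp only [φ, Equiv.apply_symm_apply]
    rw [h2] at h1
    exact (congrArg Subtype.val h1).symm
  have hG₂φ : (UniversalCoprimeFactorizationRing.factor₂ g.natDegree h.natDegree hn p).1.map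
      φ.toRingHom = h := by
    have h1 := homEquiv_snd g.natDegree h.natDegree hn p φ
    have h2 : (UniversalCoprimeFactorizationRing.homEquiv (A ⧸ I) g.natDegree h.natDegree hn p
        φ).1.2 = .mk h hh rfl := by
      simp only [φ, Equiv.apply_symm_apply]
    rw [h2] at h1
    exact (congrArg Subtype.val h1).symm
  exact main_step I f g h _ φ _ _
    (UniversalCoprimeFactorizationRing.factor₁ g.natDegree h.natDegree hn p).monic
    (UniversalCoprimeFactorizationRing.factor₂ g.natDegree h.natDegree hn p).monic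
    (UniversalCoprimeFactorizationRing.isCoprime_factor₁_factor₂ g.natDegree h.natDegree hn p)
    (UniversalCoprimeFactorizationRing.factor₁_mul_factor₂ g.natDegree h.natDegree hn p)
    hG₁φ hG₂φ u₀ hu₀

/-- **Étale lifting of a coprime monic factorization modulo an ideal.** -/
theorem exists_etale_lift_factor {A : Type u} [CommRing A] (I : Ideal A) (f : A[X])
    (hf : f.Monic) (g h : (A ⧸ I)[X]) (hg : g.Monic) (hh : h.Monic) (hcop : IsCoprime g h)
    (hfgh : f.map (Ideal.Quotient.mk I) = g * h) :
    ∃ (A' : Type u) (_ : CommRing A') (_ : Algebra A A'), Algebra.Etale A A' ∧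
      Function.Bijective (algebraMap (A ⧸ I) (A' ⧸ I.map (algebraMap A A'))) ∧
      ∃ g' h' : A'[X], g'.Monic ∧ h'.Monic ∧ IsCoprime g' h' ∧
        f.map (algebraMap A A') = g' * h' ∧
        g'.map (Ideal.Quotient.mk (I.map (algebraMap A A'))) =
          g.map (algebraMap (A ⧸ I) (A' ⧸ I.map (algebraMap A A'))) ∧
        h'.map (Ideal.Quotient.mk (I.map (algebraMap A A'))) =
          h.map (algebraMap (A ⧸ I) (A' ⧸ I.map (algebraMap A A'))) := by
  obtain ⟨A', i1, i2, h1, h2, -, h3⟩ := exists_etale_lift_factor' I f hf g h hg hh hcop hfgh 1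
    (by rw [map_one]; exact isUnit_one)
  exact ⟨A', i1, i2, h1, h2, h3⟩

end Groth.Agent.Lib.Helper17.EtaleFactor
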