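import Groth.Agent.Lib.Helper17.SmoothNormal
import Mathlib

/-!
Normality ascends along flat, unramified, essentially finite type local homomorphisms
of noetherian local rings (helper17).
-/

namespace Groth.Agent.Lib.Helper17.SmoothNormal

open TensorProduct IsLocalRing

universe u

/-- Normality of the local ring at a prime where a finitely presented algebra over a normal domain
is étale. -/
theorem isDomain_and_isIntegrallyClosed_atPrime_of_isEtaleAt
    (P : Type u) [CommRing P] [IsDomain P] [IsIntegrallyClosed P]
    {C₀ : Type u} [CommRing C₀] [Algebra P C₀] [Algebra.FinitePresentation P C₀]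
    (q : Ideal C₀) [q.IsPrime] [Algebra.IsEtaleAt P q] :
    IsDomain (Localization.AtPrime q) ∧ IsIntegrallyClosed (Localization.AtPrime q) := by
  obtain ⟨g, hgq, hg⟩ := Algebra.exists_etale_of_isEtaleAt (R := P) q
  exact transfer (Submonoid.powers g) (Localization.Away g) q
    ((Ideal.disjoint_powers_iff_notMem_of_isPrime _).mpr hgq)
    (fun q' _ => isDomain_and_isIntegrallyClosed_atPrime_of_etale P q')

theorem isDomain_and_isIntegrallyClosed_of_local_etale
    (P C : Type u) [CommRing P] [CommRing C] [Algebra P C] [IsLocalRing P] [IsLocalRing C]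
    [IsLocalHom (algebraMap P C)] [IsNoetherianRing P] [IsDomain P] [IsIntegrallyClosed P]
    [Module.Flat P C] [Algebra.EssFiniteType P C] [Algebra.FormallyUnramified P C] :
    IsDomain C ∧ IsIntegrallyClosed C := by
  -- `C` is formally étale over `P`
  haveI : Algebra.FormallyEtale (ResidueField P) (ResidueField P ⊗[P] C) :=
    Algebra.FormallyEtale.of_formallyUnramified_of_field _ _
  haveI : Algebra.FinitePresentation P (Algebra.EssFiniteType.subalgebra P C) :=
    Algebra.FinitePresentation.of_finiteType.mp inferInstance
  haveI : Algebra.FormallySmooth P C :=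
    Algebra.FormallySmooth.of_formallySmooth_residueField_tensor
      (P := Algebra.EssFiniteType.subalgebra P C) (Algebra.EssFiniteType.submonoid P C)
  haveI : Algebra.FormallyEtale P C := Algebra.FormallyEtale.of_formallyUnramified_and_formallySmooth
  haveI hqp : ((maximalIdeal C).comap (algebraMap (Algebra.EssFiniteType.subalgebra P C) C)).IsPrime :=
    Ideal.comap_isPrime _ _
  have hM : Algebra.EssFiniteType.submonoid P C =
      ((maximalIdeal C).comap (algebraMap (Algebra.EssFiniteType.subalgebra P C) C)).primeCompl := by
    ext x
    simp only [Algebra.EssFiniteType.submonoid, Submonoid.mem_comap, Ideal.mem_primeCompl_iff,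
      Ideal.mem_comap, mem_maximalIdeal, mem_nonunits_iff, not_not]
    rfl
  haveI : IsLocalization.AtPrime C
      ((maximalIdeal C).comap (algebraMap (Algebra.EssFiniteType.subalgebra P C) C)) := by
    have := Algebra.EssFiniteType.isLocalization (R := P) (S := C)
    rwa [hM] at this
  let e : Localization.AtPrime
      ((maximalIdeal C).comap (algebraMap (Algebra.EssFiniteType.subalgebra P C) C))
        ≃ₐ[Algebra.EssFiniteType.subalgebra P C] C :=
    IsLocalization.algEquiv
      ((maximalIdeal C).comap (algebraMap (Algebra.EssFiniteType.subalgebra P C) C)).primeCompl _ _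
  haveI : Algebra.IsEtaleAt P
      ((maximalIdeal C).comap (algebraMap (Algebra.EssFiniteType.subalgebra P C) C)) :=
    Algebra.FormallyEtale.of_equiv (e.symm.restrictScalars P)
  obtain ⟨h1, h2⟩ := isDomain_and_isIntegrallyClosed_atPrime_of_isEtaleAt P
    ((maximalIdeal C).comap (algebraMap (Algebra.EssFiniteType.subalgebra P C) C))
  exact ⟨e.symm.toMulEquiv.isDomain _, IsIntegrallyClosed.of_equiv e.toRingEquiv⟩

end Groth.Agent.Lib.Helper17.SmoothNormal
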