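import Groth.Agent.Lib.Helper17.GrFormal
import Groth.Agent.Lib.Helper23.Formal.Completion
import Mathlib

/-!
# Abelian-category and formal-system lemmas for the existence theorem (helper17)
-/

set_option autoImplicit false
set_option backward.isDefEq.respectTransparency.types false
universe u
open CategoryTheory CategoryTheory.Limits AlgebraicGeometry Opposite TopologicalSpace

namespace Groth.Agent.Lib.Helper17.ExA

open Groth.Agent.Lib.Helper23.FQuot Groth.Agent.Lib.Lead.FormalA

section abelian

variable {C : Type*} [Category C] [Abelian C] {E' E'' G' G'' : C}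
  (f : E' ⟶ E'') (g : G' ⟶ G'') (b' : E' ⟶ G') (b'' : E'' ⟶ G'') (comm : f ≫ b'' = b' ≫ g)

/-- if the map on horizontal kernels is epi, so is the map on vertical kernels -/
theorem epi_kernel_map [Epi f] (hκ : Epi (kernel.map f g b' b'' comm)) :
    Epi (kernel.map b' b'' f g comm.symm) := by
  rw [epi_iff_surjective_up_to_refinements]
  intro T x
  obtain ⟨T₁, π₁, hπ₁, y, hy⟩ :=
    (epi_iff_surjective_up_to_refinements f).1 inferInstance (x ≫ kernel.ι b'')
  have hz : (y ≫ b') ≫ g = 0 := by
    rw [Category.assoc, ← comm, ← Category.assoc, ← hy, Category.assoc, Category.assoc,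
      kernel.condition, comp_zero, comp_zero]
  obtain ⟨T₂, π₂, hπ₂, w, hw⟩ :=
    (epi_iff_surjective_up_to_refinements _).1 hκ (kernel.lift g (y ≫ b') hz)
  have hw' : π₂ ≫ y ≫ b' = w ≫ kernel.ι f ≫ b' := by
    have := congrArg (fun t => t ≫ kernel.ι g) hw
    simp only [Category.assoc, kernel.lift_ι] at this
    exact this
  refine ⟨T₂, π₂ ≫ π₁, epi_comp _ _, kernel.lift b' (π₂ ≫ y - w ≫ kernel.ι f) ?_, ?_⟩
  · rw [Preadditive.sub_comp, Category.assoc, Category.assoc, hw', sub_self]
  · rw [← cancel_mono (kernel.ι b'')]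
    simp only [Category.assoc, kernel.lift_ι, kernel.lift_ι_assoc]
    rw [Preadditive.sub_comp, Category.assoc, Category.assoc, kernel.condition, comp_zero, sub_zero,
      hy]

theorem kerSeq_aux : (kernel.ι (kernel.map f g b' b'' comm) ≫ kernel.ι f) ≫ b' = 0 := by
  have h1 : kernel.map f g b' b'' comm ≫ kernel.ι g = kernel.ι f ≫ b' := kernel.lift_ι _ _ _
  rw [Category.assoc, ← h1, kernel.condition_assoc, zero_comp]

/-- the inclusion of the kernel of the horizontal map into the vertical kernel -/
noncomputable def kerSeqι : kernel (kernel.map f g b' b'' comm) ⟶ kernel b' :=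
  kernel.lift b' (kernel.ι (kernel.map f g b' b'' comm) ≫ kernel.ι f) (kerSeq_aux f g b' b'' comm)

theorem kerSeqι_ι : kerSeqι f g b' b'' comm ≫ kernel.ι b' =
    kernel.ι (kernel.map f g b' b'' comm) ≫ kernel.ι f := kernel.lift_ι _ _ _

theorem kerSeqι_map : kerSeqι f g b' b'' comm ≫ kernel.map b' b'' f g comm.symm = 0 := by
  rw [← cancel_mono (kernel.ι b'')]
  have h1 : kernel.map b' b'' f g comm.symm ≫ kernel.ι b'' = kernel.ι b' ≫ f := kernel.lift_ι _ _ _
  rw [Category.assoc, h1, ← Category.assoc, kerSeqι_ι, Category.assoc, kernel.condition, comp_zero,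
    zero_comp]

/-- the kernel of the horizontal map on vertical kernels, as a short complex -/
noncomputable def kerSeq : ShortComplex C :=
  ShortComplex.mk (kerSeqι f g b' b'' comm) (kernel.map b' b'' f g comm.symm)
    (kerSeqι_map f g b' b'' comm)

instance mono_kerSeqι : Mono (kerSeqι f g b' b'' comm) := by
  haveI : Mono (kernel.ι (kernel.map f g b' b'' comm) ≫ kernel.ι f) := mono_comp _ _
  exact mono_of_mono_fac (kerSeqι_ι f g b' b'' comm)

theorem kerSeq_shortExact [Epi f] (hκ : Epi (kernel.map f g b' b'' comm)) :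
    (kerSeq f g b' b'' comm).ShortExact where
  exact := by
    have h1 : kernel.map b' b'' f g comm.symm ≫ kernel.ι b'' = kernel.ι b' ≫ f := kernel.lift_ι _ _ _
    have h2 : kernel.map f g b' b'' comm ≫ kernel.ι g = kernel.ι f ≫ b' := kernel.lift_ι _ _ _
    have key : ∀ {W : C} (s : W ⟶ kernel b') (hs : s ≫ kernel.map b' b'' f g comm.symm = 0),
        ∃ l : W ⟶ kernel (kernel.map f g b' b'' comm), l ≫ kerSeqι f g b' b'' comm = s := by
      intro W s hs
      have e1 : (s ≫ kernel.ι b') ≫ f = 0 := by
        rw [Category.assoc, ← h1, ← Category.assoc, hs, zero_comp]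
      have e2 : kernel.lift f (s ≫ kernel.ι b') e1 ≫ kernel.map f g b' b'' comm = 0 := by
        rw [← cancel_mono (kernel.ι g), Category.assoc, h2, ← Category.assoc, kernel.lift_ι,
          Category.assoc, kernel.condition, comp_zero, zero_comp]
      refine ⟨kernel.lift _ (kernel.lift f (s ≫ kernel.ι b') e1) e2, ?_⟩
      rw [← cancel_mono (kernel.ι b'), Category.assoc, kerSeqι_ι, ← Category.assoc, kernel.lift_ι,
        kernel.lift_ι]
    refine ShortComplex.exact_of_f_is_kernel _ ?_
    refine KernelFork.IsLimit.ofι _ _ (fun {W} s hs => (key s hs).choose)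
      (fun {W} s hs => (key s hs).choose_spec) ?_
    intro W s hs m hm
    exact (cancel_mono (kerSeqι f g b' b'' comm)).1 (hm.trans (key s hs).choose_spec.symm)
  mono_f := mono_kerSeqι f g b' b'' comm
  epi_g := epi_kernel_map f g b' b'' comm hκ

end abelian

variable {A : Type u} [CommRing A] {X : Scheme.{u}} [X.Over (Spec (CommRingCat.of A))]

/-- **Nakayama**: a map which is epi modulo `J` onto a module killed by `J ^ 2` is epi -/
theorem epi_of_epi_comp_isQuot {J : Ideal A} {M N N' : X.Modules} (f : M ⟶ N) (t : N ⟶ N')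
    (ht : IsQuot J t) (hN : Formal.KilledBy (J * J) N) (h : Epi (f ≫ t)) : Epi f := by
  have hq := isQuot_cokernelπ J (cokernel f)
  set q := cokernel.π (Formal.smulFamily J (cokernel f)) with hqdef
  obtain ⟨g', hg'⟩ := ht.fac (cokernel.π f ≫ q) (fun a ha => by
    rw [← Category.assoc, smulMod_naturality, Category.assoc, hq.zero a ha, comp_zero])
  have h1 : g' = 0 := by
    rw [← cancel_epi (f ≫ t), Category.assoc, hg', ← Category.assoc, cokernel.condition, zero_comp,
      comp_zero]
  have h2 : q = 0 := by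
    rw [← cancel_epi (cokernel.π f), ← hg', h1, comp_zero, comp_zero]
  haveI : Epi (Formal.smulFamily J (cokernel f)) := Abelian.epi_of_cokernel_π_eq_zero _ h2
  have hC : Formal.KilledBy (J * J) (cokernel f) := by
    intro c hc
    rw [← cancel_epi (cokernel.π f), ← smulMod_naturality, hN c hc, zero_comp, comp_zero]
  have h3 : ∀ b ∈ J, Formal.smulMod A (cokernel f) b = 0 := by
    intro b hb
    rw [← cancel_epi (Formal.smulFamily J (cokernel f)), comp_zero]
    apply Sigma.hom_ext
    intro a
    rw [← Category.assoc, ι_smulFamily, comp_zero, ← smulMod_mul]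
    exact hC _ (Ideal.mul_mem_mul a.2 hb)
  have h4 : Formal.smulFamily J (cokernel f) = 0 := by
    apply Sigma.hom_ext
    intro a
    rw [ι_smulFamily, comp_zero]
    exact h3 a a.2
  have h5 : cokernel.π f = 0 := by
    have hz : IsZero (cokernel f) := by
      rw [IsZero.iff_id_eq_zero, ← cancel_epi (Formal.smulFamily J (cokernel f)), h4, zero_comp,
        zero_comp]
    exact hz.eq_of_tgt _ _
  exact Abelian.epi_of_cokernel_π_eq_zero _ h5

/-- a compatible family of maps to a tower of modules killed by the powers of `I` induces a map from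
the completion system -/
theorem exists_completion_hom (I : Ideal A) (P : X.Modules) (H : ℕᵒᵖ ⥤ X.Modules)
    (hH : ∀ n, Formal.KilledBy (I ^ (n + 1)) (H.obj (op n)))
    (s : ∀ n, P ⟶ H.obj (op n))
    (hs : ∀ n, s (n + 1) ≫ H.map (homOfLE (Nat.le_succ n)).op = s n) :
    ∃ ψ : Formal.completion I P ⟶ H, ∀ n, Formal.modPowπ I (n + 1) P ≫ ψ.app (op n) = s n := by
  have hzero : ∀ n, Formal.smulFamily (I ^ (n + 1)) P ≫ s n = 0 := fun n =>
    (smulFamily_comp_eq_zero_iff _ _).2 (fun a ha => by
      rw [smulMod_naturality, hH n a ha, comp_zero])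
  have hnat : ∀ n, Formal.modPowTrans I (n + 1) P ≫
      cokernel.desc (Formal.smulFamily (I ^ (n + 1)) P) (s n) (hzero n) =
      cokernel.desc (Formal.smulFamily (I ^ (n + 1 + 1)) P) (s (n + 1))
        (hzero (n + 1)) ≫ H.map (homOfLE (Nat.le_succ n)).op := by
    intro n
    apply modPow_hom_ext
    refine Eq.trans ?_ (modPowπ_desc_comp I (n + 1 + 1) (s (n + 1))
      (hzero (n + 1)) (H.map (homOfLE (Nat.le_succ n)).op)).symm
    rw [← Category.assoc, Formal.modPowπ_trans, modPowπ_desc, hs]
  refine ⟨NatTrans.ofOpSequence (fun n => cokernel.desc _ (s n) (hzero n)) (by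
      intro n
      have e1 : (Formal.completion I P).map (homOfLE (n.le_add_right 1)).op =
          Formal.modPowTrans I (n + 1) P :=
        Functor.ofOpSequence_map_homOfLE_succ _ n
      rw [e1]
      exact hnat n), fun n => ?_⟩
  exact modPowπ_desc I (n + 1) (s n) (hzero n)

end Groth.Agent.Lib.Helper17.ExA
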