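import Groth.Agent.Lib.Helper17.ExA
import Groth.Agent.Lib.Helper28.DualEpi
import Groth.Agent.Lib.Helper21.ZarConn1
import Mathlib

/-!
# Twisting, sections and morphisms from the dual of an invertible module (helper17)
-/

set_option autoImplicit false
set_option backward.isDefEq.respectTransparency.types false
universe u
open CategoryTheory CategoryTheory.Limits AlgebraicGeometry Opposite TopologicalSpace MonoidalCategory

namespace Groth.Agent.Lib.Helper17.ExB

open Groth.Agent.Lib.Helper28 Groth.Agent.Lib.Helper28.QCohLoc Groth.Agent.Lib.Helper28.GenLocus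
  Groth.Agent.Lib.Helper28.TensorGen Groth.Agent.Lib.Helper28.HomMod
open Groth.Agent.Lib.Helper6.K0Inv Groth.Agent.Lib.Helper21.ZarConn

variable {X : Scheme.{u}}

/-- naturality of the symmetry of the tensor product in the first variable -/
theorem braid_nat {M M' : X.Modules} (f : M ⟶ M') (Λ : X.Modules) :
    LimSh.tensorModMap f Λ ≫ (braidIso M' Λ).hom =
      (braidIso M Λ).hom ≫ (DCoh.tensorBi.obj Λ).map f := by
  change DCoh.shP.map ((DCoh.toP.map f) ▷ (DCoh.toP.obj Λ)) ≫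
      DCoh.shP.map (β_ (DCoh.toP.obj M') (DCoh.toP.obj Λ)).hom =
    DCoh.shP.map (β_ (DCoh.toP.obj M) (DCoh.toP.obj Λ)).hom ≫
      DCoh.shP.map ((DCoh.toP.obj Λ) ◁ (DCoh.toP.map f))
  rw [← Functor.map_comp, ← Functor.map_comp, BraidedCategory.braiding_naturality_left]

/-- naturality in `M` of the morphism `Λ^∨ ⟶ M` defined by a section of `M ⊗ Λ` -/
theorem homOfTensorSec_naturality {Λ : X.Modules} (hΛ : PicF.IsInvertible Λ) {M M' : X.Modules}
    (f : M ⟶ M') (σ : Γ(CohB1.tensorMod M Λ, ⊤)) :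
    homOfTensorSec M hΛ σ ≫ f = homOfTensorSec M' hΛ ((LimSh.tensorModMap f Λ).app ⊤ σ) := by
  refine hom_ext_of_local _ _ (fun V => ∃ g : Γ(Λ, V), IsGen Λ V g)
    (fun V V' h => fun ⟨g, hg⟩ => ⟨res Λ h g, hg.res h⟩) (fun x => ?_) ?_
  · obtain ⟨U, g, hxU, hg⟩ := exists_isGen Λ hΛ x
    exact ⟨U, ⟨g, hg⟩, hxU⟩
  · rintro V ⟨g, hg⟩ η
    have h1 : (homOfTensorSec M hΛ σ ≫ f).app V η = f.app V ((homOfTensorSec M hΛ σ).app V η) := rfl
    rw [h1, homOfTensorSec_app M hΛ σ hg, homOfTensorSec_app M' hΛ _ hg]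
    unfold HomMod.pair
    rw [Scheme.Modules.Hom.app_smul]
    congr 1
    symm
    apply untw_eq
    rw [← tensorModMap_tmulSec, tmulSec_untw, app_res]

/-- sections of `M ⊗ Λ` generating at every point give a locally generating family `Λ^∨ ⟶ M`
(arbitrary index type) -/
theorem locGen_of_genAtBy {Λ : X.Modules} (hΛ : PicF.IsInvertible Λ) (M : X.Modules) {ι : Type*}
    (T : ι → Γ(CohB1.tensorMod M Λ, ⊤))
    (h : ∀ x : X, GenAtBy (CohB1.tensorMod M Λ) (Set.range T) x) :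
    LocGen (fun j => homOfTensorSec M hΛ (T j)) := by
  intro U x pt hpt
  obtain ⟨W, g, hptW, hg⟩ := exists_isGen Λ hΛ pt
  have hg₀ : IsGen Λ (U ⊓ W) (res Λ inf_le_right g) := hg.res inf_le_right
  obtain ⟨V, hV, hptV, hmem⟩ := h pt (U ⊓ W)
    (tmulSec M Λ (res M inf_le_left x) (res Λ inf_le_right g)) ⟨hpt, hptW⟩
  refine ⟨V, hV.trans inf_le_left, hptV, ?_⟩
  have hgV : IsGen Λ V (res Λ hV (res Λ inf_le_right g)) := hg₀.res hV
  have hspan : Submodule.span Γ(X, V)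
      ((fun T' : Γ(CohB1.tensorMod M Λ, ⊤) => res (CohB1.tensorMod M Λ) (le_top : V ≤ ⊤) T') '' Set.range T) ≤
      (genRange (fun j => homOfTensorSec M hΛ (T j)) V).comap (tmulEquiv M hgV).symm.toLinearMap := by
    rw [Submodule.span_le]
    rintro _ ⟨_, ⟨j, rfl⟩, rfl⟩
    show untw M hgV (res (CohB1.tensorMod M Λ) le_top (T j)) ∈ genRange (fun j => homOfTensorSec M hΛ (T j)) V
    rw [← homOfTensorSec_app_gdual M hΛ (T j) hgV]
    exact app_mem_genRange (fun j => homOfTensorSec M hΛ (T j)) V j _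
  have h3 : untw M hgV (res (CohB1.tensorMod M Λ) hV
      (tmulSec M Λ (res M inf_le_left x) (res Λ inf_le_right g))) ∈
      genRange (fun j => homOfTensorSec M hΛ (T j)) V := hspan hmem
  rw [tmulSec_res, untw_tmulSec, res_res] at h3
  exact h3

/-- a locally generating family is jointly epimorphic -/
theorem LocGen.hom_ext {ι : Type*} {L F : X.Modules} {φ : ι → (L ⟶ F)} (h : LocGen φ) {T : X.Modules}
    (a b : F ⟶ T) (hab : ∀ j, φ j ≫ a = φ j ≫ b) : a = b := by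
  apply Scheme.Modules.hom_ext
  intro W
  ext x
  have h1 : ∀ pt : W, ∃ (V : X.Opens) (hV : V ≤ W), pt.1 ∈ V ∧ res F hV x ∈ genRange φ V :=
    fun pt => h W x pt.1 pt.2
  choose V hV hptV hmem using h1
  refine eq_of_locally_eq T V W hV ?_ _ _ fun pt => ?_
  · intro q hq
    exact Opens.mem_iSup.mpr ⟨⟨q, hq⟩, hptV ⟨q, hq⟩⟩
  · rw [← app_res, ← app_res]
    refine genRange_induction φ (V pt) (P := fun y => a.app (V pt) y = b.app (V pt) y) ?_ ?_ ?_ (hmem pt)
    · intro j y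
      have := congrArg (fun ψ : L ⟶ T => ψ.app (V pt) y) (hab j)
      exact this
    · rw [map_zero, map_zero]
    · intro y z hy hz
      rw [map_add, map_add, hy, hz]

section lift

/-- **lifting twisted global sections** through an epimorphism whose kernel has vanishing twisted
`H^1` -/
theorem exists_lift_section (A : Type u) [CommRing A] [X.Over (Spec (CommRingCat.of A))]
    {Λ : X.Modules} (hΛ : PicF.IsInvertible Λ) (S : ShortComplex X.Modules)
    (hS : S.ShortExact) (h1 : Subsingleton (Coh.HH X (CohB1.tensorMod S.X₁ Λ) 1))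
    (σ : Γ(CohB1.tensorMod S.X₃ Λ, ⊤)) :
    ∃ τ : Γ(CohB1.tensorMod S.X₂ Λ, ⊤), (LimSh.tensorModMap S.g Λ).app ⊤ τ = σ := by
  have hflat := Groth.Agent.Lib.Helper6.K0Op.isFlat_of_isInvertible Λ hΛ
  have hS' := Groth.Agent.Lib.Helper6.K0Op.shortExact_tensor_of_flat Λ hflat S hS
  have hSab := Groth.Agent.Lib.Helper2.HLesLin.shortExact_Sab _ hS'
  have a₁ : Subsingleton (Coh.HH X ((DCoh.tensorBi.obj Λ).obj S.X₁) 1) :=
    Groth.Agent.Lib.Helper4.VanClass.subsingleton_HH_of_iso (braidIso S.X₁ Λ) 1 h1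
  let σ' : Γ((DCoh.tensorBi.obj Λ).obj S.X₃, ⊤) := (braidIso S.X₃ Λ).hom.app ⊤ σ
  obtain ⟨x₂, hx₂⟩ := Groth.Agent.Lib.Helper2.HLes.exact₃ hSab 0
    ((h0 ((DCoh.tensorBi.obj Λ).obj S.X₃)).symm σ') (Subsingleton.elim (h := a₁) _ _)
  let τ' : Γ((DCoh.tensorBi.obj Λ).obj S.X₂, ⊤) := h0 ((DCoh.tensorBi.obj Λ).obj S.X₂) x₂
  have h2 : ((DCoh.tensorBi.obj Λ).map S.g).app ⊤ τ' = σ' := by
    have h3 := h0_symm_map (A := A) ((DCoh.tensorBi.obj Λ).map S.g) τ'
    have h4 : Canon.HHlin A ((DCoh.tensorBi.obj Λ).map S.g) 0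
        ((h0 ((DCoh.tensorBi.obj Λ).obj S.X₂)).symm τ') =
        (h0 ((DCoh.tensorBi.obj Λ).obj S.X₃)).symm σ' := by
      rw [AddEquiv.symm_apply_apply]
      exact hx₂
    exact ((h0 _).symm.injective (h3.symm.trans h4))
  refine ⟨(braidIso S.X₂ Λ).inv.app ⊤ τ', ?_⟩
  apply (app_bijective_of_isIso (braidIso S.X₃ Λ).hom ⊤).1
  have h5 := congrArg (fun ψ : CohB1.tensorMod S.X₂ Λ ⟶ _ => ψ.app ⊤ ((braidIso S.X₂ Λ).inv.app ⊤ τ'))
    (braid_nat S.g Λ)
  have h6 : (braidIso S.X₂ Λ).hom.app ⊤ ((braidIso S.X₂ Λ).inv.app ⊤ τ') = τ' := by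
    have := congrArg (fun ψ : (DCoh.tensorBi.obj Λ).obj S.X₂ ⟶ (DCoh.tensorBi.obj Λ).obj S.X₂ =>
      ψ.app ⊤ τ') (braidIso S.X₂ Λ).inv_hom_id
    exact this
  refine Eq.trans h5 ?_
  change ((DCoh.tensorBi.obj Λ).map S.g).app ⊤ ((braidIso S.X₂ Λ).hom.app ⊤ ((braidIso S.X₂ Λ).inv.app ⊤ τ')) = σ'
  rw [h6, h2]

end lift

/-- **compatible families of morphisms** `Λ^∨ ⟶ F n` into a tower with surjective transition maps on
twisted global sections -/
theorem exists_compatible_family {Λ : X.Modules} (hΛ : PicF.IsInvertible Λ) (F : ℕᵒᵖ ⥤ X.Modules)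
    (hsurj : ∀ (m : ℕ) (σ : Γ(CohB1.tensorMod (F.obj (op m)) Λ, ⊤)),
      ∃ τ : Γ(CohB1.tensorMod (F.obj (op (m + 1))) Λ, ⊤),
        (LimSh.tensorModMap (F.map (homOfLE (Nat.le_succ m)).op) Λ).app ⊤ τ = σ)
    (n : ℕ) (σ : Γ(CohB1.tensorMod (F.obj (op n)) Λ, ⊤)) :
    ∃ t : ∀ m, dual Λ ⟶ F.obj (op m),
      (∀ m, t (m + 1) ≫ F.map (homOfLE (Nat.le_succ m)).op = t m) ∧
        t n = homOfTensorSec (F.obj (op n)) hΛ σ := by
  let s : ∀ k, Γ(CohB1.tensorMod (F.obj (op (n + k))) Λ, ⊤) := fun k =>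
    Nat.rec (motive := fun k => Γ(CohB1.tensorMod (F.obj (op (n + k))) Λ, ⊤)) σ
      (fun k sk => (hsurj (n + k) sk).choose) k
  have hs : ∀ k, (LimSh.tensorModMap (F.map (homOfLE (Nat.le_succ (n + k))).op) Λ).app ⊤ (s (k + 1)) = s k :=
    fun k => (hsurj (n + k) (s k)).choose_spec
  have hstep : ∀ k, homOfTensorSec (F.obj (op (n + (k + 1)))) hΛ (s (k + 1)) ≫
      F.map (homOfLE (Nat.le_succ (n + k))).op = homOfTensorSec (F.obj (op (n + k))) hΛ (s k) := by
    intro k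
    rw [homOfTensorSec_naturality, hs]
  have hmap : ∀ {a b c : ℕ} (h₁ : a ≤ b) (h₂ : b ≤ c),
      F.map (homOfLE h₂).op ≫ F.map (homOfLE h₁).op = F.map (homOfLE (h₁.trans h₂)).op := by
    intro a b c h₁ h₂
    rw [← F.map_comp]
    rfl
  refine ⟨fun m => homOfTensorSec (F.obj (op (n + m))) hΛ (s m) ≫
    F.map (homOfLE (Nat.le_add_left m n)).op, fun m => ?_, ?_⟩
  · rw [Category.assoc, hmap, ← hmap (Nat.le_add_left m n) (Nat.le_succ (n + m)), ← Category.assoc]
    congr 1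
    exact hstep m
  · have key : ∀ k, homOfTensorSec (F.obj (op (n + k))) hΛ (s k) ≫
        F.map (homOfLE (Nat.le_add_right n k)).op = homOfTensorSec (F.obj (op n)) hΛ σ := by
      intro k
      induction k with
      | zero =>
        have : F.map (homOfLE (Nat.le_add_right n 0)).op = 𝟙 _ := F.map_id _
        rw [this, Category.comp_id]
        rfl
      | succ k ih =>
        rw [← hmap (Nat.le_add_right n k) (Nat.le_succ (n + k)), ← Category.assoc]
        rw [show homOfTensorSec (F.obj (op (n + (k + 1)))) hΛ (s (k + 1)) ≫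
          F.map (homOfLE (Nat.le_succ (n + k))).op = _ from hstep k]
        exact ih
    exact key n

end Groth.Agent.Lib.Helper17.ExB
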