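import Groth.Agent.Lib.Helper17.ExB
import Groth.Agent.Lib.Helper28.SerreFin
import Groth.Agent.Lib.Helper6.DevPow
import Mathlib

/-!
# Existence theorem, first step: a coherent formal module is a quotient of a completion (helper17)
-/

set_option autoImplicit false
set_option backward.isDefEq.respectTransparency.types false
universe u
open CategoryTheory CategoryTheory.Limits AlgebraicGeometry Opposite TopologicalSpace

namespace Groth.Agent.Lib.Helper17.ExC

open Groth.Agent.Lib.Helper28 Groth.Agent.Lib.Helper28.QCohLoc Groth.Agent.Lib.Helper28.GenLocus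
  Groth.Agent.Lib.Helper28.TensorGen Groth.Agent.Lib.Helper28.HomMod
open Groth.Agent.Lib.Helper23.FQuot Groth.Agent.Lib.Lead.FormalA
open Groth.Agent.Lib.Helper17.ExA Groth.Agent.Lib.Helper17.ExB Groth.Agent.Lib.Helper17.GrFormal

section abelian

variable {C : Type*} [Category C] [Abelian C] {P Q : C} (y : P ⟶ Q)

/-- `0 → ker y → P → Q → 0` for an epimorphism `y` -/
noncomputable def kerSC : ShortComplex C := ShortComplex.mk (kernel.ι y) y (kernel.condition y)

theorem kerSC_shortExact [Epi y] : (kerSC y).ShortExact where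
  exact := ShortComplex.exact_of_f_is_kernel _ (kernelIsKernel y)
  mono_f := inferInstanceAs (Mono (kernel.ι y))
  epi_g := inferInstanceAs (Epi y)

end abelian

variable {A : Type u} [CommRing A] {X : Scheme.{u}} [X.Over (Spec (CommRingCat.of A))]

/-- a compatible family of maps to a formal system which is epi at level `0` is epi at all levels -/
theorem epi_of_epi_zero {I : Ideal A} {G : ℕᵒᵖ ⥤ X.Modules} (hG : IsFormalSys I G) {E : X.Modules}
    (β : ∀ n, E ⟶ G.obj (op n)) (hβ : ∀ n, β (n + 1) ≫ tr G n = β n) (h0 : Epi (β 0)) :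
    ∀ n, Epi (β n) := by
  intro n
  induction n with
  | zero => exact h0
  | succ n ih =>
    refine epi_of_epi_comp_isQuot (β (n + 1)) (tr G n) (hG.2 n) ?_ (by rw [hβ]; exact ih)
    refine killedBy_mono ?_ (hG.1 (n + 1))
    rw [← pow_add]
    exact Ideal.pow_le_pow_right (by omega)

/-- **a coherent formal module on a proper scheme with an ample module is a quotient of a coherent
module, compatibly in all levels** -/
theorem exists_epi_family (A : Type u) [CommRing A] [IsNoetherianRing A] (I : Ideal A)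
    (X : Scheme.{u}) [X.Over (Spec (CommRingCat.of A))] [IsProper (X ↘ Spec (CommRingCat.of A))]
    (L : X.Modules) (hL : CohB1.IsAmple L) (G : ℕᵒᵖ ⥤ X.Modules) (hG : Formal.IsCohFormal I G) :
    ∃ (E : X.Modules) (_ : Coh.IsCoh E) (β : ∀ n, E ⟶ G.obj (op n)),
      (∀ n, β (n + 1) ≫ tr G n = β n) ∧ ∀ n, Epi (β n) := by
  classical
  haveI : IsLocallyNoetherian X :=
    LocallyOfFiniteType.isLocallyNoetherian (X ↘ Spec (CommRingCat.of A))
  haveI : CompactSpace X := by
    have := (quasiCompact_iff_compactSpace (X ↘ Spec (CommRingCat.of A))).1 inferInstance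
    exact this
  haveI : IsNoetherian X := ⟨⟩
  have hGs := isFormalSys_of_isCohFormal hG
  obtain ⟨d₀, hd₀⟩ := uniform_vanishing A I X L hL G hG
  obtain ⟨n₀, hn₀⟩ := exists_forall_finite_genAtBy hL (G.obj (op 0)) (hG.1 0)
  obtain ⟨S, hSfin, hS⟩ := hn₀ (max d₀ n₀) (le_max_right _ _)
  obtain ⟨k, f, hf⟩ := hSfin.fin_embedding
  have hΛ : PicF.IsInvertible (CohB1.tensorPow L (max d₀ n₀)) := isInvertible_tensorPow hL.1 _
  have hsurj : ∀ (m : ℕ) (σ : Γ(CohB1.tensorMod (G.obj (op m)) (CohB1.tensorPow L (max d₀ n₀)), ⊤)),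
      ∃ τ : Γ(CohB1.tensorMod (G.obj (op (m + 1))) (CohB1.tensorPow L (max d₀ n₀)), ⊤),
        (LimSh.tensorModMap (G.map (homOfLE (Nat.le_succ m)).op) (CohB1.tensorPow L (max d₀ n₀))).app ⊤ τ = σ := by
    intro m σ
    haveI := (hGs.2 m).epi
    exact exists_lift_section A hΛ (kerSC (tr G m)) (kerSC_shortExact _)
      (hd₀ _ (le_max_left _ _) m 1 one_pos) σ
  have hfam := fun j : Fin k => exists_compatible_family hΛ G hsurj 0 (f j)
  choose t ht ht0 using hfam
  have hE : Coh.IsCoh (∐ fun _ : Fin k => dual (CohB1.tensorPow L (max d₀ n₀))) :=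
    Groth.Agent.Lib.Helper6.DevPow.isCoh_sigma_fin k _ (fun _ =>
      Groth.Agent.Lib.Helper6.K0Op.isCoh_of_isInvertible _ (isInvertible_dual hΛ))
  have hβ : ∀ n, (Sigma.desc fun j => t j (n + 1)) ≫ tr G n = Sigma.desc fun j => t j n := by
    intro n
    apply Sigma.hom_ext
    intro j
    rw [← Category.assoc, Sigma.ι_desc, Sigma.ι_desc]
    exact ht j n
  refine ⟨_, hE, fun n => Sigma.desc fun j => t j n, hβ, epi_of_epi_zero hGs _ hβ ?_⟩
  have hloc : LocGen (fun j : Fin k => homOfTensorSec (G.obj (op 0)) hΛ (f j)) := by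
    refine locGen_of_genAtBy hΛ (G.obj (op 0)) (fun j : Fin k => (f j : Γ(CohB1.tensorMod (G.obj (op 0)) (CohB1.tensorPow L (max d₀ n₀)), ⊤))) fun x => ?_
    have : Set.range (fun j : Fin k => (f j : Γ(CohB1.tensorMod (G.obj (op 0)) (CohB1.tensorPow L (max d₀ n₀)), ⊤))) = S := hf
    rw [this]
    exact hS x
  have := hloc.epi_desc
  have e : (fun j : Fin k => t j 0) = fun j : Fin k => homOfTensorSec (G.obj (op 0)) hΛ (f j) :=
    funext ht0
  rw [e]
  exact this

end Groth.Agent.Lib.Helper17.ExC
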