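import Groth.Agent.Lib.Helper17.ExC
import Mathlib

/-!
# Existence theorem: the kernel tower of a morphism of formal systems (helper17)
-/

set_option autoImplicit false
set_option backward.isDefEq.respectTransparency.types false
universe u
open CategoryTheory CategoryTheory.Limits AlgebraicGeometry Opposite TopologicalSpace

namespace Groth.Agent.Lib.Helper17.ExD

open Groth.Agent.Lib.Helper28 Groth.Agent.Lib.Helper28.QCohLoc Groth.Agent.Lib.Helper28.GenLocus
  Groth.Agent.Lib.Helper28.TensorGen Groth.Agent.Lib.Helper28.HomMod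
open Groth.Agent.Lib.Helper23.FQuot Groth.Agent.Lib.Lead.FormalA Groth.Agent.Lib.Helper17.Graded
open Groth.Agent.Lib.Helper17.ExA Groth.Agent.Lib.Helper17.ExB Groth.Agent.Lib.Helper17.ExC
  Groth.Agent.Lib.Helper17.GrFormal

variable {A : Type u} [CommRing A] {X : Scheme.{u}} [X.Over (Spec (CommRingCat.of A))]
variable {I : Ideal A} {F G : ℕᵒᵖ ⥤ X.Modules} (hF : IsFormalSys I F) (hG : IsFormalSys I G)
  (α : F ⟶ G)

theorem tr_naturality (n : ℕ) : tr F n ≫ α.app (op n) = α.app (op (n + 1)) ≫ tr G n :=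
  α.naturality _

/-- the induced map on the kernels of the transition maps -/
noncomputable def kmap (n : ℕ) : kernel (tr F n) ⟶ kernel (tr G n) :=
  kernel.map (tr F n) (tr G n) (α.app (op (n + 1))) (α.app (op n)) (tr_naturality α n)

theorem kmap_ι (n : ℕ) :
    kmap α n ≫ kernel.ι (tr G n) = kernel.ι (tr F n) ≫ α.app (op (n + 1)) := kernel.lift_ι _ _ _

section ops

variable {r : ℕ} (a : Fin r → A) (ha : ∀ j, a j ∈ I)

theorem abar_naturality (j : Fin r) (n : ℕ) :
    abar hF a ha j n ≫ α.app (op (n + 1)) = α.app (op n) ≫ abar hG a ha j n := by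
  haveI := (hF.2 n).epi
  rw [← cancel_epi (tr F n), ← Category.assoc, tr_abar, ← Category.assoc, tr_naturality,
    Category.assoc, tr_abar, smulMod_naturality]

/-- the morphism of graded systems of kernels induced by a morphism of formal systems -/
noncomputable def khom : GrSys.Hom (Ksys hF a ha) (Ksys hG a ha) where
  f n := kmap α n
  comm j n := by
    change kx hF a ha j n ≫ kmap α (n + 1) = kmap α n ≫ kx hG a ha j n
    rw [← cancel_mono (kernel.ι (tr G (n + 1))), Category.assoc, Category.assoc, kmap_ι, kx_ι,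
      ← Category.assoc, kx_ι, ← Category.assoc, kmap_ι, Category.assoc, Category.assoc,
      abar_naturality]

end ops

include hF hG in
/-- the induced map on kernels of the transition maps is an epimorphism if `α` is one -/
theorem epi_kmap (hα : ∀ n, Epi (α.app (op n))) (n : ℕ) : Epi (kmap α n) := by
  apply Preadditive.epi_of_cancel_zero
  intro T h hh
  refine eq_zero_of_kernel_lift_smulMod_comp (tr G n) (hG.2 n) h fun b hb => ?_
  haveI := hα (n + 1)
  rw [← cancel_epi (α.app (op (n + 1))), comp_zero]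
  have h1 : α.app (op (n + 1)) ≫ kernel.lift (tr G n) (Formal.smulMod A (G.obj (op (n + 1))) b)
      ((hG.2 n).zero b hb) =
      kernel.lift (tr F n) (Formal.smulMod A (F.obj (op (n + 1))) b) ((hF.2 n).zero b hb) ≫
        kmap α n := by
    rw [← cancel_mono (kernel.ι (tr G n)), Category.assoc, Category.assoc, kernel.lift_ι, kmap_ι,
      ← Category.assoc, kernel.lift_ι, smulMod_naturality]
  rw [← Category.assoc, h1, Category.assoc, hh, comp_zero]

/-- the tower of kernels of a morphism of systems -/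
noncomputable def kerTower : ℕᵒᵖ ⥤ X.Modules :=
  Functor.ofOpSequence (X := fun n => kernel (α.app (op n)))
    (fun n => kernel.map (α.app (op (n + 1))) (α.app (op n)) (tr F n) (tr G n)
      (tr_naturality α n).symm)

theorem kerTower_map_succ (n : ℕ) :
    (kerTower α).map (homOfLE (Nat.le_succ n)).op =
      kernel.map (α.app (op (n + 1))) (α.app (op n)) (tr F n) (tr G n) (tr_naturality α n).symm :=
  Functor.ofOpSequence_map_homOfLE_succ _ n

theorem kerTower_map_ι (n : ℕ) :
    (kerTower α).map (homOfLE (Nat.le_succ n)).op ≫ kernel.ι (α.app (op n)) =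
      kernel.ι (α.app (op (n + 1))) ≫ tr F n := by
  rw [kerTower_map_succ]
  exact kernel.lift_ι _ _ _

/-- **uniform vanishing for the kernels of the kernel tower** -/
theorem uvan_kernel (A : Type u) [CommRing A] [IsNoetherianRing A] (I : Ideal A)
    (X : Scheme.{u}) [X.Over (Spec (CommRingCat.of A))] [IsProper (X ↘ Spec (CommRingCat.of A))]
    (L : X.Modules) (hL : CohB1.IsAmple L) (F G : ℕᵒᵖ ⥤ X.Modules) (hF : Formal.IsCohFormal I F)
    (hG : Formal.IsCohFormal I G) (α : F ⟶ G) :
    ∃ d₁ : ℕ, ∀ d : ℕ, d₁ ≤ d → ∀ n p : ℕ, 0 < p →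
      Subsingleton (Coh.HH X (CohB1.tensorMod (kernel (kmap α n)) (CohB1.tensorPow L d)) p) := by
  haveI : IsLocallyNoetherian X :=
    LocallyOfFiniteType.isLocallyNoetherian (X ↘ Spec (CommRingCat.of A))
  haveI : CompactSpace X := by
    have := (quasiCompact_iff_compactSpace (X ↘ Spec (CommRingCat.of A))).1 inferInstance
    exact this
  haveI : IsNoetherian X := ⟨⟩
  obtain ⟨r, a, hspan⟩ := Submodule.fg_iff_exists_fin_generating_family.1
    (IsNoetherian.noetherian I : I.FG)
  have hspan' : Ideal.span (Set.range a) = I := hspan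
  have ha : ∀ j, a j ∈ I := fun j => hspan' ▸ Ideal.subset_span ⟨j, rfl⟩
  have hFs := isFormalSys_of_isCohFormal hF
  have hGs := isFormalSys_of_isCohFormal hG
  have hFG := isFG_Ksys hFs a ha hF.1 hspan'
  haveI : ∀ n, ((Ksys hFs a ha).K n).IsQuasicoherent := fun n => (hFG.coh n).1
  haveI : ∀ n, ((Ksys hGs a ha).K n).IsQuasicoherent := fun n =>
    ((isFG_Ksys hGs a ha hG.1 hspan').coh n).1
  have hker : (GrSys.ker (khom hFs hGs α a ha)).IsFG :=
    GrSys.isFG_of_mono (GrSys.kerι (khom hFs hGs α a ha)) (fun n => inferInstanceAs (Mono (kernel.ι _)))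
      hFG (fun n => Groth.Agent.Lib.Helper17.CohKer.isQuasicoherent_kernel
        ((khom hFs hGs α a ha).f n))
  have hS : ∀ M : X.Modules, Coh.IsCoh M → Groth.Agent.Lib.Helper4.VanClass.Van L M :=
    fun M hM => Groth.Agent.Lib.Helper4.AmpleSerre.vanishing_of_isAmple A X
      (X ↘ Spec (CommRingCat.of A)) L hL M hM
  obtain ⟨d₁, hd₁⟩ := uvan_of_isFG hL.1 hS r _ hker
  exact ⟨d₁, fun d hd n p hp => hd₁ d hd n p hp⟩

end Groth.Agent.Lib.Helper17.ExD
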