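import Groth.Agent.Lib.Helper17.FFGlue
import Groth.Agent.S4460
import Groth.Agent.S0020
import Groth.Agent.Lib.Helper21.ZarConn1
import Groth.Agent.Lib.lead.FormalD
import Mathlib

/-!
# Full faithfulness of the completion functor on coherent modules (helper17)
-/

set_option autoImplicit false
set_option backward.isDefEq.respectTransparency.types false
universe u
open CategoryTheory CategoryTheory.Limits AlgebraicGeometry Opposite TopologicalSpace
open RefHull

namespace Groth.Agent.Lib.Helper17.FFMain

open Groth.Agent.Lib.Helper28.QCohLoc Groth.Agent.Lib.Helper29.QCohStalk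
open Groth.Agent.Lib.Helper1.RefHullLib Groth.Agent.S16485
open Groth.Agent.Lib.Helper23.FQuot Groth.Agent.Lib.Helper17.FFSec Groth.Agent.Lib.Helper17.FFAlg
open Groth.Agent.Lib.Helper17.FFLoc Groth.Agent.Lib.Helper17.FFGlue
open Groth.Agent.Lib.Helper21.ZarConn

variable {X : Scheme.{u}}

/-- the support of the sheaf Hom is contained in the intersection of the supports -/
theorem support_homSh_subset (M N : X.Modules) (hM : CohB1.IsFT M) :
    CohB1.support (homSh M N) ⊆ CohB1.support M ∩ CohB1.support N := by
  intro x hx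
  have hinj := Groth.Agent.S16484.result X M N hM x
  constructor
  · intro hsub
    apply hx
    haveI : Subsingleton (StalkHom M N x) :=
      ⟨fun f g => LinearMap.ext fun v => by rw [Subsingleton.elim v 0, map_zero, map_zero]⟩
    exact hinj.subsingleton
  · intro hsub
    apply hx
    haveI : Subsingleton (StalkHom M N x) :=
      ⟨fun f g => LinearMap.ext fun v => Subsingleton.elim _ _⟩
    exact hinj.subsingleton


/-- **full faithfulness of completion** for coherent modules whose supports meet in a closed subset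
proper over a complete Noetherian base. -/
theorem main (A : Type u) [CommRing A] [IsNoetherianRing A]
    (I : Ideal A) [IsAdicComplete I A] (X : Scheme.{u}) [X.Over (Spec (CommRingCat.of A))]
    [LocallyOfFiniteType (X ↘ Spec (CommRingCat.of A))] [QuasiCompact (X ↘ Spec (CommRingCat.of A))]
    (M N : X.Modules) (hM : Coh.IsCoh M) (hN : Coh.IsCoh N)
    (hs : ClSub.IsProperOver (X ↘ Spec (CommRingCat.of A)) (CohB1.support M ∩ CohB1.support N))
    (ψ : Formal.completion I M ⟶ Formal.completion I N) :
    ∃! φ : M ⟶ N, ∀ n : ℕ, Formal.modPowπ I (n + 1) M ≫ ψ.app (op n) =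
      φ ≫ Formal.modPowπ I (n + 1) N := by
  haveI : IsLocallyNoetherian X :=
    LocallyOfFiniteType.isLocallyNoetherian (X ↘ Spec (CommRingCat.of A))
  have hH : Coh.IsCoh (homSh M N) := isCoh_homSh M N hM hN
  have hHs : ClSub.IsProperOver (X ↘ Spec (CommRingCat.of A)) (CohB1.support (homSh M N)) :=
    Groth.Agent.S0792.isProperOver_of_subset _ hs
      (Groth.Agent.S0020.result X (homSh M N) hH.2) (support_homSh_subset M N hM.2)
  have hbij := Groth.Agent.S4460.result A I X (homSh M N) hH hHs 0
  -- the system of maps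
  let q : ∀ j, M ⟶ (Formal.completion I N).obj (op j) := fun j => πc I M j ≫ ψ.app (op j)
  have hq : ∀ (j l : ℕ) (h : j ≤ l), q l ≫ (Formal.completion I N).map (homOfLE h).op = q j := by
    intro j l h
    change (πc I M l ≫ ψ.app (op l)) ≫ _ = πc I M j ≫ ψ.app (op j)
    rw [Category.assoc, ← ψ.naturality, ← Category.assoc, πc_map]
  -- uniqueness first
  have huniq : ∀ δ : M ⟶ N, (∀ j, δ ≫ πc I N j = 0) → δ = 0 := by
    intro δ hδ
    have h1 : ∀ j, homOfSec (ofHom δ ⊤) ≫ πc I N j = 0 := by
      intro j
      rw [homOfSec_ofHom]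
      exact hδ j
    have h2 := app_eq_zero_of_comp_eq_zero I hM hN (ofHom δ ⊤) h1
    have h3 : Formal.toHHlim I (homSh M N) 0 ((h0 (homSh M N)).symm (ofHom δ ⊤)) = 0 := by
      apply Subtype.ext
      funext j
      change Formal.toHHmodPow I (homSh M N) 0 j ((h0 (homSh M N)).symm (ofHom δ ⊤)) = 0
      rw [Groth.Agent.Lib.Lead.FormalD.toHHmodPow_eq, h0_symm_map (A := A)]
      exact (congrArg (h0 (Formal.modPow I (j + 1) (homSh M N))).symm (h2 j)).trans (map_zero _)
    have h4 : (h0 (homSh M N)).symm (ofHom δ ⊤) = 0 := hbij.1 (h3.trans (map_zero _).symm)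
    have h5 : ofHom δ ⊤ = 0 := by
      have := congrArg (h0 (homSh M N)) h4
      rwa [AddEquiv.apply_symm_apply, map_zero] at this
    rw [← homOfSec_ofHom δ, h5, ← ofHom_zero (M := M) (N := N) ⊤, homOfSec_ofHom]
  -- existence
  obtain ⟨hsec, hcompat, hprop⟩ := exists_compatible_sections I hM hN q hq
  let z : Formal.HHlim I (homSh M N) 0 :=
    ⟨fun j => (h0 _).symm (hsec j), by
      intro j
      change Formal.HHmodPowTrans I (homSh M N) 0 j ((h0 _).symm (hsec (j + 1))) =
        (h0 _).symm (hsec j)
      rw [Groth.Agent.Lib.Lead.FormalD.HHmodPowTrans_eq, h0_symm_map (A := A)]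
      congr 1
      have := hcompat j
      rw [completion_map_succ] at this
      exact this⟩
  obtain ⟨x, hx⟩ := hbij.2 z
  have hx' : ∀ j, (πc I (homSh M N) j).app ⊤ (h0 (homSh M N) x) = hsec j := by
    intro j
    have h1 := congrArg (fun w : Formal.HHlim I (homSh M N) 0 => w.1 j) hx
    change Formal.toHHmodPow I (homSh M N) 0 j x = (h0 _).symm (hsec j) at h1
    rw [Groth.Agent.Lib.Lead.FormalD.toHHmodPow_eq] at h1
    have h2 := h0_symm_map (A := A) (Formal.modPowπ I (j + 1) (homSh M N)) (h0 (homSh M N) x)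
    rw [AddEquiv.symm_apply_apply, h1] at h2
    exact ((h0 _).symm.injective h2).symm
  have hφ := hprop (h0 (homSh M N) x) hx'
  refine ⟨homOfSec (h0 (homSh M N) x), fun n => (hφ n).symm, ?_⟩
  intro φ' hφ'
  have h1 : φ' - homOfSec (h0 (homSh M N) x) = 0 := by
    apply huniq
    intro j
    rw [Preadditive.sub_comp, hφ j]
    have := hφ' j
    rw [sub_eq_zero]
    exact this.symm
  exact sub_eq_zero.1 h1

end Groth.Agent.Lib.Helper17.FFMain
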