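import Groth.Agent.Lib.Helper17.ExD
import Groth.Agent.S0060
import Groth.Agent.Lib.Helper6.DevCore
import Groth.Agent.Lib.Helper16.QCohSigma
import Mathlib

/-!
# Grothendieck's existence theorem for a proper scheme with an ample invertible module (helper17)
-/

set_option autoImplicit false
set_option backward.isDefEq.respectTransparency.types false
universe u
open CategoryTheory CategoryTheory.Limits AlgebraicGeometry Opposite TopologicalSpace

namespace Groth.Agent.Lib.Helper17.ExE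

open Groth.Agent.Lib.Helper28 Groth.Agent.Lib.Helper28.QCohLoc Groth.Agent.Lib.Helper28.GenLocus
  Groth.Agent.Lib.Helper28.TensorGen Groth.Agent.Lib.Helper28.HomMod
open Groth.Agent.Lib.Helper23.FQuot Groth.Agent.Lib.Lead.FormalA Groth.Agent.Lib.Helper17.Graded
open Groth.Agent.Lib.Helper17.ExA Groth.Agent.Lib.Helper17.ExB Groth.Agent.Lib.Helper17.ExC
  Groth.Agent.Lib.Helper17.ExD Groth.Agent.Lib.Helper17.GrFormal

theorem exists_fac_of_epi {C : Type*} [Category C] [Abelian C] {P Q T : C} (f : P ⟶ Q) [Epi f]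
    (h : P ⟶ T) (hh : kernel.ι f ≫ h = 0) : ∃ g' : Q ⟶ T, f ≫ g' = h :=
  ⟨(Abelian.epiIsCokernelOfKernel _ (kernelIsKernel f)).desc (CokernelCofork.ofπ h hh),
    (Abelian.epiIsCokernelOfKernel _ (kernelIsKernel f)).fac (CokernelCofork.ofπ h hh)
      WalkingParallelPair.one⟩

/-- **algebraization of a coherent formal module which is compatibly a quotient of a coherent
module** -/
theorem exists_coh_of_epi_family (A : Type u) [CommRing A] [IsNoetherianRing A] (I : Ideal A)
    [IsAdicComplete I A]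
    (X : Scheme.{u}) [X.Over (Spec (CommRingCat.of A))] [IsProper (X ↘ Spec (CommRingCat.of A))]
    (L : X.Modules) (hL : CohB1.IsAmple L) (G : ℕᵒᵖ ⥤ X.Modules) (hG : Formal.IsCohFormal I G)
    (E : X.Modules) (hE : Coh.IsCoh E) (β : ∀ n, E ⟶ G.obj (op n))
    (hβ : ∀ n, β (n + 1) ≫ tr G n = β n) (hepi : ∀ n, Epi (β n)) :
    ∃ M : X.Modules, Coh.IsCoh M ∧ Nonempty (Formal.completion I M ≅ G) := by
  classical
  haveI : IsLocallyNoetherian X :=
    LocallyOfFiniteType.isLocallyNoetherian (X ↘ Spec (CommRingCat.of A))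
  haveI : CompactSpace X := by
    have := (quasiCompact_iff_compactSpace (X ↘ Spec (CommRingCat.of A))).1 inferInstance
    exact this
  haveI : IsNoetherian X := ⟨⟩
  have hGs := isFormalSys_of_isCohFormal hG
  have hÊ := isCohFormal_completion I E hE
  have hÊs := isFormalSys_completion I E
  obtain ⟨βh, hβh⟩ := exists_completion_hom I E G hGs.1 β hβ
  have hβepi : ∀ n, Epi (βh.app (op n)) := fun n => by
    haveI : Epi (Formal.modPowπ I (n + 1) E ≫ βh.app (op n)) := by rw [hβh]; exact hepi n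
    exact epi_of_epi (Formal.modPowπ I (n + 1) E) _
  obtain ⟨d₁, hd₁⟩ := uvan_kernel A I X L hL _ G hÊ hG βh
  have hN : ∀ n, Coh.IsCoh (kernel (βh.app (op n))) := fun n =>
    Groth.Agent.Lib.Helper6.DevCore.isCoh_kernel _ (hÊ.1 n) (hG.1 n)
  have hgg := fun n => exists_forall_finite_genAtBy hL (kernel (βh.app (op n))) (hN n)
  choose n₀ hn₀ using hgg
  let d : ℕ → ℕ := fun n => max d₁ (n₀ n)
  have hΛ : ∀ n, PicF.IsInvertible (CohB1.tensorPow L (d n)) := fun n =>
    isInvertible_tensorPow hL.1 _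
  have hsurj : ∀ (n m : ℕ)
      (σ : Γ(CohB1.tensorMod ((kerTower βh).obj (op m)) (CohB1.tensorPow L (d n)), ⊤)),
      ∃ τ : Γ(CohB1.tensorMod ((kerTower βh).obj (op (m + 1))) (CohB1.tensorPow L (d n)), ⊤),
        (LimSh.tensorModMap ((kerTower βh).map (homOfLE (Nat.le_succ m)).op)
          (CohB1.tensorPow L (d n))).app ⊤ τ = σ := by
    intro n m σ
    rw [kerTower_map_succ]
    haveI := (hÊs.2 m).epi
    exact exists_lift_section A (hΛ n)
      (kerSeq (tr (Formal.completion I E) m) (tr G m) (βh.app (op (m + 1))) (βh.app (op m))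
        (tr_naturality βh m))
      (kerSeq_shortExact _ _ _ _ _ (epi_kmap hÊs hGs βh hβepi m))
      (hd₁ _ (le_max_left _ _) m 1 one_pos) σ
  let J : Type u := Σ n : ℕ, Γ(CohB1.tensorMod (kernel (βh.app (op n))) (CohB1.tensorPow L (d n)), ⊤)
  have hfam : ∀ j : J, ∃ t : ∀ m, dual (CohB1.tensorPow L (d j.1)) ⟶ kernel (βh.app (op m)),
      (∀ m, t (m + 1) ≫ kernel.map (βh.app (op (m + 1))) (βh.app (op m))
        (tr (Formal.completion I E) m) (tr G m) (tr_naturality βh m).symm = t m) ∧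
        t j.1 = homOfTensorSec (kernel (βh.app (op j.1))) (hΛ j.1) j.2 := by
    intro j
    obtain ⟨t, ht, htn⟩ := exists_compatible_family (hΛ j.1) (kerTower βh) (hsurj j.1) j.1 j.2
    refine ⟨t, fun m => ?_, htn⟩
    have := ht m
    rw [kerTower_map_succ] at this
    exact this
  choose t ht htn using hfam
  have halg : ∀ j : J, ∃ φ : dual (CohB1.tensorPow L (d j.1)) ⟶ E,
      ∀ m, φ ≫ Formal.modPowπ I (m + 1) E = t j m ≫ kernel.ι (βh.app (op m)) := by
    intro j
    have hP : Coh.IsCoh (dual (CohB1.tensorPow L (d j.1))) :=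
      Groth.Agent.Lib.Helper6.K0Op.isCoh_of_isInvertible _ (isInvertible_dual (hΛ j.1))
    obtain ⟨ψ, hψ⟩ := exists_completion_hom I (dual (CohB1.tensorPow L (d j.1)))
      (Formal.completion I E) hÊs.1 (fun m => t j m ≫ kernel.ι (βh.app (op m))) (fun m => by
        have h1 : kernel.map (βh.app (op (m + 1))) (βh.app (op m))
            (tr (Formal.completion I E) m) (tr G m) (tr_naturality βh m).symm ≫
            kernel.ι (βh.app (op m)) = kernel.ι (βh.app (op (m + 1))) ≫
              tr (Formal.completion I E) m := kernel.lift_ι _ _ _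
        rw [Category.assoc]
        unfold tr at h1
        rw [← h1, ← Category.assoc, ht])
    obtain ⟨φ, hφ, -⟩ := Groth.Agent.S0060.result A I X _ E hP hE ψ
    exact ⟨φ, fun m => by rw [← hφ m, hψ m]⟩
  choose φ hφ using halg
  have hΦβ : ∀ n, Sigma.desc φ ≫ β n = 0 := by
    intro n
    apply Sigma.hom_ext
    intro j
    rw [← Category.assoc, Sigma.ι_desc, comp_zero]
    calc φ j ≫ β n = φ j ≫ (Formal.modPowπ I (n + 1) E ≫ βh.app (op n)) := by rw [hβh]
      _ = (φ j ≫ Formal.modPowπ I (n + 1) E) ≫ βh.app (op n) := (Category.assoc _ _ _).symm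
      _ = (t j n ≫ kernel.ι (βh.app (op n))) ≫ βh.app (op n) :=
          congrArg (· ≫ βh.app (op n)) (hφ j n)
      _ = t j n ≫ (kernel.ι (βh.app (op n)) ≫ βh.app (op n)) := Category.assoc _ _ _
      _ = 0 := by rw [kernel.condition, comp_zero]
  have hπq : ∀ n, cokernel.π (Sigma.desc φ) ≫ cokernel.desc (Sigma.desc φ) (β n) (hΦβ n) = β n :=
    fun n => cokernel.π_desc _ _ _
  have hqcompat : ∀ n, cokernel.desc (Sigma.desc φ) (β (n + 1)) (hΦβ (n + 1)) ≫
      G.map (homOfLE (Nat.le_succ n)).op = cokernel.desc (Sigma.desc φ) (β n) (hΦβ n) := by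
    intro n
    rw [← cancel_epi (cokernel.π (Sigma.desc φ)), ← Category.assoc, hπq, hπq]
    exact hβ n
  have hφπ : ∀ j : J, φ j ≫ cokernel.π (Sigma.desc φ) = 0 := by
    intro j
    rw [← Sigma.ι_desc φ j, Category.assoc, cokernel.condition, comp_zero]
  have hq : ∀ n, IsQuot (I ^ (n + 1)) (cokernel.desc (Sigma.desc φ) (β n) (hΦβ n)) := by
    intro n
    haveI : Epi (cokernel.π (Sigma.desc φ) ≫ cokernel.desc (Sigma.desc φ) (β n) (hΦβ n)) := by
      rw [hπq]; exact hepi n
    refine ⟨epi_of_epi (cokernel.π (Sigma.desc φ)) _, fun a ha => ?_, fun {T} g hg => ?_⟩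
    · rw [smulMod_naturality, hGs.1 n a ha, comp_zero]
    · obtain ⟨hbar, hhbar⟩ := (isQuot_modPowπ I (n + 1) E).fac (cokernel.π (Sigma.desc φ) ≫ g)
        (fun a ha => by
          rw [← Category.assoc, smulMod_naturality, Category.assoc, hg a ha, comp_zero])
      have hloc : LocGen (fun σ : Γ(CohB1.tensorMod (kernel (βh.app (op n)))
          (CohB1.tensorPow L (d n)), ⊤) => homOfTensorSec (kernel (βh.app (op n))) (hΛ n) σ) := by
        refine locGen_of_genAtBy (hΛ n) _ (fun σ => σ) fun x => ?_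
        obtain ⟨S, -, hS⟩ := hn₀ n (d n) (le_max_right _ _)
        exact GenAtBy.mono (S' := Set.range fun σ => σ) (fun σ _ => ⟨σ, rfl⟩) (hS x)
      have hzero : kernel.ι (βh.app (op n)) ≫ hbar = 0 := by
        refine Groth.Agent.Lib.Helper17.ExB.LocGen.hom_ext hloc _ _ fun σ => ?_
        have e1 : t ⟨n, σ⟩ n = homOfTensorSec (kernel (βh.app (op n))) (hΛ n) σ := htn ⟨n, σ⟩
        calc homOfTensorSec (kernel (βh.app (op n))) (hΛ n) σ ≫ (kernel.ι (βh.app (op n)) ≫ hbar)
            = (t ⟨n, σ⟩ n ≫ kernel.ι (βh.app (op n))) ≫ hbar := by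
              rw [e1]; exact (Category.assoc _ _ _).symm
          _ = (φ ⟨n, σ⟩ ≫ Formal.modPowπ I (n + 1) E) ≫ hbar :=
              congrArg (· ≫ hbar) (hφ ⟨n, σ⟩ n).symm
          _ = φ ⟨n, σ⟩ ≫ (Formal.modPowπ I (n + 1) E ≫ hbar) := Category.assoc _ _ _
          _ = φ ⟨n, σ⟩ ≫ (cokernel.π (Sigma.desc φ) ≫ g) := by rw [hhbar]
          _ = (φ ⟨n, σ⟩ ≫ cokernel.π (Sigma.desc φ)) ≫ g := (Category.assoc _ _ _).symm
          _ = 0 := by rw [hφπ, zero_comp]
          _ = homOfTensorSec (kernel (βh.app (op n))) (hΛ n) σ ≫ 0 := comp_zero.symm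
      haveI := hβepi n
      obtain ⟨g', hg'⟩ := exists_fac_of_epi (βh.app (op n)) hbar hzero
      refine ⟨g', ?_⟩
      rw [← cancel_epi (cokernel.π (Sigma.desc φ)), ← Category.assoc, hπq]
      calc β n ≫ g' = (Formal.modPowπ I (n + 1) E ≫ βh.app (op n)) ≫ g' := by rw [hβh]
        _ = Formal.modPowπ I (n + 1) E ≫ (βh.app (op n) ≫ g') := Category.assoc _ _ _
        _ = Formal.modPowπ I (n + 1) E ≫ hbar := congrArg (Formal.modPowπ I (n + 1) E ≫ ·) hg'
        _ = cokernel.π (Sigma.desc φ) ≫ g := hhbar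
  refine ⟨cokernel (Sigma.desc φ), ⟨?_, ?_⟩,
    nonempty_completion_iso _ G (fun n => cokernel.desc (Sigma.desc φ) (β n) (hΦβ n)) hq hqcompat⟩
  · haveI : E.IsQuasicoherent := hE.1
    haveI : ∀ j : J, (dual (CohB1.tensorPow L (d j.1))).IsQuasicoherent := fun j =>
      (Groth.Agent.Lib.Helper6.K0Op.isCoh_of_isInvertible _ (isInvertible_dual (hΛ j.1))).1
    haveI : (∐ fun j : J => dual (CohB1.tensorPow L (d j.1))).IsQuasicoherent :=
      Groth.Agent.Lib.Helper16.QCohSigma.isQuasicoherent_sigma _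
    exact Groth.Agent.Lib.Helper17.CohKer.isQuasicoherent_cokernel (Sigma.desc φ)
  · haveI : SheafOfModules.IsFiniteType.{u} (R := X.ringCatSheaf) E := hE.2
    exact Groth.Agent.Lib.Helper17.CohKer.isFiniteType_cokernel (Sigma.desc φ)

/-- **Grothendieck's existence theorem** (essential surjectivity) for a scheme proper over a complete
Noetherian ring which carries an ample invertible module -/
theorem existence_of_ample (A : Type u) [CommRing A] [IsNoetherianRing A] (I : Ideal A)
    [IsAdicComplete I A]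
    (X : Scheme.{u}) [X.Over (Spec (CommRingCat.of A))] [IsProper (X ↘ Spec (CommRingCat.of A))]
    (L : X.Modules) (hL : CohB1.IsAmple L) (G : ℕᵒᵖ ⥤ X.Modules) (hG : Formal.IsCohFormal I G) :
    ∃ M : X.Modules, Coh.IsCoh M ∧ Nonempty (Formal.completion I M ≅ G) := by
  obtain ⟨E, hE, β, hβ, hepi⟩ := exists_epi_family A I X L hL G hG
  exact exists_coh_of_epi_family A I X L hL G hG E hE β hβ hepi

end Groth.Agent.Lib.Helper17.ExE
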