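import Groth.Prelude.Def_CohB1
import Mathlib
set_option backward.isDefEq.respectTransparency.types false
set_option autoImplicit false
universe u

/-!
# Global functions on projective space
-/

namespace Groth.Agent.Lib.Helper17.ProjSpaceGamma
open CategoryTheory AlgebraicGeometry MvPolynomial HomogeneousLocalization

section algebra

variable {σ : Type*} {R : Type u} [CommRing R]

/-- if `a * X j ^ l = b * X i ^ k` with `i ≠ j` then `X i ^ k` divides `a` -/
theorem dvd_of_mul_X_pow_eq [DecidableEq σ] {i j : σ} (hij : i ≠ j) (k l : ℕ) (a b : MvPolynomial σ R)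
    (h : a * X j ^ l = b * X i ^ k) : ∃ c : MvPolynomial σ R, a = c * X i ^ k := by
  have hmod : modMonomial a (Finsupp.single i k) = 0 := by
    ext m
    rw [coeff_zero]
    by_cases hm : Finsupp.single i k ≤ m
    · exact coeff_modMonomial_of_le a hm
    · rw [coeff_modMonomial_of_not_le a hm]
      have h1 : coeff (m + Finsupp.single j l) (a * X j ^ l) = coeff m a := by
        rw [X_pow_eq_monomial, coeff_mul_monomial, mul_one]
      rw [← h1, h, X_pow_eq_monomial, coeff_mul_monomial', if_neg]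
      intro hle
      apply hm
      intro x
      by_cases hx : x = i
      · subst hx
        have := hle x
        simpa [Finsupp.single_apply, hij.symm] using this
      · simp [Ne.symm hx]
  refine ⟨divMonomial a (Finsupp.single i k), ?_⟩
  have := divMonomial_add_modMonomial a (Finsupp.single i k)
  rw [hmod, add_zero, ← X_pow_eq_monomial] at this
  rw [mul_comm]
  exact this.symm

/-- in one variable a homogeneous polynomial of degree `k` is a multiple of `X ^ k` -/
theorem dvd_of_isHomogeneous_of_subsingleton [Subsingleton σ] (i : σ) (k : ℕ) (a : MvPolynomial σ R)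
    (ha : a.IsHomogeneous k) : ∃ c : MvPolynomial σ R, a = c * X i ^ k := by
  have hmod : modMonomial a (Finsupp.single i k) = 0 := by
    ext m
    rw [coeff_zero]
    by_cases hm : Finsupp.single i k ≤ m
    · exact coeff_modMonomial_of_le a hm
    · rw [coeff_modMonomial_of_not_le a hm]
      by_contra hne
      have h1 := ha hne
      apply hm
      intro x
      have hx : x = i := Subsingleton.elim _ _
      subst hx
      have h2 : Finsupp.weight (1 : σ → ℕ) m = m x := by
        have hm' : m = Finsupp.single x (m x) := by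
          ext y
          have hy : y = x := Subsingleton.elim _ _
          subst hy
          simp
        rw [hm', Finsupp.weight_single]
        simp
      rw [h2] at h1
      simp [h1]
  refine ⟨divMonomial a (Finsupp.single i k), ?_⟩
  have := divMonomial_add_modMonomial a (Finsupp.single i k)
  rw [hmod, add_zero, ← X_pow_eq_monomial] at this
  rw [mul_comm]
  exact this.symm

end algebra

section away

variable (n : ℕ) (R : Type u) [CommRing R]

local notation "𝒜" => CohB1.polyGrading n R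

theorem hX (i : Fin (n + 1)) : (X i : MvPolynomial (Fin (n + 1)) R) ∈ 𝒜 1 := isHomogeneous_X R i

variable {n R}

/-- a homogeneous multiple of `X i ^ k` of degree `k` is `X i ^ k` times an element of degree zero -/
theorem exists_zero_of_dvd (i : Fin (n + 1)) (k : ℕ) (a : MvPolynomial (Fin (n + 1)) R) (ha : a ∈ 𝒜 k)
    (h : ∃ c, a = c * X i ^ k) : ∃ c₀ : 𝒜 0, a = (c₀ : MvPolynomial (Fin (n + 1)) R) * X i ^ k := by
  obtain ⟨c, hc⟩ := h
  have hXk : (X i ^ k : MvPolynomial (Fin (n + 1)) R) ∈ 𝒜 k := by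
    have := SetLike.pow_mem_graded k (hX n R i)
    simpa using this
  refine ⟨DirectSum.decompose 𝒜 c 0, ?_⟩
  have h1 := DirectSum.coe_decompose_mul_add_of_right_mem 𝒜 (i := 0) (a := c) hXk
  rw [← hc, zero_add, DirectSum.decompose_of_mem_same 𝒜 ha] at h1
  exact h1

theorem mk_eq_fromZero (i : Fin (n + 1)) (k : ℕ) (a : MvPolynomial (Fin (n + 1)) R) (ha : a ∈ 𝒜 (k • 1))
    (c₀ : 𝒜 0) (h : a = (c₀ : MvPolynomial (Fin (n + 1)) R) * X i ^ k) :
    Away.mk 𝒜 (hX n R i) k a ha = fromZeroRingHom 𝒜 _ c₀ := by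
  apply val_injective
  rw [Away.val_mk]
  change _ = Localization.mk (c₀ : MvPolynomial (Fin (n + 1)) R) 1
  rw [Localization.mk_eq_mk_iff, Localization.r_iff_exists]
  refine ⟨1, ?_⟩
  simp only [OneMemClass.coe_one, one_mul]
  rw [h, mul_comm]

/-- the transition maps are injective -/
theorem awayMap_injective {f g x : MvPolynomial (Fin (n + 1)) R} {d e : ℕ} (hf : f ∈ 𝒜 d) (hg : g ∈ 𝒜 e)
    (hx : x = f * g) (hreg : IsRegular g) : Function.Injective (awayMap 𝒜 hg hx) := by
  rw [injective_iff_map_eq_zero]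
  intro t ht
  obtain ⟨k, a, ha, rfl⟩ := Away.mk_surjective 𝒜 hf t
  rw [awayMap_mk] at ht
  have h1 := congrArg HomogeneousLocalization.val ht
  rw [Away.val_mk, HomogeneousLocalization.val_zero, Localization.mk_eq_mk', IsLocalization.mk'_eq_zero_iff] at h1
  obtain ⟨⟨_, N, rfl⟩, hN⟩ := h1
  apply val_injective
  rw [Away.val_mk, HomogeneousLocalization.val_zero, Localization.mk_eq_mk', IsLocalization.mk'_eq_zero_iff]
  refine ⟨⟨f ^ N, N, rfl⟩, ?_⟩
  have h2 : g ^ (N + k) * (f ^ N * a) = 0 := by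
    have : x ^ N * (a * g ^ k) = g ^ (N + k) * (f ^ N * a) := by
      rw [hx]; ring
    rw [← this]
    exact hN
  exact (hreg.pow (N + k)).left (by change g ^ (N + k) * (f ^ N * a) = g ^ (N + k) * 0; rw [h2, mul_zero])

/-- compatibility of two fractions on the overlap gives divisibility -/
theorem dvd_of_compat {i j : Fin (n + 1)} (hij : i ≠ j) (k l : ℕ) (a b : MvPolynomial (Fin (n + 1)) R)
    (ha : a ∈ 𝒜 (k • 1)) (hb : b ∈ 𝒜 (l • 1))
    (h : awayMap 𝒜 (hX n R j) (rfl : X i * X j = X i * X j) (Away.mk 𝒜 (hX n R i) k a ha) =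
      awayMap 𝒜 (hX n R i) (mul_comm (X i) (X j)) (Away.mk 𝒜 (hX n R j) l b hb)) :
    ∃ c : MvPolynomial (Fin (n + 1)) R, a = c * X i ^ k := by
  classical
  rw [awayMap_mk, awayMap_mk] at h
  have h1 := congrArg HomogeneousLocalization.val h
  rw [Away.val_mk, Away.val_mk, Localization.mk_eq_mk_iff, Localization.r_iff_exists] at h1
  obtain ⟨⟨_, N, rfl⟩, hN⟩ := h1
  simp only at hN
  apply dvd_of_mul_X_pow_eq hij k l a b
  have hreg : IsRegular ((X i * X j) ^ N * (X i ^ l * X j ^ k) : MvPolynomial (Fin (n + 1)) R) :=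
    ((isRegular_X.mul isRegular_X).pow N).mul ((isRegular_X_pow l).mul (isRegular_X_pow k))
  apply hreg.left
  change (X i * X j) ^ N * (X i ^ l * X j ^ k) * (a * X j ^ l) =
    (X i * X j) ^ N * (X i ^ l * X j ^ k) * (b * X i ^ k)
  have e1 : (X i * X j) ^ N * (X i ^ l * X j ^ k) * (a * X j ^ l) =
      (X i * X j) ^ N * ((X i * X j) ^ l * (a * X j ^ k)) := by ring
  have e2 : (X i * X j) ^ N * (X i ^ l * X j ^ k) * (b * X i ^ k) =
      (X i * X j) ^ N * ((X i * X j) ^ k * (b * X i ^ l)) := by ring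
  rw [e1, e2]
  exact hN

/-- a compatible family of fractions on the standard opens is a constant -/
theorem exists_const (s : ∀ i : Fin (n + 1), Away 𝒜 (X i : MvPolynomial (Fin (n + 1)) R))
    (hs : ∀ i j, awayMap 𝒜 (hX n R j) (rfl : X i * X j = X i * X j) (s i) =
      awayMap 𝒜 (hX n R i) (mul_comm (X i) (X j)) (s j)) :
    ∃ c : 𝒜 0, ∀ i, s i = fromZeroRingHom 𝒜 _ c := by
  -- the fraction at the index `0`
  obtain ⟨k, a, ha, hk⟩ := Away.mk_surjective 𝒜 (hX n R 0) (s 0)
  have hdvd : ∃ c : MvPolynomial (Fin (n + 1)) R, a = c * X 0 ^ k := by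
    rcases Nat.eq_zero_or_pos n with hn | hn
    · haveI : Subsingleton (Fin (n + 1)) := by rw [hn]; exact inferInstanceAs (Subsingleton (Fin 1))
      have ha' : a ∈ 𝒜 k := by simpa using ha
      exact dvd_of_isHomogeneous_of_subsingleton 0 k a ha'
    · obtain ⟨l, b, hb, hl⟩ := Away.mk_surjective 𝒜 (hX n R (⟨1, by omega⟩ : Fin (n + 1))) (s ⟨1, by omega⟩)
      have h01 : (0 : Fin (n + 1)) ≠ ⟨1, by omega⟩ := by
        intro h
        have := congrArg Fin.val h
        simp at this
      refine dvd_of_compat h01 k l a b ha hb ?_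
      rw [hk, hl]
      exact hs 0 ⟨1, by omega⟩
  have ha' : a ∈ 𝒜 k := by simpa using ha
  obtain ⟨c₀, hc₀⟩ := exists_zero_of_dvd 0 k a ha' hdvd
  have h0 : s 0 = fromZeroRingHom 𝒜 _ c₀ := by
    rw [← hk]
    exact mk_eq_fromZero 0 k a ha c₀ hc₀
  refine ⟨c₀, fun j => ?_⟩
  have h1 := hs 0 j
  rw [h0, awayMap_fromZeroRingHom] at h1
  apply awayMap_injective (hX n R j) (hX n R 0) (mul_comm (X 0) (X j)) isRegular_X
  rw [awayMap_fromZeroRingHom]
  exact h1.symm

end away

section scheme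

variable (n : ℕ) (R : Type u) [CommRing R]

local notation "𝒜" => CohB1.polyGrading n R

/-- the standard opens -/
noncomputable abbrev U (i : Fin (n + 1)) : (Proj 𝒜).Opens := Proj.basicOpen 𝒜 (X i)

theorem iSup_U : ⨆ i, U n R i = ⊤ := by
  apply Proj.iSup_basicOpen_eq_top' 𝒜 (fun k : Fin (n + 1) => (X k : MvPolynomial (Fin (n + 1)) R))
  · intro k; exact ⟨1, hX n R k⟩
  · rw [eq_top_iff]
    intro p hp0
    clear hp0
    induction p using MvPolynomial.induction_on with
    | C a =>
      have : (C a : MvPolynomial (Fin (n + 1)) R) ∈ 𝒜 0 := isHomogeneous_C _ a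
      exact Subalgebra.algebraMap_mem _ (⟨_, this⟩ : 𝒜 0)
    | add p q hp hq => exact Subalgebra.add_mem _ hp hq
    | mul_X p k hp => exact Subalgebra.mul_mem _ hp (Algebra.subset_adjoin ⟨k, rfl⟩)

theorem injective_awayToSection {f : MvPolynomial (Fin (n + 1)) R} {m : ℕ} (hf : f ∈ 𝒜 m) (hm : 0 < m) :
    Function.Injective (Proj.awayToSection 𝒜 f).hom := by
  have h : IsIso (Proj.awayToSection 𝒜 f) := by
    rw [← Proj.basicOpenIsoAway_hom 𝒜 f hf hm]
    infer_instance
  exact (ConcreteCategory.bijective_of_isIso (Proj.awayToSection 𝒜 f)).1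

/-- restriction of a section given by a fraction -/
theorem res_awayToSection {f g x : MvPolynomial (Fin (n + 1)) R} {m' : ℕ} (hg : g ∈ 𝒜 m') (hx : x = f * g)
    (t : Away 𝒜 f) :
    ((Proj 𝒜).presheaf.map (homOfLE (Proj.basicOpen_mono _ _ _ ⟨_, hx⟩)).op).hom
      ((Proj.awayToSection 𝒜 f).hom t) = (Proj.awayToSection 𝒜 x).hom (awayMap 𝒜 hg hx t) := by
  have := congrArg (fun φ : (CommRingCat.of (Away 𝒜 f) ⟶ Γ(Proj 𝒜, Proj.basicOpen 𝒜 x)) => φ.hom t)
    (Proj.awayMap_awayToSection 𝒜 hg hx)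
  exact this.symm

/-- the map from the degree zero part to the functions on `D₊(1)` -/
noncomputable def β : 𝒜 0 →+* Γ(Proj 𝒜, Proj.basicOpen 𝒜 1) :=
  (Proj.awayToSection 𝒜 1).hom.comp (fromZeroRingHom 𝒜 (Submonoid.powers 1))

theorem U_le (i : Fin (n + 1)) : U n R i ≤ Proj.basicOpen 𝒜 1 :=
  Proj.basicOpen_mono _ _ _ ⟨_, (one_mul (X i)).symm⟩

theorem res_β (i : Fin (n + 1)) (c : 𝒜 0) :
    ((Proj 𝒜).presheaf.map (homOfLE (U_le n R i)).op).hom (β n R c) =
      (Proj.awayToSection 𝒜 (X i)).hom (fromZeroRingHom 𝒜 _ c) := by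
  have h := res_awayToSection n R (f := 1) (hX n R i) (one_mul (X i)).symm
    (fromZeroRingHom 𝒜 (Submonoid.powers 1) c)
  rw [awayMap_fromZeroRingHom] at h
  exact h

theorem β_injective : Function.Injective (β n R) := by
  rw [injective_iff_map_eq_zero]
  intro c hc
  have h1 := res_β n R 0 c
  rw [hc, map_zero] at h1
  have h2 : fromZeroRingHom 𝒜 (Submonoid.powers (X 0 : MvPolynomial (Fin (n + 1)) R)) c = 0 := by
    apply injective_awayToSection n R (hX n R 0) one_pos
    rw [← h1, map_zero]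
  have h3 := congrArg HomogeneousLocalization.val h2
  rw [HomogeneousLocalization.val_zero] at h3
  change Localization.mk (c : MvPolynomial (Fin (n + 1)) R) 1 = 0 at h3
  rw [Localization.mk_eq_mk', IsLocalization.mk'_eq_zero_iff] at h3
  obtain ⟨⟨_, N, rfl⟩, hN⟩ := h3
  apply Subtype.ext
  apply (isRegular_X_pow (R := R) (n := (0 : Fin (n + 1))) N).left
  change X 0 ^ N * (c : MvPolynomial (Fin (n + 1)) R) = X 0 ^ N * ((0 : 𝒜 0) : MvPolynomial (Fin (n + 1)) R)
  rw [ZeroMemClass.coe_zero, mul_zero]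
  exact hN

theorem β_surjective : Function.Surjective (β n R) := by
  intro s
  -- the local fractions
  have hloc : ∀ i : Fin (n + 1), ∃ t : Away 𝒜 (X i : MvPolynomial (Fin (n + 1)) R),
      (Proj.awayToSection 𝒜 (X i)).hom t = ((Proj 𝒜).presheaf.map (homOfLE (U_le n R i)).op).hom s := by
    intro i
    have h : IsIso (Proj.awayToSection 𝒜 (X i : MvPolynomial (Fin (n + 1)) R)) := by
      rw [← Proj.basicOpenIsoAway_hom 𝒜 (X i) (hX n R i) one_pos]
      infer_instance
    exact (ConcreteCategory.bijective_of_isIso (Proj.awayToSection 𝒜 (X i))).2 _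
  choose t ht using hloc
  have hcompat : ∀ i j, awayMap 𝒜 (hX n R j) (rfl : X i * X j = X i * X j) (t i) =
      awayMap 𝒜 (hX n R i) (mul_comm (X i) (X j)) (t j) := by
    intro i j
    apply injective_awayToSection n R (SetLike.mul_mem_graded (hX n R i) (hX n R j)) (by norm_num)
    rw [← res_awayToSection n R (hX n R j) rfl (t i), ← res_awayToSection n R (hX n R i) (mul_comm _ _) (t j),
      ht, ht]
    change ((Proj 𝒜).presheaf.map _ ≫ (Proj 𝒜).presheaf.map _).hom s =
      ((Proj 𝒜).presheaf.map _ ≫ (Proj 𝒜).presheaf.map _).hom s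
    rw [← Functor.map_comp, ← Functor.map_comp]
    rfl
  obtain ⟨c, hc⟩ := exists_const t hcompat
  refine ⟨c, ?_⟩
  refine TopCat.Sheaf.eq_of_locally_eq' (Proj 𝒜).sheaf (U n R) (Proj.basicOpen 𝒜 1)
    (fun i => homOfLE (U_le n R i)) ?_ _ _ ?_
  · rw [iSup_U]; exact le_top
  · intro i
    change ((Proj 𝒜).presheaf.map (homOfLE (U_le n R i)).op).hom (β n R c) =
      ((Proj 𝒜).presheaf.map (homOfLE (U_le n R i)).op).hom s
    rw [res_β, ← ht, hc]

theorem isIso_β : IsIso (CommRingCat.ofHom (β n R)) := by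
  rw [ConcreteCategory.isIso_iff_bijective]
  exact ⟨β_injective n R, β_surjective n R⟩

theorem algebraMap_zero_bijective : Function.Bijective (algebraMap R (𝒜 0)) := by
  refine ⟨fun a b h => ?_, ?_⟩
  · have h1 : (algebraMap R (𝒜 0) a : MvPolynomial (Fin (n + 1)) R) = algebraMap R (𝒜 0) b := by rw [h]
    exact MvPolynomial.C_injective _ _ h1
  · rintro ⟨x, hx⟩
    have hx' : x ∈ (1 : Submodule R (MvPolynomial (Fin (n + 1)) R)) := by
      rw [← MvPolynomial.homogeneousSubmodule_zero]; exact hx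
    obtain ⟨r, hr⟩ := Submodule.mem_one.mp hx'
    exact ⟨r, Subtype.ext hr⟩

theorem isIso_toSpecZero_appTop : IsIso (Proj.toSpecZero 𝒜).appTop := by
  have key : (Spec.map (CommRingCat.ofHom (fromZeroRingHom 𝒜 (Submonoid.powers 1)))).appTop ≫
      (Proj.basicOpenToSpec 𝒜 1).appTop =
      (Scheme.ΓSpecIso _).hom ≫ CommRingCat.ofHom (β n R) ≫ (Proj.basicOpen 𝒜 1).topIso.inv := by
    have h1 : (Proj.basicOpenToSpec 𝒜 (1 : MvPolynomial (Fin (n + 1)) R)).appTop = _ :=
      Proj.basicOpenToSpec_app_top 𝒜 1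
    rw [h1, ← Category.assoc, Scheme.ΓSpecIso_naturality, Category.assoc]
    rfl
  haveI := isIso_β n R
  have h2 : IsIso ((Spec.map (CommRingCat.ofHom (fromZeroRingHom 𝒜 (Submonoid.powers 1)))).appTop ≫
      (Proj.basicOpenToSpec 𝒜 1).appTop) := by
    rw [key]; infer_instance
  unfold Proj.toSpecZero
  simp only [Scheme.Hom.comp_appTop]
  haveI := h2
  haveI : IsIso (Scheme.Hom.appTop ((Proj 𝒜).isoOfEq (Proj.basicOpen_one 𝒜)).inv) :=
    inferInstanceAs (IsIso (Scheme.Hom.app ((Proj 𝒜).isoOfEq (Proj.basicOpen_one 𝒜)).inv ⊤))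
  haveI : IsIso (Scheme.Hom.appTop (Proj 𝒜).topIso.inv) :=
    inferInstanceAs (IsIso (Scheme.Hom.app (Proj 𝒜).topIso.inv ⊤))
  infer_instance

theorem isIso_toSpec_appTop : IsIso (CohB1.ProjSpace.toSpec n R).appTop := by
  unfold CohB1.ProjSpace.toSpec
  rw [Scheme.Hom.comp_appTop]
  haveI := isIso_toSpecZero_appTop n R
  haveI : IsIso (CommRingCat.ofHom (algebraMap R (𝒜 0))) := by
    rw [ConcreteCategory.isIso_iff_bijective]
    exact algebraMap_zero_bijective n R
  haveI : IsIso (Spec.map (CommRingCat.ofHom (algebraMap R (𝒜 0)))) := inferInstance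
  have h3 : IsIso (Spec.map (CommRingCat.ofHom (algebraMap R (𝒜 0)))).appTop :=
    inferInstanceAs (IsIso (Scheme.Hom.app (Spec.map (CommRingCat.ofHom (algebraMap R (𝒜 0)))) ⊤))
  exact IsIso.comp_isIso' h3 (isIso_toSpecZero_appTop n R)

end scheme

end Groth.Agent.Lib.Helper17.ProjSpaceGamma
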