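import Groth.Agent.Lib.Helper28.ConeAlg
import Groth.Agent.Lib.Helper17.ProjSpaceGamma
import Mathlib
set_option backward.isDefEq.respectTransparency.types false
set_option autoImplicit false
universe u

/-!
# The standard charts of projective space over a UFD have factorial coordinate rings
-/

namespace Groth.Agent.Lib.Helper17.PnUFD
open MvPolynomial HomogeneousLocalization

variable (n : ℕ) (R : Type u) [CommRing R]

local notation "𝒜" => CohB1.polyGrading n R

/-- `R[X₀..Xₙ] ≃ R[..][X]` with `X i ↦ X` -/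
noncomputable def polyEquiv (i : Fin (n + 1)) :
    MvPolynomial (Fin (n + 1)) R ≃ₐ[R] Polynomial (MvPolynomial (Fin n) R) :=
  (renameEquiv R (Equiv.swap i 0)).trans (finSuccEquiv R n)

theorem polyEquiv_X (i : Fin (n + 1)) : polyEquiv n R i (X i) = Polynomial.X := by
  simp [polyEquiv, finSuccEquiv_X_zero]

noncomputable def quotEquiv (i : Fin (n + 1)) :
    (MvPolynomial (Fin (n + 1)) R ⧸ Ideal.span {(X i - 1 : MvPolynomial (Fin (n + 1)) R)}) ≃+*
      MvPolynomial (Fin n) R :=
  (Ideal.quotientEquiv _ (Ideal.span {(Polynomial.X - Polynomial.C 1 : Polynomial (MvPolynomial (Fin n) R))})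
    (polyEquiv n R i).toRingEquiv (by
      rw [Ideal.map_span, Set.image_singleton]
      congr 2
      simp [polyEquiv_X])).trans
  (Polynomial.quotientSpanXSubCAlgEquiv (1 : MvPolynomial (Fin n) R)).toRingEquiv

/-- the coordinate ring of the `i`-th standard chart is a polynomial ring -/
theorem nonempty_awayEquiv (i : Fin (n + 1)) :
    Nonempty (Away 𝒜 (X i : MvPolynomial (Fin (n + 1)) R) ≃+* MvPolynomial (Fin n) R) := by
  obtain ⟨e, -⟩ := Groth.Agent.Lib.Helper28.ConeAlg.exists_dehom 𝒜 (ProjSpaceGamma.hX n R i)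
  exact ⟨e.trans (quotEquiv n R i)⟩

theorem isDomain_away [IsDomain R] (i : Fin (n + 1)) :
    IsDomain (Away 𝒜 (X i : MvPolynomial (Fin (n + 1)) R)) := by
  obtain ⟨e⟩ := nonempty_awayEquiv n R i
  exact e.toMulEquiv.isDomain _

theorem ufm_away [IsDomain R] [UniqueFactorizationMonoid R] (i : Fin (n + 1)) :
    UniqueFactorizationMonoid (Away 𝒜 (X i : MvPolynomial (Fin (n + 1)) R)) := by
  obtain ⟨e⟩ := nonempty_awayEquiv n R i
  exact e.symm.toMulEquiv.uniqueFactorizationMonoid inferInstance

end Groth.Agent.Lib.Helper17.PnUFD
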