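import Groth.Agent.Lib.Helper17.GGStalk
import Mathlib

/-!
# Generation at a point by a family of global sections (general families, general coproduct cocones)
-/

set_option autoImplicit false
set_option backward.isDefEq.respectTransparency.types false
universe w u
open CategoryTheory CategoryTheory.Limits AlgebraicGeometry Opposite TopologicalSpace
noncomputable section
namespace Groth.Agent.Lib.Helper17.GGStalk

open Groth.Agent.Lib.Helper16.Stk Groth.Agent.Lib.Helper28 Groth.Agent.Lib.Helper28.QCohLoc
  Groth.Agent.Lib.Helper28.GenLocus Groth.Agent.Lib.Helper28.TwistAmple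

variable {X : Scheme.{u}}

/-- the germs of the sections `c.inj j ≫ p` span the stalk of the target of an epimorphism `p` from a coproduct
of copies of the structure sheaf -/
theorem span_germs_eq_top_of_isColimit {J : Type w} {N : X.Modules}
    (c : Cofan (fun _ : J => Coh.structureModule X)) (hc : IsColimit c) (p : c.pt ⟶ N) (hp : Epi p) (x : X) :
    Submodule.span (X.presheaf.stalk x)
      (Set.range fun j : J => germAt N x ⊤ trivial (secOf (c.inj j ≫ p))) = ⊤ := by
  set S : Submodule (X.presheaf.stalk x) ((stk x).obj N) := Submodule.span (X.presheaf.stalk x)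
      (Set.range fun j : J => germAt N x ⊤ trivial (secOf (c.inj j ≫ p))) with hS
  let q : (stk x).obj N ⟶ ModuleCat.of (X.presheaf.stalk x) (((stk x).obj N) ⧸ S) := ModuleCat.ofHom S.mkQ
  haveI : PreservesColimitsOfSize.{w, w} (stk x) := (stkSkyAdj x).leftAdjoint_preservesColimits
  have hc' := isColimitOfPreserves (stk x) hc
  have hq : (stk x).map p ≫ q = 0 := by
    apply hc'.hom_ext
    rintro ⟨j⟩
    have h1 : ((stk x).mapCocone c).ι.app ⟨j⟩ = (stk x).map (c.inj j) := rfl
    rw [h1]
    refine Eq.trans ?_ (comp_zero).symm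
    have h0 : (stk x).map (c.inj j) ≫ (stk x).map p ≫ q = (stk x).map (c.inj j ≫ p) ≫ q := by
      rw [(stk x).map_comp, Category.assoc]
    refine h0.trans ?_
    ext a
    obtain ⟨U, hxU, r, rfl⟩ := exists_germAt (Coh.structureModule X) x a
    show S.mkQ (((stk x).map (c.inj j ≫ p)).hom (germAt (Coh.structureModule X) x U hxU r)) = 0
    rw [stk_map_germAt, Submodule.mkQ_apply, Submodule.Quotient.mk_eq_zero]
    have h2 : (c.inj j ≫ p).app U r =
        ((show Γ(X, U) from r) • res N (le_top : U ≤ ⊤) (secOf (c.inj j ≫ p)) : Γ(N, U)) :=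
      app_eq_smul (c.inj j ≫ p) U r
    rw [h2, germAt_smul, germAt_res]
    exact S.smul_mem _ (Submodule.subset_span ⟨j, rfl⟩)
  haveI : (stk x).PreservesEpimorphisms := (stk x).preservesEpimorphisms_of_adjunction (stkSkyAdj x)
  haveI : Epi ((stk x).map p) := @Functor.map_epi _ _ _ _ (stk x) _ _ _ p hp
  have hq0 : q = 0 := by
    rw [← cancel_epi ((stk x).map p), hq, comp_zero]
  rw [eq_top_iff]
  intro b _
  have h3 : S.mkQ b = 0 := by
    have := congrArg (fun φ => φ.hom b) hq0
    exact this
  exact (Submodule.Quotient.mk_eq_zero S).1 h3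

/-- restriction preserves the span of the restrictions of a family of global sections -/
theorem res_mem_span_family (N : X.Modules) {J : Type w} (T : J → Γ(N, ⊤)) {V V' : X.Opens} (h : V' ≤ V)
    (m : Γ(N, V))
    (hm : m ∈ Submodule.span Γ(X, V) (Set.range fun j : J => res N (le_top : V ≤ ⊤) (T j))) :
    res N h m ∈ Submodule.span Γ(X, V') (Set.range fun j : J => res N (le_top : V' ≤ ⊤) (T j)) := by
  induction hm using Submodule.span_induction with
  | mem m hm =>
    obtain ⟨j, rfl⟩ := hm
    rw [res_res]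
    exact Submodule.subset_span ⟨j, rfl⟩
  | zero =>
    rw [res_zero]
    exact Submodule.zero_mem _
  | add m m' _ _ ih ih' =>
    have : res N h (m + m') = res N h m + res N h m' := map_add _ _ _
    rw [this]
    exact Submodule.add_mem _ ih ih'
  | smul a m _ ih =>
    rw [res_smul]
    exact Submodule.smul_mem _ _ ih

/-- a section whose germ lies in the span of the germs of a family of global sections lies, near the point, in the
span of the restrictions of the family -/
theorem exists_res_mem_span_of_germ_mem_span (N : X.Modules) {J : Type w} (T : J → Γ(N, ⊤)) (x : X)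
    {U : X.Opens} (hx : x ∈ U) (y : Γ(N, U))
    (hy : germAt N x U hx y ∈ Submodule.span (X.presheaf.stalk x)
      (Set.range fun j : J => germAt N x ⊤ trivial (T j))) :
    ∃ (V : X.Opens) (hV : V ≤ U), x ∈ V ∧
      res N hV y ∈ Submodule.span Γ(X, V) (Set.range fun j : J => res N (le_top : V ≤ ⊤) (T j)) := by
  have key : ∀ b ∈ Submodule.span (X.presheaf.stalk x) (Set.range fun j : J => germAt N x ⊤ trivial (T j)),
      ∃ (V : X.Opens) (hxV : x ∈ V) (m : Γ(N, V)),
        m ∈ Submodule.span Γ(X, V) (Set.range fun j : J => res N (le_top : V ≤ ⊤) (T j)) ∧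
        germAt N x V hxV m = b := by
    intro b hb
    induction hb using Submodule.span_induction with
    | mem b hb =>
      obtain ⟨j, rfl⟩ := hb
      exact ⟨⊤, trivial, T j, Submodule.subset_span ⟨j, res_self N _⟩, rfl⟩
    | zero => exact ⟨⊤, trivial, 0, Submodule.zero_mem _, map_zero _⟩
    | add b b' _ _ ih ih' =>
      obtain ⟨V, hxV, m, hm, rfl⟩ := ih
      obtain ⟨V', hxV', m', hm', rfl⟩ := ih'
      refine ⟨V ⊓ V', ⟨hxV, hxV'⟩, res N inf_le_left m + res N inf_le_right m',
        Submodule.add_mem _ (res_mem_span_family N T _ m hm) (res_mem_span_family N T _ m' hm'), ?_⟩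
      rw [germAt_add, germAt_res, germAt_res]
    | smul a b _ ih =>
      obtain ⟨V, hxV, m, hm, rfl⟩ := ih
      obtain ⟨W, hxW, r, rfl⟩ := TopCat.Presheaf.exists_germ_eq X.presheaf a
      refine ⟨V ⊓ W, ⟨hxV, hxW⟩, (resO (inf_le_right : V ⊓ W ≤ W) r • res N inf_le_left m : Γ(N, V ⊓ W)),
        Submodule.smul_mem _ _ (res_mem_span_family N T _ m hm), ?_⟩
      rw [germAt_smul, germAt_res]
      congr 1
      exact TopCat.Presheaf.germ_res_apply X.presheaf (homOfLE (inf_le_right : V ⊓ W ≤ W)) x ⟨hxV, hxW⟩ r
  obtain ⟨V, hxV, m, hm, hgerm⟩ := key _ hy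
  obtain ⟨W, hWV, hWU, hxW, hW⟩ := germAt_eq N x hxV hx m y hgerm
  refine ⟨W, hWU, hxW, ?_⟩
  rw [← hW]
  exact res_mem_span_family N T hWV m hm

/-- **if the germs at `x` of a family of global sections of an invertible module span the stalk, one of them
generates at `x`** -/
theorem exists_mem_genLocus_of_span_germs (L : X.Modules) (hL : PicF.IsInvertible L) {J : Type w}
    (T : J → (Coh.structureModule X ⟶ L)) (x : X)
    (hspan : Submodule.span (X.presheaf.stalk x)
      (Set.range fun j : J => germAt L x ⊤ trivial (secOf (T j))) = ⊤) :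
    ∃ j : J, x ∈ CohB1.genLocus L (T j) := by
  by_contra hcon
  rw [not_exists] at hcon
  obtain ⟨U, g, hxU, hg⟩ := exists_isGen L hL x
  obtain ⟨V, hV, hxV, hmem⟩ := exists_res_mem_span_of_germ_mem_span L (fun j => secOf (T j)) x hxU g
    (by rw [hspan]; trivial)
  have hgV : IsGen L V (res L hV g) := hg.res hV
  have key : ∀ m ∈ Submodule.span Γ(X, V) (Set.range fun j : J => res L (le_top : V ≤ ⊤) (secOf (T j))),
      ∃ c : Γ(X, V), m = (c • res L hV g : Γ(L, V)) ∧ x ∉ X.basicOpen c := by
    intro m hm
    induction hm using Submodule.span_induction with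
    | mem m hm =>
      obtain ⟨j, rfl⟩ := hm
      let r : Γ(X, V) := hgV.coef le_rfl (res L (le_top : V ≤ ⊤) (secOf (T j)))
      have hr : res L (le_top : V ≤ ⊤) (secOf (T j)) = (r • res L hV g : Γ(L, V)) := by
        have := hgV.coef_smul le_rfl (res L (le_top : V ≤ ⊤) (secOf (T j)))
        rw [res_self] at this
        exact this.symm
      refine ⟨r, hr, fun hxr => hcon j ?_⟩
      have h1 := genLocus_inf_eq (T j) V (res L hV g) hgV r hr
      have : x ∈ CohB1.genLocus L (T j) ⊓ V := by rw [h1]; exact hxr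
      exact this.1
    | zero =>
      refine ⟨0, (zero_smul _ _).symm, ?_⟩
      rw [Scheme.basicOpen_zero]
      exact fun h => h
    | add m m' _ _ ih ih' =>
      obtain ⟨c, rfl, hc⟩ := ih
      obtain ⟨c', rfl, hc'⟩ := ih'
      refine ⟨c + c', (add_smul _ _ _).symm, fun h => ?_⟩
      rw [Scheme.mem_basicOpen _ _ _ hxV] at h hc hc'
      rw [map_add] at h
      rcases IsLocalRing.isUnit_or_isUnit_of_isUnit_add h with h | h
      · exact hc h
      · exact hc' h
    | smul a m _ ih =>
      obtain ⟨c, rfl, hc⟩ := ih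
      refine ⟨a * c, (mul_smul _ _ _).symm, fun h => ?_⟩
      rw [Scheme.basicOpen_mul] at h
      exact hc h.2
  obtain ⟨c, hc, hxc⟩ := key _ hmem
  have h1 : c = 1 := by
    apply (hgV V le_rfl).1
    show (c • res L le_rfl (res L hV g) : Γ(L, V)) = ((1 : Γ(X, V)) • res L le_rfl (res L hV g) : Γ(L, V))
    rw [res_self, one_smul]
    exact hc.symm
  rw [h1, Scheme.basicOpen_one] at hxc
  exact hxc hxV

end Groth.Agent.Lib.Helper17.GGStalk
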