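import Groth.Agent.Lib.Helper17.ArTwistC
import Groth.Agent.Lib.Helper8.P1Core
import Groth.Agent.Lib.Helper8.H0Field
import Groth.Agent.Lib.Helper17.ProjSpaceGamma
import Groth.Prelude.Def_ModelsG
import Mathlib
set_option backward.isDefEq.respectTransparency.types false
set_option autoImplicit false
set_option linter.style.haveILetI false
set_option linter.unusedSectionVars false

/-!
# Exceptional components: numerical characterisation
-/

universe u
open CategoryTheory CategoryTheory.Limits AlgebraicGeometry Opposite TopologicalSpace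

noncomputable section
namespace Groth.Agent.Lib.Helper17.ExcIff

open Groth.Agent.Lib.Helper17.ExcH1 Groth.Agent.Lib.Helper17.P1Pic Groth.Agent.Lib.Helper17.ArInter
open Groth.Agent.Lib.Helper28 Groth.Agent.Lib.Helper8.EulerK

section Alg

/-- a scheme isomorphic to `P^1_{k''}` and living over `Spec k` makes `k''` a `k`-algebra -/
theorem exists_ringHom (k k'' : Type u) [Field k] [Field k''] (E : Scheme.{u})
    (q : E ⟶ Spec (CommRingCat.of k)) (e : CohB1.ProjSpace 1 k'' ≅ E) :
    ∃ φ : k →+* k'', e.inv ≫ CohB1.ProjSpace.toSpec 1 k'' ≫ Spec.map (CommRingCat.ofHom φ) = q := by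
  haveI := Groth.Agent.Lib.Helper17.ProjSpaceGamma.isIso_toSpec_appTop 1 k''
  let T := CohB1.ProjSpace.toSpec 1 k''
  let φ' : CommRingCat.of k ⟶ CommRingCat.of k'' :=
    (Scheme.ΓSpecIso (CommRingCat.of k)).inv ≫ (e.hom ≫ q).appTop ≫ inv T.appTop ≫
      (Scheme.ΓSpecIso (CommRingCat.of k'')).hom
  refine ⟨φ'.hom, ?_⟩
  rw [Iso.inv_comp_eq]
  apply ext_of_isAffine
  rw [Scheme.Hom.comp_appTop]
  have h1 : CommRingCat.ofHom φ'.hom = φ' := rfl
  rw [h1]
  have h2 : (Spec.map φ').appTop = (Scheme.ΓSpecIso (CommRingCat.of k)).hom ≫ φ' ≫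
      (Scheme.ΓSpecIso (CommRingCat.of k'')).inv := by
    rw [Scheme.ΓSpecIso_inv_naturality, Iso.hom_inv_id_assoc]
  rw [h2]
  simp only [φ', Category.assoc, Iso.hom_inv_id_assoc, Iso.hom_inv_id, Category.comp_id]
  show _ ≫ _ ≫ T.appTop = _
  simp

end Alg

section H0

/-- if the constants map isomorphically onto the global functions, `H⁰(O)` is one-dimensional -/
theorem finrank_H0_of_bijective (κ : Type u) [Field κ] (Y : Scheme.{u}) [Y.Over (Spec (CommRingCat.of κ))]
    (hb : Function.Bijective (Groth.Agent.Lib.Helper8.PtSupp.toΓ κ Y)) :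
    Module.finrank κ (Coh.HH Y (Coh.structureModule Y) 0) = 1 := by
  letI alg : Algebra κ Γ(Y, ⊤) := (Groth.Agent.Lib.Helper8.PtSupp.toΓ κ Y).toAlgebra
  let O := Coh.structureModule Y
  let E : Coh.HH Y O 0 ≃ₗ[κ] Γ(Y, ⊤) :=
    { Groth.Agent.Lib.Helper8.PtSupp.e0 O with
      map_smul' := fun c x => by
        have h := Groth.Agent.Lib.Helper8.H0Field.e0_smulΓ O (Coh.toGlobal (Y ↘ Spec (CommRingCat.of κ)) c) x
        exact h }
  let E2 : κ ≃ₗ[κ] Γ(Y, ⊤) := LinearEquiv.ofBijective (Algebra.linearMap κ Γ(Y, ⊤)) hb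
  exact (E.trans E2.symm).finrank_eq.trans (Module.finrank_self κ)

end H0

section Vert

variable (R : Type u) [CommRing R] [IsDomain R] [IsDiscreteValuationRing R]
  (X : Over (Spec (CommRingCat.of R))) [IsProper X.hom] (Γ : ArSurf.VertComp R X)

theorem isProper_curve' : IsProper (Γ.curve.left ↘ Spec (CommRingCat.of (IsLocalRing.ResidueField R))) := by
  have h1 : IsProper (Γ.ι ≫ X.hom) := inferInstance
  rw [Γ.w] at h1
  haveI : IsClosedImmersion (Spec.map (CommRingCat.ofHom (IsLocalRing.residue R))) :=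
    IsClosedImmersion.spec_of_surjective _ Ideal.Quotient.mk_surjective
  exact IsProper.of_comp Γ.curve.hom (Spec.map (CommRingCat.ofHom (IsLocalRing.residue R)))

theorem inter_tensor' {A B : X.left.Modules} (hA : PicF.IsInvertible A) (hB : PicF.IsInvertible B) :
    ArSurf.inter R X (CohB1.tensorMod A B) Γ = ArSurf.inter R X A Γ + ArSurf.inter R X B Γ := by
  haveI := isProper_curve' R X Γ
  have hdim : topologicalKrullDim Γ.curve.left ≤ 1 := Γ.dim_eq.le
  obtain ⟨ψ, -⟩ := Groth.Agent.Lib.Helper28.PullbackInv.exists_pullback_tensorMod_iso Γ.ι hA hB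
  unfold ArSurf.inter
  rw [curveDeg_congr _ _ ψ, curveDeg_tensor _ _ hdim (PicLoc.isInvertible_pullback Γ.ι hA)
    (PicLoc.isInvertible_pullback Γ.ι hB)]

theorem inter_ideal (L : X.left.Modules) (hL : ClSub.IsInverseOf L (ClSub.idealMod Γ.ι.ker)) :
    ArSurf.inter R X (ClSub.idealMod Γ.ι.ker) Γ = - ArSurf.inter R X L Γ := by
  obtain ⟨-, hI, hLi⟩ := isInvertible_of_isInverseOf _ L hL
  obtain ⟨ε⟩ := hL
  have h1 := inter_tensor' R X Γ hLi hI
  rw [inter_congr R X Γ ε, inter_structure] at h1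
  linarith

/-- numerical data of a component isomorphic to a projective line -/
theorem numerics_of_iso (k' : Type u) [Field k'] [Algebra (IsLocalRing.ResidueField R) k']
    (e : Γ.curve.left ≅ CohB1.ProjSpace 1 k')
    (he : e.hom ≫ CohB1.ProjSpace.toSpec 1 k' ≫
        Spec.map (CommRingCat.ofHom (algebraMap (IsLocalRing.ResidueField R) k')) = Γ.curve.hom) :
    Models.h1 R X Γ = 0 ∧ Models.wdeg R X Γ = Module.finrank (IsLocalRing.ResidueField R) k' := by
  letI : Γ.curve.left.Over (Spec (CommRingCat.of k')) := ⟨e.hom ≫ CohB1.ProjSpace.toSpec 1 k'⟩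
  have he' : e.hom ≫ (CohB1.ProjSpace 1 k' ↘ Spec (CommRingCat.of k')) =
      Γ.curve.left ↘ Spec (CommRingCat.of k') := rfl
  haveI : IsProper (Γ.curve.left ↘ Spec (CommRingCat.of k')) := by
    show IsProper (e.hom ≫ CohB1.ProjSpace.toSpec 1 k')
    haveI := ProjSpaceBasic.isProper_toSpec 1 k'
    infer_instance
  have hcomp : (Γ.curve.left ↘ Spec (CommRingCat.of (IsLocalRing.ResidueField R))) =
      (Γ.curve.left ↘ Spec (CommRingCat.of k')) ≫
        Spec.map (CommRingCat.ofHom (algebraMap (IsLocalRing.ResidueField R) k')) := by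
    show Γ.curve.hom = (e.hom ≫ CohB1.ProjSpace.toSpec 1 k') ≫ _
    rw [Category.assoc, he]
  have hdim : topologicalKrullDim Γ.curve.left ≤ 1 := Γ.dim_eq.le
  obtain ⟨ψ⟩ := nonempty_structure_iso_twD e
  have hq : (Twist.twistProjSpace 1 k' 0).IsQuasicoherent :=
    (Groth.Agent.Lib.Helper6.K0Op.isCoh_of_isInvertible _ (isInvertible_twist k' 0)).1
  have hss : Subsingleton (Coh.HH Γ.curve.left (Coh.structureModule Γ.curve.left) 1) := by
    have h1 := (subsingleton_HH_pullback_iso_iff e _ hq 1).2 (subsingleton_H1_twist k' 0 (by omega))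
    exact Groth.Agent.Lib.Helper4.VanClass.subsingleton_HH_of_iso ψ.symm 1 h1
  have hχ : Curv2.euler k' Γ.curve.left (Coh.structureModule Γ.curve.left) = 1 := by
    rw [euler_congr k' ψ, euler_twD e he' 0]; ring
  rw [← Groth.Agent.Lib.Helper2.IntNum1.eulerCharLE_eq_euler k' _ 1 (by exact_mod_cast hdim)] at hχ
  unfold FGA.eulerCharLE at hχ
  rw [Finset.sum_range_succ, Finset.sum_range_one] at hχ
  have h10 : Module.finrank k' (Coh.HH Γ.curve.left (Coh.structureModule Γ.curve.left) 1) = 0 :=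
    Module.finrank_zero_of_subsingleton
  rw [h10] at hχ
  have h00 : Module.finrank k' (Coh.HH Γ.curve.left (Coh.structureModule Γ.curve.left) 0) = 1 := by
    simp at hχ
    exact_mod_cast hχ
  refine ⟨?_, ?_⟩
  · unfold Models.h1
    exact Module.finrank_zero_of_subsingleton
  · unfold Models.wdeg
    rw [Tower.finrank_eq _ k' _ hcomp, h00, mul_one]

/-- exceptional components have genus zero and self-intersection `-[κ : k]` -/
theorem forward (L : X.left.Modules) (hL : ClSub.IsInverseOf L (ClSub.idealMod Γ.ι.ker))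
    (hexc : Models.IsExcCurve Γ.ι) :
    Models.h1 R X Γ = 0 ∧ ArSurf.inter R X L Γ = -(Models.wdeg R X Γ : ℤ) := by
  obtain ⟨-, k'', _, e, ⟨ψ⟩⟩ := hexc
  obtain ⟨φ, hφ⟩ := exists_ringHom (IsLocalRing.ResidueField R) k'' Γ.curve.left Γ.curve.hom e
  letI : Algebra (IsLocalRing.ResidueField R) k'' := φ.toAlgebra
  let e' : Γ.curve.left ≅ CohB1.ProjSpace 1 k'' := e.symm
  have he : e'.hom ≫ CohB1.ProjSpace.toSpec 1 k'' ≫
      Spec.map (CommRingCat.ofHom (algebraMap (IsLocalRing.ResidueField R) k'')) = Γ.curve.hom := hφ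
  obtain ⟨h1, hw⟩ := numerics_of_iso R X Γ k'' e' he
  refine ⟨h1, ?_⟩
  have hI := Groth.Agent.Lib.Helper17.ArTwist.inter_eq R X Γ k'' e' he (ClSub.idealMod Γ.ι.ker) 1 ⟨ψ⟩
  have h2 := inter_ideal R X Γ L hL
  rw [hw]
  linarith

/-- the converse over an abstract field of constants -/
theorem backward_aux (κ : Type u) [Field κ] [Algebra (IsLocalRing.ResidueField R) κ]
    (q : Γ.curve.left ⟶ Spec (CommRingCat.of κ))
    (hq : q ≫ Spec.map (CommRingCat.ofHom (algebraMap (IsLocalRing.ResidueField R) κ)) = Γ.curve.hom)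
    (h0 : letI : Γ.curve.left.Over (Spec (CommRingCat.of κ)) := ⟨q⟩
      Module.finrank κ (Coh.HH Γ.curve.left (Coh.structureModule Γ.curve.left) 0) = 1)
    (L : X.left.Modules) (hL : ClSub.IsInverseOf L (ClSub.idealMod Γ.ι.ker))
    (h1 : Models.h1 R X Γ = 0) (hint : ArSurf.inter R X L Γ = -(Models.wdeg R X Γ : ℤ)) :
    Models.IsExcCurve Γ.ι := by
  letI : Γ.curve.left.Over (Spec (CommRingCat.of κ)) := ⟨q⟩
  haveI := isProper_curve' R X Γ
  haveI : IsProper (Γ.curve.left ↘ Spec (CommRingCat.of κ)) := by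
    show IsProper q
    haveI : IsProper (q ≫ Spec.map (CommRingCat.ofHom (algebraMap (IsLocalRing.ResidueField R) κ))) := by
      rw [hq]; exact isProper_curve' R X Γ
    exact IsProper.of_comp q (Spec.map (CommRingCat.ofHom (algebraMap (IsLocalRing.ResidueField R) κ)))
  have hcomp : (Γ.curve.left ↘ Spec (CommRingCat.of (IsLocalRing.ResidueField R))) =
      (Γ.curve.left ↘ Spec (CommRingCat.of κ)) ≫
        Spec.map (CommRingCat.ofHom (algebraMap (IsLocalRing.ResidueField R) κ)) := hq.symm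
  have hdim : topologicalKrullDim Γ.curve.left ≤ 1 := Γ.dim_eq.le
  obtain ⟨hcart, hI, hLi⟩ := isInvertible_of_isInverseOf _ L hL
  set d := Module.finrank (IsLocalRing.ResidueField R) κ with hd
  have hw : Models.wdeg R X Γ = d := by
    unfold Models.wdeg
    rw [Tower.finrank_eq _ κ _ hcomp, h0, mul_one]
  have hcO : Coh.IsCoh (Coh.structureModule Γ.curve.left) :=
    Groth.Agent.Lib.Helper6.DevRed.isCoh_structureModule
  have hdpos : 0 < d := by
    rw [← hw]
    unfold Models.wdeg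
    haveI := finite_HH (IsLocalRing.ResidueField R) Γ.curve.left _ hcO 0
    haveI : Nontrivial (Coh.HH Γ.curve.left (Coh.structureModule Γ.curve.left) 0) :=
      Module.nontrivial_of_finrank_pos (R := κ) (by rw [h0]; exact Nat.one_pos)
    exact Module.finrank_pos
  have hg : Module.finrank κ (Coh.HH Γ.curve.left (Coh.structureModule Γ.curve.left) 1) = 0 := by
    have h := Tower.finrank_eq (IsLocalRing.ResidueField R) κ _ hcomp (Coh.structureModule Γ.curve.left) 1
    unfold Models.h1 at h1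
    rw [h1] at h
    rcases Nat.eq_zero_or_pos (Module.finrank κ (Coh.HH Γ.curve.left (Coh.structureModule Γ.curve.left) 1)) with h' | h'
    · exact h'
    · have := Nat.mul_pos hdpos h'
      rw [← h] at this
      exact absurd this (lt_irrefl 0)
  -- the conormal module
  set N := (Scheme.Modules.pullback Γ.ι).obj (ClSub.idealMod Γ.ι.ker) with hN
  have hNi : PicF.IsInvertible N := PicLoc.isInvertible_pullback Γ.ι hI
  have hIint := inter_ideal R X Γ L hL
  rw [hint, neg_neg, hw] at hIint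
  have hdegN : Curv2.deg κ Γ.curve.left N 1 = 1 := by
    rw [← curveDeg_eq_deg κ _ hdim]
    have h2 : ArSurf.curveDeg (IsLocalRing.ResidueField R) Γ.curve.left N =
        d * ArSurf.curveDeg κ Γ.curve.left N := by
      unfold ArSurf.curveDeg
      rw [Tower.eulerCharLE_eq _ κ _ hcomp, Tower.eulerCharLE_eq _ κ _ hcomp]
      ring
    have h3 : ArSurf.curveDeg (IsLocalRing.ResidueField R) Γ.curve.left N = d := hIint
    rw [h3] at h2
    have hd0 : (d : ℤ) ≠ 0 := by exact_mod_cast hdpos.ne'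
    have : (d : ℤ) * (ArSurf.curveDeg κ Γ.curve.left N - 1) = 0 := by linarith
    rcases mul_eq_zero.1 this with h | h
    · exact absurd h hd0
    · linarith
  have hlt : Module.finrank κ (Coh.HH Γ.curve.left (Coh.structureModule Γ.curve.left) 0) <
      Module.finrank κ (Coh.HH Γ.curve.left N 0) := by
    have hdeg' := hdegN
    unfold Curv2.deg at hdeg'
    rw [← Groth.Agent.Lib.Helper2.IntNum1.eulerCharLE_eq_euler κ _ 1 (by exact_mod_cast hdim),
      ← Groth.Agent.Lib.Helper2.IntNum1.eulerCharLE_eq_euler κ _ 1 (by exact_mod_cast hdim)] at hdeg'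
    unfold FGA.eulerCharLE at hdeg'
    rw [Finset.sum_range_succ, Finset.sum_range_one, Finset.sum_range_succ, Finset.sum_range_one,
      hg, h0] at hdeg'
    simp at hdeg'
    rw [h0]
    omega
  obtain ⟨e', he'⟩ := Groth.Agent.Lib.Helper8.P1Core.exists_iso_P1_of_lt κ Γ.curve.left Γ.dim_eq hNi hdegN hlt
  have he : e'.hom ≫ CohB1.ProjSpace.toSpec 1 κ ≫
      Spec.map (CommRingCat.ofHom (algebraMap (IsLocalRing.ResidueField R) κ)) = Γ.curve.hom := by
    rw [← Category.assoc, he']; exact hq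
  obtain ⟨a, ha⟩ := exists_hasDeg (Groth.Agent.Lib.Helper17.ArTwist.θ R X Γ κ e') (ClSub.idealMod Γ.ι.ker) hI
  have hIa := Groth.Agent.Lib.Helper17.ArTwist.inter_eq R X Γ κ e' he (ClSub.idealMod Γ.ι.ker) a ha
  have ha1 : a = 1 := by
    have h3 : ArSurf.inter R X (ClSub.idealMod Γ.ι.ker) Γ = d := hIint
    rw [h3] at hIa
    have hd0 : (d : ℤ) ≠ 0 := by exact_mod_cast hdpos.ne'
    have : (d : ℤ) * (a - 1) = 0 := by linarith
    rcases mul_eq_zero.1 this with h | h
    · exact absurd h hd0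
    · linarith
  subst ha1
  obtain ⟨ψ⟩ := ha
  exact ⟨hcart, κ, inferInstance, e'.symm, ⟨ψ⟩⟩

/-- the converse: genus zero and self-intersection `-[κ : k]` force an exceptional curve -/
theorem backward (L : X.left.Modules) (hL : ClSub.IsInverseOf L (ClSub.idealMod Γ.ι.ker))
    (h1 : Models.h1 R X Γ = 0) (hint : ArSurf.inter R X L Γ = -(Models.wdeg R X Γ : ℤ)) :
    Models.IsExcCurve Γ.ι := by
  haveI := isProper_curve' R X Γ
  have hK : IsField Γ(Γ.curve.left, ⊤) :=
    isField_of_universallyClosed (K := IsLocalRing.ResidueField R) (Γ.curve.left ↘ Spec (CommRingCat.of (IsLocalRing.ResidueField R)))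
  letI : Field Γ(Γ.curve.left, ⊤) := hK.toField
  let φ : IsLocalRing.ResidueField R →+* Γ(Γ.curve.left, ⊤) :=
    (Γ.curve.hom.appTop).hom.comp (Scheme.ΓSpecIso (CommRingCat.of (IsLocalRing.ResidueField R))).inv.hom
  letI : Algebra (IsLocalRing.ResidueField R) Γ(Γ.curve.left, ⊤) := φ.toAlgebra
  let q : Γ.curve.left ⟶ Spec (CommRingCat.of Γ(Γ.curve.left, ⊤)) := Γ.curve.left.toSpecΓ
  have htg : ∀ c : Γ(Γ.curve.left, ⊤), Coh.toGlobal q c = c := by
    intro c
    unfold Coh.toGlobal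
    show (q.appTop).hom ((Scheme.ΓSpecIso _).inv.hom c) = c
    have h : q.appTop = (Scheme.ΓSpecIso Γ(Γ.curve.left, ⊤)).hom := Scheme.toSpecΓ_appTop _
    rw [h]
    exact congrArg (fun f => f.hom c) (Scheme.ΓSpecIso Γ(Γ.curve.left, ⊤)).inv_hom_id
  refine backward_aux R X Γ Γ(Γ.curve.left, ⊤) q ?_ ?_ L hL h1 hint
  · apply ext_of_isAffine
    rw [Scheme.Hom.comp_appTop]
    have h2 : (Spec.map (CommRingCat.ofHom (algebraMap (IsLocalRing.ResidueField R) Γ(Γ.curve.left, ⊤)))).appTop =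
        (Scheme.ΓSpecIso _).hom ≫ CommRingCat.ofHom φ ≫ (Scheme.ΓSpecIso _).inv := by
      rw [Scheme.ΓSpecIso_inv_naturality, Iso.hom_inv_id_assoc]
    rw [h2]
    have h : q.appTop = (Scheme.ΓSpecIso Γ(Γ.curve.left, ⊤)).hom := Scheme.toSpecΓ_appTop _
    rw [h]
    simp only [Category.assoc]
    erw [Iso.inv_hom_id]
    rw [Category.comp_id]
    show _ ≫ ((Scheme.ΓSpecIso _).inv ≫ Γ.curve.hom.appTop) = _
    rw [Iso.hom_inv_id_assoc]
  · letI : Γ.curve.left.Over (Spec (CommRingCat.of Γ(Γ.curve.left, ⊤))) := ⟨q⟩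
    refine finrank_H0_of_bijective Γ(Γ.curve.left, ⊤) Γ.curve.left ⟨fun a b hab => ?_, fun c => ⟨c, htg c⟩⟩
    have ha := htg a
    have hb := htg b
    exact ha.symm.trans (hab.trans hb)

end Vert

end Groth.Agent.Lib.Helper17.ExcIff
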