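import Groth.Agent.Lib.Helper17.ExcIff
import Groth.Agent.Lib.Helper1.VertDiv14
import Groth.Agent.Lib.Helper8.CurveDeg1
import Mathlib
set_option backward.isDefEq.respectTransparency.types false
set_option autoImplicit false
set_option linter.style.haveILetI false
set_option linter.unusedSectionVars false

/-!
# Vertical prime divisors are listed components; exceptional curves depend only on the support
-/

universe u
open CategoryTheory CategoryTheory.Limits AlgebraicGeometry Opposite TopologicalSpace

noncomputable section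
namespace Groth.Agent.Lib.Helper17.ExcIff

section Supp

variable {Y E' E'' : Scheme.{u}} (ι' : E' ⟶ Y) (ι'' : E'' ⟶ Y) [IsClosedImmersion ι'] [IsClosedImmersion ι'']
  [IsReduced E'] [IsReduced E'']

omit [IsClosedImmersion ι'] in
theorem ker_eq_vanishingIdeal [QuasiCompact ι'] :
    ι'.ker = Scheme.IdealSheafData.vanishingIdeal (.closure (Set.range ι'.base)) := by
  have h1 := Scheme.IdealSheafData.map_vanishingIdeal ι' ⊤
  rw [Scheme.IdealSheafData.vanishingIdeal_top, Scheme.nilradical_eq_bot,
    Scheme.IdealSheafData.map_bot] at h1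
  rw [h1]
  congr 2
  simp

theorem ker_eq_of_range_eq (h : Set.range ι'.base = Set.range ι''.base) : ι'.ker = ι''.ker := by
  rw [ker_eq_vanishingIdeal ι', ker_eq_vanishingIdeal ι'', h]

theorem isExcCurve_of_range_eq (h : Set.range ι'.base = Set.range ι''.base)
    (hexc : Models.IsExcCurve ι') : Models.IsExcCurve ι'' := by
  have hker := ker_eq_of_range_eq ι' ι'' h
  let σ : E' ⟶ E'' := IsClosedImmersion.lift ι'' ι' hker.ge
  let τ : E'' ⟶ E' := IsClosedImmersion.lift ι' ι'' hker.le
  have hσ : σ ≫ ι'' = ι' := IsClosedImmersion.lift_fac _ _ _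
  have hτ : τ ≫ ι' = ι'' := IsClosedImmersion.lift_fac _ _ _
  let s : E' ≅ E'' :=
    { hom := σ
      inv := τ
      hom_inv_id := by
        rw [← cancel_mono ι', Category.assoc, hτ, hσ, Category.id_comp]
      inv_hom_id := by
        rw [← cancel_mono ι'', Category.assoc, hσ, hτ, Category.id_comp] }
  obtain ⟨hcart, k, _, e, ⟨ψ⟩⟩ := hexc
  have key : ∀ (I : Y.IdealSheafData), I = ι''.ker → BlowUp.IsEffCartierIdeal I →
      ((Scheme.Modules.pullback (e.hom ≫ ι')).obj (ClSub.idealMod I) ≅ Twist.twistProjSpace 1 k 1) →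
      Models.IsExcCurve ι'' := by
    intro I hI hc ψ'
    subst hI
    refine ⟨hc, k, inferInstance, e ≪≫ s, ⟨?_⟩⟩
    have hcomp : (e ≪≫ s).hom ≫ ι'' = e.hom ≫ ι' := by
      show (e.hom ≫ σ) ≫ ι'' = _
      rw [Category.assoc, hσ]
    exact (Scheme.Modules.pullbackCongr hcomp).app _ ≪≫ ψ'
  exact key _ hker hcart ψ

end Supp

section List

open Groth.Agent.Lib.Helper1.VertDiv Groth.Agent.Lib.Helper1.FibGeom

variable (R : Type u) [CommRing R] [IsDomain R] [IsDiscreteValuationRing R]
  (X : Over (Spec (CommRingCat.of R)))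
  {n : ℕ} (Γ : Fin n → ArSurf.VertComp R X) (hΓ : Models.IsComponentList R X Γ)

theorem genPtOf_mem_specialFibreSet (Γ' : ArSurf.VertComp R X) :
    Models.genPtOf R X Γ' ∈ Models.specialFibreSet R X := by
  show X.hom.base (Γ'.ι.base (genericPoint Γ'.curve.left)) ∈ ({IsLocalRing.closedPoint R} : Set _)
  have h1 : X.hom.base (Γ'.ι.base (genericPoint Γ'.curve.left)) =
      (Γ'.ι ≫ X.hom).base (genericPoint Γ'.curve.left) := rfl
  rw [h1, Γ'.w]
  show (Spec.map (CommRingCat.ofHom (IsLocalRing.residue R))).base _ ∈ _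
  refine Set.mem_singleton_iff.2 ?_
  set y := Γ'.curve.hom.base (genericPoint Γ'.curve.left) with hy
  apply PrimeSpectrum.ext
  show Ideal.comap (IsLocalRing.residue R) y.asIdeal = IsLocalRing.maximalIdeal R
  have : y.asIdeal = ⊥ := by
    have := y.isPrime
    exact (Ideal.eq_bot_or_top y.asIdeal).resolve_right this.ne_top
  rw [this]
  ext r
  simp [Ideal.mem_comap]

include hΓ in
/-- every vertical prime divisor is (supported on) one of the listed components -/
theorem exists_index_range_eq (Γ' : ArSurf.VertComp R X) :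
    ∃ i, Set.range (Γ'.ι.base : Γ'.curve.left → X.left) = Set.range ((Γ i).ι.base : (Γ i).curve.left → X.left) := by
  obtain ⟨i, hi⟩ := exists_index_of_mem_specialFibreSet R X Γ hΓ _ (genPtOf_mem_specialFibreSet R X Γ')
  refine ⟨i, ?_⟩
  rw [range_eq_closure_genPtOf, range_eq_closure_genPtOf]
  by_cases heq : Models.genPtOf R X (Γ i) = Models.genPtOf R X Γ'
  · rw [heq]
  exfalso
  -- the generic point of `Γ'` is a non-generic point of `Γ i`, hence closed
  have hmem : Models.genPtOf R X Γ' ∈ Set.range ((Γ i).ι.base : (Γ i).curve.left → X.left) := by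
    rw [range_eq_closure_genPtOf]
    exact hi.mem_closure
  obtain ⟨a, ha⟩ := hmem
  have hane : a ≠ genericPoint (Γ i).curve.left := by
    rintro rfl
    exact heq ha
  have hcl : IsClosed ({a} : Set (Γ i).curve.left) :=
    Groth.Agent.Lib.Helper8.CurveDeg.isClosed_singleton_of_ne_genericPoint (Γ i).dim_eq.le a hane
  have hcl' : IsClosed ({Models.genPtOf R X Γ'} : Set X.left) := by
    have := (Γ i).ι.isClosedEmbedding.isClosedMap _ hcl
    rwa [Set.image_singleton, ha] at this
  have hrange : Set.range (Γ'.ι.base : Γ'.curve.left → X.left) = {Models.genPtOf R X Γ'} := by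
    rw [range_eq_closure_genPtOf, hcl'.closure_eq]
  haveI : Subsingleton Γ'.curve.left := by
    refine ⟨fun x y => ?_⟩
    apply Γ'.ι.isClosedEmbedding.injective
    have hx : Γ'.ι.base x ∈ Set.range (Γ'.ι.base : Γ'.curve.left → X.left) := ⟨x, rfl⟩
    have hy : Γ'.ι.base y ∈ Set.range (Γ'.ι.base : Γ'.curve.left → X.left) := ⟨y, rfl⟩
    rw [hrange, Set.mem_singleton_iff] at hx hy
    exact hx.trans hy.symm
  haveI : Nonempty Γ'.curve.left := ⟨genericPoint Γ'.curve.left⟩
  haveI : DiscreteTopology Γ'.curve.left := inferInstance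
  have h0 := topologicalKrullDim_zero_of_discreteTopology Γ'.curve.left
  rw [Γ'.dim_eq] at h0
  exact absurd h0 (by norm_num)

end List

end Groth.Agent.Lib.Helper17.ExcIff
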