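import Groth.Agent.Lib.Helper17.ExtTensor
import Mathlib
set_option autoImplicit false
universe w v u t

/-!
# Tensoring Ext groups with a flat module through a pairing (helper17)

`𝒞` abelian with `Ext`; `F : 𝒞` with an action of a commutative ring `A`, `M` an `A`-module, `G : 𝒞` and an
additive family `u : M →+ (F ⟶ G)` with `u (a • m) = a ≫ u m`.  For every object `Z` and degree `n` the map
`Θ : M ⊗[A] Ext Z F n → Ext Z G n`, `m ⊗ x ↦ x ≫ u m`.  It is natural in `Z` for precomposition with Ext classes of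
any degree; for flat `M` the five lemma gives: `Θ` bijective for `Z₁`, `Z₂` (all degrees) ⇒ bijective for `Z₃`
when `0 → Z₁ → Z₂ → Z₃ → 0` is exact.  (Generalises `ExtTensor`, which is the case `M = B` an `A`-algebra.)
-/

open CategoryTheory Abelian TensorProduct Limits

noncomputable section

namespace Groth.Agent.Lib.Helper17.ExtPair
open Groth.Agent.Lib.Helper17.ExtTensor

variable {𝒞 : Type u} [Category.{v} 𝒞] [Abelian 𝒞] [HasExt.{w} 𝒞]

section theta

variable {A : Type t} [CommRing A] {M : Type t} [AddCommGroup M] [Module A M]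
variable {F G : 𝒞} (ρF : Act A F) (u : M →+ (F ⟶ G))
  (hu : ∀ (a : A) (m : M), u (a • m) = ρF.act a ≫ u m)

/-- the bi-additive map `(m, x) ↦ x ≫ u m` -/
def thetaBi (Z : 𝒞) (n : ℕ) : M →+ E ρF Z n →+ Ext Z G n where
  toFun m :=
    { toFun := fun x => x.toExt.comp (Ext.mk₀ (u m)) (add_zero n)
      map_zero' := by
        change (0 : Ext Z F n).comp (Ext.mk₀ (u m)) (add_zero n) = 0
        rw [Ext.zero_comp]
      map_add' := fun x y => by
        change (x.toExt + y.toExt).comp (Ext.mk₀ (u m)) (add_zero n) = _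
        rw [Ext.add_comp] }
  map_zero' := by
    ext x
    change x.toExt.comp (Ext.mk₀ (u 0)) (add_zero n) = 0
    rw [map_zero, Ext.mk₀_zero, Ext.comp_zero]
  map_add' m m' := by
    ext x
    change x.toExt.comp (Ext.mk₀ (u (m + m'))) (add_zero n) =
      x.toExt.comp (Ext.mk₀ (u m)) (add_zero n) + x.toExt.comp (Ext.mk₀ (u m')) (add_zero n)
    rw [map_add, Ext.mk₀_add, Ext.comp_add]

/-- **the comparison map** `M ⊗[A] Ext Z F n → Ext Z G n` -/
def theta (Z : 𝒞) (n : ℕ) : M ⊗[A] E ρF Z n →+ Ext Z G n :=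
  TensorProduct.liftAddHom (thetaBi ρF u Z n) (fun a m x => by
    change x.toExt.comp (Ext.mk₀ (u (a • m))) (add_zero n) =
      (x.toExt.comp (Ext.mk₀ (ρF.act a)) (add_zero n)).comp (Ext.mk₀ (u m)) (add_zero n)
    rw [hu, Ext.comp_assoc_of_third_deg_zero, Ext.mk₀_comp_mk₀])

theorem theta_tmul (Z : 𝒞) (n : ℕ) (m : M) (x : E ρF Z n) :
    theta ρF u hu Z n (m ⊗ₜ[A] x) = x.toExt.comp (Ext.mk₀ (u m)) (add_zero n) := rfl

/-- the additive map of precomposition on plain Ext groups -/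
def preG {Z Z' : 𝒞} {k : ℕ} (z : Ext Z' Z k) {n m : ℕ} (h : k + n = m) : Ext Z G n →+ Ext Z' G m where
  toFun x := z.comp x h
  map_zero' := by rw [Ext.comp_zero]
  map_add' x y := by rw [Ext.comp_add]

/-- naturality of `theta` with respect to precomposition -/
theorem theta_pre {Z Z' : 𝒞} {k : ℕ} (z : Ext Z' Z k) {n m : ℕ} (h : k + n = m)
    (t : M ⊗[A] E ρF Z n) :
    theta ρF u hu Z' m ((pre ρF z h).lTensor M t) = preG z h (theta ρF u hu Z n t) := by
  induction t using TensorProduct.induction_on with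
  | zero => rw [map_zero, map_zero, map_zero, map_zero]
  | tmul b x =>
    rw [LinearMap.lTensor_tmul, theta_tmul, theta_tmul]
    change (z.comp x.toExt h).comp (Ext.mk₀ (u b)) (add_zero m) =
      z.comp (x.toExt.comp (Ext.mk₀ (u b)) (add_zero n)) h
    rw [Ext.comp_assoc_of_third_deg_zero]
  | add s t hs ht => rw [map_add, map_add, map_add, map_add, hs, ht]

/-- `theta` is bijective in all degrees -/
def Bij (Z : 𝒞) : Prop := ∀ n, Function.Bijective (theta ρF u hu Z n)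

/-- compatibility with an endomorphism of `M` matched by an endomorphism of `G` -/
theorem theta_rTensor (σ : M →ₗ[A] M) (s : G ⟶ G) (hσ : ∀ m : M, u (σ m) = u m ≫ s) (Z : 𝒞) (n : ℕ)
    (t : M ⊗[A] E ρF Z n) :
    theta ρF u hu Z n (σ.rTensor _ t) = (theta ρF u hu Z n t).comp (Ext.mk₀ s) (add_zero n) := by
  induction t using TensorProduct.induction_on with
  | zero => rw [map_zero, map_zero, Ext.zero_comp]
  | tmul m x =>
    rw [LinearMap.rTensor_tmul, theta_tmul, theta_tmul, hσ, Ext.comp_assoc_of_third_deg_zero,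
      Ext.mk₀_comp_mk₀]
  | add a b ha hb => rw [map_add, map_add, ha, hb, map_add, Ext.add_comp]

end theta

section exactG
variable {G : 𝒞} {S : ShortComplex 𝒞} (hS : S.ShortExact)

theorem exactG_f_extClass (n₀ n₁ : ℕ) (h : 1 + n₀ = n₁) :
    Function.Exact (preG (G := G) (Ext.mk₀ S.f) (zero_add n₀)) (preG hS.extClass h) := by
  intro y
  constructor
  · intro hy
    exact Ext.contravariant_sequence_exact₁ hS G y h hy
  · rintro ⟨x, rfl⟩
    change hS.extClass.comp ((Ext.mk₀ S.f).comp x (zero_add n₀)) h = 0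
    rw [ShortComplex.ShortExact.extClass_comp_assoc]

theorem exactG_extClass_g (n₀ n₁ : ℕ) (h : 1 + n₀ = n₁) :
    Function.Exact (preG (G := G) hS.extClass h) (preG (Ext.mk₀ S.g) (zero_add n₁)) := by
  intro y
  constructor
  · intro hy
    exact Ext.contravariant_sequence_exact₃ hS G y hy h
  · rintro ⟨x, rfl⟩
    change (Ext.mk₀ S.g).comp (hS.extClass.comp x h) (zero_add n₁) = 0
    rw [ShortComplex.ShortExact.comp_extClass_assoc]

include hS in
theorem exactG_g_f (n : ℕ) :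
    Function.Exact (preG (G := G) (Ext.mk₀ S.g) (zero_add n)) (preG (Ext.mk₀ S.f) (zero_add n)) := by
  intro y
  constructor
  · intro hy
    exact Ext.contravariant_sequence_exact₂ hS G y hy
  · rintro ⟨x, rfl⟩
    change (Ext.mk₀ S.f).comp ((Ext.mk₀ S.g).comp x (zero_add n)) (zero_add n) = 0
    rw [Ext.mk₀_comp_mk₀_assoc, S.zero, Ext.mk₀_zero, Ext.zero_comp]

include hS in
theorem preG_g_injective : Function.Injective (preG (G := G) (Ext.mk₀ S.g) (zero_add 0)) := by
  haveI := hS.epi_g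
  exact Ext.precomp_mk₀_injective_of_epi G S.g

end exactG

section step

variable {A : Type t} [CommRing A] {M : Type t} [AddCommGroup M] [Module A M]
variable {F G : 𝒞} (ρF : Act A F) (u : M →+ (F ⟶ G))
  (hu : ∀ (a : A) (m : M), u (a • m) = ρF.act a ≫ u m)

/-- the top-row map, as an additive map -/
def preT {Z Z' : 𝒞} {k : ℕ} (z : Ext Z' Z k) {n m : ℕ} (h : k + n = m) :
    M ⊗[A] E ρF Z n →+ M ⊗[A] E ρF Z' m :=
  ((pre ρF z h).lTensor M).toAddMonoidHom

theorem theta_comm {Z Z' : 𝒞} {k : ℕ} (z : Ext Z' Z k) {n m : ℕ} (h : k + n = m) :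
    (preG z h).comp (theta ρF u hu Z n) = (theta ρF u hu Z' m).comp (preT (M := M) ρF z h) := by
  ext t
  exact (theta_pre ρF u hu z h t).symm

variable [Module.Flat A M] {S : ShortComplex 𝒞} (hS : S.ShortExact)

include hS in
/-- **the five lemma step** -/
theorem bij_of_shortExact (h₁ : Bij ρF u hu S.X₁) (h₂ : Bij ρF u hu S.X₂) :
    Bij ρF u hu S.X₃ := by
  intro n
  cases n with
  | zero =>
    refine AddMonoidHom.bijective_of_bijective_of_injective_of_left_exact
      (f₁ := preT (M := M) ρF (Ext.mk₀ S.g) (zero_add 0)) (f₂ := preT (M := M) ρF (Ext.mk₀ S.f) (zero_add 0))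
      (g₁ := preG (G := G) (Ext.mk₀ S.g) (zero_add 0))
      (g₂ := preG (G := G) (Ext.mk₀ S.f) (zero_add 0))
      (i₁ := theta ρF u hu S.X₃ 0) (i₂ := theta ρF u hu S.X₂ 0) (i₃ := theta ρF u hu S.X₁ 0)
      (theta_comm ρF u hu _ _) (theta_comm ρF u hu _ _) ?_ ?_ (h₂ 0) (h₁ 0).1 ?_ ?_
    · exact Module.Flat.lTensor_exact M (exact_pre_g_f ρF hS 0)
    · exact exactG_g_f hS 0
    · exact Module.Flat.lTensor_preserves_injective_linearMap _ (pre_g_injective ρF hS)
    · exact preG_g_injective hS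
  | succ n =>
    have h : 1 + n = n + 1 := add_comm 1 n
    refine AddMonoidHom.bijective_of_surjective_of_bijective_of_bijective_of_injective
      (f₁ := preT (M := M) ρF (Ext.mk₀ S.f) (zero_add n)) (f₂ := preT (M := M) ρF hS.extClass h)
      (f₃ := preT (M := M) ρF (Ext.mk₀ S.g) (zero_add (n + 1)))
      (f₄ := preT (M := M) ρF (Ext.mk₀ S.f) (zero_add (n + 1)))
      (g₁ := preG (G := G) (Ext.mk₀ S.f) (zero_add n))
      (g₂ := preG (G := G) hS.extClass h)
      (g₃ := preG (G := G) (Ext.mk₀ S.g) (zero_add (n + 1)))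
      (g₄ := preG (G := G) (Ext.mk₀ S.f) (zero_add (n + 1)))
      (i₁ := theta ρF u hu S.X₂ n) (i₂ := theta ρF u hu S.X₁ n)
      (i₃ := theta ρF u hu S.X₃ (n + 1)) (i₄ := theta ρF u hu S.X₂ (n + 1))
      (i₅ := theta ρF u hu S.X₁ (n + 1))
      (theta_comm ρF u hu _ _) (theta_comm ρF u hu _ _) (theta_comm ρF u hu _ _)
      (theta_comm ρF u hu _ _) ?_ ?_ ?_ ?_ ?_ ?_ (h₂ n).2 (h₁ n) (h₂ (n + 1)) (h₁ (n + 1)).1
    · exact Module.Flat.lTensor_exact M (exact_pre_f_extClass ρF hS n (n + 1) h)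
    · exact Module.Flat.lTensor_exact M (exact_pre_extClass_g ρF hS n (n + 1) h)
    · exact Module.Flat.lTensor_exact M (exact_pre_g_f ρF hS (n + 1))
    · exact exactG_f_extClass hS n (n + 1) h
    · exact exactG_extClass_g hS n (n + 1) h
    · exact exactG_g_f hS (n + 1)

end step

section summands

variable {A : Type t} [CommRing A] {M : Type t} [AddCommGroup M] [Module A M]
variable {F G : 𝒞} (ρF : Act A F) (u : M →+ (F ⟶ G))
  (hu : ∀ (a : A) (m : M), u (a • m) = ρF.act a ≫ u m)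

/-- precomposition with a morphism on plain Ext groups -/
def preG₀ {Z Z' : 𝒞} (φ : Z' ⟶ Z) (n : ℕ) : Ext Z G n →+ Ext Z' G n := preG (Ext.mk₀ φ) (zero_add n)

theorem preG₀_id (Z : 𝒞) (n : ℕ) (y : Ext Z G n) : preG₀ (𝟙 Z) n y = y := by
  change (Ext.mk₀ (𝟙 Z)).comp y (zero_add n) = y
  rw [Ext.mk₀_id_comp]

theorem preG₀_comp {Z Z' Z'' : 𝒞} (φ : Z'' ⟶ Z') (ψ : Z' ⟶ Z) (n : ℕ) (y : Ext Z G n) :
    preG₀ (φ ≫ ψ) n y = preG₀ φ n (preG₀ ψ n y) := by
  change (Ext.mk₀ (φ ≫ ψ)).comp y (zero_add n) =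
    (Ext.mk₀ φ).comp ((Ext.mk₀ ψ).comp y (zero_add n)) (zero_add n)
  rw [Ext.mk₀_comp_mk₀_assoc]

theorem preG₀_add {Z Z' : 𝒞} (φ ψ : Z' ⟶ Z) (n : ℕ) (y : Ext Z G n) :
    preG₀ (φ + ψ) n y = preG₀ φ n y + preG₀ ψ n y := by
  change (Ext.mk₀ (φ + ψ)).comp y (zero_add n) =
    (Ext.mk₀ φ).comp y (zero_add n) + (Ext.mk₀ ψ).comp y (zero_add n)
  rw [Ext.mk₀_add, Ext.add_comp]

theorem theta_pre₀ {Z Z' : 𝒞} (φ : Z' ⟶ Z) (n : ℕ) (t : M ⊗[A] E ρF Z n) :
    theta ρF u hu Z' n ((pre₀ ρF φ n).lTensor M t) = preG₀ φ n (theta ρF u hu Z n t) :=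
  theta_pre ρF u hu (Ext.mk₀ φ) (zero_add n) t

theorem bij_of_iso {Z Z' : 𝒞} (e : Z ≅ Z') (h : Bij ρF u hu Z) : Bij ρF u hu Z' := by
  intro n
  have hF : ∀ t : M ⊗[A] E ρF Z' n,
      (pre₀ ρF e.inv n).lTensor M ((pre₀ ρF e.hom n).lTensor M t) = t := by
    intro t
    rw [← LinearMap.comp_apply, ← LinearMap.lTensor_comp, ← pre₀_comp, e.inv_hom_id, pre₀_id,
      LinearMap.lTensor_id, LinearMap.id_apply]
  have hG : ∀ y : Ext Z' G n, preG₀ e.inv n (preG₀ e.hom n y) = y := by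
    intro y
    rw [← preG₀_comp, e.inv_hom_id, preG₀_id]
  constructor
  · rw [injective_iff_map_eq_zero]
    intro t ht
    have h1 : theta ρF u hu Z n ((pre₀ ρF e.hom n).lTensor M t) = 0 := by
      rw [theta_pre₀, ht, map_zero]
    have h2 := (injective_iff_map_eq_zero _).1 (h n).1 _ h1
    rw [← hF t, h2, map_zero]
  · intro y
    obtain ⟨s, hs⟩ := (h n).2 (preG₀ e.hom n y)
    refine ⟨(pre₀ ρF e.inv n).lTensor M s, ?_⟩
    rw [theta_pre₀, hs, hG]

theorem bij_biprod {Z₁ Z₂ : 𝒞} (h₁ : Bij ρF u hu Z₁) (h₂ : Bij ρF u hu Z₂) :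
    Bij ρF u hu (Z₁ ⊞ Z₂) := by
  intro n
  have hF : ∀ t : M ⊗[A] E ρF (Z₁ ⊞ Z₂) n,
      (pre₀ ρF biprod.fst n).lTensor M ((pre₀ ρF biprod.inl n).lTensor M t) +
        (pre₀ ρF biprod.snd n).lTensor M ((pre₀ ρF biprod.inr n).lTensor M t) = t := by
    intro t
    rw [← LinearMap.comp_apply, ← LinearMap.comp_apply, ← LinearMap.lTensor_comp,
      ← LinearMap.lTensor_comp, ← pre₀_comp, ← pre₀_comp, ← LinearMap.add_apply,
      ← LinearMap.lTensor_add, ← pre₀_add, biprod.total, pre₀_id, LinearMap.lTensor_id,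
      LinearMap.id_apply]
  have hG : ∀ y : Ext (Z₁ ⊞ Z₂) G n,
      preG₀ biprod.fst n (preG₀ biprod.inl n y) + preG₀ biprod.snd n (preG₀ biprod.inr n y) = y := by
    intro y
    rw [← preG₀_comp, ← preG₀_comp, ← preG₀_add, biprod.total, preG₀_id]
  constructor
  · rw [injective_iff_map_eq_zero]
    intro t ht
    have e1 : theta ρF u hu Z₁ n ((pre₀ ρF biprod.inl n).lTensor M t) = 0 := by
      rw [theta_pre₀, ht, map_zero]
    have e2 : theta ρF u hu Z₂ n ((pre₀ ρF biprod.inr n).lTensor M t) = 0 := by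
      rw [theta_pre₀, ht, map_zero]
    have e1' := (injective_iff_map_eq_zero _).1 (h₁ n).1 _ e1
    have e2' := (injective_iff_map_eq_zero _).1 (h₂ n).1 _ e2
    rw [← hF t, e1', e2', map_zero, map_zero, add_zero]
  · intro y
    obtain ⟨s₁, hs₁⟩ := (h₁ n).2 (preG₀ biprod.inl n y)
    obtain ⟨s₂, hs₂⟩ := (h₂ n).2 (preG₀ biprod.inr n y)
    refine ⟨(pre₀ ρF biprod.fst n).lTensor M s₁ + (pre₀ ρF biprod.snd n).lTensor M s₂, ?_⟩
    rw [map_add, theta_pre₀, theta_pre₀, hs₁, hs₂, hG]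

/-- if the higher Ext groups vanish, bijectivity in degree zero suffices -/
theorem bij_of_acyclic {Z : 𝒞} (hF : ∀ n, Subsingleton (Ext Z F (n + 1)))
    (hG : ∀ n, Subsingleton (Ext Z G (n + 1)))
    (h0 : Function.Bijective (theta ρF u hu Z 0)) : Bij ρF u hu Z := by
  intro n
  cases n with
  | zero => exact h0
  | succ n =>
    haveI : Subsingleton (E ρF Z (n + 1)) := hF n
    haveI : Subsingleton (Ext Z G (n + 1)) := hG n
    haveI : Subsingleton (M ⊗[A] E ρF Z (n + 1)) := by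
      refine ⟨fun s t => ?_⟩
      have key : ∀ r : M ⊗[A] E ρF Z (n + 1), r = 0 := by
        intro r
        induction r using TensorProduct.induction_on with
        | zero => rfl
        | tmul b x => rw [Subsingleton.elim x 0, TensorProduct.tmul_zero]
        | add a b ha hb => rw [ha, hb, add_zero]
      rw [key s, key t]
    exact ⟨fun a b _ => Subsingleton.elim a b, fun y => ⟨0, Subsingleton.elim _ _⟩⟩

end summands

end Groth.Agent.Lib.Helper17.ExtPair
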