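import Mathlib
set_option autoImplicit false
universe w v u t

/-!
# Tensoring Ext groups with a flat algebra (helper17)

`𝒞` abelian with `Ext`; `F G : 𝒞` with actions of commutative rings `A`, `B` (`B` an `A`-algebra),
`u : F ⟶ G` equivariant.  For every object `Z` and degree `n` the map
`Θ : B ⊗[A] Ext Z F n → Ext Z G n`, `b ⊗ x ↦ b • (x ≫ u)`.  It is natural in `Z` for precomposition with
Ext classes of any degree, hence compatible with the contravariant long exact sequence; for flat `B`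
the five lemma gives: `Θ` bijective for `Z₁`, `Z₂` (all degrees) ⇒ bijective for `Z₃` when
`0 → Z₁ → Z₂ → Z₃ → 0` is exact.
-/

open CategoryTheory Abelian TensorProduct Limits

noncomputable section

namespace Groth.Agent.Lib.Helper17.ExtTensor

variable {𝒞 : Type u} [Category.{v} 𝒞] [Abelian 𝒞] [HasExt.{w} 𝒞]

/-- an action of a commutative ring on an object -/
structure Act (A : Type t) [CommRing A] (F : 𝒞) where
  act : A → (F ⟶ F)
  act_one : act 1 = 𝟙 F
  act_mul : ∀ a b, act (a * b) = act a ≫ act b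
  act_add : ∀ a b, act (a + b) = act a + act b

namespace Act
variable {A : Type t} [CommRing A] {F : 𝒞} (ρ : Act A F)

omit [HasExt.{w} 𝒞] in
theorem act_zero : ρ.act 0 = 0 := by
  have h := ρ.act_add 0 0
  rw [add_zero] at h
  exact left_eq_add.mp h

omit [HasExt.{w} 𝒞] in
theorem act_comm (a b : A) : ρ.act a ≫ ρ.act b = ρ.act b ≫ ρ.act a := by
  rw [← ρ.act_mul, ← ρ.act_mul, mul_comm]

end Act

/-- `Ext Z F n` as an `A`-module through an action `ρ` on `F` -/
def E {A : Type t} [CommRing A] {F : 𝒞} (_ρ : Act A F) (Z : 𝒞) (n : ℕ) : Type w := Ext Z F n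

section module
variable {A : Type t} [CommRing A] {F : 𝒞} (ρ : Act A F) (Z : 𝒞) (n : ℕ)

instance : AddCommGroup (E ρ Z n) := inferInstanceAs (AddCommGroup (Ext Z F n))

/-- the underlying Ext class -/
def E.toExt {ρ : Act A F} {Z : 𝒞} {n : ℕ} (x : E ρ Z n) : Ext Z F n := x
/-- an Ext class as an element of `E` -/
def E.of (ρ : Act A F) {Z : 𝒞} {n : ℕ} (x : Ext Z F n) : E ρ Z n := x

instance : Module A (E ρ Z n) where
  smul a x := E.of ρ (x.toExt.comp (Ext.mk₀ (ρ.act a)) (add_zero n))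
  one_smul x := by
    change (x.toExt.comp (Ext.mk₀ (ρ.act 1)) (add_zero n)) = x.toExt
    rw [ρ.act_one, Ext.comp_mk₀_id]
  mul_smul a b x := by
    change (x.toExt.comp (Ext.mk₀ (ρ.act (a * b))) (add_zero n)) =
      (x.toExt.comp (Ext.mk₀ (ρ.act b)) (add_zero n)).comp (Ext.mk₀ (ρ.act a)) (add_zero n)
    rw [Ext.comp_assoc_of_third_deg_zero, Ext.mk₀_comp_mk₀, ← ρ.act_mul, mul_comm]
  smul_zero a := by
    change ((0 : Ext Z F n).comp (Ext.mk₀ (ρ.act a)) (add_zero n)) = 0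
    rw [Ext.zero_comp]
  smul_add a x y := by
    change ((x.toExt + y.toExt).comp (Ext.mk₀ (ρ.act a)) (add_zero n)) =
      x.toExt.comp (Ext.mk₀ (ρ.act a)) (add_zero n) + y.toExt.comp (Ext.mk₀ (ρ.act a)) (add_zero n)
    rw [Ext.add_comp]
  add_smul a b x := by
    change (x.toExt.comp (Ext.mk₀ (ρ.act (a + b))) (add_zero n)) =
      x.toExt.comp (Ext.mk₀ (ρ.act a)) (add_zero n) + x.toExt.comp (Ext.mk₀ (ρ.act b)) (add_zero n)
    rw [ρ.act_add, Ext.mk₀_add, Ext.comp_add]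
  zero_smul x := by
    change (x.toExt.comp (Ext.mk₀ (ρ.act 0)) (add_zero n)) = 0
    rw [ρ.act_zero, Ext.mk₀_zero, Ext.comp_zero]

theorem smul_def (a : A) (x : E ρ Z n) :
    a • x = E.of ρ (x.toExt.comp (Ext.mk₀ (ρ.act a)) (add_zero n)) := rfl

end module

section precomp
variable {A : Type t} [CommRing A] {F : 𝒞} (ρ : Act A F)

/-- precomposition with an Ext class, as a linear map -/
def pre {Z Z' : 𝒞} {k : ℕ} (z : Ext Z' Z k) {n m : ℕ} (h : k + n = m) : E ρ Z n →ₗ[A] E ρ Z' m where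
  toFun x := E.of ρ (z.comp x.toExt h)
  map_add' x y := by
    change z.comp (x.toExt + y.toExt) h = z.comp x.toExt h + z.comp y.toExt h
    rw [Ext.comp_add]
  map_smul' a x := by
    change z.comp (x.toExt.comp (Ext.mk₀ (ρ.act a)) (add_zero n)) h =
      (z.comp x.toExt h).comp (Ext.mk₀ (ρ.act a)) (add_zero m)
    rw [Ext.comp_assoc_of_third_deg_zero]

theorem pre_apply {Z Z' : 𝒞} {k : ℕ} (z : Ext Z' Z k) {n m : ℕ} (h : k + n = m) (x : E ρ Z n) :
    pre ρ z h x = E.of ρ (z.comp x.toExt h) := rfl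

end precomp

section theta

variable {A : Type t} [CommRing A] {B : Type t} [CommRing B] [Algebra A B]
variable {F G : 𝒞} (ρF : Act A F) (ρG : Act B G) (u : F ⟶ G)
  (hu : ∀ a : A, ρF.act a ≫ u = u ≫ ρG.act (algebraMap A B a))

/-- postcomposition with `u` -/
def post (Z : 𝒞) (n : ℕ) : E ρF Z n →+ E ρG Z n where
  toFun x := E.of ρG (x.toExt.comp (Ext.mk₀ u) (add_zero n))
  map_zero' := by
    change (0 : Ext Z F n).comp (Ext.mk₀ u) (add_zero n) = 0
    rw [Ext.zero_comp]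
  map_add' x y := by
    change (x.toExt + y.toExt).comp (Ext.mk₀ u) (add_zero n) = _
    rw [Ext.add_comp]; rfl

include hu in
theorem post_smul (Z : 𝒞) (n : ℕ) (a : A) (x : E ρF Z n) :
    post ρF ρG u Z n (a • x) = algebraMap A B a • post ρF ρG u Z n x := by
  change (x.toExt.comp (Ext.mk₀ (ρF.act a)) (add_zero n)).comp (Ext.mk₀ u) (add_zero n) =
    (x.toExt.comp (Ext.mk₀ u) (add_zero n)).comp (Ext.mk₀ (ρG.act (algebraMap A B a))) (add_zero n)
  rw [Ext.comp_assoc_of_third_deg_zero, Ext.comp_assoc_of_third_deg_zero, Ext.mk₀_comp_mk₀,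
    Ext.mk₀_comp_mk₀, hu]

/-- the bi-additive map `(b, x) ↦ b • (x ≫ u)` -/
def thetaBi (Z : 𝒞) (n : ℕ) : B →+ E ρF Z n →+ E ρG Z n where
  toFun b :=
    { toFun := fun x => b • post ρF ρG u Z n x
      map_zero' := by rw [map_zero, smul_zero]
      map_add' := fun x y => by rw [map_add, smul_add] }
  map_zero' := by
    ext x
    change (0 : B) • post ρF ρG u Z n x = 0
    rw [zero_smul]
  map_add' b b' := by
    ext x
    change (b + b') • post ρF ρG u Z n x = b • post ρF ρG u Z n x + b' • post ρF ρG u Z n x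
    rw [add_smul]

/-- **the comparison map** `B ⊗[A] Ext Z F n → Ext Z G n` -/
def theta (Z : 𝒞) (n : ℕ) : B ⊗[A] E ρF Z n →+ E ρG Z n :=
  TensorProduct.liftAddHom (thetaBi ρF ρG u Z n) (fun a b x => by
    change (a • b) • post ρF ρG u Z n x = b • post ρF ρG u Z n (a • x)
    rw [post_smul ρF ρG u hu, smul_smul, Algebra.smul_def, mul_comm])

theorem theta_tmul (Z : 𝒞) (n : ℕ) (b : B) (x : E ρF Z n) :
    theta ρF ρG u hu Z n (b ⊗ₜ[A] x) = b • post ρF ρG u Z n x := rfl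

theorem theta_smul (Z : 𝒞) (n : ℕ) (b : B) (t : B ⊗[A] E ρF Z n) :
    theta ρF ρG u hu Z n (b • t) = b • theta ρF ρG u hu Z n t := by
  induction t using TensorProduct.induction_on with
  | zero => rw [smul_zero, map_zero, smul_zero]
  | tmul c x => rw [TensorProduct.smul_tmul', theta_tmul, theta_tmul, smul_eq_mul, mul_smul]
  | add s t hs ht => rw [smul_add, map_add, map_add, hs, ht, smul_add]

/-- naturality of `theta` with respect to precomposition -/
theorem theta_pre {Z Z' : 𝒞} {k : ℕ} (z : Ext Z' Z k) {n m : ℕ} (h : k + n = m)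
    (t : B ⊗[A] E ρF Z n) :
    theta ρF ρG u hu Z' m ((pre ρF z h).lTensor B t) = pre ρG z h (theta ρF ρG u hu Z n t) := by
  induction t using TensorProduct.induction_on with
  | zero => rw [map_zero, map_zero, map_zero, map_zero]
  | tmul b x =>
    rw [LinearMap.lTensor_tmul, theta_tmul, theta_tmul, (pre ρG z h).map_smul]
    congr 1
    change (z.comp x.toExt h).comp (Ext.mk₀ u) (add_zero m) =
      z.comp (x.toExt.comp (Ext.mk₀ u) (add_zero n)) h
    rw [Ext.comp_assoc_of_third_deg_zero]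
  | add s t hs ht => rw [map_add, map_add, map_add, map_add, hs, ht]

/-- `theta` is bijective in all degrees -/
def Bij (Z : 𝒞) : Prop := ∀ n, Function.Bijective (theta ρF ρG u hu Z n)

end theta


section exact
variable {A : Type t} [CommRing A] {F : 𝒞} (ρ : Act A F)
variable {S : ShortComplex 𝒞} (hS : S.ShortExact)

theorem exact_pre_f_extClass (n₀ n₁ : ℕ) (h : 1 + n₀ = n₁) :
    Function.Exact (pre ρ (Ext.mk₀ S.f) (zero_add n₀)) (pre ρ hS.extClass h) := by
  intro y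
  constructor
  · intro hy
    obtain ⟨x, hx⟩ := Ext.contravariant_sequence_exact₁ hS F y.toExt h hy
    exact ⟨E.of ρ x, hx⟩
  · rintro ⟨x, rfl⟩
    change hS.extClass.comp ((Ext.mk₀ S.f).comp x.toExt (zero_add n₀)) h = 0
    rw [ShortComplex.ShortExact.extClass_comp_assoc]

theorem exact_pre_extClass_g (n₀ n₁ : ℕ) (h : 1 + n₀ = n₁) :
    Function.Exact (pre ρ hS.extClass h) (pre ρ (Ext.mk₀ S.g) (zero_add n₁)) := by
  intro y
  constructor
  · intro hy
    obtain ⟨x, hx⟩ := Ext.contravariant_sequence_exact₃ hS F y.toExt hy h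
    exact ⟨E.of ρ x, hx⟩
  · rintro ⟨x, rfl⟩
    change (Ext.mk₀ S.g).comp (hS.extClass.comp x.toExt h) (zero_add n₁) = 0
    rw [ShortComplex.ShortExact.comp_extClass_assoc]

include hS in
theorem exact_pre_g_f (n : ℕ) :
    Function.Exact (pre ρ (Ext.mk₀ S.g) (zero_add n)) (pre ρ (Ext.mk₀ S.f) (zero_add n)) := by
  intro y
  constructor
  · intro hy
    obtain ⟨x, hx⟩ := Ext.contravariant_sequence_exact₂ hS F y.toExt hy
    exact ⟨E.of ρ x, hx⟩
  · rintro ⟨x, rfl⟩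
    change (Ext.mk₀ S.f).comp ((Ext.mk₀ S.g).comp x.toExt (zero_add n)) (zero_add n) = 0
    rw [Ext.mk₀_comp_mk₀_assoc, S.zero, Ext.mk₀_zero, Ext.zero_comp]

include hS in
theorem pre_g_injective : Function.Injective (pre ρ (Ext.mk₀ S.g) (zero_add 0)) := by
  haveI := hS.epi_g
  exact Ext.precomp_mk₀_injective_of_epi F S.g

end exact

section step

variable {A : Type t} [CommRing A] {B : Type t} [CommRing B] [Algebra A B]
variable {F G : 𝒞} (ρF : Act A F) (ρG : Act B G) (u : F ⟶ G)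
  (hu : ∀ a : A, ρF.act a ≫ u = u ≫ ρG.act (algebraMap A B a))

/-- the top-row map, as an additive map -/
def preT {Z Z' : 𝒞} {k : ℕ} (z : Ext Z' Z k) {n m : ℕ} (h : k + n = m) :
    B ⊗[A] E ρF Z n →+ B ⊗[A] E ρF Z' m :=
  ((pre ρF z h).lTensor B).toAddMonoidHom

theorem theta_comm {Z Z' : 𝒞} {k : ℕ} (z : Ext Z' Z k) {n m : ℕ} (h : k + n = m) :
    (pre ρG z h).toAddMonoidHom.comp (theta ρF ρG u hu Z n) =
      (theta ρF ρG u hu Z' m).comp (preT ρF z h) := by
  ext t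
  exact (theta_pre ρF ρG u hu z h t).symm

variable [Module.Flat A B] {S : ShortComplex 𝒞} (hS : S.ShortExact)

include hS in
/-- **the five lemma step** -/
theorem bij_of_shortExact (h₁ : Bij ρF ρG u hu S.X₁) (h₂ : Bij ρF ρG u hu S.X₂) :
    Bij ρF ρG u hu S.X₃ := by
  intro n
  cases n with
  | zero =>
    refine AddMonoidHom.bijective_of_bijective_of_injective_of_left_exact
      (f₁ := preT ρF (Ext.mk₀ S.g) (zero_add 0)) (f₂ := preT ρF (Ext.mk₀ S.f) (zero_add 0))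
      (g₁ := (pre ρG (Ext.mk₀ S.g) (zero_add 0)).toAddMonoidHom)
      (g₂ := (pre ρG (Ext.mk₀ S.f) (zero_add 0)).toAddMonoidHom)
      (i₁ := theta ρF ρG u hu S.X₃ 0) (i₂ := theta ρF ρG u hu S.X₂ 0) (i₃ := theta ρF ρG u hu S.X₁ 0)
      (theta_comm ρF ρG u hu _ _) (theta_comm ρF ρG u hu _ _) ?_ ?_ (h₂ 0) (h₁ 0).1 ?_ ?_
    · exact Module.Flat.lTensor_exact B (exact_pre_g_f ρF hS 0)
    · exact exact_pre_g_f ρG hS 0
    · exact Module.Flat.lTensor_preserves_injective_linearMap _ (pre_g_injective ρF hS)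
    · exact pre_g_injective ρG hS
  | succ n =>
    have h : 1 + n = n + 1 := add_comm 1 n
    refine AddMonoidHom.bijective_of_surjective_of_bijective_of_bijective_of_injective
      (f₁ := preT ρF (Ext.mk₀ S.f) (zero_add n)) (f₂ := preT ρF hS.extClass h)
      (f₃ := preT ρF (Ext.mk₀ S.g) (zero_add (n + 1))) (f₄ := preT ρF (Ext.mk₀ S.f) (zero_add (n + 1)))
      (g₁ := (pre ρG (Ext.mk₀ S.f) (zero_add n)).toAddMonoidHom)
      (g₂ := (pre ρG hS.extClass h).toAddMonoidHom)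
      (g₃ := (pre ρG (Ext.mk₀ S.g) (zero_add (n + 1))).toAddMonoidHom)
      (g₄ := (pre ρG (Ext.mk₀ S.f) (zero_add (n + 1))).toAddMonoidHom)
      (i₁ := theta ρF ρG u hu S.X₂ n) (i₂ := theta ρF ρG u hu S.X₁ n)
      (i₃ := theta ρF ρG u hu S.X₃ (n + 1)) (i₄ := theta ρF ρG u hu S.X₂ (n + 1))
      (i₅ := theta ρF ρG u hu S.X₁ (n + 1))
      (theta_comm ρF ρG u hu _ _) (theta_comm ρF ρG u hu _ _) (theta_comm ρF ρG u hu _ _)
      (theta_comm ρF ρG u hu _ _) ?_ ?_ ?_ ?_ ?_ ?_ (h₂ n).2 (h₁ n) (h₂ (n + 1)) (h₁ (n + 1)).1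
    · exact Module.Flat.lTensor_exact B (exact_pre_f_extClass ρF hS n (n + 1) h)
    · exact Module.Flat.lTensor_exact B (exact_pre_extClass_g ρF hS n (n + 1) h)
    · exact Module.Flat.lTensor_exact B (exact_pre_g_f ρF hS (n + 1))
    · exact exact_pre_f_extClass ρG hS n (n + 1) h
    · exact exact_pre_extClass_g ρG hS n (n + 1) h
    · exact exact_pre_g_f ρG hS (n + 1)

end step


section pre₀
variable {A : Type t} [CommRing A] {F : 𝒞} (ρ : Act A F)

/-- precomposition with a morphism -/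
def pre₀ {Z Z' : 𝒞} (φ : Z' ⟶ Z) (n : ℕ) : E ρ Z n →ₗ[A] E ρ Z' n := pre ρ (Ext.mk₀ φ) (zero_add n)

theorem pre₀_id (Z : 𝒞) (n : ℕ) : pre₀ ρ (𝟙 Z) n = LinearMap.id := by
  ext x
  change (Ext.mk₀ (𝟙 Z)).comp x.toExt (zero_add n) = x.toExt
  rw [Ext.mk₀_id_comp]

theorem pre₀_comp {Z Z' Z'' : 𝒞} (φ : Z'' ⟶ Z') (ψ : Z' ⟶ Z) (n : ℕ) :
    pre₀ ρ (φ ≫ ψ) n = (pre₀ ρ φ n).comp (pre₀ ρ ψ n) := by
  ext x
  change (Ext.mk₀ (φ ≫ ψ)).comp x.toExt (zero_add n) =
    (Ext.mk₀ φ).comp ((Ext.mk₀ ψ).comp x.toExt (zero_add n)) (zero_add n)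
  rw [Ext.mk₀_comp_mk₀_assoc]

theorem pre₀_add {Z Z' : 𝒞} (φ ψ : Z' ⟶ Z) (n : ℕ) :
    pre₀ ρ (φ + ψ) n = pre₀ ρ φ n + pre₀ ρ ψ n := by
  ext x
  change (Ext.mk₀ (φ + ψ)).comp x.toExt (zero_add n) =
    (Ext.mk₀ φ).comp x.toExt (zero_add n) + (Ext.mk₀ ψ).comp x.toExt (zero_add n)
  rw [Ext.mk₀_add, Ext.add_comp]

end pre₀

section summands

variable {A : Type t} [CommRing A] {B : Type t} [CommRing B] [Algebra A B]
variable {F G : 𝒞} (ρF : Act A F) (ρG : Act B G) (u : F ⟶ G)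
  (hu : ∀ a : A, ρF.act a ≫ u = u ≫ ρG.act (algebraMap A B a))

theorem theta_pre₀ {Z Z' : 𝒞} (φ : Z' ⟶ Z) (n : ℕ) (t : B ⊗[A] E ρF Z n) :
    theta ρF ρG u hu Z' n ((pre₀ ρF φ n).lTensor B t) = pre₀ ρG φ n (theta ρF ρG u hu Z n t) :=
  theta_pre ρF ρG u hu (Ext.mk₀ φ) (zero_add n) t

theorem bij_of_iso {Z Z' : 𝒞} (e : Z ≅ Z') (h : Bij ρF ρG u hu Z) : Bij ρF ρG u hu Z' := by
  intro n
  have hF : ∀ t : B ⊗[A] E ρF Z' n,
      (pre₀ ρF e.inv n).lTensor B ((pre₀ ρF e.hom n).lTensor B t) = t := by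
    intro t
    rw [← LinearMap.comp_apply, ← LinearMap.lTensor_comp, ← pre₀_comp, e.inv_hom_id, pre₀_id,
      LinearMap.lTensor_id, LinearMap.id_apply]
  have hG : ∀ y : E ρG Z' n, pre₀ ρG e.inv n (pre₀ ρG e.hom n y) = y := by
    intro y
    rw [← LinearMap.comp_apply, ← pre₀_comp, e.inv_hom_id, pre₀_id, LinearMap.id_apply]
  constructor
  · rw [injective_iff_map_eq_zero]
    intro t ht
    have h1 : theta ρF ρG u hu Z n ((pre₀ ρF e.hom n).lTensor B t) = 0 := by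
      rw [theta_pre₀, ht, map_zero]
    have h2 := (injective_iff_map_eq_zero _).1 (h n).1 _ h1
    rw [← hF t, h2, map_zero]
  · intro y
    obtain ⟨s, hs⟩ := (h n).2 (pre₀ ρG e.hom n y)
    refine ⟨(pre₀ ρF e.inv n).lTensor B s, ?_⟩
    rw [theta_pre₀, hs, hG]

theorem bij_biprod {Z₁ Z₂ : 𝒞} (h₁ : Bij ρF ρG u hu Z₁) (h₂ : Bij ρF ρG u hu Z₂) :
    Bij ρF ρG u hu (Z₁ ⊞ Z₂) := by
  intro n
  have hF : ∀ t : B ⊗[A] E ρF (Z₁ ⊞ Z₂) n,
      (pre₀ ρF biprod.fst n).lTensor B ((pre₀ ρF biprod.inl n).lTensor B t) +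
        (pre₀ ρF biprod.snd n).lTensor B ((pre₀ ρF biprod.inr n).lTensor B t) = t := by
    intro t
    rw [← LinearMap.comp_apply, ← LinearMap.comp_apply, ← LinearMap.lTensor_comp,
      ← LinearMap.lTensor_comp, ← pre₀_comp, ← pre₀_comp, ← LinearMap.add_apply,
      ← LinearMap.lTensor_add, ← pre₀_add, biprod.total, pre₀_id, LinearMap.lTensor_id,
      LinearMap.id_apply]
  have hG : ∀ y : E ρG (Z₁ ⊞ Z₂) n,
      pre₀ ρG biprod.fst n (pre₀ ρG biprod.inl n y) + pre₀ ρG biprod.snd n (pre₀ ρG biprod.inr n y) = y := by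
    intro y
    rw [← LinearMap.comp_apply, ← LinearMap.comp_apply, ← pre₀_comp, ← pre₀_comp,
      ← LinearMap.add_apply, ← pre₀_add, biprod.total, pre₀_id, LinearMap.id_apply]
  constructor
  · rw [injective_iff_map_eq_zero]
    intro t ht
    have e1 : theta ρF ρG u hu Z₁ n ((pre₀ ρF biprod.inl n).lTensor B t) = 0 := by
      rw [theta_pre₀, ht, map_zero]
    have e2 : theta ρF ρG u hu Z₂ n ((pre₀ ρF biprod.inr n).lTensor B t) = 0 := by
      rw [theta_pre₀, ht, map_zero]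
    have e1' := (injective_iff_map_eq_zero _).1 (h₁ n).1 _ e1
    have e2' := (injective_iff_map_eq_zero _).1 (h₂ n).1 _ e2
    rw [← hF t, e1', e2', map_zero, map_zero, add_zero]
  · intro y
    obtain ⟨s₁, hs₁⟩ := (h₁ n).2 (pre₀ ρG biprod.inl n y)
    obtain ⟨s₂, hs₂⟩ := (h₂ n).2 (pre₀ ρG biprod.inr n y)
    refine ⟨(pre₀ ρF biprod.fst n).lTensor B s₁ + (pre₀ ρF biprod.snd n).lTensor B s₂, ?_⟩
    rw [map_add, theta_pre₀, theta_pre₀, hs₁, hs₂, hG]

/-- if the higher Ext groups vanish, bijectivity in degree zero suffices -/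
theorem bij_of_acyclic {Z : 𝒞} (hF : ∀ n, Subsingleton (Ext Z F (n + 1)))
    (hG : ∀ n, Subsingleton (Ext Z G (n + 1)))
    (h0 : Function.Bijective (theta ρF ρG u hu Z 0)) : Bij ρF ρG u hu Z := by
  intro n
  cases n with
  | zero => exact h0
  | succ n =>
    haveI : Subsingleton (E ρF Z (n + 1)) := hF n
    haveI : Subsingleton (E ρG Z (n + 1)) := hG n
    haveI : Subsingleton (B ⊗[A] E ρF Z (n + 1)) := by
      refine ⟨fun s t => ?_⟩
      have key : ∀ r : B ⊗[A] E ρF Z (n + 1), r = 0 := by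
        intro r
        induction r using TensorProduct.induction_on with
        | zero => rfl
        | tmul b x => rw [Subsingleton.elim x 0, TensorProduct.tmul_zero]
        | add a b ha hb => rw [ha, hb, add_zero]
      rw [key s, key t]
    exact ⟨fun a b _ => Subsingleton.elim a b, fun y => ⟨0, Subsingleton.elim _ _⟩⟩

end summands

end Groth.Agent.Lib.Helper17.ExtTensor
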