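import Groth.Agent.Lib.Helper17.ExtTensor
import Mathlib
set_option autoImplicit false
universe w v u t

/-!
# The comparison map `B ⊗[A] Ext Z F n → Ext Z G n` for a "finite projective" situation (helper17)

If there are finitely many `b j : B`, `lam j : B → A` and retractions `ℓ j : G ⟶ F` with
`u ≫ c ≫ ℓ j = lam j c` (as endomorphisms of `F`), `∑ j, ℓ j ≫ u ≫ b j = 𝟙 G` and `∑ j, lam j c • b j = c`,
then `Θ` is bijective for every `Z` and `n`, with inverse `y ↦ ∑ j, b j ⊗ (y ≫ ℓ j)`.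
-/

open CategoryTheory Abelian TensorProduct Limits

noncomputable section

namespace Groth.Agent.Lib.Helper17.ExtTensor

variable {𝒞 : Type u} [Category.{v} 𝒞] [Abelian 𝒞] [HasExt.{w} 𝒞]
variable {A : Type t} [CommRing A] {B : Type t} [CommRing B] [Algebra A B]
variable {F G : 𝒞} (ρF : Act A F) (ρG : Act B G) (u : F ⟶ G)
  (hu : ∀ a : A, ρF.act a ≫ u = u ≫ ρG.act (algebraMap A B a))

theorem ext_comp_mk₀_sum {Z : 𝒞} {n : ℕ} (y : Ext Z G n) {J : Type*} (s : Finset J) (φ : J → (G ⟶ G)) :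
    y.comp (Ext.mk₀ (∑ j ∈ s, φ j)) (add_zero n) = ∑ j ∈ s, y.comp (Ext.mk₀ (φ j)) (add_zero n) := by
  classical
  induction s using Finset.induction_on with
  | empty => rw [Finset.sum_empty, Finset.sum_empty, Ext.mk₀_zero, Ext.comp_zero]
  | insert a s ha ih => rw [Finset.sum_insert ha, Finset.sum_insert ha, Ext.mk₀_add, Ext.comp_add, ih]

include hu in
theorem bij_of_dualBasis {J : Type} [Fintype J] (b : J → B) (lam : J → B → A) (ℓ : J → (G ⟶ F))
    (h₁ : ∀ j c, u ≫ ρG.act c ≫ ℓ j = ρF.act (lam j c))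
    (h₂ : ∑ j, ℓ j ≫ u ≫ ρG.act (b j) = 𝟙 G)
    (h₃ : ∀ c : B, ∑ j, lam j c • b j = c) (Z : 𝒞) : Bij ρF ρG u hu Z := by
  intro n
  let Ψ : E ρG Z n → B ⊗[A] E ρF Z n := fun y =>
    ∑ j, b j ⊗ₜ[A] E.of ρF (y.toExt.comp (Ext.mk₀ (ℓ j)) (add_zero n))
  have hΨadd : ∀ y y', Ψ (y + y') = Ψ y + Ψ y' := by
    intro y y'
    change ∑ j, b j ⊗ₜ[A] E.of ρF ((y.toExt + y'.toExt).comp (Ext.mk₀ (ℓ j)) (add_zero n)) = _
    rw [← Finset.sum_add_distrib]
    refine Finset.sum_congr rfl fun j _ => ?_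
    rw [← TensorProduct.tmul_add]
    congr 1
    exact Ext.add_comp _ _ _ _
  have hl : ∀ y, theta ρF ρG u hu Z n (Ψ y) = y := by
    intro y
    change theta ρF ρG u hu Z n (∑ j, b j ⊗ₜ[A] E.of ρF (y.toExt.comp (Ext.mk₀ (ℓ j)) (add_zero n))) = y
    rw [map_sum]
    have : ∀ j, theta ρF ρG u hu Z n (b j ⊗ₜ[A] E.of ρF (y.toExt.comp (Ext.mk₀ (ℓ j)) (add_zero n))) =
        E.of ρG (y.toExt.comp (Ext.mk₀ (ℓ j ≫ u ≫ ρG.act (b j))) (add_zero n)) := by
      intro j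
      rw [theta_tmul]
      change ((y.toExt.comp (Ext.mk₀ (ℓ j)) (add_zero n)).comp (Ext.mk₀ u) (add_zero n)).comp
        (Ext.mk₀ (ρG.act (b j))) (add_zero n) = _
      rw [Ext.comp_assoc_of_third_deg_zero, Ext.comp_assoc_of_third_deg_zero, Ext.mk₀_comp_mk₀,
        Ext.mk₀_comp_mk₀]
      rfl
    rw [Finset.sum_congr rfl fun j _ => this j]
    change ∑ j, y.toExt.comp (Ext.mk₀ (ℓ j ≫ u ≫ ρG.act (b j))) (add_zero n) = y.toExt
    rw [← ext_comp_mk₀_sum, h₂, Ext.comp_mk₀_id]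
  have hr : ∀ t, Ψ (theta ρF ρG u hu Z n t) = t := by
    intro t
    induction t using TensorProduct.induction_on with
    | zero =>
      rw [map_zero]
      change ∑ j, b j ⊗ₜ[A] E.of ρF ((0 : Ext Z G n).comp (Ext.mk₀ (ℓ j)) (add_zero n)) = 0
      refine Finset.sum_eq_zero fun j _ => ?_
      rw [Ext.zero_comp]
      exact TensorProduct.tmul_zero _ _
    | tmul c x =>
      rw [theta_tmul]
      change ∑ j, b j ⊗ₜ[A] E.of ρF (((x.toExt.comp (Ext.mk₀ u) (add_zero n)).comp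
        (Ext.mk₀ (ρG.act c)) (add_zero n)).comp (Ext.mk₀ (ℓ j)) (add_zero n)) = _
      have : ∀ j, b j ⊗ₜ[A] E.of ρF (((x.toExt.comp (Ext.mk₀ u) (add_zero n)).comp
          (Ext.mk₀ (ρG.act c)) (add_zero n)).comp (Ext.mk₀ (ℓ j)) (add_zero n)) =
          (lam j c • b j) ⊗ₜ[A] x := by
        intro j
        rw [TensorProduct.smul_tmul]
        congr 1
        change _ = x.toExt.comp (Ext.mk₀ (ρF.act (lam j c))) (add_zero n)
        rw [Ext.comp_assoc_of_third_deg_zero, Ext.comp_assoc_of_third_deg_zero, Ext.mk₀_comp_mk₀,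
          Ext.mk₀_comp_mk₀, h₁]
        rfl
      rw [Finset.sum_congr rfl fun j _ => this j, ← TensorProduct.sum_tmul, h₃]
    | add s t hs ht => rw [map_add, hΨadd, hs, ht]
  exact ⟨Function.LeftInverse.injective hr, Function.RightInverse.surjective hl⟩

end Groth.Agent.Lib.Helper17.ExtTensor
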