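import Groth.Prelude.Def_FlatMod2
import Mathlib
set_option backward.isDefEq.respectTransparency.types false
set_option autoImplicit false
universe u
open AlgebraicGeometry CategoryTheory Opposite TopologicalSpace CategoryTheory.Limits

namespace Groth.Agent.Lib.Helper17.FD1

open TensorProduct in
/-- if `M` is a faithfully flat `B`-module which is flat over `A`, then `B` is flat over `A` -/
theorem flat_of_faithfullyFlat_module (A B M : Type u) [CommRing A] [CommRing B] [Algebra A B]
    [AddCommGroup M] [Module A M] [Module B M] [IsScalarTower A B M] [Module.Flat A M]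
    [Module.FaithfullyFlat B M] : Module.Flat A B := by
  rw [Module.Flat.iff_lTensor_injective']
  intro I
  have h1 : Function.Injective ((I.subtype.baseChange B).lTensor M) := by
    have hM : Function.Injective (I.subtype.lTensor M) :=
      Module.Flat.lTensor_preserves_injective_linearMap I.subtype Subtype.val_injective
    let e1 := TensorProduct.AlgebraTensorModule.cancelBaseChange A B B M I
    let e2 := TensorProduct.AlgebraTensorModule.cancelBaseChange A B B M A
    have hsq : ∀ t, e2 ((I.subtype.baseChange B).lTensor M t) = I.subtype.lTensor M (e1 t) := by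
      intro t
      induction t using TensorProduct.induction_on with
      | zero => simp
      | add x y hx hy => rw [map_add, map_add, map_add, map_add, hx, hy]
      | tmul m s =>
        induction s using TensorProduct.induction_on with
        | zero => simp
        | add x y hx hy => rw [TensorProduct.tmul_add, map_add, map_add, map_add, map_add, hx, hy]
        | tmul b i => rfl
    intro s t hst
    apply e1.injective
    apply hM
    rw [← hsq, ← hsq, hst]
  exact (Module.FaithfullyFlat.lTensor_injective_iff_injective B M (I.subtype.baseChange B)).1 h1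

/-- a flat module over a local ring with `m M ≠ M` is faithfully flat -/
theorem faithfullyFlat_of_local (B M : Type u) [CommRing B] [IsLocalRing B] [AddCommGroup M] [Module B M]
    [Module.Flat B M] (h : IsLocalRing.maximalIdeal B • (⊤ : Submodule B M) ≠ ⊤) :
    Module.FaithfullyFlat B M where
  submodule_ne_top m hm := by
    rw [IsLocalRing.eq_maximalIdeal hm]
    exact h

variable {X Y Z : Scheme.{u}} (f : X ⟶ Y) (g : Y ⟶ Z) (F : X.Modules) (x : X)

/-- the tower of stalks `O_{Z,gfx} → O_{Y,fx} → F_x` -/
theorem stalkMap_comp_apply (a : Z.presheaf.stalk ((f ≫ g) x)) :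
    ((f ≫ g).stalkMap x).hom a = (f.stalkMap x).hom ((g.stalkMap (f x)).hom a) := by
  rw [Scheme.Hom.stalkMap_comp]
  rfl

theorem smulOver_comp (a : Z.presheaf.stalk ((f ≫ g) x)) (m : F.presheaf.stalk x) :
    (letI := FlatMod.moduleStalkOver (f ≫ g) F x; a • m) =
    (letI := FlatMod.moduleStalkOver f F x; ((g.stalkMap (f x)).hom a) • m) := by
  change ((f ≫ g).stalkMap x).hom a • m = (f.stalkMap x).hom ((g.stalkMap (f x)).hom a) • m
  rw [stalkMap_comp_apply]

/-- flatness over `Y` and flatness of `Y → Z` give flatness over `Z` -/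
theorem isFlatOverAt_comp (hF : FlatMod.IsFlatOverAt f F x) (hg : (g.stalkMap (f x)).hom.Flat) :
    FlatMod.IsFlatOverAt (f ≫ g) F x := by
  letI : Algebra (Z.presheaf.stalk ((f ≫ g) x)) (Y.presheaf.stalk (f x)) := (g.stalkMap (f x)).hom.toAlgebra
  letI := FlatMod.moduleStalkOver f F x
  letI := FlatMod.moduleStalkOver (f ≫ g) F x
  haveI : IsScalarTower (Z.presheaf.stalk ((f ≫ g) x)) (Y.presheaf.stalk (f x)) (F.presheaf.stalk x) := by
    refine ⟨fun a b m => ?_⟩
    rw [Algebra.smul_def, mul_smul]
    exact (smulOver_comp f g F x a (b • m)).symm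
  haveI : Module.Flat (Z.presheaf.stalk ((f ≫ g) x)) (Y.presheaf.stalk (f x)) := hg
  haveI : Module.Flat (Y.presheaf.stalk (f x)) (F.presheaf.stalk x) := hF
  exact Module.Flat.trans (Z.presheaf.stalk ((f ≫ g) x)) (Y.presheaf.stalk (f x)) (F.presheaf.stalk x)

/-- descent of flatness of `Y → Z` from a module faithfully flat over `Y` and flat over `Z` -/
theorem flat_stalkMap_of_isFlatOverAt_comp (hF : FlatMod.IsFlatOverAt f F x)
    (hne : letI := FlatMod.moduleStalkOver f F x
      IsLocalRing.maximalIdeal (Y.presheaf.stalk (f x)) •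
        (⊤ : Submodule (Y.presheaf.stalk (f x)) (F.presheaf.stalk x)) ≠ ⊤)
    (hZ : FlatMod.IsFlatOverAt (f ≫ g) F x) : (g.stalkMap (f x)).hom.Flat := by
  letI : Algebra (Z.presheaf.stalk ((f ≫ g) x)) (Y.presheaf.stalk (f x)) := (g.stalkMap (f x)).hom.toAlgebra
  letI := FlatMod.moduleStalkOver f F x
  letI := FlatMod.moduleStalkOver (f ≫ g) F x
  haveI : IsScalarTower (Z.presheaf.stalk ((f ≫ g) x)) (Y.presheaf.stalk (f x)) (F.presheaf.stalk x) := by
    refine ⟨fun a b m => ?_⟩
    rw [Algebra.smul_def, mul_smul]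
    exact (smulOver_comp f g F x a (b • m)).symm
  haveI : Module.Flat (Z.presheaf.stalk ((f ≫ g) x)) (F.presheaf.stalk x) := hZ
  haveI : Module.Flat (Y.presheaf.stalk (f x)) (F.presheaf.stalk x) := hF
  haveI : Module.FaithfullyFlat (Y.presheaf.stalk (f x)) (F.presheaf.stalk x) :=
    faithfullyFlat_of_local _ _ hne
  exact flat_of_faithfullyFlat_module (Z.presheaf.stalk ((f ≫ g) x)) (Y.presheaf.stalk (f x))
    (F.presheaf.stalk x)

/-- a nonzero fibre over `Y` gives a nonzero fibre over `Z` -/
theorem fibre_ne_top_comp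
    (hne : letI := FlatMod.moduleStalkOver f F x
      IsLocalRing.maximalIdeal (Y.presheaf.stalk (f x)) •
        (⊤ : Submodule (Y.presheaf.stalk (f x)) (F.presheaf.stalk x)) ≠ ⊤) :
    letI := FlatMod.moduleStalkOver (f ≫ g) F x
    IsLocalRing.maximalIdeal (Z.presheaf.stalk ((f ≫ g) x)) •
      (⊤ : Submodule (Z.presheaf.stalk ((f ≫ g) x)) (F.presheaf.stalk x)) ≠ ⊤ := by
  intro htop
  apply hne
  rw [eq_top_iff]
  intro m _
  letI := FlatMod.moduleStalkOver (f ≫ g) F x
  have hm : m ∈ IsLocalRing.maximalIdeal (Z.presheaf.stalk ((f ≫ g) x)) •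
      (⊤ : Submodule (Z.presheaf.stalk ((f ≫ g) x)) (F.presheaf.stalk x)) := by
    rw [htop]; trivial
  refine Submodule.smul_induction_on hm ?_ ?_
  · intro a ha n _
    rw [smulOver_comp f g F x a n]
    letI := FlatMod.moduleStalkOver f F x
    refine Submodule.smul_mem_smul ?_ trivial
    have : IsLocalHom (g.stalkMap (f x)).hom := g.prop (f x)
    exact (IsLocalRing.mem_maximalIdeal _).2 (fun hu => (IsLocalRing.mem_maximalIdeal _).1 ha
      (this.map_nonunit a hu))
  · intro m₁ m₂ h₁ h₂
    exact Submodule.add_mem _ h₁ h₂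

end Groth.Agent.Lib.Helper17.FD1
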