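import Mathlib
set_option backward.isDefEq.respectTransparency.types false
set_option autoImplicit false
universe u
open TensorProduct

namespace Groth.Agent.Lib.Helper17.FD3

variable (A B' : Type u) [CommRing A] [CommRing B'] [Algebra A B']
  (P G : Type u) [AddCommGroup P] [AddCommGroup G] [Module B' P] [Module A P] [IsScalarTower A B' P]
  [Module B' G] [Module A G] [IsScalarTower A B' G]

/-- the associativity square for `lTensor` -/
theorem assoc_lTensor {N N' : Type u} [AddCommGroup N] [AddCommGroup N'] [Module A N] [Module A N']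
    (φ : N →ₗ[A] N') (t : (P ⊗[B'] G) ⊗[A] N) :
    AlgebraTensorModule.assoc A B' B' P G N' (φ.lTensor (P ⊗[B'] G) t) =
      (AlgebraTensorModule.lTensor B' G φ).lTensor P (AlgebraTensorModule.assoc A B' B' P G N t) := by
  induction t using TensorProduct.induction_on with
  | zero => simp
  | add x y hx hy => rw [map_add, map_add, map_add, map_add, hx, hy]
  | tmul w n =>
    induction w using TensorProduct.induction_on with
    | zero => simp
    | add x y hx hy => rw [TensorProduct.add_tmul, map_add, map_add, map_add, map_add, hx, hy]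
    | tmul p g => rfl

/-- **W1**: `P` flat over `B'`, `G` flat over `A` ⇒ `P ⊗_{B'} G` flat over `A` -/
theorem flat_tensor [Module.Flat B' P] [Module.Flat A G] : Module.Flat A (P ⊗[B'] G) := by
  rw [Module.Flat.iff_lTensor_injective']
  intro I
  have hG : Function.Injective (AlgebraTensorModule.lTensor B' G I.subtype) :=
    Module.Flat.lTensor_preserves_injective_linearMap (M := G) I.subtype Subtype.val_injective
  have hP : Function.Injective ((AlgebraTensorModule.lTensor B' G I.subtype).lTensor P) :=
    Module.Flat.lTensor_preserves_injective_linearMap _ hG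
  intro s t hst
  apply (AlgebraTensorModule.assoc A B' B' P G I).injective
  apply hP
  rw [← assoc_lTensor, ← assoc_lTensor, hst]

/-- **W2**: `P` faithfully flat over `B'`, `P ⊗_{B'} G` flat over `A` ⇒ `G` flat over `A` -/
theorem flat_of_flat_tensor [Module.FaithfullyFlat B' P] [Module.Flat A (P ⊗[B'] G)] : Module.Flat A G := by
  rw [Module.Flat.iff_lTensor_injective']
  intro I
  have hW : Function.Injective (I.subtype.lTensor (P ⊗[B'] G)) :=
    Module.Flat.lTensor_preserves_injective_linearMap I.subtype Subtype.val_injective
  have hP : Function.Injective ((AlgebraTensorModule.lTensor B' G I.subtype).lTensor P) := by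
    intro s t hst
    obtain ⟨s', rfl⟩ := (AlgebraTensorModule.assoc A B' B' P G I).surjective s
    obtain ⟨t', rfl⟩ := (AlgebraTensorModule.assoc A B' B' P G I).surjective t
    rw [← assoc_lTensor, ← assoc_lTensor] at hst
    rw [hW ((AlgebraTensorModule.assoc A B' B' P G A).injective hst)]
  exact (Module.FaithfullyFlat.lTensor_injective_iff_injective B' P
    (AlgebraTensorModule.lTensor B' G I.subtype)).1 hP

/-- **W3**: `J G = G` ⇒ `J (P ⊗ G) = P ⊗ G` -/
theorem smul_top_tensor_eq_top (J : Ideal A) (h : J • (⊤ : Submodule A G) = ⊤) :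
    J • (⊤ : Submodule A (P ⊗[B'] G)) = ⊤ := by
  rw [eq_top_iff]
  intro t _
  induction t using TensorProduct.induction_on with
  | zero => exact Submodule.zero_mem _
  | add x y hx hy => exact Submodule.add_mem _ (hx trivial) (hy trivial)
  | tmul p g =>
    have hg : g ∈ J • (⊤ : Submodule A G) := by rw [h]; trivial
    refine Submodule.smul_induction_on hg ?_ ?_
    · intro a ha g' _
      rw [← TensorProduct.smul_tmul]
      have : (a • p) ⊗ₜ[B'] g' = a • (p ⊗ₜ[B'] g') := (TensorProduct.smul_tmul' a p g').symm
      rw [this]
      exact Submodule.smul_mem_smul ha trivial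
    · intro g₁ g₂ h₁ h₂
      rw [TensorProduct.tmul_add]
      exact Submodule.add_mem _ h₁ h₂

/-- **W4**: `P` faithfully flat over `B'`, `J G ≠ G` ⇒ `J (P ⊗ G) ≠ P ⊗ G` -/
theorem smul_top_tensor_ne_top [Module.FaithfullyFlat B' P] (J : Ideal A)
    (h : J • (⊤ : Submodule A G) ≠ ⊤) :
    J • (⊤ : Submodule A (P ⊗[B'] G)) ≠ ⊤ := by
  intro htop
  -- the `B'`-submodule `J G`
  let S : Submodule B' G :=
    { carrier := (J • (⊤ : Submodule A G) : Submodule A G)
      add_mem' := fun ha hb => Submodule.add_mem _ ha hb
      zero_mem' := Submodule.zero_mem _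
      smul_mem' := by
        intro b g hg
        change b • g ∈ J • (⊤ : Submodule A G)
        refine Submodule.smul_induction_on hg ?_ ?_
        · intro a ha g' _
          rw [smul_comm]
          exact Submodule.smul_mem_smul ha trivial
        · intro g₁ g₂ h₁ h₂
          rw [smul_add]
          exact Submodule.add_mem _ h₁ h₂ }
  have hS : Nontrivial (G ⧸ S) := by
    rw [Submodule.Quotient.nontrivial_iff]
    intro hS
    apply h
    rw [eq_top_iff]
    intro g _
    have : g ∈ S := by rw [hS]; trivial
    exact this
  haveI : Nontrivial (P ⊗[B'] (G ⧸ S)) := Module.FaithfullyFlat.lTensor_nontrivial B' P (G ⧸ S)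
  have hzero : ∀ t : P ⊗[B'] G, (S.mkQ.lTensor P) t = 0 := by
    intro t
    have ht : t ∈ J • (⊤ : Submodule A (P ⊗[B'] G)) := by rw [htop]; trivial
    refine Submodule.smul_induction_on ht ?_ ?_
    · intro a ha w _
      induction w using TensorProduct.induction_on with
      | zero => simp
      | add x y hx hy => rw [smul_add, map_add, hx trivial, hy trivial, add_zero]
      | tmul p g =>
        rw [TensorProduct.smul_tmul', TensorProduct.smul_tmul, LinearMap.lTensor_tmul]
        have h1 : a • g ∈ J • (⊤ : Submodule A G) := Submodule.smul_mem_smul ha Submodule.mem_top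
        have h2 : a • g ∈ S := h1
        have : S.mkQ (a • g) = 0 := by
          rw [Submodule.mkQ_apply]
          exact (Submodule.Quotient.mk_eq_zero S).2 h2
        rw [this, TensorProduct.tmul_zero]
    · intro x y hx hy
      rw [map_add, hx, hy, add_zero]
  have hsurj : Function.Surjective (S.mkQ.lTensor P) :=
    LinearMap.lTensor_surjective P S.mkQ_surjective
  obtain ⟨w, hw⟩ := exists_ne (0 : P ⊗[B'] (G ⧸ S))
  obtain ⟨t, rfl⟩ := hsurj w
  exact hw (hzero t)

end Groth.Agent.Lib.Helper17.FD3
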