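import Groth.Agent.Lib.Helper17.FD1
import Groth.Agent.Lib.Helper17.FD3
import Mathlib
set_option backward.isDefEq.respectTransparency.types false
set_option autoImplicit false
universe u
open TensorProduct

namespace Groth.Agent.Lib.Helper17.FD4
open Groth.Agent.Lib.Helper17.FD1 Groth.Agent.Lib.Helper17.FD3

/-- transport of `J M = M` along a linear equivalence -/
theorem smul_top_eq_top_of_linearEquiv {A M N : Type u} [CommRing A] [AddCommGroup M] [AddCommGroup N]
    [Module A M] [Module A N] (e : M ≃ₗ[A] N) (J : Ideal A)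
    (h : J • (⊤ : Submodule A M) = ⊤) : J • (⊤ : Submodule A N) = ⊤ := by
  rw [eq_top_iff]
  intro n _
  obtain ⟨m, rfl⟩ := e.surjective n
  have hm : m ∈ J • (⊤ : Submodule A M) := by rw [h]; trivial
  refine Submodule.smul_induction_on hm ?_ ?_
  · intro a ha m' _
    rw [map_smul]
    exact Submodule.smul_mem_smul ha trivial
  · intro x y hx hy
    rw [map_add]
    exact Submodule.add_mem _ hx hy

section core
variable {A B' C' : Type u} [CommRing A] [CommRing B'] [IsLocalRing B'] [CommRing C'] (ψ : A →+* B')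
  (φ : B' →+* C')
  {E Q T G : Type u} [AddCommGroup E] [AddCommGroup Q] [AddCommGroup T] [AddCommGroup G]
  [Module C' E] [Module C' Q] [Module C' T] [Module B' G]

/-- the algebra behind the stalk of `E ⊗ q^* G'` -/
theorem core (e1 : T ≃ₗ[C'] E ⊗[C'] Q) (e2 : letI := φ.toAlgebra; Q ≃ₗ[C'] C' ⊗[B'] G) :
    ((letI := Module.compHom E φ; Module.Flat B' E) → (letI := Module.compHom G ψ; Module.Flat A G) →
      (letI := Module.compHom T (φ.comp ψ); Module.Flat A T)) ∧
    ((letI := Module.compHom E φ; Module.Flat B' E) →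
      (letI := Module.compHom E φ; IsLocalRing.maximalIdeal B' • (⊤ : Submodule B' E) ≠ ⊤) →
      (letI := Module.compHom T (φ.comp ψ); Module.Flat A T) →
      (letI := Module.compHom G ψ; Module.Flat A G)) ∧
    ((letI := Module.compHom E φ; Module.Flat B' E) →
      (letI := Module.compHom E φ; IsLocalRing.maximalIdeal B' • (⊤ : Submodule B' E) ≠ ⊤) →
      ∀ J : Ideal A, (letI := Module.compHom G ψ; J • (⊤ : Submodule A G) ≠ ⊤) →
      (letI := Module.compHom T (φ.comp ψ); J • (⊤ : Submodule A T) ≠ ⊤)) ∧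
    (∀ J : Ideal A, (letI := Module.compHom T (φ.comp ψ); J • (⊤ : Submodule A T) ≠ ⊤) →
      (letI := Module.compHom G ψ; J • (⊤ : Submodule A G) ≠ ⊤)) := by
  letI algBC : Algebra B' C' := φ.toAlgebra
  letI algAB : Algebra A B' := ψ.toAlgebra
  letI algAC : Algebra A C' := (φ.comp ψ).toAlgebra
  haveI : IsScalarTower A B' C' := IsScalarTower.of_algebraMap_eq (fun _ => rfl)
  letI mBE : Module B' E := Module.compHom E φ
  haveI : IsScalarTower B' C' E := IsScalarTower.of_compHom _ _ _
  letI mAE : Module A E := Module.compHom E (φ.comp ψ)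
  haveI : IsScalarTower A C' E := IsScalarTower.of_compHom _ _ _
  haveI : IsScalarTower A B' E := by
    refine ⟨fun a b e => ?_⟩
    change φ (ψ a * b) • e = φ (ψ a) • (φ b • e)
    rw [map_mul, mul_smul]
  letI mAG : Module A G := Module.compHom G ψ
  haveI : IsScalarTower A B' G := IsScalarTower.of_compHom _ _ _
  letI mAT : Module A T := Module.compHom T (φ.comp ψ)
  haveI : IsScalarTower A C' T := IsScalarTower.of_compHom _ _ _
  let e : T ≃ₗ[C'] E ⊗[B'] G := e1 ≪≫ₗ (TensorProduct.congr (LinearEquiv.refl C' E) e2) ≪≫ₗ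
    (AlgebraTensorModule.cancelBaseChange B' C' C' E G)
  let eA : T ≃ₗ[A] E ⊗[B'] G := e.restrictScalars A
  refine ⟨?_, ?_, ?_, ?_⟩
  · intro hE hG
    haveI : Module.Flat B' E := hE
    haveI : Module.Flat A G := hG
    haveI : Module.Flat A (E ⊗[B'] G) := flat_tensor A B' E G
    exact Module.Flat.of_linearEquiv eA
  · intro hE hne hT
    haveI : Module.Flat B' E := hE
    haveI : Module.FaithfullyFlat B' E := faithfullyFlat_of_local B' E hne
    haveI : Module.Flat A T := hT
    haveI : Module.Flat A (E ⊗[B'] G) := Module.Flat.of_linearEquiv eA.symm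
    exact flat_of_flat_tensor A B' E G
  · intro hE hne J hG hT
    haveI : Module.Flat B' E := hE
    haveI : Module.FaithfullyFlat B' E := faithfullyFlat_of_local B' E hne
    exact smul_top_tensor_ne_top A B' E G J hG (smul_top_eq_top_of_linearEquiv eA J hT)
  · intro J hT hG
    exact hT (smul_top_eq_top_of_linearEquiv eA.symm J (smul_top_tensor_eq_top A B' E G J hG))

end core

end Groth.Agent.Lib.Helper17.FD4
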