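import Groth.Agent.Lib.Helper17.FD4
import Groth.Agent.Lib.Helper17.ModStalk
import Groth.Agent.Lib.Helper16.Stk7
import Mathlib
set_option backward.isDefEq.respectTransparency.types false
set_option autoImplicit false
universe u
open AlgebraicGeometry CategoryTheory TensorProduct

namespace Groth.Agent.Lib.Helper17.FD5
open Groth.Agent.Lib.Helper17.FD4 Groth.Agent.Lib.Helper16.Stk

variable {W Y' Z : Scheme.{u}} (q : W ⟶ Y') (h : Y' ⟶ Z) (E : W.Modules) (G' : Y'.Modules)
  [G'.IsQuasicoherent] (w : W)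

/-- `E ⊗ q^* G'` -/
noncomputable abbrev TS : W.Modules := CohB1.tensorMod E ((Scheme.Modules.pullback q).obj G')

theorem hom_comp_eq : ((q ≫ h).stalkMap w).hom = ((q.stalkMap w).hom).comp ((h.stalkMap (q w)).hom) := by
  rw [Scheme.Hom.stalkMap_comp]
  rfl

/-- the four stalkwise statements about `E ⊗ q^* G'` -/
theorem stalk_core :
    (FlatMod.IsFlatOverAt q E w → FlatMod.IsFlatOverAt h G' (q w) →
      FlatMod.IsFlatOverAt (q ≫ h) (TS q E G') w) ∧
    (FlatMod.IsFlatOverAt q E w →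
      (letI := FlatMod.moduleStalkOver q E w; IsLocalRing.maximalIdeal (Y'.presheaf.stalk (q w)) •
        (⊤ : Submodule (Y'.presheaf.stalk (q w)) (E.presheaf.stalk w)) ≠ ⊤) →
      FlatMod.IsFlatOverAt (q ≫ h) (TS q E G') w → FlatMod.IsFlatOverAt h G' (q w)) ∧
    (FlatMod.IsFlatOverAt q E w →
      (letI := FlatMod.moduleStalkOver q E w; IsLocalRing.maximalIdeal (Y'.presheaf.stalk (q w)) •
        (⊤ : Submodule (Y'.presheaf.stalk (q w)) (E.presheaf.stalk w)) ≠ ⊤) →
      (letI := FlatMod.moduleStalkOver h G' (q w); IsLocalRing.maximalIdeal (Z.presheaf.stalk (h (q w))) •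
        (⊤ : Submodule (Z.presheaf.stalk (h (q w))) (G'.presheaf.stalk (q w))) ≠ ⊤) →
      (letI := FlatMod.moduleStalkOver (q ≫ h) (TS q E G') w; IsLocalRing.maximalIdeal (Z.presheaf.stalk ((q ≫ h) w)) •
        (⊤ : Submodule (Z.presheaf.stalk ((q ≫ h) w)) ((TS q E G').presheaf.stalk w)) ≠ ⊤)) ∧
    ((letI := FlatMod.moduleStalkOver (q ≫ h) (TS q E G') w; IsLocalRing.maximalIdeal (Z.presheaf.stalk ((q ≫ h) w)) •
        (⊤ : Submodule (Z.presheaf.stalk ((q ≫ h) w)) ((TS q E G').presheaf.stalk w)) ≠ ⊤) →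
      (letI := FlatMod.moduleStalkOver h G' (q w); IsLocalRing.maximalIdeal (Z.presheaf.stalk (h (q w))) •
        (⊤ : Submodule (Z.presheaf.stalk (h (q w))) (G'.presheaf.stalk (q w))) ≠ ⊤)) := by
  obtain ⟨e2⟩ := Groth.Agent.Lib.Helper17.ModStalk.nonempty_linearEquiv_stalk_pullback q G' w
  let e1 : (TS q E G').presheaf.stalk w ≃ₗ[W.presheaf.stalk w]
      (E.presheaf.stalk w) ⊗[W.presheaf.stalk w]
        (((Scheme.Modules.pullback q).obj G').presheaf.stalk w) :=
    (stalkTensorIso w E ((Scheme.Modules.pullback q).obj G')).toLinearEquiv.symm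
  obtain ⟨c1, c2, c3, c4⟩ := core (h.stalkMap (q w)).hom (q.stalkMap w).hom e1 e2
  have hρ := hom_comp_eq q h w
  unfold FlatMod.IsFlatOverAt FlatMod.moduleStalkOver
  rw [hρ]
  exact ⟨c1, c2, fun a b => c3 a b _, fun a => c4 _ a⟩

end Groth.Agent.Lib.Helper17.FD5
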