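import Mathlib
set_option backward.isDefEq.respectTransparency.types false
set_option autoImplicit false
universe u
open TensorProduct IsLocalRing

namespace Groth.Agent.Lib.Helper17.FD6

/-- **Lemma A**: an injective map between modules killed by the maximal ideal of a local ring has a
linear retraction. -/
theorem exists_retraction {B : Type u} [CommRing B] [IsLocalRing B] {V V' : Type u} [AddCommGroup V]
    [AddCommGroup V'] [Module B V] [Module B V']
    (hV : ∀ b ∈ maximalIdeal B, ∀ v : V, b • v = 0) (hV' : ∀ b ∈ maximalIdeal B, ∀ v : V', b • v = 0)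
    (ι : V →ₗ[B] V') (hι : Function.Injective ι) : ∃ r : V' →ₗ[B] V, r ∘ₗ ι = LinearMap.id := by
  have tV : Module.IsTorsionBySet B V (maximalIdeal B : Set B) := by
    intro v b
    exact hV b.1 b.2 v
  have tV' : Module.IsTorsionBySet B V' (maximalIdeal B : Set B) := by
    intro v b
    exact hV' b.1 b.2 v
  letI : Module (B ⧸ maximalIdeal B) V := tV.module
  letI : Module (B ⧸ maximalIdeal B) V' := tV'.module
  letI : Field (B ⧸ maximalIdeal B) := Ideal.Quotient.field (maximalIdeal B)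
  let ικ : V →ₗ[B ⧸ maximalIdeal B] V' :=
    { toFun := ι
      map_add' := map_add ι
      map_smul' := by
        intro k v
        obtain ⟨b, rfl⟩ := Ideal.Quotient.mk_surjective k
        change ι (Ideal.Quotient.mk (maximalIdeal B) b • v) = Ideal.Quotient.mk (maximalIdeal B) b • ι v
        rw [Module.IsTorsionBySet.mk_smul, Module.IsTorsionBySet.mk_smul, map_smul] }
  have hker : LinearMap.ker ικ = ⊥ := LinearMap.ker_eq_bot.2 hι
  obtain ⟨g, hg⟩ := LinearMap.exists_leftInverse_of_injective ικ hker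
  refine ⟨{ toFun := g, map_add' := map_add g, map_smul' := ?_ }, ?_⟩
  · intro b v
    have h1 : b • v = Ideal.Quotient.mk (maximalIdeal B) b • v := (Module.IsTorsionBySet.mk_smul tV' b v).symm
    have h2 : b • g v = Ideal.Quotient.mk (maximalIdeal B) b • g v := (Module.IsTorsionBySet.mk_smul tV b (g v)).symm
    change g (b • v) = b • g v
    rw [h1, h2, map_smul]
  · ext v
    exact LinearMap.congr_fun hg v

/-- **Lemma B**: `(C ⊗_B K) ⊗_C -` preserves injections between modules killed by `m_B`. -/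
theorem injective_lTensor_of_killed {B C : Type u} [CommRing B] [IsLocalRing B] [CommRing C] [Algebra B C]
    (K : Type u) [AddCommGroup K] [Module B K]
    {V V' : Type u} [AddCommGroup V] [AddCommGroup V'] [Module C V] [Module C V'] [Module B V] [Module B V']
    [IsScalarTower B C V] [IsScalarTower B C V']
    (hV : ∀ b ∈ maximalIdeal B, ∀ v : V, b • v = 0) (hV' : ∀ b ∈ maximalIdeal B, ∀ v : V', b • v = 0)
    (ι : V →ₗ[C] V') (hι : Function.Injective ι) :
    Function.Injective (ι.lTensor (C ⊗[B] K)) := by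
  obtain ⟨r, hr⟩ := exists_retraction hV hV' (ι.restrictScalars B) hι
  let e : ∀ (W : Type u) [AddCommGroup W] [Module C W] [Module B W] [IsScalarTower B C W],
      (C ⊗[B] K) ⊗[C] W ≃ₗ[C] W ⊗[B] K := fun W _ _ _ _ =>
    TensorProduct.comm C (C ⊗[B] K) W ≪≫ₗ AlgebraTensorModule.cancelBaseChange B C C W K
  have hnat : ∀ t, e V' (ι.lTensor (C ⊗[B] K) t) = (ι.restrictScalars B).rTensor K (e V t) := by
    intro t
    induction t using TensorProduct.induction_on with
    | zero => simp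
    | add x y hx hy => rw [map_add, map_add, map_add, map_add, hx, hy]
    | tmul s v =>
      induction s using TensorProduct.induction_on with
      | zero => simp
      | add x y hx hy => rw [TensorProduct.add_tmul, map_add, map_add, map_add, map_add, hx, hy]
      | tmul c k =>
        change (c • ι v) ⊗ₜ[B] k = (ι.restrictScalars B) (c • v) ⊗ₜ[B] k
        rw [LinearMap.restrictScalars_apply, map_smul]
  rw [injective_iff_map_eq_zero]
  intro t ht
  have h1 : (ι.restrictScalars B).rTensor K (e V t) = 0 := by rw [← hnat, ht, map_zero]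
  have h2 : r.rTensor K ((ι.restrictScalars B).rTensor K (e V t)) = e V t := by
    rw [← LinearMap.comp_apply, ← LinearMap.rTensor_comp, hr, LinearMap.rTensor_id, LinearMap.id_apply]
  rw [h1, map_zero] at h2
  exact (e V).injective (by rw [← h2, map_zero])

section main
variable {B C B' C' : Type u} [CommRing B] [CommRing C] [CommRing B'] [CommRing C']
    [IsLocalRing B] [IsLocalRing C] [IsLocalRing B'] [IsLocalRing C']
    [Algebra B C] [Algebra B B'] [Algebra C C'] [Algebra B' C'] [Algebra B C']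
    [IsScalarTower B C C'] [IsScalarTower B B' C']
    [IsLocalHom (algebraMap C C')] [IsLocalHom (algebraMap B' C')]

/-- the `C`-submodule `m_B M` -/
theorem mem_smul_top_of_mem_map_smul_top (M : Type u) [AddCommGroup M] [Module C M] [Module B M]
    [IsScalarTower B C M] (x : M)
    (hx : x ∈ ((maximalIdeal B).map (algebraMap B C)) • (⊤ : Submodule C M)) :
    x ∈ maximalIdeal B • (⊤ : Submodule B M) := by
  refine Submodule.smul_induction_on hx ?_ ?_
  · intro c hc y _
    have key : ∀ c ∈ (maximalIdeal B).map (algebraMap B C), ∀ y : M,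
        c • y ∈ maximalIdeal B • (⊤ : Submodule B M) := by
      intro c hc
      refine Submodule.span_induction (p := fun c _ => ∀ y : M,
        c • y ∈ maximalIdeal B • (⊤ : Submodule B M)) ?_ ?_ ?_ ?_ hc
      · rintro _ ⟨b, hb, rfl⟩ y
        rw [algebraMap_smul]
        exact Submodule.smul_mem_smul hb trivial
      · intro y
        rw [zero_smul]
        exact Submodule.zero_mem _
      · intro c₁ c₂ _ _ h₁ h₂ y
        rw [add_smul]
        exact Submodule.add_mem _ (h₁ y) (h₂ y)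
      · intro c₁ c₂ _ h₂ y
        rw [smul_eq_mul, mul_comm, mul_smul]
        exact h₂ (c₁ • y)
    exact key c hc y
  · intro y₁ y₂ h₁ h₂
    exact Submodule.add_mem _ h₁ h₂

/-- **(N)**: non-vanishing of the fibre module is preserved by base change -/
theorem fibre_ne_top_baseChange (γ : C ⊗[B] B' →+* C') (hγ : γ.Flat)
    (hγ1 : ∀ c, γ (c ⊗ₜ 1) = algebraMap C C' c) (hγ2 : ∀ b', γ (1 ⊗ₜ b') = algebraMap B' C' b')
    (M : Type u) [AddCommGroup M] [Module C M] [Module B M] [IsScalarTower B C M]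
    (hne : maximalIdeal B • (⊤ : Submodule B M) ≠ ⊤) :
    ((maximalIdeal B').map (algebraMap B' C')) • (⊤ : Submodule C' (C' ⊗[C] M)) ≠ ⊤ := by
  intro htop
  -- Step 0
  obtain ⟨m, hm⟩ : ∃ m : M, m ∉ maximalIdeal B • (⊤ : Submodule B M) := by
    by_contra hcon
    push Not at hcon
    exact hne (eq_top_iff.2 fun x _ => hcon x)
  let S : Submodule C M := ((maximalIdeal B).map (algebraMap B C)) • ⊤
  have hMbar : ∀ b ∈ maximalIdeal B, ∀ v : M ⧸ S, b • v = 0 := by
    intro b hb v
    obtain ⟨x, rfl⟩ := S.mkQ_surjective v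
    rw [Submodule.mkQ_apply, ← Submodule.Quotient.mk_smul, Submodule.Quotient.mk_eq_zero,
      ← algebraMap_smul C b x]
    exact Submodule.smul_mem_smul (Ideal.mem_map_of_mem _ hb) trivial
  have hmbar : S.mkQ m ≠ 0 := by
    intro h
    rw [Submodule.mkQ_apply, Submodule.Quotient.mk_eq_zero] at h
    exact hm (mem_smul_top_of_mem_map_smul_top M m h)
  -- Step 1
  let 𝔞 : Ideal C := LinearMap.ker (LinearMap.toSpanSingleton C (M ⧸ S) (S.mkQ m))
  let ι : C ⧸ 𝔞 →ₗ[C] M ⧸ S := Submodule.liftQ 𝔞 (LinearMap.toSpanSingleton C (M ⧸ S) (S.mkQ m)) le_rfl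
  have hι : Function.Injective ι := LinearMap.ker_eq_bot.1 (Submodule.ker_liftQ_eq_bot _ _ _ le_rfl)
  have h𝔞 : 𝔞 ≠ ⊤ := by
    intro h
    have h1 : (1 : C) ∈ 𝔞 := by rw [h]; trivial
    have h2 : (1 : C) • S.mkQ m = 0 := h1
    rw [one_smul] at h2
    exact hmbar h2
  have h𝔞' : 𝔞 ≤ maximalIdeal C := IsLocalRing.le_maximalIdeal h𝔞
  have hCa : ∀ b ∈ maximalIdeal B, ∀ v : C ⧸ 𝔞, b • v = 0 := by
    intro b hb v
    obtain ⟨c, rfl⟩ := Submodule.mkQ_surjective 𝔞 v
    rw [Submodule.mkQ_apply, ← Submodule.Quotient.mk_smul, Submodule.Quotient.mk_eq_zero]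
    change (b • c) • S.mkQ m = 0
    rw [smul_assoc]
    exact hMbar b hb _
  -- Step 3
  have hinj : Function.Injective (ι.lTensor (C ⊗[B] ResidueField B')) :=
    injective_lTensor_of_killed (ResidueField B') hCa hMbar ι hι
  -- Step 4
  let θ : C ⊗[B] B' →+* C ⊗[B] ResidueField B' :=
    (Algebra.TensorProduct.map (AlgHom.id B C) (IsScalarTower.toAlgHom B B' (ResidueField B'))).toRingHom
  letI modR₀ : Module (C ⊗[B] B') ((C ⊗[B] ResidueField B') ⊗[C] (C ⧸ 𝔞)) := Module.compHom _ θ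
  letI modR₁ : Module (C ⊗[B] B') ((C ⊗[B] ResidueField B') ⊗[C] (M ⧸ S)) := Module.compHom _ θ
  let u : ((C ⊗[B] ResidueField B') ⊗[C] (C ⧸ 𝔞)) →ₗ[C ⊗[B] B']
      ((C ⊗[B] ResidueField B') ⊗[C] (M ⧸ S)) :=
    { toFun := ι.lTensor (C ⊗[B] ResidueField B')
      map_add' := map_add _
      map_smul' := by
        intro r t
        change ι.lTensor _ (θ r • t) = θ r • ι.lTensor _ t
        exact (AlgebraTensorModule.lTensor (C ⊗[B] ResidueField B') (C ⊗[B] ResidueField B') ι).map_smul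
          (θ r) t }
  letI algRC' : Algebra (C ⊗[B] B') C' := γ.toAlgebra
  haveI : Module.Flat (C ⊗[B] B') C' := hγ
  have hu : Function.Injective (u.lTensor C') := Module.Flat.lTensor_preserves_injective_linearMap u hinj
  -- Step 5
  haveI : IsLocalHom (IsScalarTower.toAlgHom B B' C') :=
    ⟨fun a ha => IsLocalHom.map_nonunit (f := algebraMap B' C') a ha⟩
  let g : ResidueField B' →ₐ[B] ResidueField C' := ResidueField.mapAlgHom (IsScalarTower.toAlgHom B B' C')
  let σ : C ⊗[B] ResidueField B' →ₐ[C] ResidueField C' :=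
    Algebra.TensorProduct.lift (Algebra.ofId C (ResidueField C')) g (fun _ _ => Commute.all _ _)
  let τ : C ⧸ 𝔞 →ₗ[C] ResidueField C' := Submodule.liftQ 𝔞 (Algebra.linearMap C (ResidueField C')) (by
    intro c hc
    change algebraMap C (ResidueField C') c = 0
    rw [IsScalarTower.algebraMap_apply C C' (ResidueField C'), ResidueField.algebraMap_eq,
      residue_eq_zero_iff]
    exact (IsLocalRing.mem_maximalIdeal _).2 (fun hu' => (IsLocalRing.mem_maximalIdeal c).1 (h𝔞' hc)
      (isUnit_of_map_unit (algebraMap C C') c hu')))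
  let lam : (C ⊗[B] ResidueField B') ⊗[C] (C ⧸ 𝔞) →ₗ[C] ResidueField C' :=
    TensorProduct.lift ((LinearMap.mul C (ResidueField C')).compl₁₂ σ.toLinearMap τ)
  have hσθ : ∀ r : C ⊗[B] B', σ (θ r) = residue C' (γ r) := by
    intro r
    induction r using TensorProduct.induction_on with
    | zero => simp
    | add x y hx hy => rw [map_add, map_add, map_add, map_add, hx, hy]
    | tmul c b' =>
      have h1 : θ (c ⊗ₜ[B] b') = c ⊗ₜ[B] residue B' b' := rfl
      have h2 : γ (c ⊗ₜ[B] b') = algebraMap C C' c * algebraMap B' C' b' := by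
        rw [← hγ1, ← hγ2, ← map_mul, Algebra.TensorProduct.tmul_mul_tmul, mul_one, one_mul]
      rw [h1, h2, Algebra.TensorProduct.lift_tmul, map_mul]
      rfl
  have hlam : ∀ (r : C ⊗[B] B') (t : (C ⊗[B] ResidueField B') ⊗[C] (C ⧸ 𝔞)),
      lam (θ r • t) = residue C' (γ r) * lam t := by
    intro r t
    induction t using TensorProduct.induction_on with
    | zero => simp
    | add x y hx hy => rw [smul_add, map_add, map_add, hx, hy, mul_add]
    | tmul s c =>
      rw [TensorProduct.smul_tmul', smul_eq_mul]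
      change σ (θ r * s) * τ c = residue C' (γ r) * (σ s * τ c)
      rw [map_mul, hσθ, mul_assoc]
  let fΛ : C' →+ ((C ⊗[B] ResidueField B') ⊗[C] (C ⧸ 𝔞)) →+ ResidueField C' :=
    AddMonoidHom.mk' (fun c' => (AddMonoidHom.mulLeft (residue C' c')).comp lam.toAddMonoidHom) (by
      intro a b
      ext x
      simp [add_mul])
  let Λ : C' ⊗[C ⊗[B] B'] ((C ⊗[B] ResidueField B') ⊗[C] (C ⧸ 𝔞)) →+ ResidueField C' :=
    TensorProduct.liftAddHom fΛ (by
      intro r c' n₀
      change residue C' (r • c') * lam n₀ = residue C' c' * lam (θ r • n₀)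
      rw [hlam, Algebra.smul_def, map_mul]
      change residue C' (γ r) * residue C' c' * lam n₀ = _
      ring)
  have hΛ : Λ ((1 : C') ⊗ₜ ((1 : C ⊗[B] ResidueField B') ⊗ₜ (Submodule.Quotient.mk 1 : C ⧸ 𝔞))) = 1 := by
    change residue C' 1 * (σ 1 * τ (Submodule.Quotient.mk 1)) = 1
    rw [map_one, map_one, one_mul, one_mul]
    change algebraMap C (ResidueField C') 1 = 1
    rw [map_one]
  -- Step 6
  let j : M →+ (C ⊗[B] ResidueField B') ⊗[C] (M ⧸ S) :=
    ((TensorProduct.mk C (C ⊗[B] ResidueField B') (M ⧸ S) 1).comp S.mkQ).toAddMonoidHom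
  let fΨ : C' →+ M →+ C' ⊗[C ⊗[B] B'] ((C ⊗[B] ResidueField B') ⊗[C] (M ⧸ S)) :=
    AddMonoidHom.mk' (fun c' => ((TensorProduct.mk (C ⊗[B] B') C'
      ((C ⊗[B] ResidueField B') ⊗[C] (M ⧸ S)) c').toAddMonoidHom).comp j) (by
      intro a b
      ext x
      simp [TensorProduct.add_tmul])
  have hθ1 : ∀ c : C, θ (c ⊗ₜ[B] 1) = c • (1 : C ⊗[B] ResidueField B') := by
    intro c
    change c ⊗ₜ[B] (residue B' 1) = c • (1 : C ⊗[B] ResidueField B')
    rw [map_one, Algebra.TensorProduct.one_def, TensorProduct.smul_tmul', smul_eq_mul, mul_one]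
  let Ψ : C' ⊗[C] M →+ C' ⊗[C ⊗[B] B'] ((C ⊗[B] ResidueField B') ⊗[C] (M ⧸ S)) :=
    TensorProduct.liftAddHom fΨ (by
      intro c c' m'
      change (c • c') ⊗ₜ[C ⊗[B] B'] ((1 : C ⊗[B] ResidueField B') ⊗ₜ[C] S.mkQ m') =
        c' ⊗ₜ[C ⊗[B] B'] ((1 : C ⊗[B] ResidueField B') ⊗ₜ[C] S.mkQ (c • m'))
      have h1 : c • c' = (c ⊗ₜ[B] (1 : B') : C ⊗[B] B') • c' := by
        rw [Algebra.smul_def, Algebra.smul_def]
        change _ = γ (c ⊗ₜ[B] 1) * c'
        rw [hγ1]
      rw [h1, TensorProduct.smul_tmul]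
      congr 1
      change θ (c ⊗ₜ[B] 1) • ((1 : C ⊗[B] ResidueField B') ⊗ₜ[C] S.mkQ m') = _
      rw [hθ1, map_smul, TensorProduct.smul_tmul', smul_assoc, one_smul, TensorProduct.smul_tmul])
  have hθ2 : ∀ b' ∈ maximalIdeal B', θ ((1 : C) ⊗ₜ[B] b') = 0 := by
    intro b' hb'
    change (1 : C) ⊗ₜ[B] (residue B' b') = 0
    rw [(residue_eq_zero_iff b').2 hb', TensorProduct.tmul_zero]
  have hΨkill : ∀ b' ∈ maximalIdeal B', ∀ p : C' ⊗[C] M, Ψ (algebraMap B' C' b' • p) = 0 := by
    intro b' hb' p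
    induction p using TensorProduct.induction_on with
    | zero => rw [smul_zero, map_zero]
    | add x y hx hy => rw [smul_add, map_add, hx, hy, add_zero]
    | tmul c' m' =>
      have h0 : algebraMap B' C' b' • (c' ⊗ₜ[C] m') = (algebraMap B' C' b' * c') ⊗ₜ[C] m' := by
        rw [TensorProduct.smul_tmul', smul_eq_mul]
      rw [h0]
      change (algebraMap B' C' b' * c') ⊗ₜ[C ⊗[B] B'] ((1 : C ⊗[B] ResidueField B') ⊗ₜ[C] S.mkQ m') = 0
      have h1 : algebraMap B' C' b' * c' = ((1 : C) ⊗ₜ[B] b' : C ⊗[B] B') • c' := by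
        rw [Algebra.smul_def]
        change _ = γ (1 ⊗ₜ[B] b') * c'
        rw [hγ2]
      rw [h1, TensorProduct.smul_tmul]
      have h2 : ((1 : C) ⊗ₜ[B] b' : C ⊗[B] B') • ((1 : C ⊗[B] ResidueField B') ⊗ₜ[C] S.mkQ m') = 0 := by
        change θ ((1 : C) ⊗ₜ[B] b') • ((1 : C ⊗[B] ResidueField B') ⊗ₜ[C] S.mkQ m') = 0
        rw [hθ2 b' hb', zero_smul]
      rw [h2, TensorProduct.tmul_zero]
  have hΨ0 : ∀ p : C' ⊗[C] M, Ψ p = 0 := by
    intro p
    have hp : p ∈ ((maximalIdeal B').map (algebraMap B' C')) • (⊤ : Submodule C' (C' ⊗[C] M)) := by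
      rw [htop]; trivial
    refine Submodule.smul_induction_on hp ?_ ?_
    · intro c'' hc'' p' _
      have key : ∀ c'' ∈ (maximalIdeal B').map (algebraMap B' C'), ∀ p' : C' ⊗[C] M, Ψ (c'' • p') = 0 := by
        intro c'' hc''
        refine Submodule.span_induction (p := fun c'' _ => ∀ p' : C' ⊗[C] M, Ψ (c'' • p') = 0)
          ?_ ?_ ?_ ?_ hc''
        · rintro _ ⟨b', hb', rfl⟩ p'
          exact hΨkill b' hb' p'
        · intro p'
          rw [zero_smul, map_zero]
        · intro c₁ c₂ _ _ h₁ h₂ p'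
          rw [add_smul, map_add, h₁, h₂, add_zero]
        · intro c₁ c₂ _ h₂ p'
          rw [smul_eq_mul, mul_comm, mul_smul]
          exact h₂ (c₁ • p')
      exact key c'' hc'' p'
    · intro x y hx hy
      rw [map_add, hx, hy, add_zero]
  have hkey : (u.lTensor C') ((1 : C') ⊗ₜ ((1 : C ⊗[B] ResidueField B') ⊗ₜ (Submodule.Quotient.mk 1 : C ⧸ 𝔞))) =
      Ψ ((1 : C') ⊗ₜ[C] m) := by
    change (1 : C') ⊗ₜ[C ⊗[B] B'] ((1 : C ⊗[B] ResidueField B') ⊗ₜ[C] ι (Submodule.Quotient.mk 1)) =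
      (1 : C') ⊗ₜ[C ⊗[B] B'] ((1 : C ⊗[B] ResidueField B') ⊗ₜ[C] S.mkQ m)
    have : ι (Submodule.Quotient.mk 1) = S.mkQ m := by
      change (1 : C) • S.mkQ m = S.mkQ m
      rw [one_smul]
    rw [this]
  rw [hΨ0] at hkey
  have hzero : ((1 : C') ⊗ₜ[C ⊗[B] B'] ((1 : C ⊗[B] ResidueField B') ⊗ₜ[C] (Submodule.Quotient.mk 1 : C ⧸ 𝔞))) = 0 :=
    hu (by rw [hkey, map_zero])
  rw [hzero, map_zero] at hΛ
  exact zero_ne_one hΛ

end main

end Groth.Agent.Lib.Helper17.FD6
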