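import Groth.Agent.Lib.Helper17.FD6
import Groth.Agent.Lib.Helper17.ModStalk
import Groth.Agent.Lib.Helper16.StalkPB
import Mathlib
set_option backward.isDefEq.respectTransparency.types false
set_option autoImplicit false
universe u
open AlgebraicGeometry CategoryTheory CategoryTheory.Limits TensorProduct IsLocalRing

namespace Groth.Agent.Lib.Helper17.FD7
open Groth.Agent.Lib.Helper16.StalkPB

variable {X Y Y' : Scheme.{u}} (f : X ⟶ Y) (g : Y' ⟶ Y) (F : X.Modules) [F.IsQuasicoherent]

/-- **(N)** at scheme level: a non-zero fibre module stays non-zero after base change, at every point above -/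
theorem fibre_ne_top_pullback (x' : ↑(pullback f g))
    (hne : letI := FlatMod.moduleStalkOver f F (pullback.fst f g x')
      maximalIdeal (Y.presheaf.stalk (f (pullback.fst f g x'))) •
        (⊤ : Submodule (Y.presheaf.stalk (f (pullback.fst f g x')))
          (F.presheaf.stalk (pullback.fst f g x'))) ≠ ⊤) :
    letI := FlatMod.moduleStalkOver (pullback.snd f g)
      ((Scheme.Modules.pullback (pullback.fst f g)).obj F) x'
    maximalIdeal (Y'.presheaf.stalk (pullback.snd f g x')) •
      (⊤ : Submodule (Y'.presheaf.stalk (pullback.snd f g x'))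
        (((Scheme.Modules.pullback (pullback.fst f g)).obj F).presheaf.stalk x')) ≠ ⊤ := by
  letI algBC : Algebra (Y.presheaf.stalk (f (pullback.fst f g x'))) (X.presheaf.stalk (pullback.fst f g x')) :=
    (f.stalkMap (pullback.fst f g x')).hom.toAlgebra
  letI algBB' : Algebra (Y.presheaf.stalk (f (pullback.fst f g x')))
      (Y'.presheaf.stalk (pullback.snd f g x')) := (pbα f g x').hom.toAlgebra
  letI algCC' : Algebra (X.presheaf.stalk (pullback.fst f g x')) ((pullback f g).presheaf.stalk x') :=
    ((pullback.fst f g).stalkMap x').hom.toAlgebra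
  letI algB'C' : Algebra (Y'.presheaf.stalk (pullback.snd f g x')) ((pullback f g).presheaf.stalk x') :=
    ((pullback.snd f g).stalkMap x').hom.toAlgebra
  letI algBC' : Algebra (Y.presheaf.stalk (f (pullback.fst f g x'))) ((pullback f g).presheaf.stalk x') :=
    ((algebraMap (X.presheaf.stalk (pullback.fst f g x')) ((pullback f g).presheaf.stalk x')).comp
      (algebraMap (Y.presheaf.stalk (f (pullback.fst f g x'))) (X.presheaf.stalk (pullback.fst f g x')))).toAlgebra
  haveI : IsScalarTower (Y.presheaf.stalk (f (pullback.fst f g x'))) (X.presheaf.stalk (pullback.fst f g x'))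
      ((pullback f g).presheaf.stalk x') := IsScalarTower.of_algebraMap_eq (fun _ => rfl)
  haveI : IsScalarTower (Y.presheaf.stalk (f (pullback.fst f g x'))) (Y'.presheaf.stalk (pullback.snd f g x'))
      ((pullback f g).presheaf.stalk x') := by
    refine IsScalarTower.of_algebraMap_eq' ?_
    exact congrArg CommRingCat.Hom.hom (sq_comm f (pullback.snd f g) (pullback.fst f g) g pullback.condition x')
  haveI : IsLocalHom (algebraMap (X.presheaf.stalk (pullback.fst f g x')) ((pullback f g).presheaf.stalk x')) :=
    (pullback.fst f g).prop x'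
  haveI : IsLocalHom (algebraMap (Y'.presheaf.stalk (pullback.snd f g x')) ((pullback f g).presheaf.stalk x')) :=
    (pullback.snd f g).prop x'
  obtain ⟨γ, hγ, h1, h2⟩ := exists_flat_tensor_map f g x' rfl rfl
  letI modBM : Module (Y.presheaf.stalk (f (pullback.fst f g x'))) (F.presheaf.stalk (pullback.fst f g x')) :=
    FlatMod.moduleStalkOver f F (pullback.fst f g x')
  haveI : IsScalarTower (Y.presheaf.stalk (f (pullback.fst f g x'))) (X.presheaf.stalk (pullback.fst f g x'))
      (F.presheaf.stalk (pullback.fst f g x')) := IsScalarTower.of_compHom _ _ _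
  have hN := Groth.Agent.Lib.Helper17.FD6.fibre_ne_top_baseChange γ hγ
    (fun c => RingHom.congr_fun h1 c) (fun b' => RingHom.congr_fun h2 b')
    (F.presheaf.stalk (pullback.fst f g x')) hne
  obtain ⟨e⟩ := Groth.Agent.Lib.Helper17.ModStalk.nonempty_linearEquiv_stalk_pullback (pullback.fst f g) F x'
  letI modB'P : Module (Y'.presheaf.stalk (pullback.snd f g x'))
      (((Scheme.Modules.pullback (pullback.fst f g)).obj F).presheaf.stalk x') :=
    FlatMod.moduleStalkOver (pullback.snd f g) ((Scheme.Modules.pullback (pullback.fst f g)).obj F) x'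
  intro htop
  apply hN
  rw [eq_top_iff]
  intro t _
  obtain ⟨p', rfl⟩ := e.surjective t
  have hp' : p' ∈ maximalIdeal (Y'.presheaf.stalk (pullback.snd f g x')) •
      (⊤ : Submodule (Y'.presheaf.stalk (pullback.snd f g x'))
        (((Scheme.Modules.pullback (pullback.fst f g)).obj F).presheaf.stalk x')) := by
    rw [htop]; trivial
  refine Submodule.smul_induction_on hp' ?_ ?_
  · intro b' hb' p'' _
    change e (algebraMap (Y'.presheaf.stalk (pullback.snd f g x')) ((pullback f g).presheaf.stalk x') b' • p'') ∈ _
    rw [map_smul]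
    exact Submodule.smul_mem_smul (Ideal.mem_map_of_mem _ hb') trivial
  · intro a b ha hb
    rw [map_add]
    exact Submodule.add_mem _ ha hb

end Groth.Agent.Lib.Helper17.FD7
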