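import Groth.Agent.Lib.Helper17.FD3
import Mathlib
set_option autoImplicit false
universe u
open TensorProduct

namespace Groth.Agent.Lib.Helper17.FDiag

section B
variable (A C₁ C₂ : Type u) [CommRing A] [CommRing C₁] [CommRing C₂] [Algebra A C₁] [Algebra A C₂]
  (M : Type u) [AddCommGroup M] [Module C₂ M] [Module A M] [IsScalarTower A C₂ M] [Module.Flat A M]
  (P : Type u) [AddCommGroup P] [Module (C₁ ⊗[A] C₂) P] [Module.Flat (C₁ ⊗[A] C₂) P]
  [Module C₁ P] [Module C₂ P] [SMulCommClass C₂ C₁ P]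

attribute [local instance] Algebra.TensorProduct.rightAlgebra

theorem flat_T : Module.Flat C₁ ((C₁ ⊗[A] C₂) ⊗[C₂] M) :=
  Module.Flat.of_linearEquiv (Algebra.IsPushout.cancelBaseChange A C₁ C₂ (C₁ ⊗[A] C₂) M)

theorem flat_PM
    (hc₁ : ∀ (c : C₁) (p : P), c • p = (Algebra.TensorProduct.includeLeftRingHom c : C₁ ⊗[A] C₂) • p)
    (hc₂ : ∀ (c : C₂) (p : P), c • p =
      ((Algebra.TensorProduct.includeRight : C₂ →ₐ[A] C₁ ⊗[A] C₂) c : C₁ ⊗[A] C₂) • p) :
    Module.Flat C₁ (P ⊗[C₂] M) := by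
  haveI i1 : IsScalarTower C₁ (C₁ ⊗[A] C₂) P := ⟨fun c s p => by
    rw [Algebra.smul_def, mul_smul, hc₁]; rfl⟩
  haveI i2 : IsScalarTower C₂ (C₁ ⊗[A] C₂) P := ⟨fun c s p => by
    rw [Algebra.smul_def, mul_smul, hc₂]; rfl⟩
  haveI := flat_T A C₁ C₂ M
  haveI : Module.Flat C₁ (P ⊗[C₁ ⊗[A] C₂] ((C₁ ⊗[A] C₂) ⊗[C₂] M)) :=
    FD3.flat_tensor C₁ (C₁ ⊗[A] C₂) P _
  exact Module.Flat.of_linearEquiv
    ((AlgebraTensorModule.cancelBaseChange C₂ (C₁ ⊗[A] C₂) (C₁ ⊗[A] C₂) P M).restrictScalars C₁).symm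

end B


/-- **flat diagonal**: if `C ⊗[A] C → C` is flat then a `C`-module flat over `A` is flat over `C` -/
theorem flat_of_flat_diag (A C : Type u) [CommRing A] [CommRing C] [Algebra A C]
    (μ : C ⊗[A] C →+* C) (hμ : μ.Flat)
    (h₁ : μ.comp Algebra.TensorProduct.includeLeftRingHom = RingHom.id C)
    (h₂ : μ.comp (Algebra.TensorProduct.includeRight : C →ₐ[A] C ⊗[A] C).toRingHom = RingHom.id C)
    (M : Type u) [AddCommGroup M] [Module C M] [Module A M] [IsScalarTower A C M] [Module.Flat A M] :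
    Module.Flat C M := by
  letI : Algebra (C ⊗[A] C) C := μ.toAlgebra
  haveI : Module.Flat (C ⊗[A] C) C := hμ
  have key : Module.Flat C (C ⊗[C] M) := flat_PM A C C M C
    (fun c p => by
      change c * p = μ (Algebra.TensorProduct.includeLeftRingHom c) * p
      have := RingHom.congr_fun h₁ c
      rw [RingHom.comp_apply] at this
      rw [this]; rfl)
    (fun c p => by
      change c * p = μ ((Algebra.TensorProduct.includeRight : C →ₐ[A] C ⊗[A] C) c) * p
      have := RingHom.congr_fun h₂ c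
      rw [RingHom.comp_apply] at this
      erw [this]; rfl)
  exact Module.Flat.of_linearEquiv (TensorProduct.lid C M).symm

end Groth.Agent.Lib.Helper17.FDiag
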