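import Groth.Agent.Lib.Helper17.FDiag
import Groth.Agent.Lib.Helper16.StalkPB
import Groth.Prelude
import Mathlib
set_option backward.isDefEq.respectTransparency.types false
set_option autoImplicit false
universe u
open AlgebraicGeometry CategoryTheory CategoryTheory.Limits TensorProduct

namespace Groth.Agent.Lib.Helper17.FDiag2
open Groth.Agent.Lib.Helper16.StalkPB

variable {X Y : Scheme.{u}} (f : X ⟶ Y) [Flat (pullback.diagonal f)]

theorem exists_flat_mul (x : X) :
    letI : Algebra (Y.presheaf.stalk (f x)) (X.presheaf.stalk x) := (f.stalkMap x).hom.toAlgebra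
    ∃ μ : (X.presheaf.stalk x) ⊗[Y.presheaf.stalk (f x)] (X.presheaf.stalk x) →+* X.presheaf.stalk x,
      μ.Flat ∧ μ.comp Algebra.TensorProduct.includeLeftRingHom = RingHom.id _ ∧
      μ.comp (Algebra.TensorProduct.includeRight :
        (X.presheaf.stalk x) →ₐ[Y.presheaf.stalk (f x)] _).toRingHom = RingHom.id _ := by
  letI : Algebra (Y.presheaf.stalk (f x)) (X.presheaf.stalk x) := (f.stalkMap x).hom.toAlgebra
  haveI : Flat (X.fromSpecStalk x ≫ pullback.diagonal f) := inferInstance
  refine exists_flat_tensor_map_aux (RingHom.id (X.presheaf.stalk x)) (RingHom.id (X.presheaf.stalk x)) rfl f f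
    (X.fromSpecStalk x) (Y.fromSpecStalk (f x)) (X.fromSpecStalk x)
    (Scheme.SpecMap_stalkMap_fromSpecStalk f) (Scheme.SpecMap_stalkMap_fromSpecStalk f)
    (X.fromSpecStalk x ≫ pullback.diagonal f) ?_ ?_
  · rw [Category.assoc, pullback.diagonal_fst, Category.comp_id]
    change _ = Spec.map (𝟙 _) ≫ _
    rw [Spec.map_id, Category.id_comp]
  · rw [Category.assoc, pullback.diagonal_snd, Category.comp_id]
    change _ = Spec.map (𝟙 _) ≫ _
    rw [Spec.map_id, Category.id_comp]

theorem isFlatAt_of_flat_diagonal (F : X.Modules) (x : X) (hF : FlatMod.IsFlatOverAt f F x) :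
    FlatMod.IsFlatAt F x := by
  letI : Algebra (Y.presheaf.stalk (f x)) (X.presheaf.stalk x) := (f.stalkMap x).hom.toAlgebra
  obtain ⟨μ, hμ, h1, h2⟩ := exists_flat_mul f x
  letI : Module (Y.presheaf.stalk (f x)) (F.presheaf.stalk x) := FlatMod.moduleStalkOver f F x
  haveI : IsScalarTower (Y.presheaf.stalk (f x)) (X.presheaf.stalk x) (F.presheaf.stalk x) :=
    IsScalarTower.of_compHom _ _ _
  haveI : Module.Flat (Y.presheaf.stalk (f x)) (F.presheaf.stalk x) := hF
  exact Groth.Agent.Lib.Helper17.FDiag.flat_of_flat_diag _ _ μ hμ h1 h2 _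

end Groth.Agent.Lib.Helper17.FDiag2
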