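import Mathlib

/-!
# Artin–Rees consequences used for the full faithfulness of completion (helper17)
-/

set_option autoImplicit false
universe u

namespace Groth.Agent.Lib.Helper17.FFAlg

variable {B : Type u} [CommRing B] [IsNoetherianRing B] (J : Ideal B)

omit [IsNoetherianRing B] in
/-- membership in `J • ⊤` of a finite product is coordinatewise -/
theorem mem_smul_top_pi_iff {ι : Type*} [Finite ι] {Q : Type u} [AddCommGroup Q] [Module B Q]
    (K : Ideal B) (x : ι → Q) :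
    x ∈ K • (⊤ : Submodule B (ι → Q)) ↔ ∀ i, x i ∈ K • (⊤ : Submodule B Q) := by
  classical
  haveI := Fintype.ofFinite ι
  constructor
  · intro hx i
    have h1 : (LinearMap.proj i : (ι → Q) →ₗ[B] Q) x ∈
        Submodule.map (LinearMap.proj i) (K • (⊤ : Submodule B (ι → Q))) :=
      Submodule.mem_map_of_mem hx
    rw [Submodule.map_smul''] at h1
    exact (Submodule.smul_mono (le_refl K) le_top) h1
  · intro hx
    have h1 : x = ∑ i, (LinearMap.single B (fun _ => Q) i) (x i) := by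
      funext j
      simp [Finset.sum_apply, Pi.single_apply]
    rw [h1]
    refine Submodule.sum_mem _ fun i _ => ?_
    have h2 : (LinearMap.single B (fun _ => Q) i) (x i) ∈
        Submodule.map (LinearMap.single B (fun _ => Q) i) (K • (⊤ : Submodule B Q)) :=
      Submodule.mem_map_of_mem (hx i)
    rw [Submodule.map_smul''] at h2
    exact (Submodule.smul_mono (le_refl K) le_top) h2

/-- Artin–Rees, injectivity form: elements of a submodule `E` of `Q^s` whose coordinates lie in a high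
power of `J` lie in `J^n • E`. -/
theorem ar_inj {Q : Type u} [AddCommGroup Q] [Module B Q] [Module.Finite B Q] {s : ℕ}
    (E : Submodule B (Fin s → Q)) (n : ℕ) :
    ∃ m, n ≤ m ∧ ∀ t ∈ E, (∀ i, t i ∈ J ^ m • (⊤ : Submodule B Q)) → t ∈ J ^ n • E := by
  obtain ⟨k, hk⟩ := Ideal.exists_pow_inf_eq_pow_smul J E
  refine ⟨n + k, Nat.le_add_right n k, fun t ht hti => ?_⟩
  have h1 : t ∈ J ^ (n + k) • (⊤ : Submodule B (Fin s → Q)) ⊓ E :=
    ⟨(mem_smul_top_pi_iff _ t).2 hti, ht⟩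
  rw [hk (n + k) (Nat.le_add_left k n), Nat.add_sub_cancel] at h1
  exact (Submodule.smul_mono (le_refl _) inf_le_right) h1

/-- Artin–Rees, surjectivity form: a tuple whose image under `Λ` lies in a high power of `J` can be
corrected modulo `J^n` to an element of the kernel of `Λ`. -/
theorem ar_surj {Q Q' : Type u} [AddCommGroup Q] [Module B Q] [AddCommGroup Q'] [Module B Q']
    [Module.Finite B Q'] {s : ℕ} (Λ : (Fin s → Q) →ₗ[B] Q') (n : ℕ) :
    ∃ m, n ≤ m ∧ ∀ t : Fin s → Q, Λ t ∈ J ^ m • (⊤ : Submodule B Q') →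
      ∃ t' : Fin s → Q, Λ t' = 0 ∧ ∀ i, t i - t' i ∈ J ^ n • (⊤ : Submodule B Q) := by
  obtain ⟨k, hk⟩ := Ideal.exists_pow_inf_eq_pow_smul J (LinearMap.range Λ)
  refine ⟨n + k, Nat.le_add_right n k, fun t ht => ?_⟩
  have h1 : Λ t ∈ J ^ (n + k) • (⊤ : Submodule B Q') ⊓ LinearMap.range Λ := ⟨ht, ⟨t, rfl⟩⟩
  rw [hk (n + k) (Nat.le_add_left k n), Nat.add_sub_cancel] at h1
  have h2 : Λ t ∈ J ^ n • LinearMap.range Λ := (Submodule.smul_mono (le_refl _) inf_le_right) h1
  rw [LinearMap.range_eq_map, ← Submodule.map_smul''] at h2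
  obtain ⟨y, hy, hyt⟩ := h2
  refine ⟨t - y, by rw [map_sub, hyt, sub_self], fun i => ?_⟩
  have h3 : t i - (t - y) i = y i := by simp
  rw [h3]
  exact (mem_smul_top_pi_iff _ y).1 hy i

omit [IsNoetherianRing B] in
/-- elements of `(K.map f) • ⊤` are finite sums `∑ f a_i • z_i` with `a_i ∈ K` -/
theorem exists_sum_of_mem_map_smul_top {A : Type u} [CommRing A] (f : A →+* B) (K : Ideal A)
    {Q : Type u} [AddCommGroup Q] [Module B Q] {x : Q}
    (hx : x ∈ (K.map f) • (⊤ : Submodule B Q)) :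
    ∃ (r : ℕ) (a : Fin r → A) (z : Fin r → Q), (∀ i, a i ∈ K) ∧ x = ∑ i, f (a i) • z i := by
  refine Submodule.smul_induction_on hx ?_ ?_
  · intro b hb z _
    -- b ∈ K.map f
    refine Submodule.span_induction (p := fun b _ => ∃ (r : ℕ) (a : Fin r → A) (z' : Fin r → Q),
      (∀ i, a i ∈ K) ∧ b • z = ∑ i, f (a i) • z' i) ?_ ?_ ?_ ?_ hb
    · rintro _ ⟨a, ha, rfl⟩
      exact ⟨1, fun _ => a, fun _ => z, fun _ => ha, by simp⟩
    · exact ⟨0, Fin.elim0, Fin.elim0, fun i => i.elim0, by simp⟩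
    · rintro b₁ b₂ _ _ ⟨r₁, a₁, z₁, h₁, e₁⟩ ⟨r₂, a₂, z₂, h₂, e₂⟩
      refine ⟨r₁ + r₂, Fin.append a₁ a₂, Fin.append z₁ z₂, fun i => ?_, ?_⟩
      · refine Fin.addCases (fun j => ?_) (fun j => ?_) i
        · rw [Fin.append_left]; exact h₁ j
        · rw [Fin.append_right]; exact h₂ j
      · rw [add_smul, e₁, e₂, Fin.sum_univ_add]
        simp
    · rintro c b _ ⟨r, a, z', h, e⟩
      refine ⟨r, a, fun i => c • z' i, h, ?_⟩
      rw [smul_eq_mul, mul_smul, e, Finset.smul_sum]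
      refine Finset.sum_congr rfl fun i _ => ?_
      rw [smul_comm]
  · rintro x y ⟨r₁, a₁, z₁, h₁, e₁⟩ ⟨r₂, a₂, z₂, h₂, e₂⟩
    refine ⟨r₁ + r₂, Fin.append a₁ a₂, Fin.append z₁ z₂, fun i => ?_, ?_⟩
    · refine Fin.addCases (fun j => ?_) (fun j => ?_) i
      · rw [Fin.append_left]; exact h₁ j
      · rw [Fin.append_right]; exact h₂ j
    · rw [e₁, e₂, Fin.sum_univ_add]
      simp

omit [IsNoetherianRing B] in
theorem sum_mem_map_smul_top {A : Type u} [CommRing A] (f : A →+* B) (K : Ideal A)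
    {Q : Type u} [AddCommGroup Q] [Module B Q] {r : ℕ} (a : Fin r → A) (z : Fin r → Q)
    (ha : ∀ i, a i ∈ K) : ∑ i, f (a i) • z i ∈ (K.map f) • (⊤ : Submodule B Q) :=
  Submodule.sum_mem _ fun i _ =>
    Submodule.smul_mem_smul (Ideal.mem_map_of_mem f (ha i)) Submodule.mem_top

end Groth.Agent.Lib.Helper17.FFAlg
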