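import Groth.Agent.Lib.Helper17.FFLocG
import Mathlib

/-!
# Full faithfulness of completion: gluing, over an arbitrary base ring (helper17)

Copy of the gluing section of `FFGlue` with the Noetherian hypothesis on the base ring removed
(using `FFLocG`).
-/

set_option autoImplicit false
set_option backward.isDefEq.respectTransparency.types false
universe u
open CategoryTheory CategoryTheory.Limits AlgebraicGeometry Opposite TopologicalSpace
open RefHull

namespace Groth.Agent.Lib.Helper17.FFGlueG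

open Groth.Agent.Lib.Helper28.QCohLoc Groth.Agent.Lib.Helper29.QCohStalk
open Groth.Agent.Lib.Helper1.RefHullLib Groth.Agent.S16485
open Groth.Agent.Lib.Helper23.FQuot Groth.Agent.Lib.Helper17.FFSec Groth.Agent.Lib.Helper17.FFAlg
open Groth.Agent.Lib.Helper17.FFLocG
open Groth.Agent.Lib.Helper17.FFLoc (JU)
open Groth.Agent.Lib.Helper17.FFGlue (πc πc_eq πc_map le_iSup_affine post_eq_zero_of_mem)

variable {A : Type u} [CommRing A] {X : Scheme.{u}} [X.Over (Spec (CommRingCat.of A))]
variable {M N : X.Modules}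

section Glue

variable [IsLocallyNoetherian X] (I : Ideal A) (hM : Coh.IsCoh M)
  (hN : Coh.IsCoh N) (q : ∀ j, M ⟶ (Formal.completion I N).obj (op j))
  (hq : ∀ (j l : ℕ) (h : j ≤ l), q l ≫ (Formal.completion I N).map (homOfLE h).op = q j)

/-- `k` lifts the `j`-th component of the system over `U` -/
def Lift (U : X.Opens) (j : ℕ) (k : Γ(homSh M N, U)) : Prop :=
  post (πc I N j) k = ofHom (q j) U

include hq in
omit [IsLocallyNoetherian X] in
theorem Lift.mono {U : X.Opens} {j l : ℕ} (h : j ≤ l) {k : Γ(homSh M N, U)}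
    (hk : Lift I q U l k) : Lift I q U j k := by
  unfold Lift at hk ⊢
  rw [← πc_map I N h, ← post_post, hk, post_ofHom, hq j l h]

omit [IsLocallyNoetherian X] in
theorem Lift.res {U V : X.Opens} (hVU : V ≤ U) {j : ℕ} {k : Γ(homSh M N, U)}
    (hk : Lift I q U j k) : Lift I q V j (res (homSh M N) hVU k) := by
  unfold Lift at hk ⊢
  rw [post_res, hk, ofHom_res]

include hM hN hq in
theorem exists_lift {U : X.Opens} (hU : IsAffineOpen U) (j : ℕ) :
    ∃ k : Γ(homSh M N, U), Lift I q U j k := by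
  obtain ⟨m, hm, h⟩ := s1 I M N hM hN hU (j + 1)
  obtain ⟨l, rfl⟩ : ∃ l, m = l + 1 := ⟨m - 1, by omega⟩
  have hjl : j ≤ l := by omega
  obtain ⟨k, hk⟩ := h ((Formal.completion I N).map (homOfLE hjl).op) (πc_map I N hjl)
    (ofHom (q l) U)
  refine ⟨k, ?_⟩
  unfold Lift
  rw [πc_eq]
  exact hk.trans ((post_ofHom (q l) ((Formal.completion I N).map (homOfLE hjl).op) U).trans
    (congrArg (fun φ => ofHom φ U) (hq j l hjl)))

include hM hN in
theorem exists_level {U : X.Opens} (hU : IsAffineOpen U) (j' : ℕ) :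
    ∃ j, j' ≤ j ∧ ∀ k : Γ(homSh M N, U), post (πc I N j) k = 0 →
      (πc I (homSh M N) j').app U k = 0 := by
  obtain ⟨n, hn, h⟩ := s2 I M N hM hN hU (j' + 1)
  obtain ⟨j, rfl⟩ : ∃ j, n = j + 1 := ⟨n - 1, by omega⟩
  exact ⟨j, by omega, fun k hk => h k hk⟩

include hM hN hq in
theorem exists_level' {U : X.Opens} (hU : IsAffineOpen U) (j' : ℕ) :
    ∃ j0, j' ≤ j0 ∧ ∀ (j₁ j₂ : ℕ) (k₁ k₂ : Γ(homSh M N, U)), j0 ≤ j₁ → j0 ≤ j₂ →
      Lift I q U j₁ k₁ → Lift I q U j₂ k₂ →
      (πc I (homSh M N) j').app U k₁ = (πc I (homSh M N) j').app U k₂ := by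
  obtain ⟨j0, hj0, h⟩ := exists_level I hM hN hU j'
  refine ⟨j0, hj0, fun j₁ j₂ k₁ k₂ h₁ h₂ hk₁ hk₂ => ?_⟩
  have e₁ := Lift.mono I q hq h₁ hk₁
  have e₂ := Lift.mono I q hq h₂ hk₂
  unfold Lift at e₁ e₂
  have h3 : post (πc I N j0) (k₁ - k₂) = 0 := by
    rw [post_sub, e₁, e₂, sub_self]
  have h4 := h _ h3
  rw [map_sub, sub_eq_zero] at h4
  exact h4


omit [X.Over (Spec (CommRingCat.of A))] [IsLocallyNoetherian X] in
theorem top_le_iSup_affine' : (⊤ : X.Opens) ≤ ⨆ U : X.affineOpens, U.1 := by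
  rw [iSup_affineOpens_eq_top]

include hM hN hq in
/-- **gluing**: a compatible system of maps `M ⟶ N / I^(j+1) N` defines a compatible system of global
sections of `Hom(M, N) / I^(j+1)`, such that any global homomorphism inducing these sections induces the
given system. -/
theorem exists_compatible_sections :
    ∃ hs : ∀ j, Γ((Formal.completion I (homSh M N)).obj (op j), ⊤),
      (∀ j, ((Formal.completion I (homSh M N)).map (homOfLE (Nat.le_succ j)).op).app ⊤
        (hs (j + 1)) = hs j) ∧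
      ∀ h : Γ(homSh M N, ⊤), (∀ j, (πc I (homSh M N) j).app ⊤ h = hs j) →
        ∀ j, homOfSec h ≫ πc I N j = q j := by
  classical
  have hlev := fun (U : X.affineOpens) (j' : ℕ) => exists_level' I hM hN q hq U.2 j'
  choose N2 hN2 hN2' using hlev
  have hlift := fun (U : X.affineOpens) (j : ℕ) => exists_lift I hM hN q hq U.2 j
  choose kk hkk using hlift
  let H := homSh M N
  let Hc := fun j => (Formal.completion I H).obj (op j)
  let hU : ∀ (U : X.affineOpens) (j' : ℕ), Γ(Hc j', U.1) :=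
    fun U j' => (πc I H j').app U.1 (kk U (N2 U j'))
  have L6 : ∀ (U : X.affineOpens) (j' j : ℕ) (k : Γ(H, U.1)), N2 U j' ≤ j → Lift I q U.1 j k →
      (πc I H j').app U.1 k = hU U j' := fun U j' j k hj hk =>
    hN2' U j' j (N2 U j') k (kk U (N2 U j')) hj le_rfl hk (hkk U _)
  have L7 : ∀ (U V : X.affineOpens) (hVU : V.1 ≤ U.1) (j' : ℕ),
      res (Hc j') hVU (hU U j') = hU V j' := by
    intro U V hVU j'
    have h1 := L6 U j' (max (N2 U j') (N2 V j')) (kk U _) (le_max_left _ _) (hkk U _)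
    have h2 := L6 V j' (max (N2 U j') (N2 V j')) (res H hVU (kk U _)) (le_max_right _ _)
      (Lift.res I q hVU (hkk U _))
    rw [← h1, ← h2]
    exact (Groth.Agent.Lib.Helper28.QCohLoc.app_res (πc I H j') hVU (kk U _)).symm
  have hglue : ∀ j', ∃ s : Γ(Hc j', ⊤), ∀ U : X.affineOpens,
      res (Hc j') (le_top : U.1 ≤ ⊤) s = hU U j' := by
    intro j'
    refine exists_gluing (Hc j') (fun U : X.affineOpens => U.1) ⊤ (fun _ => le_top)
      top_le_iSup_affine' (fun U => hU U j') ?_
    intro U U'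
    refine eq_of_locally_eq (Hc j')
      (fun V : {V : X.affineOpens // V.1 ≤ U.1 ⊓ U'.1} => V.1.1) (U.1 ⊓ U'.1) (fun V => V.2)
      (le_iSup_affine _) _ _ ?_
    intro V
    rw [res_res, res_res, L7 U V.1 _ j', L7 U' V.1 _ j']
  choose hs hhs using hglue
  refine ⟨hs, ?_, ?_⟩
  · intro j
    refine eq_of_locally_eq (Hc j) (fun U : X.affineOpens => U.1) ⊤ (fun _ => le_top)
      top_le_iSup_affine' _ _ ?_
    intro U
    rw [hhs j U, ← Groth.Agent.Lib.Helper28.QCohLoc.app_res, hhs (j + 1) U]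
    rw [← L6 U (j + 1) (max (N2 U (j + 1)) (N2 U j)) (kk U _) (le_max_left _ _) (hkk U _),
      ← L6 U j (max (N2 U (j + 1)) (N2 U j)) (kk U _) (le_max_right _ _) (hkk U _)]
    have := πc_map I H (Nat.le_succ j)
    exact congrArg (fun φ => φ.app U.1 (kk U (max (N2 U (j + 1)) (N2 U j)))) this
  · intro h hh j
    have key : post (πc I N j) h = ofHom (q j) ⊤ := by
      refine eq_of_locally_eq (homSh M _) (fun U : X.affineOpens => U.1) ⊤ (fun _ => le_top)
        top_le_iSup_affine' _ _ ?_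
      intro U
      rw [← post_res, ofHom_res]
      have hl := hkk U (max (N2 U j) j)
      have h1 : (πc I H j).app U.1 (res H le_top h) =
          (πc I H j).app U.1 (kk U (max (N2 U j) j)) := by
        rw [Groth.Agent.Lib.Helper28.QCohLoc.app_res, hh j, hhs j U,
          L6 U j (max (N2 U j) j) (kk U _) (le_max_left _ _) hl]
      have h2 : (πc I H j).app U.1 (res H le_top h - kk U (max (N2 U j) j)) = 0 := by
        rw [map_sub, h1, sub_self]
      haveI := (isCoh_homSh M N hM hN).1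
      have h3 := (app_modPowπ_eq_zero_iff' I (j + 1) H U.2 _).1 h2
      have h4 := post_eq_zero_of_mem I (j + 1) _ h3
      rw [post_sub, sub_eq_zero] at h4
      exact h4.trans (Lift.mono I q hq (le_max_right _ _) hl)
    rw [homOfSec_comp, key, homOfSec_ofHom]


omit [X.Over (Spec (CommRingCat.of A))] [IsLocallyNoetherian X] in
theorem ofHom_zero' (U : X.Opens) : ofHom (0 : M ⟶ N) U = 0 :=
  ext_of_app _ _ fun V' hV' m => by
    rw [app_ofHom, app_zero_left]
    rfl

include hM hN in
/-- a global homomorphism that vanishes modulo all powers of `I` has zero image in all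
`Hom(M, N) / I^(j+1)`. -/
theorem app_eq_zero_of_comp_eq_zero (h : Γ(homSh M N, ⊤))
    (hh : ∀ j, homOfSec h ≫ πc I N j = 0) (j' : ℕ) :
    (πc I (homSh M N) j').app ⊤ h = 0 := by
  refine eq_of_locally_eq _ (fun U : X.affineOpens => U.1) ⊤ (fun _ => le_top)
    top_le_iSup_affine' _ _ ?_
  intro U
  rw [res_zero, ← Groth.Agent.Lib.Helper28.QCohLoc.app_res]
  obtain ⟨j, hj, hlev⟩ := exists_level I hM hN U.2 j'
  apply hlev
  rw [post_res]
  have h1 : post (πc I N j) h = 0 := by
    have h2 := hh j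
    rw [homOfSec_comp] at h2
    rw [← ofHom_homOfSec (post (πc I N j) h), h2, ofHom_zero']
  rw [h1, res_zero]

end Glue

end Groth.Agent.Lib.Helper17.FFGlueG
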