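import Groth.Agent.Lib.Helper17.FFSec
import Groth.Agent.Lib.Helper17.FFAlg
import Groth.Agent.Lib.Helper23.Formal.FormalLimit
import Groth.Agent.Lib.Helper23.Formal.Completion
import Mathlib

/-!
# Full faithfulness of completion: the local statements on an affine open (helper17)
-/

set_option autoImplicit false
set_option backward.isDefEq.respectTransparency.types false
universe u
open CategoryTheory CategoryTheory.Limits AlgebraicGeometry Opposite TopologicalSpace
open RefHull

namespace Groth.Agent.Lib.Helper17.FFLoc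

open Groth.Agent.Lib.Helper28.QCohLoc Groth.Agent.Lib.Helper29.QCohStalk
open Groth.Agent.Lib.Helper1.RefHullLib Groth.Agent.S16485
open Groth.Agent.Lib.Helper23.FQuot Groth.Agent.Lib.Helper17.FFSec Groth.Agent.Lib.Helper17.FFAlg

variable {A : Type u} [CommRing A] [IsNoetherianRing A] {X : Scheme.{u}}
  [X.Over (Spec (CommRingCat.of A))]

omit [IsNoetherianRing A] in
theorem smulMod_app' (P : X.Modules) (a : A) (U : X.Opens) (m : Γ(P, U)) :
    (Formal.smulMod A P a).app U m = toSec (A := A) U a • m := rfl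

/-- the extension of `I ^ n` to the ring of functions on `U` -/
noncomputable abbrev JU (I : Ideal A) (U : X.Opens) : Ideal Γ(X, U) := I.map (toSec (A := A) U)

/-- sections killed by the projection to `P / I^n P` over an affine open -/
theorem app_modPowπ_eq_zero_iff (I : Ideal A) (n : ℕ) (P : X.Modules) [P.IsQuasicoherent]
    {U : X.Opens} (hU : IsAffineOpen U) (x : Γ(P, U)) :
    (Formal.modPowπ I n P).app U x = 0 ↔ x ∈ (JU I U) ^ n • (⊤ : Submodule Γ(X, U) Γ(P, U)) := by
  have hq := isQuot_modPowπ I n P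
  rw [JU, ← Ideal.map_pow]
  constructor
  · intro hx
    haveI : (∐ fun _ : (I ^ n : Ideal A) => P).IsQuasicoherent :=
      Groth.Agent.Lib.Helper16.QCohSigma.isQuasicoherent_sigma _
    haveI : (Formal.modPow I n P).IsQuasicoherent :=
      Groth.Agent.Lib.Helper17.CohKer.isQuasicoherent_cokernel (Formal.smulFamily (I ^ n) P)
    have hfg : (I ^ n).FG := (isNoetherianRing_iff_ideal_fg A).1 inferInstance _
    obtain ⟨r, a, z, ha, hxz⟩ := exists_sum_of_app_eq_zero hfg (Formal.modPowπ I n P) hq hU x hx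
    rw [hxz]
    exact sum_mem_map_smul_top (toSec (A := A) U) (I ^ n) a z ha
  · intro hx
    obtain ⟨r, a, z, ha, rfl⟩ := exists_sum_of_mem_map_smul_top (toSec (A := A) U) (I ^ n) hx
    rw [map_sum]
    refine Finset.sum_eq_zero fun i _ => ?_
    rw [← smulMod_app']
    have h1 := hq.zero (a i) (ha i)
    exact congrArg (fun φ : P ⟶ Formal.modPow I n P => φ.app U (z i)) h1


section Aff

variable (M : X.Modules) {U : X.Opens} {s : ℕ}
  (fN : (Fin s → Γ(X, U)) →ₗ[Γ(X, U)] Γ(M, U))

omit [IsNoetherianRing A] [X.Over (Spec (CommRingCat.of A))] in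
theorem comb_add_left (G : X.Modules) (t t' : Fin s → Γ(G, U)) (a : Fin s → Γ(X, U)) :
    comb G (le_refl U) (t + t') a = comb G (le_refl U) t a + comb G (le_refl U) t' a := by
  unfold comb
  rw [← Finset.sum_add_distrib]
  refine Finset.sum_congr rfl fun i _ => ?_
  rw [Pi.add_apply, smul_add]

/-- evaluation on generators, as a linear map -/
noncomputable def evL (G : X.Modules) : Γ(homSh M G, U) →ₗ[Γ(X, U)] (Fin s → Γ(G, U)) where
  toFun := ev M G fN (le_refl U)
  map_add' := ev_add fN (le_refl U)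
  map_smul' := ev_smul fN (le_refl U)

omit [IsNoetherianRing A] [X.Over (Spec (CommRingCat.of A))] in
theorem evL_apply (G : X.Modules) (k : Γ(homSh M G, U)) : evL M fN G k = ev M G fN (le_refl U) k := rfl

/-- tuples satisfying the relations -/
def relSub (G : X.Modules) : Submodule Γ(X, U) (Fin s → Γ(G, U)) where
  carrier := {t | ∀ a, fN a = 0 → comb G (le_refl U) t a = 0}
  add_mem' := by
    intro t t' ht ht' a ha
    rw [comb_add_left, ht a ha, ht' a ha, add_zero]
  zero_mem' := by
    intro a _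
    unfold comb
    refine Finset.sum_eq_zero fun i _ => ?_
    rw [Pi.zero_apply, smul_zero]
  smul_mem' := by
    intro c t ht a ha
    have h1 := comb_smul_left G (le_refl U) c t a
    have h2 : (c • t) = fun i => c • t i := rfl
    rw [h2, h1, ht a ha, smul_zero]

omit [IsNoetherianRing A] [X.Over (Spec (CommRingCat.of A))] in
theorem mem_relSub (G : X.Modules) (t : Fin s → Γ(G, U)) :
    t ∈ relSub M fN G ↔ ∀ a, fN a = 0 → comb G (le_refl U) t a = 0 := Iff.rfl

variable [M.IsQuasicoherent] (hU : IsAffineOpen U) (hfN : Function.Surjective fN)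

include hU hfN in
omit [IsNoetherianRing A] [X.Over (Spec (CommRingCat.of A))] in
theorem evL_injective (G : X.Modules) : Function.Injective (evL M fN G) :=
  fun h h' he => ev_injective fN hU hfN (le_refl U) h h' he

include hU hfN in
omit [IsNoetherianRing A] [X.Over (Spec (CommRingCat.of A))] in
theorem range_evL (G : X.Modules) : LinearMap.range (evL M fN G) = relSub M fN G := by
  apply le_antisymm
  · rintro _ ⟨k, rfl⟩ a ha
    exact comb_ev_eq_zero fN (le_refl U) k a ha
  · intro t ht
    exact ⟨liftSection M G hU (le_refl U) fN hfN t ht, ev_liftSection fN hU hfN (le_refl U) t ht⟩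


end Aff

section Main

variable [IsLocallyNoetherian X] (I : Ideal A) (M N : X.Modules) (hM : Coh.IsCoh M)
  (hN : Coh.IsCoh N) {U : X.Opens} (hU : IsAffineOpen U)

include hM hN hU in
/-- local injectivity statement: a local homomorphism that vanishes modulo a high power of `I` lies in
`I^n' Hom`. -/
theorem s2 (n' : ℕ) : ∃ n, n' ≤ n ∧ ∀ k : Γ(homSh M N, U),
    post (Formal.modPowπ I n N) k = 0 → (Formal.modPowπ I n' (homSh M N)).app U k = 0 := by
  haveI := hM.1
  haveI := hM.2
  haveI := hN.1
  haveI := hN.2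
  haveI : IsNoetherianRing Γ(X, U) := IsLocallyNoetherian.component_noetherian ⟨U, hU⟩
  haveI : Module.Finite Γ(X, U) Γ(M, U) :=
    Groth.Agent.Lib.Helper28.FinType.finite_of_isAffineOpen M hU
  haveI : Module.Finite Γ(X, U) Γ(N, U) :=
    Groth.Agent.Lib.Helper28.FinType.finite_of_isAffineOpen N hU
  have hH : Coh.IsCoh (homSh M N) := isCoh_homSh M N hM hN
  haveI := hH.1
  obtain ⟨s, fN, hfN⟩ := Module.Finite.exists_fin' Γ(X, U) Γ(M, U)
  obtain ⟨n, hn, h⟩ := ar_inj (JU (A := A) I U) (relSub M fN N) n'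
  refine ⟨n, hn, fun k hk => ?_⟩
  rw [app_modPowπ_eq_zero_iff I n' (homSh M N) hU]
  have h1 : evL M fN N k ∈ relSub M fN N := by
    rw [← range_evL M fN hU hfN N]
    exact ⟨k, rfl⟩
  have h2 : ∀ i, evL M fN N k i ∈ (JU (A := A) I U) ^ n • (⊤ : Submodule Γ(X, U) Γ(N, U)) := by
    intro i
    rw [← app_modPowπ_eq_zero_iff I n N hU, evL_apply, ← ev_post, hk, ev_zero]
    rfl
  have h3 := h _ h1 h2
  rw [← range_evL M fN hU hfN N, LinearMap.range_eq_map, ← Submodule.map_smul''] at h3
  obtain ⟨k', hk', hkk'⟩ := h3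
  rw [← evL_injective M fN hU hfN N hkk']
  exact hk'


omit [IsNoetherianRing A] [X.Over (Spec (CommRingCat.of A))] [IsLocallyNoetherian X] in
theorem app_comb {G G' : X.Modules} (φ : G ⟶ G') {s : ℕ} (t : Fin s → Γ(G, U))
    (a : Fin s → Γ(X, U)) :
    φ.app U (comb G (le_refl U) t a) = comb G' (le_refl U) (fun i => φ.app U (t i)) a := by
  unfold comb
  rw [map_sum]
  refine Finset.sum_congr rfl fun i _ => ?_
  exact Scheme.Modules.Hom.app_smul φ _ _

include hM hN hU in
/-- local surjectivity statement: a local homomorphism into `N / I^m N` becomes, modulo `I^n`, the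
reduction of a local homomorphism into `N`. -/
theorem s1 (n : ℕ) : ∃ m, n ≤ m ∧ ∀ (t : Formal.modPow I m N ⟶ Formal.modPow I n N),
    Formal.modPowπ I m N ≫ t = Formal.modPowπ I n N →
    ∀ g : Γ(homSh M (Formal.modPow I m N), U), ∃ k : Γ(homSh M N, U),
      post (Formal.modPowπ I n N) k = post t g := by
  haveI := hM.1
  haveI := hM.2
  haveI := hN.1
  haveI := hN.2
  haveI : IsNoetherianRing Γ(X, U) := IsLocallyNoetherian.component_noetherian ⟨U, hU⟩
  haveI : Module.Finite Γ(X, U) Γ(M, U) :=
    Groth.Agent.Lib.Helper28.FinType.finite_of_isAffineOpen M hU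
  haveI : Module.Finite Γ(X, U) Γ(N, U) :=
    Groth.Agent.Lib.Helper28.FinType.finite_of_isAffineOpen N hU
  haveI : Module.FinitePresentation Γ(X, U) Γ(M, U) := Module.finitePresentation_of_finite _ _
  obtain ⟨s, r, fN, gR, hfN, hex⟩ := Module.FinitePresentation.exists_fin' Γ(X, U) Γ(M, U)
  let Λ : (Fin s → Γ(N, U)) →ₗ[Γ(X, U)] (Fin r → Γ(N, U)) :=
    { toFun := fun t j => comb N (le_refl U) t (gR (stdB r j))
      map_add' := fun t t' => funext fun j => comb_add_left N t t' _
      map_smul' := fun c t => funext fun j => comb_smul_left N (le_refl U) c t _ }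
  obtain ⟨m, hm, h⟩ := ar_surj (JU (A := A) I U) Λ n
  refine ⟨m, hm, fun t ht g => ?_⟩
  have hNm : Coh.IsCoh (Formal.modPow I m N) := isCoh_modPow I m N hN
  haveI := hNm.1
  have hsurj : Function.Surjective ((Formal.modPowπ I m N).app U) :=
    Groth.Agent.Lib.Helper23.Tower.surj_sections_of_epi (Formal.modPowπ I m N) hU
  choose lift hlift using hsurj
  let t0 : Fin s → Γ(N, U) := fun i => lift (ev M _ fN (le_refl U) g i)
  have hΛ : Λ t0 ∈ (JU (A := A) I U) ^ m • (⊤ : Submodule Γ(X, U) (Fin r → Γ(N, U))) := by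
    rw [mem_smul_top_pi_iff]
    intro j
    rw [← app_modPowπ_eq_zero_iff I m N hU]
    change (Formal.modPowπ I m N).app U (comb N (le_refl U) t0 (gR (stdB r j))) = 0
    rw [app_comb]
    have h1 : (fun i => (Formal.modPowπ I m N).app U (t0 i)) = ev M _ fN (le_refl U) g :=
      funext fun i => hlift _
    rw [h1]
    exact comb_ev_eq_zero fN (le_refl U) g _ (hex.apply_apply_eq_zero _)
  obtain ⟨t', ht'0, ht'⟩ := h t0 hΛ
  have hrel : ∀ a, fN a = 0 → comb N (le_refl U) t' a = 0 := by
    intro a ha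
    obtain ⟨b, rfl⟩ := (hex a).1 ha
    exact comb_eq_zero_of_generators N (le_refl U) t' gR (fun j => congrFun ht'0 j) b
  refine ⟨liftSection M N hU (le_refl U) fN hfN t' hrel, ?_⟩
  apply ev_injective fN hU hfN (le_refl U)
  funext i
  rw [ev_post, ev_post, ev_liftSection fN hU hfN (le_refl U) t' hrel]
  have h1 : (Formal.modPowπ I n N).app U (t0 i - t' i) = 0 :=
    (app_modPowπ_eq_zero_iff I n N hU _).2 (ht' i)
  rw [map_sub, sub_eq_zero] at h1
  rw [← h1, ← ht]
  change t.app U ((Formal.modPowπ I m N).app U (t0 i)) = _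
  rw [hlift]

end Main

end Groth.Agent.Lib.Helper17.FFLoc
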