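import Groth.Agent.Lib.Helper17.FFMainG
import Groth.Agent.Lib.Helper29.FPFree
import Groth.Agent.S16240
import Groth.Agent.S16485
import Mathlib

/-!
# The sheaf Hom of finite locally free modules is finite locally free (helper17)
-/

set_option autoImplicit false
set_option backward.isDefEq.respectTransparency.types false
universe u
open CategoryTheory CategoryTheory.Limits AlgebraicGeometry Opposite TopologicalSpace
open RefHull

namespace Groth.Agent.Lib.Helper17.FFLocFree

open Groth.Agent.Lib.Helper29.FPFree

variable {X : Scheme.{u}}

theorem isCoh_of_isFinLocFree (E : X.Modules) (hE : FlatMod.IsFinLocFree E) : Coh.IsCoh E := by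
  haveI := isFinitePresentation_of_isFinLocFree E hE
  haveI := Groth.Agent.Lib.Helper29.FPDict.isQuasicoherent_of_isFinitePresentation E
  exact ⟨inferInstance, inferInstance⟩

theorem isFinLocFree_homSh [IsLocallyNoetherian X] (E E' : X.Modules) (hE : FlatMod.IsFinLocFree E)
    (hE' : FlatMod.IsFinLocFree E') : FlatMod.IsFinLocFree (homSh E E') := by
  have hcE := isCoh_of_isFinLocFree E hE
  have hcE' := isCoh_of_isFinLocFree E' hE'
  have hH := Groth.Agent.Lib.Helper1.RefHullLib.isCoh_homSh E E' hcE hcE'
  haveI := Groth.Agent.S16240.isFinitePresentation_of_isCoh _ hH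
  haveI hFP := isFinitePresentation_of_isFinLocFree E hE
  refine isFinLocFree_of_free_stalks _ fun x => ?_
  haveI := free_stalk_of_isFinLocFree E hE x
  haveI := free_stalk_of_isFinLocFree E' hE' x
  haveI : Module.FinitePresentation (X.presheaf.stalk x) (E.presheaf.stalk x) := fp_stalk E x
  haveI : Module.Finite (X.presheaf.stalk x) (E.presheaf.stalk x) := inferInstance
  have hbij := Groth.Agent.S16485.result X E E' hFP x
  let e := LinearEquiv.ofBijective (evalStalk E E' x) hbij
  exact Module.Free.of_equiv e.symm

end Groth.Agent.Lib.Helper17.FFLocFree
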