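import Groth.Agent.Lib.Helper17.FFGlue
import Groth.Agent.Lib.Helper23.Formal.CompletionRestrict
import Mathlib

/-!
# Full faithfulness of completion, over an arbitrary base ring: the kernel of
`Γ(U, P) → Γ(U, P / J P)` on an affine open of a locally Noetherian scheme (helper17)
-/

set_option autoImplicit false
set_option backward.isDefEq.respectTransparency.types false
universe u
open CategoryTheory CategoryTheory.Limits AlgebraicGeometry Opposite TopologicalSpace
open RefHull

namespace Groth.Agent.Lib.Helper17.FFLocG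

open Groth.Agent.Lib.Helper28.QCohLoc Groth.Agent.Lib.Helper29.QCohStalk
open Groth.Agent.Lib.Helper1.RefHullLib Groth.Agent.S16485
open Groth.Agent.Lib.Helper23.FQuot Groth.Agent.Lib.Helper17.FFSec Groth.Agent.Lib.Helper17.FFAlg
open Groth.Agent.Lib.Helper17.FFLoc

variable {A : Type u} [CommRing A] {X : Scheme.{u}} [X.Over (Spec (CommRingCat.of A))]

/-- finitely many elements of `J` generating its extension to a Noetherian ring -/
theorem exists_fin_generators {B : Type u} [CommRing B] [IsNoetherianRing B] (f : A →+* B)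
    (J : Ideal A) : ∃ (r : ℕ) (a : Fin r → A), (∀ i, a i ∈ J) ∧
      J.map f = Ideal.span (Set.range (f ∘ a)) := by
  classical
  have hfg : (Ideal.span (f '' (J : Set A))).FG := (isNoetherianRing_iff_ideal_fg B).1 inferInstance _
  obtain ⟨s', hs', hspan⟩ := (Submodule.fg_span_iff_fg_span_finset_subset _).1 hfg
  have hch : ∀ b : s', ∃ a : A, a ∈ J ∧ f a = b.1 := fun b => hs' b.2
  choose c hcJ hc using hch
  let e := (Fintype.equivFin s').symm
  refine ⟨Fintype.card s', fun i => c (e i), fun i => hcJ _, ?_⟩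
  change Ideal.span (f '' (J : Set A)) = _
  rw [show Ideal.span (f '' (J : Set A)) = Submodule.span B (f '' (J : Set A)) from rfl, hspan]
  congr 1
  ext b
  constructor
  · intro hb
    refine ⟨e.symm ⟨b, hb⟩, ?_⟩
    change f (c (e (e.symm ⟨b, hb⟩))) = b
    rw [Equiv.apply_symm_apply, hc]
  · rintro ⟨i, rfl⟩
    change f (c (e i)) ∈ (s' : Set B)
    rw [hc]
    exact (e i).2

/-- the quotient by finitely many elements -/
theorem isQuot_cokernel_desc {r : ℕ} (a : Fin r → A) (P : X.Modules) :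
    IsQuot (Ideal.span (Set.range a))
      (cokernel.π (biproduct.desc fun i => Formal.smulMod A P (a i) :
        (⨁ fun _ : Fin r => P) ⟶ P)) := by
  set σ : (⨁ fun _ : Fin r => P) ⟶ P := biproduct.desc fun i => Formal.smulMod A P (a i) with hσ
  have hισ : ∀ i, biproduct.ι (fun _ : Fin r => P) i ≫ σ = Formal.smulMod A P (a i) := fun i =>
    biproduct.ι_desc _ i
  refine ⟨inferInstance, ?_, ?_⟩
  · refine smulMod_comp_eq_zero_of_span a _ fun i => ?_
    rw [← hισ i, Category.assoc, cokernel.condition, comp_zero]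
  · intro T g hg
    have h0 : σ ≫ g = 0 := by
      apply biproduct.hom_ext'
      intro i
      rw [← Category.assoc, hισ, comp_zero]
      exact hg _ (Ideal.subset_span ⟨i, rfl⟩)
    exact ⟨cokernel.desc σ g h0, cokernel.π_desc _ _ _⟩


theorem toSec_res {U V : X.Opens} (h : V ≤ U) (a : A) :
    resO h (toSec (A := A) U a) = toSec (A := A) V a := by
  unfold toSec
  change resO h (resO le_top _) = resO le_top _
  rw [resO_resO]

theorem smul_eq_zero_of_mem_span {Q' : X.Modules} {r : ℕ} (a : Fin r → A)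
    (hQ' : Formal.KilledBy (Ideal.span (Set.range a)) Q') {U V : X.Opens} (hVU : V ≤ U)
    (c : Γ(X, U)) (hc : c ∈ Ideal.span (Set.range (toSec (A := A) U ∘ a))) (m : Γ(Q', V)) :
    resO hVU c • m = 0 := by
  refine Submodule.span_induction (p := fun c _ => resO hVU c • m = 0) ?_ ?_ ?_ ?_ hc
  · rintro _ ⟨i, rfl⟩
    change resO hVU (toSec (A := A) U (a i)) • m = 0
    rw [toSec_res hVU (a i), ← smulMod_app']
    have h3 := hQ' (a i) (Ideal.subset_span ⟨i, rfl⟩)
    exact congrArg (fun φ : Q' ⟶ Q' => φ.app V m) h3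
  · change resO hVU 0 • m = 0
    rw [resO_zero, zero_smul]
  · intro c d _ _ hc hd
    change resO hVU (c + d) • m = 0
    rw [resO_add, add_smul, hc, hd, add_zero]
  · intro c d _ hd
    change resO hVU (c * d) • m = 0
    rw [resO_mul, mul_smul, hd, smul_zero]

/-- sections over an affine open killed by a quotient map `P ⟶ P / J P` lie in `J Γ(U, P)`; no
finiteness assumption on `J` or `A`. -/
theorem mem_of_app_eq_zero [IsLocallyNoetherian X] (J : Ideal A) {P Q : X.Modules}
    [P.IsQuasicoherent] [Q.IsQuasicoherent] (π : P ⟶ Q) (hπ : IsQuot J π)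
    {U : X.Opens} (hU : IsAffineOpen U) (x : Γ(P, U)) (hx : π.app U x = 0) :
    x ∈ (J.map (toSec (A := A) U)) • (⊤ : Submodule Γ(X, U) Γ(P, U)) := by
  haveI : IsNoetherianRing Γ(X, U) := IsLocallyNoetherian.component_noetherian ⟨U, hU⟩
  obtain ⟨r, a, haJ, hspan⟩ := exists_fin_generators (toSec (A := A) U) J
  have hJ' : Ideal.span (Set.range a) ≤ J := by
    rw [Ideal.span_le]
    rintro _ ⟨i, rfl⟩
    exact haJ i
  set σ : (⨁ fun _ : Fin r => P) ⟶ P := biproduct.desc fun i => Formal.smulMod A P (a i) with hσ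
  have hq' : IsQuot (Ideal.span (Set.range a)) (cokernel.π σ) := isQuot_cokernel_desc a P
  haveI : (⨁ fun _ : Fin r => P).IsQuasicoherent := isQuasicoherent_pow P r
  haveI : (cokernel σ).IsQuasicoherent :=
    Groth.Agent.Lib.Helper17.CohKer.isQuasicoherent_cokernel σ
  obtain ⟨t, ht⟩ := hq'.fac π (fun b hb => hπ.zero b (hJ' hb))
  haveI : Epi (cokernel.π σ) := hq'.epi
  have hQt : IsQuot J t := IsQuot.of_epi_comp (p := cokernel.π σ) (by rw [ht]; exact hπ)
  letI : (U : Scheme.{u}).Over (Spec (CommRingCat.of A)) :=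
    ⟨U.ι ≫ X ↘ Spec (CommRingCat.of A)⟩
  have hres : IsQuot J ((Scheme.Modules.restrictFunctor U.ι).map t) := hQt.restrict U.ι rfl
  have hkill : Formal.KilledBy J ((Scheme.Modules.restrictFunctor U.ι).obj (cokernel σ)) := by
    intro b hb
    rw [← map_smulMod_of_adj (Scheme.Modules.restrictAdjunction U.ι)
      (pushforward_map_smulMod U.ι rfl) (cokernel σ) b]
    apply Scheme.Modules.hom_ext
    intro W
    ext m0
    have hb' : toSec (A := A) U b ∈ Ideal.span (Set.range (toSec (A := A) U ∘ a)) := by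
      rw [← hspan]
      exact Ideal.mem_map_of_mem _ hb
    have key : ∀ m : Γ(cokernel σ, U.ι ''ᵁ W),
        (Formal.smulMod A (cokernel σ) b).app (U.ι ''ᵁ W) m = 0 := by
      intro m
      rw [smulMod_app', ← toSec_res (U.ι_image_le W) b]
      exact smul_eq_zero_of_mem_span a hq'.killed (U.ι_image_le W) _ hb' m
    exact key m0
  haveI hiso : IsIso ((Scheme.Modules.restrictFunctor U.ι).map t) := hres.isIso_of_killed hkill
  have hinj : ∀ (V : X.Opens), V = U.ι ''ᵁ ⊤ → Function.Injective (t.app V) := by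
    rintro V rfl
    intro s s' hss'
    have h1 : ∀ z : Γ(cokernel σ, U.ι ''ᵁ ⊤),
        (inv ((Scheme.Modules.restrictFunctor U.ι).map t)).app ⊤ (t.app (U.ι ''ᵁ ⊤) z) = z := by
      intro z
      have h2 := IsIso.hom_inv_id ((Scheme.Modules.restrictFunctor U.ι).map t)
      exact congrArg (fun φ : (Scheme.Modules.restrictFunctor U.ι).obj (cokernel σ) ⟶ _ =>
        φ.app ⊤ z) h2
    rw [← h1 s, ← h1 s', hss']
  have hinjU := hinj U U.ι_image_top.symm
  have h3 : (cokernel.π σ).app U x = 0 := by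
    apply hinjU
    rw [map_zero]
    have := congrArg (fun φ : P ⟶ Q => φ.app U x) ht
    exact this.trans hx
  have hfg : (Ideal.span (Set.range a)).FG := Submodule.fg_span (Set.finite_range a)
  obtain ⟨r', a', z, ha', hxz⟩ := exists_sum_of_app_eq_zero hfg (cokernel.π σ) hq' hU x h3
  rw [hxz]
  exact sum_mem_map_smul_top (toSec (A := A) U) J a' z (fun i => hJ' (ha' i))


/-- sections killed by the projection to `P / I^n P` over an affine open; arbitrary base ring -/
theorem app_modPowπ_eq_zero_iff' [IsLocallyNoetherian X] (I : Ideal A) (n : ℕ) (P : X.Modules)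
    [P.IsQuasicoherent] {U : X.Opens} (hU : IsAffineOpen U) (x : Γ(P, U)) :
    (Formal.modPowπ I n P).app U x = 0 ↔ x ∈ (JU I U) ^ n • (⊤ : Submodule Γ(X, U) Γ(P, U)) := by
  have hq := isQuot_modPowπ I n P
  rw [JU, ← Ideal.map_pow]
  constructor
  · intro hx
    haveI : (∐ fun _ : (I ^ n : Ideal A) => P).IsQuasicoherent :=
      Groth.Agent.Lib.Helper16.QCohSigma.isQuasicoherent_sigma _
    haveI : (Formal.modPow I n P).IsQuasicoherent :=
      Groth.Agent.Lib.Helper17.CohKer.isQuasicoherent_cokernel (Formal.smulFamily (I ^ n) P)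
    exact mem_of_app_eq_zero (I ^ n) (Formal.modPowπ I n P) hq hU x hx
  · intro hx
    obtain ⟨r, a, z, ha, rfl⟩ := exists_sum_of_mem_map_smul_top (toSec (A := A) U) (I ^ n) hx
    rw [map_sum]
    refine Finset.sum_eq_zero fun i _ => ?_
    rw [← smulMod_app']
    have h1 := hq.zero (a i) (ha i)
    exact congrArg (fun φ : P ⟶ Formal.modPow I n P => φ.app U (z i)) h1

section Main

variable [IsLocallyNoetherian X] (I : Ideal A) (M N : X.Modules) (hM : Coh.IsCoh M)
  (hN : Coh.IsCoh N) {U : X.Opens} (hU : IsAffineOpen U)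

include hM hN hU in
/-- local injectivity statement: a local homomorphism that vanishes modulo a high power of `I` lies in
`I^n' Hom`. -/
theorem s2 (n' : ℕ) : ∃ n, n' ≤ n ∧ ∀ k : Γ(homSh M N, U),
    post (Formal.modPowπ I n N) k = 0 → (Formal.modPowπ I n' (homSh M N)).app U k = 0 := by
  haveI := hM.1
  haveI := hM.2
  haveI := hN.1
  haveI := hN.2
  haveI : IsNoetherianRing Γ(X, U) := IsLocallyNoetherian.component_noetherian ⟨U, hU⟩
  haveI : Module.Finite Γ(X, U) Γ(M, U) :=
    Groth.Agent.Lib.Helper28.FinType.finite_of_isAffineOpen M hU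
  haveI : Module.Finite Γ(X, U) Γ(N, U) :=
    Groth.Agent.Lib.Helper28.FinType.finite_of_isAffineOpen N hU
  have hH : Coh.IsCoh (homSh M N) := isCoh_homSh M N hM hN
  haveI := hH.1
  obtain ⟨s, fN, hfN⟩ := Module.Finite.exists_fin' Γ(X, U) Γ(M, U)
  obtain ⟨n, hn, h⟩ := ar_inj (JU (A := A) I U) (relSub M fN N) n'
  refine ⟨n, hn, fun k hk => ?_⟩
  rw [app_modPowπ_eq_zero_iff' I n' (homSh M N) hU]
  have h1 : evL M fN N k ∈ relSub M fN N := by
    rw [← range_evL M fN hU hfN N]
    exact ⟨k, rfl⟩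
  have h2 : ∀ i, evL M fN N k i ∈ (JU (A := A) I U) ^ n • (⊤ : Submodule Γ(X, U) Γ(N, U)) := by
    intro i
    rw [← app_modPowπ_eq_zero_iff' I n N hU, evL_apply, ← ev_post, hk, ev_zero]
    rfl
  have h3 := h _ h1 h2
  rw [← range_evL M fN hU hfN N, LinearMap.range_eq_map, ← Submodule.map_smul''] at h3
  obtain ⟨k', hk', hkk'⟩ := h3
  rw [← evL_injective M fN hU hfN N hkk']
  exact hk'


omit [X.Over (Spec (CommRingCat.of A))] [IsLocallyNoetherian X] in
theorem app_comb' {G G' : X.Modules} (φ : G ⟶ G') {s : ℕ} (t : Fin s → Γ(G, U))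
    (a : Fin s → Γ(X, U)) :
    φ.app U (comb G (le_refl U) t a) = comb G' (le_refl U) (fun i => φ.app U (t i)) a := by
  unfold comb
  rw [map_sum]
  refine Finset.sum_congr rfl fun i _ => ?_
  exact Scheme.Modules.Hom.app_smul φ _ _

include hM hN hU in
/-- local surjectivity statement: a local homomorphism into `N / I^m N` becomes, modulo `I^n`, the
reduction of a local homomorphism into `N`. -/
theorem s1 (n : ℕ) : ∃ m, n ≤ m ∧ ∀ (t : Formal.modPow I m N ⟶ Formal.modPow I n N),
    Formal.modPowπ I m N ≫ t = Formal.modPowπ I n N →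
    ∀ g : Γ(homSh M (Formal.modPow I m N), U), ∃ k : Γ(homSh M N, U),
      post (Formal.modPowπ I n N) k = post t g := by
  haveI := hM.1
  haveI := hM.2
  haveI := hN.1
  haveI := hN.2
  haveI : IsNoetherianRing Γ(X, U) := IsLocallyNoetherian.component_noetherian ⟨U, hU⟩
  haveI : Module.Finite Γ(X, U) Γ(M, U) :=
    Groth.Agent.Lib.Helper28.FinType.finite_of_isAffineOpen M hU
  haveI : Module.Finite Γ(X, U) Γ(N, U) :=
    Groth.Agent.Lib.Helper28.FinType.finite_of_isAffineOpen N hU
  haveI : Module.FinitePresentation Γ(X, U) Γ(M, U) := Module.finitePresentation_of_finite _ _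
  obtain ⟨s, r, fN, gR, hfN, hex⟩ := Module.FinitePresentation.exists_fin' Γ(X, U) Γ(M, U)
  let Λ : (Fin s → Γ(N, U)) →ₗ[Γ(X, U)] (Fin r → Γ(N, U)) :=
    { toFun := fun t j => comb N (le_refl U) t (gR (stdB r j))
      map_add' := fun t t' => funext fun j => comb_add_left N t t' _
      map_smul' := fun c t => funext fun j => comb_smul_left N (le_refl U) c t _ }
  obtain ⟨m, hm, h⟩ := ar_surj (JU (A := A) I U) Λ n
  refine ⟨m, hm, fun t ht g => ?_⟩
  have hNm : Coh.IsCoh (Formal.modPow I m N) := isCoh_modPow I m N hN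
  haveI := hNm.1
  have hsurj : Function.Surjective ((Formal.modPowπ I m N).app U) :=
    Groth.Agent.Lib.Helper23.Tower.surj_sections_of_epi (Formal.modPowπ I m N) hU
  choose lift hlift using hsurj
  let t0 : Fin s → Γ(N, U) := fun i => lift (ev M _ fN (le_refl U) g i)
  have hΛ : Λ t0 ∈ (JU (A := A) I U) ^ m • (⊤ : Submodule Γ(X, U) (Fin r → Γ(N, U))) := by
    rw [mem_smul_top_pi_iff]
    intro j
    rw [← app_modPowπ_eq_zero_iff' I m N hU]
    change (Formal.modPowπ I m N).app U (comb N (le_refl U) t0 (gR (stdB r j))) = 0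
    rw [app_comb']
    have h1 : (fun i => (Formal.modPowπ I m N).app U (t0 i)) = ev M _ fN (le_refl U) g :=
      funext fun i => hlift _
    rw [h1]
    exact comb_ev_eq_zero fN (le_refl U) g _ (hex.apply_apply_eq_zero _)
  obtain ⟨t', ht'0, ht'⟩ := h t0 hΛ
  have hrel : ∀ a, fN a = 0 → comb N (le_refl U) t' a = 0 := by
    intro a ha
    obtain ⟨b, rfl⟩ := (hex a).1 ha
    exact comb_eq_zero_of_generators N (le_refl U) t' gR (fun j => congrFun ht'0 j) b
  refine ⟨liftSection M N hU (le_refl U) fN hfN t' hrel, ?_⟩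
  apply ev_injective fN hU hfN (le_refl U)
  funext i
  rw [ev_post, ev_post, ev_liftSection fN hU hfN (le_refl U) t' hrel]
  have h1 : (Formal.modPowπ I n N).app U (t0 i - t' i) = 0 :=
    (app_modPowπ_eq_zero_iff' I n N hU _).2 (ht' i)
  rw [map_sub, sub_eq_zero] at h1
  rw [← h1, ← ht]
  change t.app U ((Formal.modPowπ I m N).app U (t0 i)) = _
  rw [hlift]

end Main

end Groth.Agent.Lib.Helper17.FFLocG
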