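import Groth.Agent.Lib.Helper17.FFGlueG
import Groth.Agent.Lib.Helper21.ZarConn1
import Groth.Agent.Lib.lead.FormalD
import Mathlib

/-!
# Full faithfulness of the completion functor: generic form over an arbitrary base ring (helper17)

* `main_of_bijective`: if `H^0(X, Hom(M, N)) → lim H^0(X, Hom(M, N) / I^(n+1))` is bijective then every
  map of completions `M^ ⟶ N^` comes from a unique map `M ⟶ N` (`X` locally Noetherian, `M`, `N` coherent).
* `killedBy_homSh_left/right`, `toHHlim_bijective_of_killed`, `main_of_killed`.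
-/

set_option autoImplicit false
set_option backward.isDefEq.respectTransparency.types false
universe u
open CategoryTheory CategoryTheory.Limits AlgebraicGeometry Opposite TopologicalSpace
open RefHull

namespace Groth.Agent.Lib.Helper17.FFMainG

open Groth.Agent.Lib.Helper28.QCohLoc Groth.Agent.Lib.Helper29.QCohStalk
open Groth.Agent.Lib.Helper1.RefHullLib Groth.Agent.S16485
open Groth.Agent.Lib.Helper23.FQuot Groth.Agent.Lib.Helper17.FFSec Groth.Agent.Lib.Helper17.FFAlg
open Groth.Agent.Lib.Helper17.FFLocG Groth.Agent.Lib.Helper17.FFGlueG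
open Groth.Agent.Lib.Helper17.FFLoc (JU smulMod_app')
open Groth.Agent.Lib.Helper17.FFGlue (πc πc_eq πc_map le_iSup_affine post_eq_zero_of_mem)
open Groth.Agent.Lib.Helper21.ZarConn
open Groth.Agent.Lib.Lead.FormalA Groth.Agent.Lib.Lead.FormalD

variable {A : Type u} [CommRing A] {X : Scheme.{u}} [X.Over (Spec (CommRingCat.of A))]

/-- **generic full faithfulness of completion** -/
theorem main_of_bijective [IsLocallyNoetherian X] (I : Ideal A)
    (M N : X.Modules) (hM : Coh.IsCoh M) (hN : Coh.IsCoh N)
    (hbij : Function.Bijective (Formal.toHHlim I (homSh M N) 0))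
    (ψ : Formal.completion I M ⟶ Formal.completion I N) :
    ∃! φ : M ⟶ N, ∀ n : ℕ, Formal.modPowπ I (n + 1) M ≫ ψ.app (op n) =
      φ ≫ Formal.modPowπ I (n + 1) N := by
  -- the system of maps
  let q : ∀ j, M ⟶ (Formal.completion I N).obj (op j) := fun j => πc I M j ≫ ψ.app (op j)
  have hq : ∀ (j l : ℕ) (h : j ≤ l), q l ≫ (Formal.completion I N).map (homOfLE h).op = q j := by
    intro j l h
    change (πc I M l ≫ ψ.app (op l)) ≫ _ = πc I M j ≫ ψ.app (op j)
    rw [Category.assoc, ← ψ.naturality, ← Category.assoc, πc_map]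
  -- uniqueness first
  have huniq : ∀ δ : M ⟶ N, (∀ j, δ ≫ πc I N j = 0) → δ = 0 := by
    intro δ hδ
    have h1 : ∀ j, homOfSec (ofHom δ ⊤) ≫ πc I N j = 0 := by
      intro j
      rw [homOfSec_ofHom]
      exact hδ j
    have h2 := app_eq_zero_of_comp_eq_zero I hM hN (ofHom δ ⊤) h1
    have h3 : Formal.toHHlim I (homSh M N) 0 ((h0 (homSh M N)).symm (ofHom δ ⊤)) = 0 := by
      apply Subtype.ext
      funext j
      change Formal.toHHmodPow I (homSh M N) 0 j ((h0 (homSh M N)).symm (ofHom δ ⊤)) = 0
      rw [Groth.Agent.Lib.Lead.FormalD.toHHmodPow_eq, h0_symm_map (A := A)]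
      exact (congrArg (h0 (Formal.modPow I (j + 1) (homSh M N))).symm (h2 j)).trans (map_zero _)
    have h4 : (h0 (homSh M N)).symm (ofHom δ ⊤) = 0 := hbij.1 (h3.trans (map_zero _).symm)
    have h5 : ofHom δ ⊤ = 0 := by
      have := congrArg (h0 (homSh M N)) h4
      rwa [AddEquiv.apply_symm_apply, map_zero] at this
    rw [← homOfSec_ofHom δ, h5, ← ofHom_zero' (M := M) (N := N) ⊤, homOfSec_ofHom]
  -- existence
  obtain ⟨hsec, hcompat, hprop⟩ := exists_compatible_sections I hM hN q hq
  let z : Formal.HHlim I (homSh M N) 0 :=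
    ⟨fun j => (h0 _).symm (hsec j), by
      intro j
      change Formal.HHmodPowTrans I (homSh M N) 0 j ((h0 _).symm (hsec (j + 1))) =
        (h0 _).symm (hsec j)
      rw [Groth.Agent.Lib.Lead.FormalD.HHmodPowTrans_eq, h0_symm_map (A := A)]
      congr 1
      have := hcompat j
      rw [completion_map_succ] at this
      exact this⟩
  obtain ⟨x, hx⟩ := hbij.2 z
  have hx' : ∀ j, (πc I (homSh M N) j).app ⊤ (h0 (homSh M N) x) = hsec j := by
    intro j
    have h1 := congrArg (fun w : Formal.HHlim I (homSh M N) 0 => w.1 j) hx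
    change Formal.toHHmodPow I (homSh M N) 0 j x = (h0 _).symm (hsec j) at h1
    rw [Groth.Agent.Lib.Lead.FormalD.toHHmodPow_eq] at h1
    have h2 := h0_symm_map (A := A) (Formal.modPowπ I (j + 1) (homSh M N)) (h0 (homSh M N) x)
    rw [AddEquiv.symm_apply_apply, h1] at h2
    exact ((h0 _).symm.injective h2).symm
  have hφ := hprop (h0 (homSh M N) x) hx'
  refine ⟨homOfSec (h0 (homSh M N) x), fun n => (hφ n).symm, ?_⟩
  intro φ' hφ'
  have h1 : φ' - homOfSec (h0 (homSh M N) x) = 0 := by
    apply huniq
    intro j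
    rw [Preadditive.sub_comp, hφ j]
    have := hφ' j
    rw [sub_eq_zero]
    exact this.symm
  exact sub_eq_zero.1 h1

/-! ## modules killed by a power of `I` -/

theorem toSec_res' {U V : X.Opens} (hVU : V ≤ U) (a : A) :
    resO hVU (toSec (A := A) U a) = toSec (A := A) V a := by
  unfold toSec
  change resO hVU (resO le_top _) = resO le_top _
  rw [resO_resO]

theorem killedBy_homSh_right (J : Ideal A) (F G : X.Modules) (h : Formal.KilledBy J G) :
    Formal.KilledBy J (homSh F G) := by
  intro a ha
  apply Scheme.Modules.hom_ext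
  intro U
  ext k
  change (Formal.smulMod A (homSh F G) a).app U k = 0
  rw [smulMod_app']
  refine ext_of_app _ _ fun V' hV' m => ?_
  rw [app_smul_left, app_zero_left, toSec_res', ← smulMod_app', h a ha]
  rfl

theorem killedBy_homSh_left (J : Ideal A) (F G : X.Modules) (h : Formal.KilledBy J F) :
    Formal.KilledBy J (homSh F G) := by
  intro a ha
  apply Scheme.Modules.hom_ext
  intro U
  ext k
  change (Formal.smulMod A (homSh F G) a).app U k = 0
  rw [smulMod_app']
  refine ext_of_app _ _ fun V' hV' m => ?_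
  rw [app_smul_left, app_zero_left, toSec_res', ← app_smul_right, ← smulMod_app', h a ha]
  change app k hV' 0 = 0
  exact (app_smul_right k hV' 0 m).trans (zero_smul _ _) ▸ (by rw [zero_smul])

/-- if `P` is killed by a power of `I` then `H^p(X, P) → lim_n H^p(X, P / I^(n+1) P)` is bijective. -/
theorem toHHlim_bijective_of_killed (I : Ideal A) (P : X.Modules) (c : ℕ)
    (hP : Formal.KilledBy (I ^ c) P) (p : ℕ) : Function.Bijective (Formal.toHHlim I P p) := by
  have hiso : ∀ j, c ≤ j + 1 → IsIso (Formal.modPowπ I (j + 1) P) := fun j hj =>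
    (isQuot_modPowπ I (j + 1) P).isIso_of_killed (killedBy_mono (Ideal.pow_le_pow_right hj) hP)
  haveI := hiso c (Nat.le_succ c)
  constructor
  · intro x y hxy
    have h1 := congrArg (fun w : Formal.HHlim I P p => w.1 c) hxy
    change Formal.toHHmodPow I P p c x = Formal.toHHmodPow I P p c y at h1
    rw [toHHmodPow_eq, toHHmodPow_eq] at h1
    exact (HHlin_bijective_of_isIso A _ p).1 h1
  · intro z
    obtain ⟨x, hx⟩ := (HHlin_bijective_of_isIso A (Formal.modPowπ I (c + 1) P) p).2 (z.1 c)
    refine ⟨x, Subtype.ext (funext fun j => ?_)⟩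
    change Formal.toHHmodPow I P p j x = z.1 j
    rw [toHHmodPow_eq]
    rcases le_total j c with hjc | hcj
    · obtain ⟨t, ht⟩ := IsQuot.exists_trans (Ideal.pow_le_pow_right (Nat.succ_le_succ hjc))
        (isQuot_modPowπ I (j + 1) P) (isQuot_modPowπ I (c + 1) P)
      rw [← ht, ← HHlin_comp_apply, hx]
      exact HHlin_trans_of_mem I P p z j c hjc t ht
    · obtain ⟨t, ht⟩ := IsQuot.exists_trans (Ideal.pow_le_pow_right (Nat.succ_le_succ hcj))
        (isQuot_modPowπ I (c + 1) P) (isQuot_modPowπ I (j + 1) P)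
      haveI := hiso j (hcj.trans (Nat.le_succ j))
      haveI : IsIso t := by
        have : t = inv (Formal.modPowπ I (j + 1) P) ≫ Formal.modPowπ I (c + 1) P := by
          rw [← ht, IsIso.inv_hom_id_assoc]
        rw [this]
        infer_instance
      apply (HHlin_bijective_of_isIso A t p).1
      rw [HHlin_comp_apply, ht, hx]
      exact (HHlin_trans_of_mem I P p z c j hcj t ht).symm

/-- **full faithfulness of completion when one of the modules is killed by a power of `I`** -/
theorem main_of_killed [IsLocallyNoetherian X] (I : Ideal A)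
    (M N : X.Modules) (hM : Coh.IsCoh M) (hN : Coh.IsCoh N)
    (hc : ∃ c : ℕ, Formal.KilledBy (I ^ c) M ∨ Formal.KilledBy (I ^ c) N)
    (ψ : Formal.completion I M ⟶ Formal.completion I N) :
    ∃! φ : M ⟶ N, ∀ n : ℕ, Formal.modPowπ I (n + 1) M ≫ ψ.app (op n) =
      φ ≫ Formal.modPowπ I (n + 1) N := by
  obtain ⟨c, hc⟩ := hc
  have hH : Formal.KilledBy (I ^ c) (homSh M N) := by
    rcases hc with h | h
    · exact killedBy_homSh_left _ M N h
    · exact killedBy_homSh_right _ M N h
  exact main_of_bijective I M N hM hN (toHHlim_bijective_of_killed I _ c hH 0) ψ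

end Groth.Agent.Lib.Helper17.FFMainG
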