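import Groth.Agent.Lib.Helper1.RefHull4
import Mathlib

/-!
# Section calculus for the sheaf Hom: post-composition, morphisms from global sections (helper17)
-/

set_option autoImplicit false
set_option backward.isDefEq.respectTransparency.types false
universe u
open CategoryTheory CategoryTheory.Limits AlgebraicGeometry Opposite TopologicalSpace
open RefHull

namespace Groth.Agent.Lib.Helper17.FFSec

open Groth.Agent.Lib.Helper28.QCohLoc Groth.Agent.Lib.Helper29.QCohStalk
open Groth.Agent.Lib.Helper1.RefHullLib Groth.Agent.S16485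

variable {X : Scheme.{u}} {F G G' G'' : X.Modules}

theorem app_ofHom (φ : F ⟶ G) (V : X.Opens) {V' : X.Opens} (h : V' ≤ V) (m : Γ(F, V')) :
    app (ofHom φ V) h m = φ.app V' m :=
  app_eq_of_gm _ h _ _ fun y hy => by
    rw [ofHom_apply]
    exact (stalkMapₗ_germ φ y hy m).symm

/-- post-composition of a section of the sheaf Hom with a morphism -/
noncomputable def post (β : G ⟶ G') {V : X.Opens} (g : Γ(homSh F G, V)) : Γ(homSh F G', V) :=
  compSec (ofHom β V) g

theorem app_post (β : G ⟶ G') {V : X.Opens} (g : Γ(homSh F G, V)) {V' : X.Opens} (h : V' ≤ V)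
    (m : Γ(F, V')) : app (post β g) h m = β.app V' (app g h m) :=
  app_eq_of_gm _ h _ _ fun y hy => by
    change _ = stalkMapₗ β y (g.1 ⟨y, h hy⟩ (gm F V' y hy m))
    rw [← gm_app g h m y hy]
    exact (stalkMapₗ_germ β y hy _).symm

theorem post_ofHom (φ : F ⟶ G) (β : G ⟶ G') (V : X.Opens) :
    post β (ofHom φ V) = ofHom (φ ≫ β) V :=
  ext_of_app _ _ fun V' hV' m => by
    rw [app_post, app_ofHom, app_ofHom]
    rfl

theorem post_post (β : G ⟶ G') (γ : G' ⟶ G'') {V : X.Opens} (g : Γ(homSh F G, V)) :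
    post γ (post β g) = post (β ≫ γ) g :=
  ext_of_app _ _ fun V' hV' m => by
    rw [app_post, app_post, app_post]
    rfl

theorem post_add (β : G ⟶ G') {V : X.Opens} (g g' : Γ(homSh F G, V)) :
    post β (g + g') = post β g + post β g' :=
  ext_of_app _ _ fun V' hV' m => by
    rw [app_post, app_add_left, app_add_left, app_post, app_post, map_add]

theorem post_zero (β : G ⟶ G') (V : X.Opens) : post β (0 : Γ(homSh F G, V)) = 0 :=
  ext_of_app _ _ fun V' hV' m => by
    rw [app_post, app_zero_left, app_zero_left, map_zero]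

theorem post_sub (β : G ⟶ G') {V : X.Opens} (g g' : Γ(homSh F G, V)) :
    post β (g - g') = post β g - post β g' := by
  have h := post_add β (g - g') g'
  rw [sub_add_cancel] at h
  rw [h, add_sub_cancel_right]

theorem post_res (β : G ⟶ G') {V W : X.Opens} (hW : W ≤ V) (g : Γ(homSh F G, V)) :
    post β (res (homSh F G) hW g) = res (homSh F G') hW (post β g) :=
  ext_of_app _ _ fun V' hV' m => by
    rw [app_post, Groth.Agent.Lib.Helper1.RefHullLib.app_res, Groth.Agent.Lib.Helper1.RefHullLib.app_res, app_post]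

theorem ev_post (β : G ⟶ G') {U V : X.Opens} {n : ℕ} (fN : (Fin n → Γ(X, U)) →ₗ[Γ(X, U)] Γ(F, U))
    (hVU : V ≤ U) (g : Γ(homSh F G, V)) (i : Fin n) :
    ev F G' fN hVU (post β g) i = β.app V (ev F G fN hVU g i) :=
  app_post β g (le_refl V) _

theorem ev_ofHom (φ : F ⟶ G) {U V : X.Opens} {n : ℕ} (fN : (Fin n → Γ(X, U)) →ₗ[Γ(X, U)] Γ(F, U))
    (hVU : V ≤ U) (i : Fin n) :
    ev F G fN hVU (ofHom φ V) i = φ.app V (res F hVU (fN (stdB n i))) :=
  app_ofHom φ V (le_refl V) _

/-- the morphism defined by a global section of the sheaf Hom -/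
noncomputable def homOfSec (g : Γ(homSh F G, ⊤)) : F ⟶ G :=
  ⟨PresheafOfModules.homMk (M₁ := F.val) (M₂ := G.val)
    { app := fun W => AddCommGrpCat.ofHom (appHom g (le_top : W.unop ≤ ⊤))
      naturality := fun {W W'} i => by
        ext m
        exact (res_app g (le_top : W.unop ≤ ⊤) (leOfHom i.unop) m).symm }
    (fun W r m => app_smul_right g (le_top : W.unop ≤ ⊤) r m)⟩

theorem homOfSec_app (g : Γ(homSh F G, ⊤)) (W : X.Opens) (m : Γ(F, W)) :
    (homOfSec g).app W m = app g le_top m := rfl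

theorem ofHom_homOfSec (g : Γ(homSh F G, ⊤)) : ofHom (homOfSec g) ⊤ = g :=
  ext_of_app _ _ fun V' hV' m => by
    rw [app_ofHom, homOfSec_app]

theorem homOfSec_ofHom (φ : F ⟶ G) : homOfSec (ofHom φ ⊤) = φ := by
  apply Scheme.Modules.hom_ext
  intro W
  ext m
  exact (homOfSec_app _ W m).trans (app_ofHom φ ⊤ le_top m)

theorem ofHom_res (φ : F ⟶ G) {V W : X.Opens} (hW : W ≤ V) :
    res (homSh F G) hW (ofHom φ V) = ofHom φ W :=
  ext_of_app _ _ fun V' hV' m => by
    rw [Groth.Agent.Lib.Helper1.RefHullLib.app_res, app_ofHom, app_ofHom]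

theorem homOfSec_comp (g : Γ(homSh F G, ⊤)) (β : G ⟶ G') :
    homOfSec g ≫ β = homOfSec (post β g) := by
  apply Scheme.Modules.hom_ext
  intro W
  ext m
  change β.app W ((homOfSec g).app W m) = (homOfSec (post β g)).app W m
  rw [homOfSec_app, homOfSec_app, app_post]

end Groth.Agent.Lib.Helper17.FFSec
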