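import Groth.Agent.Lib.Helper17.GGDescentFam
import Mathlib

set_option backward.isDefEq.respectTransparency.types false
set_option autoImplicit false
universe u
open AlgebraicGeometry CategoryTheory Opposite TopologicalSpace TensorProduct CategoryTheory.Limits

namespace Groth.Agent.Lib.Helper17.FTDescent
open Groth.Agent.Lib.Helper17.FlatMV Groth.Agent.Lib.Helper17.FlatBC
open Groth.Agent.Lib.Helper17.GGDescentFam

section Alg
variable {A : Type u} [CommRing A] {ι : Type*} [Finite ι] {A' : ι → Type u} [∀ i, CommRing (A' i)]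
  (φ : ∀ i, A →+* A' i)
  {N : Type u} {T : ι → Type u} [AddCommGroup N] [Module A N] [∀ i, AddCommGroup (T i)]
  [∀ i, Module (A' i) (T i)]

/-- finite generation descends along a finite jointly surjective family of flat ring maps -/
theorem finite_of_forall_finite_linBij (hflat : ∀ i, (φ i).Flat)
    (hcov : ∀ p : Ideal A, p.IsMaximal → ∃ (i : ι) (P : Ideal (A' i)), P.IsPrime ∧ p ≤ P.comap (φ i))
    (c : ∀ i, N →+ T i) (h₀ : ∀ i, LinBij (φ i) (c i))
    (hfin : ∀ i, Module.Finite (A' i) (T i)) : Module.Finite A N := by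
  classical
  letI : ∀ i, Algebra A (A' i) := fun i => (φ i).toAlgebra
  haveI : ∀ i, Module.Flat A (A' i) := fun i => hflat i
  -- generators upstairs
  have hG : ∀ i, ∃ G : Finset (T i), Submodule.span (A' i) (G : Set (T i)) = ⊤ := fun i => (hfin i).fg_top
  choose G hG using hG
  -- preimages under `lin`
  have hz : ∀ i (t : T i), ∃ z : A' i ⊗[A] N, lin (c i) (h₀ i).choose z = t := fun i t =>
    (h₀ i).choose_spec.2 t
  choose z hz using hz
  have hN' : ∀ i, ∃ N' : Submodule A N, Module.Finite A N' ∧
      ((fun t => z i t) '' (G i : Set (T i))) ⊆ LinearMap.range (N'.subtype.lTensor (A' i)) := fun i =>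
    TensorProduct.exists_finite_submodule_right_of_setFinite _ ((G i).finite_toSet.image _)
  choose N' hN'fin hN' using hN'
  let N₀ : Submodule A N := ⨆ i, N' i
  have hN₀ : N₀.FG := Submodule.fg_iSup _ fun i => Module.Finite.iff_fg.1 (hN'fin i)
  have hsurj : Function.Surjective N₀.subtype := by
    refine surjective_of_forall_lTensor A' hcov N₀.subtype fun i => ?_
    -- the range of the base change is an `A' i`-submodule
    have hrange : ∀ (b : A' i) (w : A' i ⊗[A] N), w ∈ LinearMap.range (N₀.subtype.lTensor (A' i)) →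
        b • w ∈ LinearMap.range (N₀.subtype.lTensor (A' i)) := by
      rintro b w ⟨v, rfl⟩
      refine ⟨b • v, ?_⟩
      have := (N₀.subtype.baseChange (A' i)).map_smul b v
      exact this
    have hle : LinearMap.range ((N' i).subtype.lTensor (A' i)) ≤
        LinearMap.range (N₀.subtype.lTensor (A' i)) := by
      have hsub : N' i ≤ N₀ := le_iSup N' i
      have : (N' i).subtype = N₀.subtype ∘ₗ Submodule.inclusion hsub := by
        ext x; rfl
      rw [this, LinearMap.lTensor_comp]
      exact LinearMap.range_comp_le_range _ _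
    have hzmem : ∀ t ∈ G i, z i t ∈ LinearMap.range (N₀.subtype.lTensor (A' i)) := fun t ht =>
      hle (hN' i ⟨t, ht, rfl⟩)
    intro w
    obtain ⟨hc, hb⟩ := h₀ i
    -- `lin w` is a combination of the generators
    have hmem : lin (c i) hc w ∈ Submodule.span (A' i) (G i : Set (T i)) := by
      rw [hG i]; trivial
    have key : ∀ t ∈ Submodule.span (A' i) (G i : Set (T i)),
        ∃ v ∈ LinearMap.range (N₀.subtype.lTensor (A' i)), lin (c i) hc v = t := by
      intro t ht
      induction ht using Submodule.span_induction with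
      | mem t ht => exact ⟨z i t, hzmem t ht, hz i t⟩
      | zero => exact ⟨0, zero_mem _, map_zero _⟩
      | add a b _ _ iha ihb =>
        obtain ⟨va, hva, ha⟩ := iha
        obtain ⟨vb, hvb, hb'⟩ := ihb
        exact ⟨va + vb, add_mem hva hvb, by rw [map_add, ha, hb']⟩
      | smul r a _ iha =>
        obtain ⟨va, hva, ha⟩ := iha
        exact ⟨r • va, hrange r va hva, by rw [lin_smul, ha]⟩
    obtain ⟨v, hv, hvw⟩ := key _ hmem
    have : v = w := hb.1 hvw
    rw [← this]
    exact hv
  have htop : N₀ = ⊤ := by
    rw [eq_top_iff]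
    intro n _
    obtain ⟨m, rfl⟩ := hsurj n
    exact m.2
  refine ⟨?_⟩
  rw [← htop]
  exact hN₀

end Alg

end Groth.Agent.Lib.Helper17.FTDescent
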