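import Groth.Agent.Lib.Helper17.FTDescA
import Groth.Agent.Lib.Helper17.FinTypeConv
import Groth.Agent.Lib.Helper28.FinType
import Mathlib

set_option backward.isDefEq.respectTransparency.types false
set_option autoImplicit false
universe u
open AlgebraicGeometry CategoryTheory Opposite TopologicalSpace TensorProduct CategoryTheory.Limits

namespace Groth.Agent.Lib.Helper17.FTDescent
open Scheme.Modules
open Groth.Agent.Lib.Helper17.PullbackBC Groth.Agent.Lib.Helper17.FlatMV Groth.Agent.Lib.Helper17.FlatBC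
open Groth.Agent.Lib.Helper28.PullbackInv Groth.Agent.Lib.Helper28.QCohLoc
open Groth.Agent.Lib.Helper17.GGDescentFam

theorem id_appLE_apply {Y : Scheme.{u}} (U W : Y.Opens) (e : W ≤ (𝟙 Y) ⁻¹ᵁ U) (r : Γ(Y, U)) :
    ((𝟙 Y : Y ⟶ Y).appLE U W e).hom r = (Y.presheaf.map (homOfLE (show W ≤ U from e)).op).hom r := by
  rw [Scheme.Hom.appLE]
  erw [Scheme.Hom.id_app]
  rfl

section Geom
variable {X Y : Scheme.{u}} (f : Y ⟶ X)

theorem isPullback_self : IsPullback f (𝟙 Y) (𝟙 X) f :=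
  IsPullback.of_vert_isIso ⟨by simp⟩

/-- maximal ideals of an affine open of the target lie under primes of affine opens covering its preimage -/
theorem exists_prime_over [Surjective f] {V : X.Opens} (hV : IsAffineOpen V) {ι : Type*} (U : ι → Y.Opens)
    (hU : ∀ i, IsAffineOpen (U i)) (e : ∀ i, U i ≤ f ⁻¹ᵁ V) (hcovU : ∀ y : Y, f y ∈ V → ∃ i, y ∈ U i)
    (p : Ideal Γ(X, V)) (hp : p.IsMaximal) :
    ∃ (i : ι) (P : Ideal Γ(Y, U i)), P.IsPrime ∧ p ≤ P.comap (f.appLE V (U i) (e i)).hom := by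
  let q : PrimeSpectrum Γ(X, V) := ⟨p, hp.isPrime⟩
  have hxV : hV.fromSpec q ∈ V := by
    have : hV.fromSpec q ∈ Set.range hV.fromSpec := ⟨q, rfl⟩
    rw [hV.range_fromSpec] at this
    exact this
  obtain ⟨y, hy⟩ := ‹Surjective f›.surj (hV.fromSpec q)
  obtain ⟨i, hyi⟩ := hcovU y (by rw [hy]; exact hxV)
  obtain ⟨Q, hQ⟩ : ∃ Q, (hU i).fromSpec Q = y := by
    have : y ∈ Set.range (hU i).fromSpec := by rw [(hU i).range_fromSpec]; exact hyi
    exact this
  have h1 := IsAffineOpen.SpecMap_appLE_fromSpec f hV (hU i) (e i)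
  have h2 : hV.fromSpec ((Spec.map (f.appLE V (U i) (e i))) Q) = hV.fromSpec q := by
    rw [← Scheme.Hom.comp_apply, h1, Scheme.Hom.comp_apply, hQ, hy]
  have h3 : (Spec.map (f.appLE V (U i) (e i))) Q = q := hV.fromSpec.isOpenEmbedding.injective h2
  refine ⟨i, Q.asIdeal, Q.isPrime, ?_⟩
  have h4 : Q.asIdeal.comap (f.appLE V (U i) (e i)).hom = p := congrArg PrimeSpectrum.asIdeal h3
  exact le_of_eq h4.symm

/-- **finite type descends along quasi-compact flat surjective morphisms** (for quasi-coherent modules) -/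
theorem isFiniteType_of_pullback [Flat f] [Surjective f] [QuasiCompact f] (M : X.Modules) [M.IsQuasicoherent]
    [SheafOfModules.IsFiniteType.{u} (R := Y.ringCatSheaf) ((Scheme.Modules.pullback f).obj M)] :
    SheafOfModules.IsFiniteType.{u} (R := X.ringCatSheaf) M := by
  refine Groth.Agent.Lib.Helper17.FinTypeConv.isFiniteType_of_forall_finite_sections M fun V => ?_
  obtain ⟨V, hV⟩ := V
  have hcpt : IsCompact ((f ⁻¹ᵁ V : Y.Opens) : Set Y) :=
    QuasiCompact.isCompact_preimage (f := f) _ V.isOpen hV.isCompact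
  obtain ⟨s, hs, hsV⟩ := isCompact_and_isOpen_iff_finite_and_eq_biUnion_affineOpens.1 ⟨hcpt, (f ⁻¹ᵁ V).isOpen⟩
  haveI : Finite s := hs.to_subtype
  have hle : ∀ i : s, (i.1 : Y.Opens) ≤ f ⁻¹ᵁ V := by
    intro i x hx
    have : x ∈ ((f ⁻¹ᵁ V : Y.Opens) : Set Y) := by
      rw [hsV]
      exact Set.mem_biUnion i.2 hx
    exact this
  have hcovU : ∀ y : Y, f y ∈ V → ∃ i : s, y ∈ (i.1 : Y.Opens) := by
    intro y hy
    have : y ∈ ((f ⁻¹ᵁ V : Y.Opens) : Set Y) := hy
    rw [hsV] at this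
    obtain ⟨i, hi, hyi⟩ := Set.mem_iUnion₂.1 this
    exact ⟨⟨i, hi⟩, hyi⟩
  have hsq := isPullback_self f
  have hVle : V ≤ (𝟙 X) ⁻¹ᵁ V := le_rfl
  have hb := fun i : s => linBij_of_isAffineOpen (𝟙 X) f f (𝟙 Y) hsq (hle i) M hV i.1.2 hV hVle
  have hflat : ∀ i : s, (f.appLE V (i.1 : Y.Opens) (hle i)).hom.Flat := fun i =>
    Flat.flat_appLE f hV i.1.2 (hle i)
  have hcov := exists_prime_over f hV (fun i : s => (i.1 : Y.Opens)) (fun i => i.1.2) hle hcovU
  have hfinT : ∀ i : s, Module.Finite Γ(Y, (i.1 : Y.Opens))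
      (SecOver (𝟙 Y) (i.1 : Y.Opens) ((Scheme.Modules.pullback f).obj M)
        (pr f (𝟙 Y) (i.1 : Y.Opens) V) (pr_le_right f (𝟙 Y) V)) := by
    intro i
    have hpr : pr f (𝟙 Y) (i.1 : Y.Opens) V = (i.1 : Y.Opens) := by
      ext x
      simp only [pr]
      constructor
      · intro hx; exact hx.2
      · intro hx; exact ⟨hle i hx, hx⟩
    have haff : IsAffineOpen (pr f (𝟙 Y) (i.1 : Y.Opens) V) := by rw [hpr]; exact i.1.2
    haveI : ((Scheme.Modules.pullback f).obj M).IsQuasicoherent := inferInstance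
    obtain ⟨G, hG⟩ := (Groth.Agent.Lib.Helper28.FinType.finite_of_isAffineOpen
      ((Scheme.Modules.pullback f).obj M) haff).fg_top
    let G' : Finset (SecOver (𝟙 Y) (i.1 : Y.Opens) ((Scheme.Modules.pullback f).obj M)
      (pr f (𝟙 Y) (i.1 : Y.Opens) V) (pr_le_right f (𝟙 Y) V)) := G
    refine ⟨⟨G', ?_⟩⟩
    rw [eq_top_iff]
    have key : ∀ t' : Γ((Scheme.Modules.pullback f).obj M, pr f (𝟙 Y) (i.1 : Y.Opens) V),
        t' ∈ Submodule.span Γ(Y, pr f (𝟙 Y) (i.1 : Y.Opens) V) (G : Set _) →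
        (show SecOver (𝟙 Y) (i.1 : Y.Opens) ((Scheme.Modules.pullback f).obj M)
          (pr f (𝟙 Y) (i.1 : Y.Opens) V) (pr_le_right f (𝟙 Y) V) from t') ∈
          Submodule.span Γ(Y, (i.1 : Y.Opens)) (G' : Set _) := by
      intro t' ht'
      induction ht' using Submodule.span_induction with
      | mem t ht => exact Submodule.subset_span ht
      | zero => exact zero_mem _
      | add a b _ _ iha ihb => exact add_mem iha ihb
      | smul r a _ iha =>
        have hge : (i.1 : Y.Opens) ≤ pr f (𝟙 Y) (i.1 : Y.Opens) V := le_of_eq hpr.symm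
        have hr : ((𝟙 Y : Y ⟶ Y).appLE (i.1 : Y.Opens) (pr f (𝟙 Y) (i.1 : Y.Opens) V)
            (pr_le_right f (𝟙 Y) V)).hom ((Y.presheaf.map (homOfLE hge).op).hom r) = r := by
          rw [id_appLE_apply, ← CommRingCat.comp_apply, ← Functor.map_comp]
          exact congrArg (fun ψ => ψ.hom r) (Y.presheaf.map_id _)
        have := Submodule.smul_mem _ ((Y.presheaf.map (homOfLE hge).op).hom r) iha
        rw [secOver_smul, hr] at this
        exact this
    intro t _
    exact key t (by rw [hG]; trivial)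
  have hfin := finite_of_forall_finite_linBij (fun i : s => (f.appLE V (i.1 : Y.Opens) (hle i)).hom) hflat hcov
    (fun i : s => cU (𝟙 X) f (𝟙 Y) (W' := (i.1 : Y.Opens)) M V hVle) hb hfinT
  let ℓ : SecOver (𝟙 X) V M V hVle →ₗ[Γ(X, V)] Γ(M, V) :=
    { toFun := fun n => n
      map_add' := fun _ _ => rfl
      map_smul' := fun a n => by
        rw [secOver_smul]
        have : ((𝟙 X : X ⟶ X).appLE V V hVle).hom a = a := by
          rw [id_appLE_apply]
          exact congrArg (fun ψ => ψ.hom a) (X.presheaf.map_id _)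
        rw [this]
        rfl }
  exact Module.Finite.of_surjective ℓ (fun n => ⟨n, rfl⟩)

end Geom

end Groth.Agent.Lib.Helper17.FTDescent
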