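import Groth.Agent.Lib.Helper17.FTDescB
import Groth.Agent.Lib.Helper17.CohKer
import Groth.Agent.Lib.Helper1.FlatPullback
import Groth.Agent.Lib.Helper28.QCohPush
import Groth.Agent.Lib.Helper28.BiprodQC
import Groth.Agent.Lib.Helper2.AffExt2
import Mathlib

set_option backward.isDefEq.respectTransparency.types false
set_option autoImplicit false
universe u
open AlgebraicGeometry CategoryTheory Opposite TopologicalSpace CategoryTheory.Limits

namespace Groth.Agent.Lib.Helper17.FTDescent
open Scheme.Modules
open Groth.Agent.Lib.Helper28.QCohLoc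

/-- fibre products of quasi-coherent modules are quasi-coherent -/
theorem isQuasicoherent_pullback {X : Scheme.{u}} {A B C : X.Modules} [A.IsQuasicoherent] [B.IsQuasicoherent]
    [C.IsQuasicoherent] (a : A ⟶ C) (b : B ⟶ C) : (Limits.pullback a b).IsQuasicoherent := by
  haveI : (kernel (biprod.desc a (-b))).IsQuasicoherent :=
    Groth.Agent.Lib.Helper17.CohKer.isQuasicoherent_kernel _
  let e : Limits.pullback a b ≅ kernel (biprod.desc a (-b)) :=
    (Abelian.PullbackToBiproductIsKernel.isLimitPullbackToBiproduct a b).conePointUniqueUpToIso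
      (limit.isLimit _)
  exact Groth.Agent.Lib.Helper2.AffExt2.isQuasicoherent_of_iso e.symm

/-- **`F ∩ f_* G` is coherent** for a quasi-compact quasi-separated flat surjective `f` of locally Noetherian schemes -/
theorem isCoh_inter {X Y : Scheme.{u}} (f : Y ⟶ X) [QuasiCompact f] [QuasiSeparated f] [Flat f] [Surjective f]
    [IsLocallyNoetherian X] [IsLocallyNoetherian Y] (F : X.Modules) (hF : Coh.IsQCoh F) (G : Y.Modules)
    (hG : Coh.IsCoh G) (φ : G ⟶ (Scheme.Modules.pullback f).obj F) [Mono φ] :
    Coh.IsCoh (Limits.pullback ((Scheme.Modules.pullbackPushforwardAdjunction f).unit.app F)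
      ((Scheme.Modules.pushforward f).map φ)) := by
  haveI : F.IsQuasicoherent := hF
  haveI : ((𝟭 X.Modules).obj F).IsQuasicoherent := hF
  haveI : G.IsQuasicoherent := hG.1
  haveI : SheafOfModules.IsFiniteType.{u} (R := Y.ringCatSheaf) G := hG.2
  haveI : ((Scheme.Modules.pullback f).obj F).IsQuasicoherent := inferInstance
  haveI : ((Scheme.Modules.pushforward f).obj G).IsQuasicoherent := isQuasicoherent_pushforward f G
  haveI : ((Scheme.Modules.pushforward f).obj ((Scheme.Modules.pullback f).obj F)).IsQuasicoherent :=
    isQuasicoherent_pushforward f _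
  haveI : ((Scheme.Modules.pullback f ⋙ Scheme.Modules.pushforward f).obj F).IsQuasicoherent :=
    isQuasicoherent_pushforward f _
  set η := (Scheme.Modules.pullbackPushforwardAdjunction f).unit.app F with hη
  set ψ := (Scheme.Modules.pushforward f).map φ with hψ
  haveI hPq : (Limits.pullback η ψ).IsQuasicoherent := isQuasicoherent_pullback η ψ
  haveI : (Scheme.Modules.pushforward f).PreservesMonomorphisms :=
    Functor.preservesMonomorphisms_of_adjunction (Scheme.Modules.pullbackPushforwardAdjunction f)
  haveI : Mono ψ := by rw [hψ]; infer_instance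
  haveI : Mono (pullback.fst η ψ) := inferInstance
  haveI : (Scheme.Modules.pullback f).PreservesMonomorphisms :=
    Groth.Agent.Lib.Helper1.FlatPullback.pullback_preservesMono f
  haveI : Mono ((Scheme.Modules.pullback f).map (pullback.fst η ψ)) := inferInstance
  let adj := Scheme.Modules.pullbackPushforwardAdjunction f
  let κ : (Scheme.Modules.pullback f).obj (Limits.pullback η ψ) ⟶ G :=
    (Scheme.Modules.pullback f).map (pullback.snd η ψ) ≫ adj.counit.app G
  have hκ : κ ≫ φ = (Scheme.Modules.pullback f).map (pullback.fst η ψ) := by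
    have h1 : adj.counit.app G ≫ φ =
        (Scheme.Modules.pullback f).map ((Scheme.Modules.pushforward f).map φ) ≫
          adj.counit.app ((Scheme.Modules.pullback f).obj F) := (adj.counit.naturality φ).symm
    have h2 : (Scheme.Modules.pullback f).map (adj.unit.app F) ≫
        adj.counit.app ((Scheme.Modules.pullback f).obj F) = 𝟙 _ := adj.left_triangle_components F
    calc κ ≫ φ = (Scheme.Modules.pullback f).map (pullback.snd η ψ) ≫ (adj.counit.app G ≫ φ) := by
          rw [Category.assoc]
      _ = (Scheme.Modules.pullback f).map (pullback.snd η ψ ≫ ψ) ≫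
            adj.counit.app ((Scheme.Modules.pullback f).obj F) := by
          rw [h1, Functor.map_comp, Category.assoc]
      _ = (Scheme.Modules.pullback f).map (pullback.fst η ψ ≫ η) ≫
            adj.counit.app ((Scheme.Modules.pullback f).obj F) := by rw [pullback.condition]
      _ = (Scheme.Modules.pullback f).map (pullback.fst η ψ) := by
          rw [Functor.map_comp, Category.assoc, h2, Category.comp_id]
  haveI : Mono κ := by
    haveI : Mono (κ ≫ φ) := by rw [hκ]; infer_instance
    exact mono_of_mono κ φ
  haveI : ((Scheme.Modules.pullback f).obj (Limits.pullback η ψ)).IsQuasicoherent := inferInstance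
  haveI : SheafOfModules.IsFiniteType.{u} (R := Y.ringCatSheaf)
      ((Scheme.Modules.pullback f).obj (Limits.pullback η ψ)) :=
    Groth.Agent.Lib.Helper17.CohKer.isFiniteType_of_mono κ
  exact ⟨hPq, isFiniteType_of_pullback f (Limits.pullback η ψ)⟩

end Groth.Agent.Lib.Helper17.FTDescent
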