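import Groth.Agent.Lib.Helper17.QCohOn
import Mathlib
set_option backward.isDefEq.respectTransparency.types false
set_option autoImplicit false
universe u v

/-!
# Extension of quasi-coherent submodules of finite type: the transfinite version
-/

namespace Groth.Agent.Lib.Helper17.FTExt4
open CategoryTheory CategoryTheory.Limits Opposite TopologicalSpace AlgebraicGeometry
open Groth.Agent.Lib.Helper28.QCohLoc Groth.Agent.Lib.Helper28.TensorGen
open Groth.Agent.Lib.Helper17.FTExt Groth.Agent.Lib.Helper17.QCohOn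
open Groth.Agent.Lib.Helper17

variable {X : Scheme.{u}}

theorem image_preimage_eq_inf (W T : X.Opens) : W.ι ''ᵁ (W.ι ⁻¹ᵁ T) = T ⊓ W := by
  rw [Scheme.Hom.image_preimage_eq_opensRange_inf, Scheme.Opens.opensRange_ι, inf_comm]

theorem isQuasiSeparated_preimage_ι (W V : X.Opens) (hV : IsAffineOpen V) :
    IsQuasiSeparated ((W.ι ⁻¹ᵁ V : (W : Scheme.{u}).Opens) : Set (W : Scheme.{u})) := by
  rw [W.ι.isOpenEmbedding.isQuasiSeparated_iff]
  refine hV.isQuasiSeparated.of_subset ?_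
  rintro _ ⟨y, hy, rfl⟩
  exact hy

/-- a submodule of a quasi-coherent module which is quasi-coherent over the open `W` and saturated with respect
to `W` has the localization property over the affine opens `V` with `W ∩ V` quasi-compact -/
theorem isLocOn_of_saturated (H K : X.Modules) [H.IsQuasicoherent] (κ : K ⟶ H) [Mono κ] (W : X.Opens)
    (hq : ∀ T : X.Opens, IsAffineOpen T → T ≤ W → IsLocOn K T)
    (hsat : ∀ (T : X.Opens) (m : Γ(H, T)),
      (∃ k : Γ(K, T ⊓ W), κ.app (T ⊓ W) k = res H inf_le_left m) → ∃ k : Γ(K, T), κ.app T k = m)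
    (V : X.Opens) (hV : IsAffineOpen V) (hWV : IsCompact ((W ⊓ V : X.Opens) : Set X)) : IsLocOn K V := by
  haveI hK' : (K.restrict W.ι).IsQuasicoherent := isQuasicoherent_restrict_of_isLocOn W K (fun x hx => by
    obtain ⟨_, ⟨T, (hT : IsAffineOpen T), rfl⟩, hxT, hTW⟩ :=
      X.isBasis_affineOpens.exists_subset_of_mem_open hx W.2
    exact ⟨T, hT, hxT, hTW, hq T hT hTW⟩)
  let κ' : K.restrict W.ι ⟶ H.restrict W.ι := (Scheme.Modules.restrictFunctor W.ι).map κ
  haveI : Mono κ' := mono_of_injective _ fun T' => by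
    intro a b hab
    exact Groth.Agent.Lib.Helper29.QCohStalk.injective_app_of_mono κ inferInstance (W.ι ''ᵁ T') hab
  haveI : (cokernel κ').IsQuasicoherent := CohKer.isQuasicoherent_cokernel κ'
  let π : H.restrict W.ι ⟶ cokernel κ' := cokernel.π κ'
  have hiff : ∀ (T : X.Opens) (m : Γ(H, T)),
      (∃ k, κ.app T k = m) ↔ (∃ k', (subKι W H π).app T k' = m) := by
    intro T m
    rw [mem_subK_iff]
    constructor
    · rintro ⟨k, rfl⟩
      have h1 : resO' W H T (κ.app T k) = κ'.app (W.ι ⁻¹ᵁ T)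
          (show Γ(K.restrict W.ι, W.ι ⁻¹ᵁ T) from res K (W.ι.image_preimage_le T) k) := by
        rw [resO'_eq, ← app_res]
        rfl
      rw [h1]
      exact cokernel_π_app_app κ' _ _
    · intro h
      obtain ⟨a, ha⟩ := exists_app_eq_of_mono κ' _ _ h
      apply hsat T m
      have e := image_preimage_eq_inf W T
      let a' : Γ(K, W.ι ''ᵁ (W.ι ⁻¹ᵁ T)) := a
      have ha' : κ.app (W.ι ''ᵁ (W.ι ⁻¹ᵁ T)) a' = res H (W.ι.image_preimage_le T) m := ha
      refine ⟨res K (e.ge : T ⊓ W ≤ W.ι ''ᵁ (W.ι ⁻¹ᵁ T)) a', ?_⟩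
      rw [app_res, ha', res_res]
  have hS : IsLocOn (subK W H π) V := by
    apply CohKer.isLocOn_kernel
    · exact isLocOn_of_isQuasicoherent H hV
    · exact isLocOn_pushforward_of W.ι (cokernel κ')
        (isCompact_preimage_ι V W (by rwa [inf_comm] at hWV)) (isQuasiSeparated_preimage_ι W V hV)
  exact isLocOn_of_range_eq κ (subKι W H π) V (fun T' _ m => hiff T' m) hS

section affineStepMain
open Groth.Agent.Lib.Helper28.FinType Groth.Agent.Lib.Helper17.MV

theorem affine_step' (H : X.Modules) (W V : X.Opens) (hV : IsAffineOpen V)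
    (hqW : ∀ T : X.Opens, IsAffineOpen T → T ≤ W → IsLocOn H T) (hqV : IsLocOn H V)
    (hWV : IsCompact ((W ⊓ V : X.Opens) : Set X))
    (hfin : ∀ T : X.Opens, IsAffineOpen T → T ≤ W → Module.Finite Γ(X, T) Γ(H, T)) :
    ∃ (H₂ : X.Modules) (κ : H₂ ⟶ H), Mono κ ∧
      (∀ T : X.Opens, IsAffineOpen T → T ≤ W ⊔ V → IsLocOn H₂ T) ∧
      (∀ T : X.Opens, T ≤ W → Function.Surjective (κ.app T)) ∧
      (∀ T : X.Opens, IsAffineOpen T → T ≤ W ⊔ V → Module.Finite Γ(X, T) Γ(H₂, T)) ∧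
      (∀ (T : X.Opens) (m : Γ(H, T)), (∃ k : Γ(H₂, T ⊓ V), κ.app (T ⊓ V) k = res H inf_le_left m) →
        ∃ k : Γ(H₂, T), κ.app T k = m) := by
  classical
  haveI : IsAffine (V : Scheme.{u}) := hV
  obtain ⟨Y, hY⟩ : ∃ Y : Scheme.{u}, Y = (V : Scheme.{u}) := ⟨_, rfl⟩
  let A : (V : Scheme.{u}).Modules := H.restrict V.ι
  haveI : A.IsQuasicoherent :=
    isQuasicoherent_restrict_of_isLocOn V H (fun x hx => ⟨V, hV, hx, le_rfl, hqV⟩)
  let W' : (V : Scheme.{u}).Opens := V.ι ⁻¹ᵁ W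
  have hW'c : IsCompact (W' : Set (V : Scheme.{u})) := isCompact_preimage_ι W V hWV
  have hTop : IsAffineOpen (⊤ : (V : Scheme.{u}).Opens) := isAffineOpen_top _
  obtain ⟨s, hs⟩ := exists_finset_basicOpen_eq hTop W' le_top hW'c
  have hsle : ∀ g ∈ s, (V : Scheme.{u}).basicOpen g ≤ W' := by
    intro g hg
    rw [hs]
    exact le_biSup (fun g : Γ((V : Scheme.{u}), ⊤) => (V : Scheme.{u}).basicOpen g) hg
  have hfinY : ∀ g ∈ s, Module.Finite Γ((V : Scheme.{u}), (V : Scheme.{u}).basicOpen g)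
      Γ(A, (V : Scheme.{u}).basicOpen g) := by
    intro g hg
    apply finite_restrict_of_finite V H ((V : Scheme.{u}).basicOpen g)
    apply hfin
    · exact (hTop.basicOpen g).image_of_isOpenImmersion V.ι
    · exact (Scheme.Hom.image_mono V.ι (hsle g hg)).trans (V.ι.image_preimage_le W)
  have hloc : IsLocOn A ⊤ := isLocOn_of_isQuasicoherent A hTop
  have hex : ∀ g : Γ((V : Scheme.{u}), ⊤), ∃ S : Finset Γ(A, ⊤), g ∈ s →
      Submodule.span Γ((V : Scheme.{u}), (V : Scheme.{u}).basicOpen g)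
        ((fun m => res A ((V : Scheme.{u}).basicOpen_le g) m) '' (S : Set Γ(A, ⊤))) = ⊤ := by
    intro g
    by_cases hg : g ∈ s
    · obtain ⟨S, hS⟩ := exists_finset_res_span A hloc g (hfinY g hg)
      exact ⟨S, fun _ => hS⟩
    · exact ⟨∅, fun h => absurd h hg⟩
  choose S hS using hex
  let SS : Finset Γ(A, ⊤) := s.biUnion S
  let n : (↥SS) → A.val.obj (op ⊤) := fun j => j.1
  have hspan : ∀ g ∈ s, Submodule.span Γ((V : Scheme.{u}), (V : Scheme.{u}).basicOpen g)
      (Set.range fun j : ↥SS => res A (le_top : (V : Scheme.{u}).basicOpen g ≤ ⊤) (n j)) = ⊤ := by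
    intro g hg
    rw [eq_top_iff, ← hS g hg]
    apply Submodule.span_mono
    rintro _ ⟨m, hm, rfl⟩
    exact ⟨⟨m, Finset.mem_biUnion.2 ⟨g, hg, hm⟩⟩, rfl⟩
  haveI : (cokernel (fam A n)).IsQuasicoherent :=
    Groth.Agent.Lib.Helper17.CohKer.isQuasicoherent_cokernel (fam A n)
  let π : A ⟶ cokernel (fam A n) := cokernel.π (fam A n)
  have hQ0 : ∀ (T' : (V : Scheme.{u}).Opens), T' ≤ W' → ∀ t : Γ(cokernel (fam A n), T'), t = 0 := by
    intro T' hT' t
    refine sections_eq_zero_of_basicOpen (cokernel (fam A n)) hTop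
      (isLocOn_of_isQuasicoherent _ hTop) (fun g : s => g.1)
      (fun g t => cokernel_sections_eq_zero A n (hTop.basicOpen g.1) (hspan g.1 g.2) t) T' ?_ t
    refine hT'.trans ?_
    rw [hs]
    exact iSup₂_le fun g hg => le_iSup (fun g : s => (V : Scheme.{u}).basicOpen g.1) ⟨g, hg⟩
  have hsurj : ∀ T : X.Opens, T ≤ W → Function.Surjective ((subKι V H π).app T) := by
    intro T hT m
    apply (mem_subK_iff V H π T m).2
    exact hQ0 (V.ι ⁻¹ᵁ T) (Scheme.Hom.preimage_mono V.ι hT) _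
  -- finiteness over `V`
  have hfinV0 : Module.Finite Γ(X, V.ι ''ᵁ ⊤) Γ(subK V H π, V.ι ''ᵁ ⊤) := by
    haveI : Finite ↥SS := inferInstance
    have hfg := fg_ker_cokernel_π A n
    have hfg' : (LinearMap.range (appLin (subKι V H π) (V.ι ''ᵁ ⊤))).FG := by
      refine fg_transport (R := Γ((V : Scheme.{u}), ⊤)) (R' := Γ(X, V.ι ''ᵁ ⊤)) (M := Γ(A, ⊤))
        (M' := Γ(H, V.ι ''ᵁ ⊤)) (fun r => r) (AddMonoidHom.id _)
        (fun r m => restrict_smul_eq V H ⊤ r m) _ _ (fun m' => ?_) hfg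
      constructor
      · rintro ⟨k, rfl⟩
        refine ⟨(subKι V H π).app (V.ι ''ᵁ ⊤) k, ?_, rfl⟩
        exact (mem_range_subKι_top V H π _).1 ⟨k, rfl⟩
      · rintro ⟨m, hm, rfl⟩
        obtain ⟨k, hk⟩ := (mem_range_subKι_top V H π m).2 hm
        exact ⟨k, hk⟩
    haveI : Module.Finite Γ(X, V.ι ''ᵁ ⊤) (LinearMap.range (appLin (subKι V H π) (V.ι ''ᵁ ⊤))) :=
      Module.Finite.of_fg hfg'
    exact Module.Finite.equiv
      (LinearEquiv.ofInjective (appLin (subKι V H π) (V.ι ''ᵁ ⊤)) (subKι_app_injective V H π _)).symm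
  have e0 : V.ι ''ᵁ ⊤ = V := by
    rw [Scheme.Hom.image_top_eq_opensRange, Scheme.Opens.opensRange_ι]
  have hfinV : Module.Finite Γ(X, V) Γ(subK V H π, V) := finite_congr e0 hfinV0
  have hq2 : ∀ T : X.Opens, IsAffineOpen T → T ≤ W ⊔ V → IsLocOn (subK V H π) T := by
    intro T hT hTWV
    refine isLocOn_of_locally _ hT fun x hxT => ?_
    rcases (hTWV hxT) with hxW | hxV
    · obtain ⟨r, hr, hxr⟩ := hT.exists_basicOpen_le (V := T ⊓ W) ⟨x, ⟨hxT, hxW⟩⟩ hxT
      refine ⟨X.basicOpen r, hT.basicOpen r, hxr, X.basicOpen_le r, ?_⟩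
      exact isLocOn_of_range_eq (subKι V H π) (𝟙 H) (X.basicOpen r)
        (fun T'' hT'' m => ⟨fun _ => ⟨m, rfl⟩, fun _ => hsurj T'' (hT''.trans (hr.trans inf_le_right)) m⟩)
        (hqW _ (hT.basicOpen r) (hr.trans inf_le_right))
    · obtain ⟨f, g, hfg, hxf⟩ := exists_basicOpen_le_affine_inter hT hV x ⟨hxT, hxV⟩
      have hle : X.basicOpen f ≤ V := hfg ▸ X.basicOpen_le g
      refine ⟨X.basicOpen f, hT.basicOpen f, hxf, X.basicOpen_le f, ?_⟩
      apply CohKer.isLocOn_kernel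
      · exact isLocOn_of_le H hV hqV (hT.basicOpen f) hle
      · exact isLocOn_pushforward_ι V _ (hT.basicOpen f) hle
  refine ⟨subK V H π, subKι V H π, inferInstance, hq2, hsurj, ?_, subK_saturated V H π⟩
  intro T hT hTWV
  refine finite_of_locally hT (hq2 T hT hTWV) ?_
  intro x hxT
  rcases (hTWV hxT) with hxW | hxV
  · obtain ⟨r, hr, hxr⟩ := hT.exists_basicOpen_le (V := T ⊓ W) ⟨x, ⟨hxT, hxW⟩⟩ hxT
    refine ⟨r, hxr, ?_⟩
    haveI := hfin (X.basicOpen r) (hT.basicOpen r) (hr.trans inf_le_right)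
    have hbij : Function.Bijective (appLin (subKι V H π) (X.basicOpen r)) :=
      ⟨subKι_app_injective V H π _, hsurj _ (hr.trans inf_le_right)⟩
    exact Module.Finite.equiv (LinearEquiv.ofBijective _ hbij).symm
  · obtain ⟨f, g, hfg, hxf⟩ := exists_basicOpen_le_affine_inter hT hV x ⟨hxT, hxV⟩
    refine ⟨f, hxf, ?_⟩
    exact finite_congr hfg.symm (finite_basicOpen (hq2 V hV le_sup_right) g hfinV)

end affineStepMain

section zorn

variable (H : X.Modules) (U : X.Opens) (P : X.Opens → Prop)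

/-- a partial finite type extension, over an open `W` satisfying `P` -/
structure Ext' where
  W : X.Opens
  K : X.Modules
  κ : K ⟶ H
  mono : Mono κ
  qc : ∀ T : X.Opens, IsAffineOpen T → T ≤ W → IsLocOn K T
  hU : U ≤ W
  surjU : ∀ T : X.Opens, T ≤ U → Function.Surjective (κ.app T)
  fin : ∀ T : X.Opens, IsAffineOpen T → T ≤ W → Module.Finite Γ(X, T) Γ(K, T)
  sat : ∀ (T : X.Opens) (m : Γ(H, T)),
    (∃ k : Γ(K, T ⊓ W), κ.app (T ⊓ W) k = res H inf_le_left m) → ∃ k : Γ(K, T), κ.app T k = m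
  hP : P W

variable {H U P}

def Ext'.Mem (a : Ext' H U P) (T : X.Opens) (m : Γ(H, T)) : Prop := ∃ k : Γ(a.K, T), a.κ.app T k = m

theorem Ext'.mem_res (a : Ext' H U P) {T T' : X.Opens} (h : T' ≤ T) {m : Γ(H, T)} (hm : a.Mem T m) :
    a.Mem T' (res H h m) := by
  obtain ⟨k, rfl⟩ := hm
  exact ⟨res a.K h k, app_res a.κ h k⟩

def Ext'.rel (a b : Ext' H U P) : Prop :=
  a.W ≤ b.W ∧ ∀ T : X.Opens, T ≤ a.W → ∀ m : Γ(H, T), b.Mem T m ↔ a.Mem T m

theorem Ext'.rel_anti {a b : Ext' H U P} (h : a.rel b) (T : X.Opens) (m : Γ(H, T)) (hm : b.Mem T m) :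
    a.Mem T m := by
  apply a.sat T m
  exact (h.2 (T ⊓ a.W) inf_le_right _).1 (b.mem_res inf_le_left hm)

theorem Ext'.rel_trans {a b c : Ext' H U P} (h1 : a.rel b) (h2 : b.rel c) : a.rel c :=
  ⟨h1.1.trans h2.1, fun T hT m => (h2.2 T (hT.trans h1.1) m).trans (h1.2 T hT m)⟩

theorem Ext'.rel_refl (a : Ext' H U P) : a.rel a := ⟨le_rfl, fun _ _ _ => Iff.rfl⟩

/-- the upper bound of a nonempty chain -/
theorem Ext'.exists_bound
    (hPsup : ∀ s : Set X.Opens, s.Nonempty → (∀ W ∈ s, U ≤ W ∧ P W) → P (sSup s))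
    (c : Set (Ext' H U P)) (hc : IsChain Ext'.rel c)
    (hne : c.Nonempty) : ∃ ub : Ext' H U P, ∀ a ∈ c, a.rel ub := by
  classical
  obtain ⟨a₀, ha₀⟩ := hne
  -- comparability
  have hcomp : ∀ a ∈ c, ∀ b ∈ c, a.rel b ∨ b.rel a := by
    intro a ha b hb
    by_cases hab : a = b
    · subst hab; exact Or.inl a.rel_refl
    · exact hc ha hb hab
  -- the index type
  let ι : Type u := {W : X.Opens // ∃ a ∈ c, a.W = W}
  choose rep hrepc hrepW using fun w : ι => w.2
  let Kinf : X.Modules := infSub H (fun w : ι => (rep w).K) (fun w => (rep w).κ)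
  let κinf : Kinf ⟶ H := infSubι H (fun w : ι => (rep w).K) (fun w => (rep w).κ)
  haveI : ∀ w : ι, Mono ((rep w).κ) := fun w => (rep w).mono
  have hmem : ∀ (T : X.Opens) (m : Γ(H, T)), (∃ k, κinf.app T k = m) ↔ ∀ a ∈ c, a.Mem T m := by
    intro T m
    rw [mem_infSub_iff]
    constructor
    · intro h a ha
      let w : ι := ⟨a.W, a, ha, rfl⟩
      have hw : (rep w).Mem T m := h w
      rcases hcomp (rep w) (hrepc w) a ha with h1 | h1
      · apply a.sat T m
        have h2 : (rep w).W = a.W := hrepW w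
        exact (h1.2 (T ⊓ a.W) (inf_le_right.trans h2.ge) _).2 ((rep w).mem_res inf_le_left hw)
      · exact Ext'.rel_anti h1 T m hw
    · intro h w
      exact h (rep w) (hrepc w)
  let Winf : X.Opens := ⨆ a : c, a.1.W
  have hle : ∀ a ∈ c, a.W ≤ Winf := fun a ha => le_iSup (fun a : c => a.1.W) ⟨a, ha⟩
  -- local comparison with a member of the chain
  have hloc : ∀ T : X.Opens, IsAffineOpen T → T ≤ Winf → ∃ a ∈ c, T ≤ a.W ∧
      ∀ T' : X.Opens, T' ≤ T → ∀ m : Γ(H, T'), (∃ k, κinf.app T' k = m) ↔ a.Mem T' m := by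
    intro T hT hTW
    have hcpt : IsCompact (T : Set X) := hT.isCompact
    haveI : Nonempty c := ⟨⟨a₀, ha₀⟩⟩
    obtain ⟨a, ha⟩ := hcpt.elim_directed_cover (fun a : c => (a.1.W : Set X)) (fun a => a.1.W.2)
      (by
        intro x hx
        have hx' : x ∈ Winf := hTW hx
        obtain ⟨a, hxa⟩ := Opens.mem_iSup.1 hx'
        exact Set.mem_iUnion.2 ⟨a, hxa⟩)
      (by
        intro a b
        rcases hcomp a.1 a.2 b.1 b.2 with h | h
        · exact ⟨b, h.1, le_rfl⟩
        · exact ⟨a, le_rfl, h.1⟩)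
    have haW : T ≤ a.1.W := ha
    refine ⟨a.1, a.2, haW, fun T' hT' m => ?_⟩
    rw [hmem]
    constructor
    · intro h; exact h a.1 a.2
    · intro h b hb
      rcases hcomp b hb a.1 a.2 with h1 | h1
      · exact Ext'.rel_anti h1 T' m h
      · apply b.sat T' m
        have h2 : T' ⊓ b.W ≤ a.1.W := inf_le_left.trans (hT'.trans haW)
        exact (h1.2 (T' ⊓ b.W) h2 _).2 (a.1.mem_res inf_le_left h)
  have hPinf : P Winf := by
    have h1 : Winf = sSup ((fun a : Ext' H U P => a.W) '' c) := by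
      rw [sSup_image']
    rw [h1]
    refine hPsup _ ⟨a₀.W, a₀, ha₀, rfl⟩ ?_
    rintro _ ⟨a, -, rfl⟩
    exact ⟨a.hU, a.hP⟩
  refine ⟨
    { W := Winf
      K := Kinf
      κ := κinf
      mono := inferInstance
      qc := ?_
      hU := a₀.hU.trans (hle a₀ ha₀)
      surjU := ?_
      fin := ?_
      sat := ?_
      hP := hPinf }, ?_⟩
  · intro T hT hTW
    obtain ⟨a, ha, haW, hiff⟩ := hloc T hT hTW
    haveI := a.mono
    exact isLocOn_of_range_eq κinf a.κ T hiff (a.qc T hT haW)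
  · intro T hT m
    rw [hmem]
    intro a ha
    exact a.surjU T hT m
  · intro T hT hTW
    obtain ⟨a, ha, haW, hiff⟩ := hloc T hT hTW
    haveI := a.mono
    exact finite_of_range_eq κinf a.κ T (hiff T le_rfl) (a.fin T hT haW)
  · intro T m hm
    rw [hmem] at hm ⊢
    intro a ha
    apply a.sat T m
    have h1 := a.mem_res (inf_le_inf le_rfl (hle a ha) : T ⊓ a.W ≤ T ⊓ Winf) (hm a ha)
    rw [res_res] at h1
    exact h1
  · intro a ha
    refine ⟨hle a ha, fun T hT m => ?_⟩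
    change (∃ k, κinf.app T k = m) ↔ a.Mem T m
    rw [hmem]
    constructor
    · intro h; exact h a ha
    · intro h b hb
      rcases hcomp b hb a ha with h1 | h1
      · exact Ext'.rel_anti h1 T m h
      · exact (h1.2 T hT m).2 h

/-- the extension step: a partial extension can be enlarged by an affine open meeting it in a quasi-compact set -/
theorem Ext'.exists_step [H.IsQuasicoherent] (M : Ext' H U P) (V : X.Opens) (hV : IsAffineOpen V)
    (hc : IsCompact ((M.W ⊓ V : X.Opens) : Set X)) (hP : P (M.W ⊔ V)) :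
    ∃ N : Ext' H U P, M.rel N ∧ N.W = M.W ⊔ V := by
  haveI := M.mono
  have hqV : IsLocOn M.K V := isLocOn_of_saturated H M.K M.κ M.W M.qc M.sat V hV hc
  obtain ⟨H₂, κ₂, hm₂, hq₂, hs₂, hf₂, hsat₂⟩ := affine_step' M.K M.W V hV M.qc hqV hc M.fin
  haveI := hm₂
  have hinjM : ∀ T, Function.Injective (M.κ.app T) := fun T =>
    Groth.Agent.Lib.Helper29.QCohStalk.injective_app_of_mono M.κ inferInstance T
  refine ⟨
    { W := M.W ⊔ V
      K := H₂
      κ := κ₂ ≫ M.κ
      mono := mono_comp _ _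
      qc := hq₂
      hU := M.hU.trans le_sup_left
      surjU := ?_
      fin := hf₂
      sat := ?_
      hP := hP }, ⟨le_sup_left, ?_⟩, rfl⟩
  · intro T hT m
    obtain ⟨k, rfl⟩ := M.surjU T hT m
    obtain ⟨k₂, rfl⟩ := hs₂ T (hT.trans M.hU) k
    exact ⟨k₂, rfl⟩
  · intro T m hm
    obtain ⟨h, hh⟩ := hm
    -- step 1: `m` is in `M`
    have h1 : M.Mem T m := by
      apply M.sat T m
      refine ⟨res M.K (inf_le_inf le_rfl le_sup_left : T ⊓ M.W ≤ T ⊓ (M.W ⊔ V)) (κ₂.app _ h), ?_⟩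
      rw [app_res]
      have : M.κ.app _ (κ₂.app _ h) = res H inf_le_left m := hh
      rw [this, res_res]
    obtain ⟨k, rfl⟩ := h1
    -- step 2: `k` is in `H₂`
    obtain ⟨k₂, hk₂⟩ := hsat₂ T k (by
      refine ⟨res H₂ (inf_le_inf le_rfl le_sup_right : T ⊓ V ≤ T ⊓ (M.W ⊔ V)) h, ?_⟩
      apply hinjM
      rw [app_res, app_res, app_res]
      have : M.κ.app _ (κ₂.app _ h) = res H inf_le_left (M.κ.app T k) := hh
      rw [this, res_res])
    exact ⟨k₂, by rw [← hk₂]; rfl⟩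
  · intro T hT m
    constructor
    · rintro ⟨k₂, rfl⟩
      exact ⟨κ₂.app T k₂, rfl⟩
    · rintro ⟨k, rfl⟩
      obtain ⟨k₂, rfl⟩ := hs₂ T hT k
      exact ⟨k₂, rfl⟩

end zorn

section main

theorem isCompact_inf_of_quasiCompact_ι (U V : X.Opens) [QuasiCompact U.ι] (hV : IsAffineOpen V) :
    IsCompact ((U : Set X) ∩ (V : Set X)) := by
  have h1 : IsCompact ((U.ι ⁻¹ᵁ V : (U : Scheme.{u}).Opens) : Set (U : Scheme.{u})) :=
    (quasiCompact_iff_forall_isAffineOpen (f := U.ι)).1 inferInstance V hV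
  have h2 := h1.image U.ι.continuous
  have h3 : (⇑U.ι '' ((U.ι ⁻¹ᵁ V : (U : Scheme.{u}).Opens) : Set (U : Scheme.{u}))) =
      (U : Set X) ∩ (V : Set X) := by
    change ⇑U.ι '' (⇑U.ι ⁻¹' (V : Set X)) = _
    rw [Set.image_preimage_eq_inter_range, Scheme.Opens.range_ι, Set.inter_comm]
  rwa [h3] at h2

variable {L : Type v} [LinearOrder L] [WellFoundedLT L]

/-- **Zorn**, transfinite version -/
theorem exists_ft_sub_top' (V : L → X.Opens) (hV : ∀ l, IsAffineOpen (V l)) (hcov : ⨆ l, V l = ⊤)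
    (hW : ∀ l, IsCompact ((V l : Set X) ∩ ⋃ m ∈ Set.Iio l, (V m : Set X)))
    (H : X.Modules) [H.IsQuasicoherent] (U : X.Opens) [QuasiCompact U.ι]
    (hfin : ∀ T : X.Opens, IsAffineOpen T → T ≤ U → Module.Finite Γ(X, T) Γ(H, T)) :
    ∃ (K : X.Modules) (κ : K ⟶ H), Mono κ ∧ K.IsQuasicoherent ∧
      (∀ T : X.Opens, T ≤ U → Function.Surjective (κ.app T)) ∧
      (∀ T : X.Opens, IsAffineOpen T → Module.Finite Γ(X, T) Γ(K, T)) := by
  classical
  let P : X.Opens → Prop := fun W => ∃ I : Set L, IsLowerSet I ∧ W = U ⊔ ⨆ l ∈ I, V l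
  have hPsup : ∀ s : Set X.Opens, s.Nonempty → (∀ W ∈ s, U ≤ W ∧ P W) → P (sSup s) := by
    intro s hs h
    choose! I hI using fun W (hW : W ∈ s) => (h W hW).2
    refine ⟨⋃ W ∈ s, I W, isLowerSet_iUnion₂ fun W hW => (hI W hW).1, ?_⟩
    apply le_antisymm
    · apply sSup_le
      intro W hW
      rw [(hI W hW).2]
      refine sup_le le_sup_left (le_sup_of_le_right ?_)
      refine iSup₂_le fun l hl => ?_
      exact le_biSup V (Set.mem_iUnion₂.2 ⟨W, hW, hl⟩)
    · obtain ⟨W₀, hW₀⟩ := hs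
      refine sup_le ((h W₀ hW₀).1.trans (le_sSup hW₀)) ?_
      refine iSup₂_le fun l hl => ?_
      obtain ⟨W, hW, hlW⟩ := Set.mem_iUnion₂.1 hl
      refine le_trans ?_ (le_sSup hW)
      rw [(hI W hW).2]
      exact le_sup_of_le_right (le_biSup V hlW)
  let base : Ext' H U P :=
    { W := U
      K := H
      κ := 𝟙 H
      mono := inferInstance
      qc := fun T hT _ => isLocOn_of_isQuasicoherent H hT
      hU := le_rfl
      surjU := fun T _ m => ⟨m, rfl⟩
      fin := hfin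
      sat := fun T m _ => ⟨m, rfl⟩
      hP := ⟨∅, isLowerSet_empty, by simp⟩ }
  haveI : Nonempty (Ext' H U P) := ⟨base⟩
  obtain ⟨M, hM⟩ := exists_maximal_of_nonempty_chains_bounded (r := Ext'.rel (H := H) (U := U) (P := P))
    (fun c hc hne => Ext'.exists_bound hPsup c hc hne) (fun h1 h2 => Ext'.rel_trans h1 h2)
  have hall : ∀ l, V l ≤ M.W := by
    intro l
    induction l using WellFoundedLT.induction with
    | ind l ih =>
      by_contra hl
      obtain ⟨I, hI, hMW⟩ := M.hP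
      have hlI : l ∉ I := by
        intro hlI
        apply hl
        rw [hMW]
        exact le_sup_of_le_right (le_biSup V hlI)
      have hIl : ∀ m ∈ I, m < l := by
        intro m hm
        by_contra hml
        exact hlI (hI (not_lt.1 hml) hm)
      have hMle : M.W ≤ U ⊔ ⨆ m ∈ Set.Iio l, V m := by
        rw [hMW]
        refine sup_le le_sup_left (le_sup_of_le_right ?_)
        exact iSup₂_le fun m hm => le_biSup V (Set.mem_Iio.2 (hIl m hm))
      have hc : IsCompact ((M.W ⊓ V l : X.Opens) : Set X) := by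
        have h1 : ((M.W ⊓ V l : X.Opens) : Set X) =
            ((U : Set X) ∩ (V l : Set X)) ∪ ((V l : Set X) ∩ ⋃ m ∈ Set.Iio l, (V m : Set X)) := by
          ext x
          constructor
          · rintro ⟨hxM, hxV⟩
            rcases hMle hxM with hxU | hx
            · exact Or.inl ⟨hxU, hxV⟩
            · refine Or.inr ⟨hxV, ?_⟩
              obtain ⟨m, hx⟩ := Opens.mem_iSup.1 hx
              obtain ⟨hm, hx⟩ := Opens.mem_iSup.1 hx
              exact Set.mem_iUnion₂.2 ⟨m, hm, hx⟩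
          · rintro (⟨hxU, hxV⟩ | ⟨hxV, hx⟩)
            · exact ⟨M.hU hxU, hxV⟩
            · obtain ⟨m, hm, hx⟩ := Set.mem_iUnion₂.1 hx
              exact ⟨ih m hm hx, hxV⟩
        rw [h1]
        exact (isCompact_inf_of_quasiCompact_ι U (V l) (hV l)).union (hW l)
      have hP : P (M.W ⊔ V l) := by
        refine ⟨Set.Iic l, isLowerSet_Iic l, ?_⟩
        apply le_antisymm
        · refine sup_le (hMle.trans (sup_le le_sup_left (le_sup_of_le_right ?_)))
            (le_sup_of_le_right (le_biSup V (Set.mem_Iic.2 le_rfl)))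
          exact iSup₂_le fun m hm => le_biSup V (Set.mem_Iic.2 (le_of_lt hm))
        · refine sup_le (M.hU.trans le_sup_left) (iSup₂_le fun m hm => ?_)
          rcases lt_or_eq_of_le (Set.mem_Iic.1 hm) with h | h
          · exact (ih m h).trans le_sup_left
          · rw [h]; exact le_sup_right
      obtain ⟨N, hMN, hNW⟩ := Ext'.exists_step M (V l) (hV l) hc hP
      have h := (hM N hMN).1
      rw [hNW] at h
      exact hl (le_sup_right.trans h)
  have hWtop : M.W = ⊤ := by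
    rw [eq_top_iff, ← hcov]
    exact iSup_le hall
  refine ⟨M.K, M.κ, M.mono, ?_, fun T hT => M.surjU T hT, fun T hT => M.fin T hT (hWtop ▸ le_top)⟩
  exact isQuasicoherent_of_forall_isLocOn _ fun T => M.qc T.1 T.2 (hWtop ▸ le_top)

/-- **Extension of quasi-coherent submodules of finite type**, transfinite version: `X` is covered by affine
opens `V l` indexed by a well-ordered set such that `V l ∩ ⋃_{m < l} V m` is quasi-compact for all `l`, and
`U` is an open whose inclusion is quasi-compact. -/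
theorem exists_extension_wellOrdered (V : L → X.Opens) (hV : ∀ l, IsAffineOpen (V l)) (hcov : ⨆ l, V l = ⊤)
    (hW : ∀ l, IsCompact ((V l : Set X) ∩ ⋃ m ∈ Set.Iio l, (V m : Set X)))
    (U : X.Opens) [QuasiCompact U.ι]
    (G : X.Modules) [G.IsQuasicoherent] (F' : (U : Scheme.{u}).Modules) [F'.IsQuasicoherent]
    [SheafOfModules.IsFiniteType.{u} (R := (U : Scheme.{u}).ringCatSheaf) F']
    (i' : F' ⟶ G.restrict U.ι) [Mono i'] :
    ∃ (F : X.Modules) (i : F ⟶ G) (e : F.restrict U.ι ≅ F'), Mono i ∧ F.IsQuasicoherent ∧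
      SheafOfModules.IsFiniteType.{u} (R := X.ringCatSheaf) F ∧
      e.hom ≫ i' = (Scheme.Modules.restrictFunctor U.ι).map i := by
  obtain ⟨H, ι, hι, hHq, hH⟩ := exists_saturation U G F' i'
  haveI := hι
  haveI := hHq
  have hfinU := finite_of_range_iff U G F' i' H ι hH
  obtain ⟨F, κ, hκ, hFq, hsurj, hfin⟩ := exists_ft_sub_top' V hV hcov hW H U hfinU
  haveI := hκ
  haveI := hFq
  haveI hmono : Mono (κ ≫ ι) := mono_comp _ _
  haveI hmono' : Mono ((Scheme.Modules.restrictFunctor U.ι).map (κ ≫ ι)) := by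
    refine mono_of_injective _ fun T' => ?_
    intro a b hab
    exact Groth.Agent.Lib.Helper29.QCohStalk.injective_app_of_mono (κ ≫ ι) hmono (U.ι ''ᵁ T') hab
  obtain ⟨e, he⟩ := exists_iso_of_range_eq ((Scheme.Modules.restrictFunctor U.ι).map (κ ≫ ι)) i' (by
    intro T' r
    constructor
    · rintro ⟨p, rfl⟩
      exact (hH T' _).1 ⟨κ.app (U.ι ''ᵁ T') p, rfl⟩
    · rintro ⟨b, hb⟩
      obtain ⟨h, hh⟩ := (hH T' r).2 ⟨b, hb⟩
      obtain ⟨p, rfl⟩ := hsurj (U.ι ''ᵁ T') (U.ι.image_le_opensRange T' |>.trans (by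
        rw [Scheme.Opens.opensRange_ι])) h
      exact ⟨p, hh⟩)
  exact ⟨F, κ ≫ ι, e, hmono, hFq,
    Groth.Agent.Lib.Helper17.FinTypeConv.isFiniteType_of_forall_finite_sections F fun T => hfin T.1 T.2, he⟩

end main

end Groth.Agent.Lib.Helper17.FTExt4
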