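import Groth.Agent.Lib.Helper17.FibDim
import Groth.Agent.Lib.Helper4.RpushStalk
import Groth.Agent.Lib.lead.FormalF
import Groth.Agent.S7844
import Mathlib

set_option autoImplicit false
set_option backward.isDefEq.respectTransparency.types false
universe u
open CategoryTheory CategoryTheory.Limits AlgebraicGeometry TopologicalSpace Opposite

namespace Groth.Agent.Lib.Helper17.FibDim2

theorem dim_closedFibre_le {X Y : Scheme.{u}} (f : X ⟶ Y) (y : Y) (d : ℕ)
    (hd : topologicalKrullDim ↥(f.fiber y) ≤ d)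
    (X₁ : Scheme.{u}) (g : X₁ ⟶ X) (h : X₁ ⟶ Spec (Y.presheaf.stalk y))
    (hsq : IsPullback g h f (Y.fromSpecStalk y)) :
    topologicalKrullDim ↥{x : X₁ | h x = IsLocalRing.closedPoint (Y.presheaf.stalk y)} ≤ d := by
  haveI : IsPreimmersion g :=
    MorphismProperty.of_isPullback (P := @IsPreimmersion) hsq.flip inferInstance
  have hg : Topology.IsEmbedding g := g.isEmbedding
  let φ : ↥{x : X₁ | h x = IsLocalRing.closedPoint (Y.presheaf.stalk y)} → ↥(f ⁻¹' {y}) :=
    fun z => ⟨g z.1, by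
      have h1 : f (g z.1) = Y.fromSpecStalk y (h z.1) := by
        rw [← Scheme.Hom.comp_apply, hsq.w, Scheme.Hom.comp_apply]
      have h2 : h z.1 = IsLocalRing.closedPoint (Y.presheaf.stalk y) := z.2
      change f (g z.1) = y
      rw [h1, h2, Scheme.fromSpecStalk_closedPoint]⟩
  have hφ : Topology.IsInducing φ := by
    have h1 : Topology.IsInducing (Subtype.val ∘ φ) :=
      hg.isInducing.comp Topology.IsInducing.subtypeVal
    exact Topology.IsInducing.of_comp (by fun_prop) continuous_subtype_val h1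
  have h3 := hφ.topologicalKrullDim_le
  have h4 := IsHomeomorph.topologicalKrullDim_eq _ (f.fiberHomeo y).isHomeomorph
  exact (h3.trans h4.ge).trans hd


theorem main {X Y : Scheme.{u}} (f : X ⟶ Y)
    [IsProper f] [IsLocallyNoetherian Y] (y : Y) (d : ℕ) (hd : topologicalKrullDim ↥(f.fiber y) ≤ d)
    (M : X.Modules) (hM : Coh.IsCoh M) (p : ℕ) (hp : d < p) :
    Limits.IsZero (TopCat.Presheaf.stalk ((Coh.RpushAb f p).obj (Coh.toAb M)).obj y) := by
  haveI : HasInjectiveResolutions X.Modules := inferInstance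
  let X₁ : Scheme.{u} := pullback f (Y.fromSpecStalk y)
  let g : X₁ ⟶ X := pullback.fst f (Y.fromSpecStalk y)
  letI : X₁.Over (Spec (CommRingCat.of (Y.presheaf.stalk y))) :=
    ⟨pullback.snd f (Y.fromSpecStalk y)⟩
  have hsq : IsPullback g (X₁ ↘ Spec (CommRingCat.of (Y.presheaf.stalk y))) f
      (Y.fromSpecStalk y) := IsPullback.of_hasPullback _ _
  haveI : IsProper (X₁ ↘ Spec (CommRingCat.of (Y.presheaf.stalk y))) :=
    MorphismProperty.of_isPullback (P := @IsProper) hsq inferInstance
  haveI : IsNoetherianRing (Y.presheaf.stalk y) := inferInstance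
  haveI : IsNoetherian X₁ := Groth.Agent.Lib.Lead.FormalF.isNoetherian (Y.presheaf.stalk y) X₁
    (X₁ ↘ Spec (CommRingCat.of (Y.presheaf.stalk y)))
  haveI : NoetherianSpace X₁ := inferInstance
  have hdim := dim_closedFibre_le f y d hd X₁ g
    (X₁ ↘ Spec (CommRingCat.of (Y.presheaf.stalk y))) hsq
  have hlim := Groth.Agent.Lib.Helper17.FibDim.HHlim_eq_bot (A := Y.presheaf.stalk y)
    ((Scheme.Modules.pullback g).obj M) d p hdim hp
  obtain ⟨V, hyV, hV⟩ := Groth.Agent.S7844.result f M hM y p X₁ g hsq hlim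
  obtain ⟨e₁⟩ := Groth.Agent.S11319.result f M p
  have h1 := Groth.Agent.Lib.Helper4.RpushStalk.isZero_stalk_of_isZero_restrict _ V y hyV hV
  exact h1.of_iso ((TopCat.Presheaf.stalkFunctor AddCommGrpCat.{u} y).mapIso
    ((sheafToPresheaf _ _).mapIso e₁)).symm

end Groth.Agent.Lib.Helper17.FibDim2
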