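import Groth.Agent.Lib.Helper17.TowE
import Groth.Agent.Lib.Helper17.PullTwist
import Groth.Agent.Lib.Helper17.FinTypePushPull
import Groth.Agent.Lib.Helper17.FibDim2
import Groth.Agent.Lib.Helper28.PullbackAmple
import Mathlib
set_option backward.isDefEq.respectTransparency.types false
set_option autoImplicit false

/-!
# Ampleness on the closed fibre kills the cohomology of the twists of the infinitesimal neighbourhoods
-/

universe u
open CategoryTheory CategoryTheory.Limits AlgebraicGeometry Opposite TopologicalSpace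

namespace Groth.Agent.Lib.Helper17.FibAmple

open Groth.Agent.Lib.Helper23.FQuot Groth.Agent.Lib.Helper21.ThickDict
  Groth.Agent.Lib.Helper17.H0Neg Groth.Agent.Lib.Helper4.VanClass Groth.Agent.Lib.Helper17.Tow
  Groth.Agent.Lib.Helper28 Groth.Agent.Lib.Helper28.GenLocus Groth.Agent.Lib.Helper28.PullbackInv

section thick

variable {A : Type u} [CommRing A] (J : Ideal A) {X₁ : Scheme.{u}} (q : X₁ ⟶ Spec (CommRingCat.of A))

theorem thickTrans_thickι (k : ℕ) :
    CohB1.thickTrans q J k ≫ CohB1.thickι q J (k + 1) = CohB1.thickι q J k := by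
  exact (pullback.lift_fst _ _ _).trans (Category.comp_id _)

theorem thickTrans_toBase (k : ℕ) :
    CohB1.thickTrans q J k ≫ CohB1.thickToBase q J (k + 1) =
      CohB1.thickToBase q J k ≫ CohB1.specQuotTrans J k := by
  exact pullback.lift_snd _ _ _

theorem isPullback_thick (k : ℕ) :
    IsPullback (CohB1.thickTrans q J k) (CohB1.thickToBase q J k) (CohB1.thickToBase q J (k + 1))
      (CohB1.specQuotTrans J k) := by
  have hr : IsPullback (CohB1.thickι q J (k + 1)) (CohB1.thickToBase q J (k + 1)) q (CohB1.specQuot J (k + 1)) :=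
    IsPullback.of_hasPullback _ _
  have ho : IsPullback (CohB1.thickι q J k) (CohB1.thickToBase q J k) q (CohB1.specQuot J k) :=
    IsPullback.of_hasPullback _ _
  refine IsPullback.of_right ?_ (thickTrans_toBase J q k) hr
  rw [thickTrans_thickι, CohB1.specQuotTrans_specQuot]
  exact ho

end thick

section main

variable (A : Type u) [CommRing A] [IsNoetherianRing A] (J : Ideal A) (X₁ : Scheme.{u})
  [X₁.Over (Spec (CommRingCat.of A))]

/-- **uniform vanishing on the infinitesimal neighbourhoods of the closed fibre**: if `L₁` is ample on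
`X₁ ×_A A/J`, then the cohomology of `M₁(n)/J^{k+1} M₁(n)` vanishes in positive degrees for all `k` and all
large `n` -/
theorem exists_forall_subsingleton_HH_modPow [IsProper (X₁ ↘ Spec (CommRingCat.of A))]
    (L₁ : X₁.Modules) (hL₁ : PicF.IsInvertible L₁)
    (ha : CohB1.IsAmple ((Scheme.Modules.pullback
      (CohB1.thickι (X₁ ↘ Spec (CommRingCat.of A)) J 0)).obj L₁))
    (M₁ : X₁.Modules) (hM₁ : Coh.IsCoh M₁) :
    ∃ n₀ : ℕ, ∀ n : ℕ, n₀ ≤ n → ∀ k : ℕ, ∀ p : ℕ, 0 < p →
      Subsingleton (Coh.HH X₁ (Formal.modPow J (k + 1) (Pn M₁ L₁ n)) p) := by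
  set q := (X₁ ↘ Spec (CommRingCat.of A)) with hq
  haveI : M₁.IsQuasicoherent := hM₁.1
  haveI : SheafOfModules.IsFiniteType.{u} (R := X₁.ringCatSheaf) M₁ := hM₁.2
  have hcart := isPullback_thick J q
  have hp : IsProper (CohB1.thickToBase q J 0) :=
    MorphismProperty.of_isPullback (P := @IsProper)
      (IsPullback.of_hasPullback q (CohB1.specQuot J 0)) inferInstance
  have hF : ∀ k, Coh.IsCoh ((Scheme.Modules.pullback (CohB1.thickι q J k)).obj M₁) := fun k =>
    ⟨inferInstance, Groth.Agent.Lib.Helper17.FinTypePushPull.isFiniteType_pullback _ M₁⟩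
  obtain ⟨n₀, hn₀⟩ := adic_uniform_vanishing A J (fun k => CohB1.thick q J k)
    (fun k => CohB1.thickToBase q J k) (fun k => CohB1.thickTrans q J k) hcart hp
    (fun k => (Scheme.Modules.pullback (CohB1.thickι q J k)).obj L₁)
    (fun k => isInvertible_pullback (f := CohB1.thickι q J k) hL₁)
    (fun k => ⟨(Scheme.Modules.pullbackComp (CohB1.thickTrans q J k) (CohB1.thickι q J (k + 1))).app L₁ ≪≫
      (Scheme.Modules.pullbackCongr (thickTrans_thickι J q k)).app L₁⟩) ha
    (fun k => (Scheme.Modules.pullback (CohB1.thickι q J k)).obj M₁) hF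
    (fun k => ⟨(Scheme.Modules.pullbackComp (CohB1.thickTrans q J k) (CohB1.thickι q J (k + 1))).app M₁ ≪≫
      (Scheme.Modules.pullbackCongr (thickTrans_thickι J q k)).app M₁⟩)
  refine ⟨n₀, fun n hn k p hp' => ?_⟩
  have h1 := hn₀ n hn k p hp'
  letI : (CohB1.thick q J k).Over (Spec (CommRingCat.of A)) :=
    ⟨CohB1.thickToBase q J k ≫ CohB1.specQuot J k⟩
  have hi : CohB1.thickι q J k ≫ (X₁ ↘ Spec (CommRingCat.of A)) =
      (CohB1.thick q J k ↘ Spec (CommRingCat.of A)) := pullback.condition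
  have hpb : IsPullback (CohB1.thickι q J k) (CohB1.thickToBase q J k) q (CohB1.specQuot J k) :=
    IsPullback.of_hasPullback _ _
  haveI hcl : IsClosedImmersion (CohB1.specQuot J k) :=
    IsClosedImmersion.spec_of_surjective _ Ideal.Quotient.mk_surjective
  haveI : IsClosedImmersion (CohB1.thickι q J k) :=
    MorphismProperty.of_isPullback (P := @IsClosedImmersion) hpb.flip hcl
  have hker : ∀ (U : X₁.Opens), IsAffineOpen U → ∀ r : Γ(X₁, U),
      ((CohB1.thickι q J k).app U).hom r = 0 →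
      r ∈ Ideal.map (phiU (X₁ ↘ Spec (CommRingCat.of A)) U) (J ^ (k + 1)) :=
    fun U hU r hr => mem_map_of_isPullback (J ^ (k + 1)) _ (CohB1.thickι q J k) (CohB1.thickToBase q J k)
      hpb U hU r hr
  have hzero : ∀ c ∈ J ^ (k + 1), ∀ N : (CohB1.thick q J k).Modules, Formal.smulMod A N c = 0 := by
    intro c hc N
    unfold Formal.smulMod
    have h0 : Coh.toGlobal (CohB1.thick q J k ↘ Spec (CommRingCat.of A)) c = 0 :=
      toGlobal_eq_zero (J ^ (k + 1)) (CohB1.thickToBase q J k) c hc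
    rw [h0]
    exact KLin.smulModΓ_zero N
  haveI hNq : (Pn M₁ L₁ n).IsQuasicoherent := (isTwist_Pn M₁ L₁ n).isQuasicoherent hL₁
  have hQ := isQuot_unit (CohB1.thickι q J k) hi (J ^ (k + 1)) (IsNoetherian.noetherian _) hker hzero
    (Pn M₁ L₁ n)
  obtain ⟨e, -⟩ := (isQuot_modPowπ J (k + 1) (Pn M₁ L₁ n)).exists_iso hQ
  obtain ⟨t⟩ := Groth.Agent.Lib.Helper17.PullTwist.nonempty_pullback_Pn_iso (CohB1.thickι q J k) M₁ L₁ n hL₁
  have h2 : Subsingleton (Coh.HH (CohB1.thick q J k)
      ((Scheme.Modules.pullback (CohB1.thickι q J k)).obj (Pn M₁ L₁ n)) p) :=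
    subsingleton_HH_of_iso t.symm p h1
  obtain ⟨ε, -⟩ := Groth.Agent.Lib.Helper2.Bridge2.exists_natural_equiv (CohB1.thickι q J k) p
  have h3 : Subsingleton (Coh.HH X₁ ((Scheme.Modules.pushforward (CohB1.thickι q J k)).obj
      ((Scheme.Modules.pullback (CohB1.thickι q J k)).obj (Pn M₁ L₁ n))) p) :=
    (ε _ inferInstance).toEquiv.subsingleton
  exact subsingleton_HH_of_iso e.symm p h3

end main

section fibre

variable {X Y : Scheme.{u}} (f : X ⟶ Y) (y : Y)

/-- the first infinitesimal neighbourhood level `X₁ ×_{O_y} O_y/m` is the fibre -/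
theorem exists_iso_fiber :
    ∃ e : CohB1.thick (pullback.snd f (Y.fromSpecStalk y))
        (IsLocalRing.maximalIdeal (Y.presheaf.stalk y)) 0 ≅ f.fiber y,
      e.hom ≫ f.fiberι y =
        CohB1.thickι (pullback.snd f (Y.fromSpecStalk y)) (IsLocalRing.maximalIdeal (Y.presheaf.stalk y)) 0 ≫
          pullback.fst f (Y.fromSpecStalk y) := by
  set m := IsLocalRing.maximalIdeal (Y.presheaf.stalk y) with hm
  set q := pullback.snd f (Y.fromSpecStalk y) with hq
  have hpb0 : IsPullback (CohB1.thickι q m 0) (CohB1.thickToBase q m 0) q (CohB1.specQuot m 0) :=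
    IsPullback.of_hasPullback _ _
  have hsq : IsPullback (pullback.fst f (Y.fromSpecStalk y)) q f (Y.fromSpecStalk y) :=
    IsPullback.of_hasPullback _ _
  have h1 := hpb0.paste_horiz hsq
  have hmm : m ^ (0 + 1) = m := by rw [zero_add, pow_one]
  let ρ : IsLocalRing.ResidueField (Y.presheaf.stalk y) ≃+* (Y.presheaf.stalk y) ⧸ m ^ (0 + 1) :=
    Ideal.quotEquivOfEq hmm.symm
  let rIso : Spec (CommRingCat.of ((Y.presheaf.stalk y) ⧸ m ^ (0 + 1))) ≅ Spec (Y.residueField y) :=
    Scheme.Spec.mapIso (ρ.toCommRingCatIso).op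
  have hr : CohB1.specQuot m 0 ≫ Y.fromSpecStalk y = rIso.hom ≫ Y.fromSpecResidueField y := by
    unfold Scheme.fromSpecResidueField
    rw [← Category.assoc]
    congr 1
    show Spec.map _ = Spec.map _ ≫ Spec.map _
    rw [← Spec.map_comp]
    congr 1
  have h2 : IsPullback (CohB1.thickι q m 0 ≫ pullback.fst f (Y.fromSpecStalk y))
      (CohB1.thickToBase q m 0 ≫ rIso.hom) f (Y.fromSpecResidueField y) :=
    IsPullback.of_iso h1 (Iso.refl _) (Iso.refl _) rIso (Iso.refl _) (by simp) (by simp) (by simp)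
      (by rw [Iso.refl_hom, Category.comp_id]; exact hr)
  exact ⟨h2.isoPullback, h2.isoPullback_hom_fst⟩

end fibre

section final

variable {X Y : Scheme.{u}}

/-- **ampleness on the fibre kills the stalks of the higher direct images of large twists** -/
theorem main (f : X ⟶ Y) [IsProper f] [IsLocallyNoetherian Y]
    (L : X.Modules) (hL : PicF.IsInvertible L) (M : X.Modules) (hM : Coh.IsCoh M) (y : Y)
    (hy : CohB1.IsAmple ((Scheme.Modules.pullback (f.fiberι y)).obj L)) :
    ∃ d₀ : ℕ, ∀ d : ℕ, d₀ ≤ d → ∀ p : ℕ, 0 < p →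
      Limits.IsZero (TopCat.Presheaf.stalk
        ((Coh.RpushAb f p).obj (Coh.toAb (CohB1.tensorMod M (CohB1.tensorPow L d)))).obj y) := by
  haveI : HasInjectiveResolutions X.Modules := inferInstance
  haveI : M.IsQuasicoherent := hM.1
  haveI : SheafOfModules.IsFiniteType.{u} (R := X.ringCatSheaf) M := hM.2
  let X₁ : Scheme.{u} := pullback f (Y.fromSpecStalk y)
  let g : X₁ ⟶ X := pullback.fst f (Y.fromSpecStalk y)
  letI : X₁.Over (Spec (CommRingCat.of (Y.presheaf.stalk y))) :=
    ⟨pullback.snd f (Y.fromSpecStalk y)⟩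
  have hsq : IsPullback g (X₁ ↘ Spec (CommRingCat.of (Y.presheaf.stalk y))) f
      (Y.fromSpecStalk y) := IsPullback.of_hasPullback _ _
  haveI : IsProper (X₁ ↘ Spec (CommRingCat.of (Y.presheaf.stalk y))) :=
    MorphismProperty.of_isPullback (P := @IsProper) hsq inferInstance
  haveI : IsNoetherianRing (Y.presheaf.stalk y) := inferInstance
  set m := IsLocalRing.maximalIdeal (Y.presheaf.stalk y) with hm
  have hL₁ : PicF.IsInvertible ((Scheme.Modules.pullback g).obj L) := isInvertible_pullback (f := g) hL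
  have hM₁ : Coh.IsCoh ((Scheme.Modules.pullback g).obj M) :=
    ⟨inferInstance, Groth.Agent.Lib.Helper17.FinTypePushPull.isFiniteType_pullback _ M⟩
  -- ampleness on the closed fibre of `X₁`
  obtain ⟨e, he⟩ := exists_iso_fiber f y
  have hp0 : IsProper (CohB1.thickToBase (X₁ ↘ Spec (CommRingCat.of (Y.presheaf.stalk y))) m 0) :=
    MorphismProperty.of_isPullback (P := @IsProper)
      (IsPullback.of_hasPullback (X₁ ↘ Spec (CommRingCat.of (Y.presheaf.stalk y))) (CohB1.specQuot m 0))
      inferInstance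
  haveI : CompactSpace (CohB1.thick (X₁ ↘ Spec (CommRingCat.of (Y.presheaf.stalk y))) m 0) :=
    (quasiCompact_iff_compactSpace
      (CohB1.thickToBase (X₁ ↘ Spec (CommRingCat.of (Y.presheaf.stalk y))) m 0)).1 inferInstance
  haveI hc2 : CompactSpace ↥(CohB1.thick (pullback.snd f (Y.fromSpecStalk y))
      (IsLocalRing.maximalIdeal ↑(Y.presheaf.stalk y)) 0) := this
  have ha0 : CohB1.IsAmple ((Scheme.Modules.pullback e.hom).obj ((Scheme.Modules.pullback (f.fiberι y)).obj L)) :=
    isAmple_pullback_of_isEmbedding e.hom e.hom.homeomorph.isEmbedding _ hy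
  have ha : CohB1.IsAmple ((Scheme.Modules.pullback
      (CohB1.thickι (X₁ ↘ Spec (CommRingCat.of (Y.presheaf.stalk y))) m 0)).obj
      ((Scheme.Modules.pullback g).obj L)) := by
    refine Groth.Agent.Lib.Helper28.AmpleIso.isAmple_of_iso ?_ ha0
    exact (Scheme.Modules.pullbackComp e.hom (f.fiberι y)).app L ≪≫
      (Scheme.Modules.pullbackCongr he).app L ≪≫
      ((Scheme.Modules.pullbackComp
        (CohB1.thickι (X₁ ↘ Spec (CommRingCat.of (Y.presheaf.stalk y))) m 0) g).app L).symm
  obtain ⟨n₀, hn₀⟩ := exists_forall_subsingleton_HH_modPow (Y.presheaf.stalk y) m X₁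
    ((Scheme.Modules.pullback g).obj L) hL₁ ha ((Scheme.Modules.pullback g).obj M) hM₁
  refine ⟨n₀, fun d hd p hp => ?_⟩
  haveI hNq : (Pn M L d).IsQuasicoherent := (isTwist_Pn M L d).isQuasicoherent hL
  have hNc : Coh.IsCoh (Pn M L d) := ⟨hNq, (isTwist_Pn M L d).isFiniteType hL⟩
  obtain ⟨τ⟩ := Groth.Agent.Lib.Helper17.PullTwist.nonempty_pullback_Pn_iso g M L d hL
  have hlim : Formal.HHlim m ((Scheme.Modules.pullback g).obj (Pn M L d)) p = ⊥ := by
    rw [eq_bot_iff]
    intro x _
    rw [AddSubgroup.mem_bot]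
    funext k
    haveI : Subsingleton (Formal.HHmodPow m ((Scheme.Modules.pullback g).obj (Pn M L d)) p k) := by
      have hQ1 := isQuot_modPowπ m (k + 1) ((Scheme.Modules.pullback g).obj (Pn M L d))
      have hQ2 : IsQuot (m ^ (k + 1)) (τ.hom ≫ Formal.modPowπ m (k + 1)
          (Pn ((Scheme.Modules.pullback g).obj M) ((Scheme.Modules.pullback g).obj L) d)) :=
        IsQuot.iso_comp (isQuot_modPowπ m (k + 1) _)
      obtain ⟨ε, -⟩ := hQ2.exists_iso hQ1
      exact subsingleton_HH_of_iso ε p (hn₀ d hd k p hp)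
    exact Subsingleton.elim _ _
  obtain ⟨V, hyV, hV⟩ := Groth.Agent.S7844.result f (Pn M L d) hNc y p X₁ g hsq hlim
  obtain ⟨e₁⟩ := Groth.Agent.S11319.result f (Pn M L d) p
  have h1 := Groth.Agent.Lib.Helper4.RpushStalk.isZero_stalk_of_isZero_restrict _ V y hyV hV
  exact h1.of_iso ((TopCat.Presheaf.stalkFunctor AddCommGrpCat.{u} y).mapIso
    ((sheafToPresheaf _ _).mapIso e₁)).symm

end final

end Groth.Agent.Lib.Helper17.FibAmple
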