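import Groth.Agent.Lib.Helper17.GV7
import Groth.Agent.Lib.Helper21.ZarConn1
import Groth.Agent.Lib.Helper23.Formal.Quot
import Mathlib

/-!
# Vanishing of cohomology of modules killed by a power of the maximal ideal, above the dimension of
the closed fibre
-/

set_option autoImplicit false
set_option backward.isDefEq.respectTransparency.types false
universe u
open CategoryTheory CategoryTheory.Limits AlgebraicGeometry TopologicalSpace Opposite

namespace Groth.Agent.Lib.Helper17.FibDim

variable (A : Type u) [CommRing A] [IsLocalRing A] (X : Scheme.{u})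
  [X.Over (Spec (CommRingCat.of A))]

/-- the open complement of the closed fibre -/
def openCompl : X.Opens :=
  ⟨{x | (X ↘ Spec (CommRingCat.of A)) x ≠ IsLocalRing.closedPoint A}, by
    have h1 : IsClosed ({IsLocalRing.closedPoint A} : Set (PrimeSpectrum A)) :=
      IsLocalRing.isClosed_singleton_closedPoint A
    have h2 : IsOpen (({IsLocalRing.closedPoint A} : Set (PrimeSpectrum A))ᶜ) := h1.isOpen_compl
    exact h2.preimage (X ↘ Spec (CommRingCat.of A)).continuous⟩

theorem mem_openCompl (x : X) : x ∈ openCompl A X ↔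
    (X ↘ Spec (CommRingCat.of A)) x ≠ IsLocalRing.closedPoint A := Iff.rfl

theorem compl_openCompl : ((openCompl A X : X.Opens) : Set X)ᶜ =
    {x | (X ↘ Spec (CommRingCat.of A)) x = IsLocalRing.closedPoint A} := by
  ext x
  simp [openCompl]

variable {A X}

theorem subsingleton_HH_of_killedBy [NoetherianSpace X] {n : ℕ} {P : X.Modules}
    (hP : Formal.KilledBy (IsLocalRing.maximalIdeal A ^ n) P) (d q : ℕ)
    (hd : topologicalKrullDim
      ↥{x : X | (X ↘ Spec (CommRingCat.of A)) x = IsLocalRing.closedPoint A} ≤ d) (hq : d < q) :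
    Subsingleton (Coh.HH X P q) := by
  have hsupp : Groth.Agent.Lib.Helper6.ClosedEmb.Supp (X := X.toTopCat) (openCompl A X)
      (Coh.toAb P) := by
    intro V hV
    haveI : Subsingleton ((Coh.toAb P).obj.obj (op V)) := by
      refine ⟨fun s t => ?_⟩
      have h1 := Groth.Agent.Lib.Helper21.ZarConn.section_eq_zero_of_disjoint hP V
        (fun x hx => hV hx) s
      have h2 := Groth.Agent.Lib.Helper21.ZarConn.section_eq_zero_of_disjoint hP V
        (fun x hx => hV hx) t
      exact h1.trans h2.symm
    exact AddCommGrpCat.isZero_of_subsingleton _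
  have hd' : topologicalKrullDim ↥(((openCompl A X : X.Opens) : Set X)ᶜ) ≤ d := by
    rw [compl_openCompl]; exact hd
  haveI : NoetherianSpace ↑X.toTopCat := ‹NoetherianSpace X›
  exact Groth.Agent.Lib.Helper17.GV.subsingleton_H_of_supp_of_dim (X := X.toTopCat)
    (Coh.toAb P) (openCompl A X) d q hsupp hd' hq

theorem HHlim_eq_bot [NoetherianSpace X] (F : X.Modules) (d q : ℕ)
    (hd : topologicalKrullDim
      ↥{x : X | (X ↘ Spec (CommRingCat.of A)) x = IsLocalRing.closedPoint A} ≤ d) (hq : d < q) :
    Formal.HHlim (IsLocalRing.maximalIdeal A) F q = ⊥ := by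
  rw [eq_bot_iff]
  intro x _
  rw [AddSubgroup.mem_bot]
  funext n
  haveI : Subsingleton (Formal.HHmodPow (IsLocalRing.maximalIdeal A) F q n) :=
    subsingleton_HH_of_killedBy
      (Groth.Agent.Lib.Helper23.FQuot.isQuot_modPowπ (IsLocalRing.maximalIdeal A) (n + 1) F).killed
      d q hd hq
  exact Subsingleton.elim _ _

end Groth.Agent.Lib.Helper17.FibDim
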