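import Groth.Agent.Lib.Helper17.DiscPic
import Groth.Agent.Lib.Helper28.PullbackInv
import Groth.Agent.Lib.Helper28.GenIso
import Mathlib

/-!
# Invertible modules along a finite morphism which is an isomorphism off a discrete set

`exists_descent`: if `f : X ⟶ Y` is finite and an isomorphism over an open `V` with discrete complement, every
invertible `O_X`-module is the inverse image of an invertible `O_Y`-module.
-/

set_option autoImplicit false
set_option backward.isDefEq.respectTransparency.types false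
universe u
open CategoryTheory CategoryTheory.Limits AlgebraicGeometry Opposite TopologicalSpace
noncomputable section
namespace Groth.Agent.Lib.Helper17.FiniteBirPic

open Groth.Agent.Lib.Helper28 Groth.Agent.Lib.Helper28.QCohLoc Groth.Agent.Lib.Helper28.GenLocus
open Groth.Agent.Lib.Helper28.PullbackInv
open Groth.Agent.Lib.Helper17 Groth.Agent.Lib.Helper17.GlueDisc Groth.Agent.Lib.Helper17.DiscLocal

variable {X Y : Scheme.{u}} (f : X ⟶ Y)

/-- a generator of `L` over `f⁻¹ D` is a generator of `f_* L` over `D`, if `O_Y → f_* O_X` is bijective over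
the opens inside `D` -/
theorem isGen_pushforward_of_le (L : X.Modules) (D : Y.Opens)
    (hf : ∀ W : Y.Opens, W ≤ D → Function.Bijective (f.app W)) (x : Γ(L, f ⁻¹ᵁ D))
    (hx : IsGen L (f ⁻¹ᵁ D) x) :
    IsGen ((Scheme.Modules.pushforward f).obj L) D (show Γ((Scheme.Modules.pushforward f).obj L, D) from x) := by
  intro W hW
  have hfun : (fun c : Γ(Y, W) => (c • res ((Scheme.Modules.pushforward f).obj L) hW
      (show Γ((Scheme.Modules.pushforward f).obj L, D) from x) : Γ((Scheme.Modules.pushforward f).obj L, W))) =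
      (fun c' : Γ(X, f ⁻¹ᵁ W) => (c' • res L (f.preimage_mono hW) x : Γ(L, f ⁻¹ᵁ W))) ∘ (f.app W).hom := by
    funext c
    rfl
  rw [hfun]
  exact (hx (f ⁻¹ᵁ W) (f.preimage_mono hW)).comp (hf W hW)

/-- `O_Y → f_* O_X` is bijective over the opens inside `V` when `f` is an isomorphism over `V` -/
theorem bijective_app_of_isIso_restrict (V : Y.Opens) (hV : IsIso (f ∣_ V)) (D : Y.Opens) (hD : D ≤ V) :
    Function.Bijective (f.app D) := by
  have himg : V.ι ''ᵁ (V.ι ⁻¹ᵁ D) = D := by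
    rw [Scheme.Hom.image_preimage_eq_opensRange_inf, Scheme.Opens.opensRange_ι]
    exact inf_eq_right.2 hD
  have h1 : IsIso (f.app (V.ι ''ᵁ (V.ι ⁻¹ᵁ D)) ≫
      X.presheaf.map (eqToHom (image_morphismRestrict_preimage f V (V.ι ⁻¹ᵁ D))).op) := by
    haveI := hV
    have h0 : IsIso ((f ∣_ V).app (V.ι ⁻¹ᵁ D)) := inferInstance
    rw [morphismRestrict_app] at h0
    exact h0
  have h2 : IsIso (f.app (V.ι ''ᵁ (V.ι ⁻¹ᵁ D))) :=
    IsIso.of_isIso_comp_right (f.app (V.ι ''ᵁ (V.ι ⁻¹ᵁ D)))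
      (X.presheaf.map (eqToHom (image_morphismRestrict_preimage f V (V.ι ⁻¹ᵁ D))).op)
  rw [himg] at h2
  exact (ConcreteCategory.isIso_iff_bijective _).1 h2

/-- distinct points of a fibre of a locally quasi-finite morphism do not specialize to each other -/
theorem not_specializes_of_mem_fibre [LocallyQuasiFinite f] (y : Y) {z w : X} (hz : f z = y) (hw : f w = y)
    (hne : z ≠ w) : ¬ (w ⤳ z) := by
  intro hsp
  haveI : DiscreteTopology ↥(f ⁻¹' {y}) := (f.isDiscrete_preimage_singleton y).to_subtype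
  have hopen : IsOpen ({⟨z, hz⟩} : Set ↥(f ⁻¹' {y})) := isOpen_discrete _
  rw [isOpen_induced_iff] at hopen
  obtain ⟨O, hO, hOeq⟩ := hopen
  have hzO : z ∈ O := by
    have : (⟨z, hz⟩ : ↥(f ⁻¹' {y})) ∈ Subtype.val ⁻¹' O := by rw [hOeq]; rfl
    exact this
  have hwO : w ∈ O := hsp.mem_open hO hzO
  have : (⟨w, hw⟩ : ↥(f ⁻¹' {y})) ∈ ({⟨z, hz⟩} : Set ↥(f ⁻¹' {y})) := by rw [← hOeq]; exact hwO
  exact hne (congrArg Subtype.val (Set.mem_singleton_iff.1 this)).symm

/-- an invertible module is trivial over the inverse image of a neighbourhood of any point, for a finite morphism -/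
theorem exists_nhd_generator [IsFinite f] (L : X.Modules) (hL : PicF.IsInvertible L) (W₀ : Y.Opens)
    (hW₀ : IsAffineOpen W₀) (y : Y) (hy : y ∈ W₀) :
    ∃ W : Y.Opens, y ∈ W ∧ W ≤ W₀ ∧ ∃ ℓ : Γ(L, f ⁻¹ᵁ W), IsGen L (f ⁻¹ᵁ W) ℓ := by
  classical
  have hA : IsAffineOpen (f ⁻¹ᵁ W₀) := hW₀.preimage f
  have hfin : (f ⁻¹' {y}).Finite := f.finite_preimage_singleton y
  let T : Finset X := hfin.toFinset
  have hT : ∀ x, x ∈ T ↔ f x = y := fun x => by simp [T]
  obtain ⟨g, hgT, ⟨e⟩⟩ := DiscPic.exists_basicOpen_trivial X L hL hA T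
    (fun x hx => by
      show f x ∈ W₀
      rw [(hT x).1 hx]; exact hy)
    (fun z hz w hw hne => not_specializes_of_mem_fibre f y ((hT z).1 hz) ((hT w).1 hw) hne)
  obtain ⟨ℓ0, hℓ0⟩ := exists_isGen_of_iso L (X.basicOpen g) e
  have hclosed : IsClosed (f '' ((X.basicOpen g : Set X)ᶜ)) :=
    f.isClosedMap _ (X.basicOpen g).2.isClosed_compl
  let W : Y.Opens := W₀ ⊓ ⟨(f '' ((X.basicOpen g : Set X)ᶜ))ᶜ, hclosed.isOpen_compl⟩
  have hyW : y ∈ W := by
    refine ⟨hy, ?_⟩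
    rintro ⟨c, hc, hcy⟩
    exact hc (hgT c ((hT c).2 hcy))
  have hle : f ⁻¹ᵁ W ≤ (X.basicOpen g).ι ''ᵁ ⊤ := by
    intro z hz
    have hz2 : f z ∉ f '' ((X.basicOpen g : Set X)ᶜ) := hz.2
    have hzg : z ∈ X.basicOpen g := by
      by_contra hzg
      exact hz2 ⟨z, hzg, rfl⟩
    exact ⟨⟨z, hzg⟩, trivial, rfl⟩
  exact ⟨W, hyW, inf_le_left, res L hle ℓ0, hℓ0.res hle⟩

/-- **descent of invertible modules** along a finite morphism which is an isomorphism over an open with discrete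
complement -/
theorem exists_descent [IsFinite f] (V : Y.Opens) (hV : IsIso (f ∣_ V))
    (hdisc : DiscreteTopology ((V : Set Y)ᶜ : Set Y)) (L : X.Modules) (hL : PicF.IsInvertible L) :
    ∃ N : Y.Modules, PicF.IsInvertible N ∧ Nonempty ((Scheme.Modules.pullback f).obj N ≅ L) := by
  classical
  have h : ∀ y : Y, ∃ W : Y.Opens, y ∈ W ∧ (∀ z ∈ W, z ∉ V → z = y) ∧
      ∃ ℓ : Γ(L, f ⁻¹ᵁ W), IsGen L (f ⁻¹ᵁ W) ℓ := by
    intro y
    obtain ⟨W₀, hW₀, hyW₀, hW₀V⟩ : ∃ W₀ : Y.Opens, IsAffineOpen W₀ ∧ y ∈ W₀ ∧ ∀ z ∈ W₀, z ∉ V → z = y := by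
      by_cases hy : y ∈ V
      · obtain ⟨W, hW, hyW, hWV⟩ := exists_isAffineOpen_mem_and_subset (X := Y) (x := y) (U := V) hy
        exact ⟨W, hW, hyW, fun z hz hzV => absurd (hWV hz) hzV⟩
      · exact exists_affine_nhd V hdisc y hy
    obtain ⟨W, hyW, hWW₀, ℓ, hℓ⟩ := exists_nhd_generator f L hL W₀ hW₀ y hyW₀
    exact ⟨W, hyW, fun z hz hzV => hW₀V z (hWW₀ hz) hzV, ℓ, hℓ⟩
  choose W h1 h2 ℓ hℓ using h
  let M : Y.Modules := (Scheme.Modules.pushforward f).obj L
  obtain ⟨σ, hσdef⟩ : ∃ σ : ∀ y, Γ(M, W y ⊓ V), ∀ y, σ y =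
      (show Γ(M, W y ⊓ V) from res L (f.preimage_mono (inf_le_left : W y ⊓ V ≤ W y)) (ℓ y)) := ⟨_, fun _ => rfl⟩
  have hσ : ∀ y, IsGen M (W y ⊓ V) (σ y) := fun y => by
    rw [hσdef]
    exact isGen_pushforward_of_le f L (W y ⊓ V)
      (fun D hD => bijective_app_of_isIso_restrict f V hV D (hD.trans inf_le_right)) _
      ((hℓ y).res (f.preimage_mono inf_le_left))
  have hWW : ∀ i j, i ≠ j → W i ⊓ W j ≤ V := DiscPic.inf_le_of_forall V W h2
  obtain ⟨N, g, hg, hrel, -⟩ := exists_glue V M W (fun y => ⟨y, h1 y⟩) hWW σ hσ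
  have hN : PicF.IsInvertible N :=
    isInvertible_of_isGen N (fun y => ⟨W y, g y, h1 y, hg y⟩)
  refine ⟨N, hN, ?_⟩
  have hcoc : ∀ i j, ∃ u : Γ(X, f ⁻¹ᵁ W i ⊓ f ⁻¹ᵁ W j),
      res ((Scheme.Modules.pullback f).obj N) inf_le_left (pbs f N (W i) (g i)) =
        (u • res ((Scheme.Modules.pullback f).obj N) inf_le_right (pbs f N (W j) (g j)) :
          Γ((Scheme.Modules.pullback f).obj N, f ⁻¹ᵁ W i ⊓ f ⁻¹ᵁ W j)) ∧
      res L inf_le_left (ℓ i) = (u • res L inf_le_right (ℓ j) : Γ(L, f ⁻¹ᵁ W i ⊓ f ⁻¹ᵁ W j)) := by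
    intro i j
    by_cases hij : i = j
    · subst hij
      refine ⟨1, ?_, ?_⟩
      · rw [one_smul]
      · rw [one_smul]
    · let u : Γ(Y, W i ⊓ W j) := cc hσ i j (W i ⊓ W j) (le_inf inf_le_left (hWW i j hij))
        (le_inf inf_le_right (hWW i j hij))
      have hu := cc_spec hσ i j (W i ⊓ W j) (le_inf inf_le_left (hWW i j hij))
        (le_inf inf_le_right (hWW i j hij))
      have hN1 := hrel i j hij u hu
      refine ⟨(f.app (W i ⊓ W j)).hom u, ?_, ?_⟩
      · have h3 := congrArg (pbs f N (W i ⊓ W j)) hN1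
        rw [pbs_smul, pbs_res, pbs_res] at h3
        exact h3
      · rw [hσdef i, hσdef j] at hu
        have e1 : res M (le_inf inf_le_left (hWW i j hij))
            (show Γ(M, W i ⊓ V) from res L (f.preimage_mono (inf_le_left : W i ⊓ V ≤ W i)) (ℓ i)) =
            res L (f.preimage_mono (inf_le_left : W i ⊓ W j ≤ W i)) (ℓ i) := res_res L _ _ (ℓ i)
        have e2 : res M (le_inf inf_le_right (hWW i j hij))
            (show Γ(M, W j ⊓ V) from res L (f.preimage_mono (inf_le_left : W j ⊓ V ≤ W j)) (ℓ j)) =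
            res L (f.preimage_mono (inf_le_right : W i ⊓ W j ≤ W j)) (ℓ j) := res_res L _ _ (ℓ j)
        rw [e1, e2] at hu
        exact hu
  obtain ⟨ψ, -⟩ := exists_iso_of_cocycle_gen (M := (Scheme.Modules.pullback f).obj N) (N := L)
    (fun y => f ⁻¹ᵁ W y) (fun y => pbs f N (W y) (g y)) ℓ
    (fun y => isGen_pbs (hg y)) hℓ (fun x => ⟨f x, h1 (f x)⟩) hcoc
  exact ⟨ψ⟩

end Groth.Agent.Lib.Helper17.FiniteBirPic
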