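import Mathlib

/-!
# Finite unramified algebras with a one-point fibre with trivial residue extension
-/

set_option autoImplicit false
set_option backward.isDefEq.respectTransparency.types false

namespace Groth.Agent.Lib.Helper17.FiniteUnram

open IsLocalRing

/-- If `R → B` is finite, `q` is the only prime over `p`, `B` is unramified at `q` and
`κ(p) → κ(q)` is surjective, then `r • B ⊆ image of R` for some `r ∉ p`. -/
theorem exists_mul_mem_range {R B : Type*} [CommRing R] [CommRing B] [Algebra R B]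
    [Module.Finite R B] {p : Ideal R} [p.IsPrime] {q : Ideal B} [q.IsPrime]
    (hq : p.primesOver B = {q}) [q.LiesOver p] [Algebra.IsUnramifiedAt R q]
    [Algebra (Localization.AtPrime p) (Localization.AtPrime q)]
    [Localization.AtPrime.IsLiesOverAlgebra p q]
    (H : Function.Surjective (algebraMap p.ResidueField q.ResidueField)) :
    ∃ r : R, r ∉ p ∧ ∀ b : B, ∃ a : R, algebraMap R B a = algebraMap R B r * b := by
  classical
  have hsurj := Localization.localRingHom_surjective_of_primesOver_eq_singleton hq H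
  have key (x : B) : ∃ a, ∃ b ∉ p, algebraMap R B a = x * algebraMap R B b := by
    have := (IsLocalization.mk'_surjective p.primeCompl).exists.mp (hsurj (algebraMap _ _ x))
    simp only [Localization.localRingHom_mk', Prod.exists, Subtype.exists,
      Ideal.mem_primeCompl_iff, IsLocalization.mk'_eq_iff_eq_mul, exists_prop, ← map_mul,
      IsLocalization.eq_iff_exists q.primeCompl] at this
    obtain ⟨a, b, hbp, c, hcq, hc⟩ := this
    obtain ⟨d, hd, e, he⟩ := Ideal.exists_notMem_dvd_algebraMap_of_primesOver_eq_singleton hq _ hcq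
    exact ⟨d * a, d * b, ‹p.IsPrime›.mul_notMem hd hbp, by grind⟩
  choose a b hbp e using key
  obtain ⟨s, hs⟩ := Module.Finite.fg_top (R := R) (M := B)
  refine ⟨∏ i ∈ s, b i, prod_mem (S := p.primeCompl) fun _ _ ↦ hbp _, ?_⟩
  intro y
  have hy : y ∈ Submodule.span R (s : Set B) := hs ▸ Submodule.mem_top
  induction hy using Submodule.span_induction with
  | mem x hx =>
    refine ⟨(∏ i ∈ s.erase x, b i) * a x, ?_⟩
    rw [map_mul, e, ← Finset.prod_erase_mul s b hx, map_mul]
    ring
  | zero => exact ⟨0, by simp⟩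
  | add x y _ _ hx hy =>
    obtain ⟨a₁, h₁⟩ := hx
    obtain ⟨a₂, h₂⟩ := hy
    exact ⟨a₁ + a₂, by rw [map_add, h₁, h₂, mul_add]⟩
  | smul c x _ hx =>
    obtain ⟨a₁, h₁⟩ := hx
    exact ⟨c * a₁, by rw [map_mul, h₁, Algebra.smul_def]; ring⟩

/-- Abstract spreading-out of surjectivity to localizations away from `r`. -/
theorem surjective_of_mul_mem_range {R B R' B' : Type*} [CommRing R] [CommRing B] [CommRing R']
    [CommRing B'] (φ : R →+* B) (ρ : R →+* R') (β : B →+* B') (ψ : R' →+* B')
    (hcomp : ψ.comp ρ = β.comp φ) (r : R) (hr : IsUnit (ρ r))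
    (hB' : @IsLocalization.Away B _ (φ r) B' _ β.toAlgebra)
    (h : ∀ b : B, ∃ a : R, φ a = φ r * b) : Function.Surjective ψ := by
  letI := β.toAlgebra
  intro z
  obtain ⟨⟨b, ⟨_, n, rfl⟩⟩, hb⟩ := IsLocalization.surj (Submonoid.powers (φ r)) z
  simp only [RingHom.algebraMap_toAlgebra] at hb
  obtain ⟨a, ha⟩ := h b
  obtain ⟨u, hu⟩ := hr
  have h1 : ψ (ρ r) = β (φ r) := by
    rw [← RingHom.comp_apply, hcomp, RingHom.comp_apply]
  have h2 : ψ (ρ r) * ψ (↑u⁻¹ : R') = 1 := by
    rw [← map_mul, ← hu, Units.mul_inv, map_one]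
  refine ⟨ρ a * (↑u⁻¹ : R') ^ (n + 1), ?_⟩
  have h3 : ψ (ρ a) = β (φ r) * β b := by
    rw [← RingHom.comp_apply, hcomp, RingHom.comp_apply, ha, map_mul]
  rw [map_mul, map_pow, h3, ← hb, map_pow, ← h1]
  calc ψ (ρ r) * (z * ψ (ρ r) ^ n) * ψ (↑u⁻¹ : R') ^ (n + 1)
      = z * (ψ (ρ r) * ψ (↑u⁻¹ : R')) ^ (n + 1) := by ring
    _ = z := by rw [h2, one_pow, mul_one]

end Groth.Agent.Lib.Helper17.FiniteUnram
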