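import Groth.Agent.Lib.Helper17.ExtTensor
import Groth.Agent.Lib.Helper17.PullbackBC
import Groth.Agent.Lib.Helper17.AffineVanish
import Groth.Agent.Lib.Helper17.HCompare
import Groth.Agent.Lib.Helper6.SheafCoh
import Groth.Prelude.Def_Canon
import Groth.Prelude.Def_CohPull
import Mathlib
set_option backward.isDefEq.respectTransparency.types false
set_option autoImplicit false
universe u
open AlgebraicGeometry CategoryTheory Opposite TopologicalSpace TensorProduct CategoryTheory.Limits Abelian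

noncomputable section

namespace Groth.Agent.Lib.Helper17.FlatBCH1
open Scheme.Modules Groth.Agent.Lib.Helper17.ExtTensor
open Groth.Agent.Lib.Helper28.PullbackInv Groth.Agent.Lib.Helper28.QCohLoc

open Groth.Agent.Lib.Helper17.PullbackBC in
theorem bijective_of_isBC_alg {A A' B B' : Type u} [CommRing A] [CommRing A'] [CommRing B] [CommRing B']
    [Algebra A A'] (α : A →+* B) (α' : A' →+* B') (ψ : B →+* B')
    (hpo : IsPushout (CommRingCat.ofHom (algebraMap A A')) (CommRingCat.ofHom α) (CommRingCat.ofHom α')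
      (CommRingCat.ofHom ψ))
    {P T₂ : Type u} [AddCommGroup P] [Module A P] [Module B P] (hP : ∀ (a : A) (p : P), a • p = α a • p)
    [AddCommGroup T₂] [Module B' T₂]
    (c₂ : P → T₂) (h₂ : IsBC ψ c₂)
    (u : A' ⊗[A] P →+ T₂) (hu : ∀ (a' : A') (t : A' ⊗[A] P), u (a' • t) = α' a' • u t)
    (huc : ∀ p, u ((1 : A') ⊗ₜ[A] p) = c₂ p) :
    Function.Bijective u := by
  letI := α.toAlgebra
  letI := α'.toAlgebra
  letI := ψ.toAlgebra
  letI : Algebra A B' := (α'.comp (algebraMap A A')).toAlgebra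
  haveI : IsScalarTower A A' B' := .of_algebraMap_eq' rfl
  have hw : α'.comp (algebraMap A A') = ψ.comp α := by
    have := hpo.w
    exact congrArg CommRingCat.Hom.hom this
  haveI : IsScalarTower A B B' := .of_algebraMap_eq' hw
  haveI : IsScalarTower A B P := ⟨fun a b p => by
    rw [hP a (b • p), ← mul_smul]; rfl⟩
  haveI : Algebra.IsPushout A A' B B' := CommRingCat.isPushout_iff_isPushout.mp hpo
  obtain ⟨e₂, he₂⟩ := (isBC_iff ψ c₂).mp h₂
  let C := Algebra.IsPushout.cancelBaseChange A A' B B' P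
  let v : A' ⊗[A] P →+ B' ⊗[B] P := e₂.toAddEquiv.toAddMonoidHom.comp u
  have hv : v = C.symm.toAddEquiv.toAddMonoidHom := by
    apply DFunLike.ext
    intro z
    induction z using TensorProduct.induction_on with
    | zero => simp
    | add x y hx hy => rw [map_add, map_add, hx, hy]
    | tmul a' p => ?_
    have h1 : (a' ⊗ₜ[A] p : A' ⊗[A] P) = a' • ((1 : A') ⊗ₜ[A] p) := by
      rw [TensorProduct.smul_tmul', smul_eq_mul, mul_one]
    change e₂ (u (a' ⊗ₜ[A] p)) = C.symm (a' ⊗ₜ[A] p)
    rw [Algebra.IsPushout.cancelBaseChange_symm_tmul, h1, hu, huc]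
    change e₂ (algebraMap A' B' a' • c₂ p) = _
    rw [_root_.map_smul, he₂, TensorProduct.smul_tmul', smul_eq_mul, mul_one]
  have hu' : ⇑u = e₂.symm ∘ C.symm := by
    funext t
    have := congrArg (fun w => e₂.symm (w t)) hv
    change e₂.symm (e₂ (u t)) = e₂.symm (C.symm t) at this
    rw [LinearEquiv.symm_apply_apply] at this
    exact this
  rw [hu']
  exact e₂.symm.bijective.comp C.symm.bijective

variable {X X' : Scheme.{u}} (g' : X' ⟶ X)
variable {A B : Type u} [CommRing A] [CommRing B] [Algebra A B]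
variable (ιA : A →+* Coh.Γtop X) (ιB : B →+* Coh.Γtop X')
variable (M : X.Modules)

/-- the action of `A` on the abelian sheaf of `M` -/
def actF : Act A (Coh.toAb M) where
  act a := Coh.smulAb M (ιA a)
  act_one := by rw [map_one, Coh.smulAb_one]
  act_mul a b := by rw [mul_comm a b, map_mul, Coh.smulAb_mul]
  act_add a b := by rw [map_add, Coh.smulAb_add]

/-- `g'_* g'^* M` -/
abbrev PM : X.Modules := (Scheme.Modules.pushforward g').obj ((Scheme.Modules.pullback g').obj M)

/-- the action of `B` on the abelian sheaf of `g'_* N` -/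
def actPush (N : X'.Modules) : Act B (Coh.toAb ((Scheme.Modules.pushforward g').obj N)) where
  act b := (CohTop.push g'.base).map (Coh.smulAb N (ιB b))
  act_one := by
    rw [map_one, Coh.smulAb_one]
    exact (CohTop.push g'.base).map_id _
  act_mul a b := by
    rw [mul_comm a b, map_mul, Coh.smulAb_mul]
    exact (CohTop.push g'.base).map_comp _ _
  act_add a b := by
    rw [map_add, Coh.smulAb_add]
    exact (CohTop.push g'.base).map_add

/-- the unit on abelian sheaves -/
def uM : Coh.toAb M ⟶ Coh.toAb (PM g' M) :=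
  (SheafOfModules.toSheaf X.ringCatSheaf).map ((Scheme.Modules.pullbackPushforwardAdjunction g').unit.app M)


/-- multiplication by a global function on `g'_* N` is the direct image of multiplication by its pullback -/
theorem smulAb_push (N : X'.Modules) (r : Coh.Γtop X) :
    Coh.smulAb ((Scheme.Modules.pushforward g').obj N) r =
      (CohTop.push g'.base).map (Coh.smulAb N (g'.appTop.hom r)) := by
  ext U m
  obtain ⟨U⟩ := U
  change (Coh.smulAb ((Scheme.Modules.pushforward g').obj N) r).hom.app (op U) m =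
    (Coh.smulAb N (g'.appTop.hom r)).hom.app (op (g' ⁻¹ᵁ U)) m
  rw [Coh.smulAb_app, Coh.smulAb_app]
  change (g'.app U).hom (Coh.resTop X (op U) r) • (show Γ(N, g' ⁻¹ᵁ U) from m) = _
  congr 1
  exact congrArg (fun φ => φ.hom r) (g'.naturality (homOfLE (le_top : U ≤ ⊤)).op)

variable (hι : ∀ a : A, g'.appTop.hom (ιA a) = ιB (algebraMap A B a))

include hι in
theorem uM_equivariant (a : A) :
    (actF ιA M).act a ≫ uM g' M =
      uM g' M ≫ (actPush g' ιB ((Scheme.Modules.pullback g').obj M)).act (algebraMap A B a) := by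
  change Coh.smulAb M (ιA a) ≫ uM g' M = uM g' M ≫ (CohTop.push g'.base).map (Coh.smulAb _ (ιB (algebraMap A B a)))
  rw [← hι a, ← smulAb_push]
  exact (Canon.toSheaf_map_comp_smulAb _ _).symm


section deg0
open Groth.Agent.Lib.Helper6.SheafCoh

/-- naturality of `H'equiv₀` in the coefficient sheaf -/
theorem H'equiv₀_comp {T : TopCat.{u}} {F G : CohTop.Ab T} (g : F ⟶ G) (U : Opens T)
    (x : Ext (Zfree (Opens.grothendieckTopology T) U) F 0) :
    H'equiv₀ (Opens.grothendieckTopology T) G U (x.comp (Ext.mk₀ g) (add_zero 0)) =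
      g.hom.app (op U) (H'equiv₀ (Opens.grothendieckTopology T) F U x) := by
  obtain ⟨φ, rfl⟩ : ∃ φ, x = Ext.mk₀ φ := ⟨Ext.homEquiv₀ x, (Ext.mk₀_homEquiv₀_apply x).symm⟩
  rw [Ext.mk₀_comp_mk₀]
  change homAddEquiv _ U G (Ext.addEquiv₀ (Ext.mk₀ (φ ≫ g))) =
    g.hom.app (op U) (homAddEquiv _ U F (Ext.addEquiv₀ (Ext.mk₀ φ)))
  rw [← Ext.addEquiv₀_symm_apply, ← Ext.addEquiv₀_symm_apply, AddEquiv.apply_symm_apply,
    AddEquiv.apply_symm_apply, homAddEquiv_apply, homAddEquiv_apply, homEquiv_naturality_right]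


variable {g'} {ιA} {ιB} {M}

/-- sections of `M` over `U`, as a module over `A` -/
def SecA (_ιA : A →+* Coh.Γtop X) (M : X.Modules) (U : X.Opens) : Type u := Γ(M, U)

instance (U : X.Opens) : AddCommGroup (SecA ιA M U) := inferInstanceAs (AddCommGroup Γ(M, U))
instance (U : X.Opens) : Module Γ(X, U) (SecA ιA M U) := inferInstanceAs (Module Γ(X, U) Γ(M, U))

/-- `A → Γ(X, U)` -/
def αU (ιA : A →+* Coh.Γtop X) (U : X.Opens) : A →+* Γ(X, U) := (Coh.resTop X (op U)).comp ιA

instance (U : X.Opens) : Module A (SecA ιA M U) := Module.compHom _ (αU ιA U)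

theorem secA_smul (U : X.Opens) (a : A) (p : SecA ιA M U) : a • p = αU ιA U a • p := rfl

/-- degree zero Ext into `M` from `ℤ_U` is `Γ(M, U)`, `A`-linearly -/
def eF (ιA : A →+* Coh.Γtop X) (M : X.Modules) (U : X.Opens) :
    E (actF ιA M) (Zfree (Opens.grothendieckTopology X) U) 0 ≃ₗ[A] SecA ιA M U where
  toFun x := H'equiv₀ (Opens.grothendieckTopology X) (Coh.toAb M) U x.toExt
  invFun p := E.of _ ((H'equiv₀ (Opens.grothendieckTopology X) (Coh.toAb M) U).symm p)
  left_inv x := (H'equiv₀ (Opens.grothendieckTopology X) (Coh.toAb M) U).symm_apply_apply _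
  right_inv p := (H'equiv₀ (Opens.grothendieckTopology X) (Coh.toAb M) U).apply_symm_apply _
  map_add' x y := map_add (H'equiv₀ (Opens.grothendieckTopology X) (Coh.toAb M) U) _ _
  map_smul' a x := by
    change H'equiv₀ (Opens.grothendieckTopology X) (Coh.toAb M) U
      (x.toExt.comp (Ext.mk₀ (Coh.smulAb M (ιA a))) (add_zero 0)) = _
    rw [H'equiv₀_comp, Coh.smulAb_app]
    rfl


variable (g') (ιB) in
/-- the comparison map in degree zero over an affine open, on sections -/
def vU (hι : ∀ a : A, g'.appTop.hom (ιA a) = ιB (algebraMap A B a)) (M : X.Modules) (U : X.Opens) :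
    B ⊗[A] SecA ιA M U →+ Γ((Scheme.Modules.pullback g').obj M, g' ⁻¹ᵁ U) :=
  ((H'equiv₀ (Opens.grothendieckTopology X) (Coh.toAb (PM g' M)) U).toAddMonoidHom.comp
    (theta (actF ιA M) (actPush g' ιB ((Scheme.Modules.pullback g').obj M)) (uM g' M)
      (uM_equivariant g' ιA ιB M hι) (Zfree (Opens.grothendieckTopology X) U) 0)).comp
    ((eF ιA M U).symm.toLinearMap.lTensor B).toAddMonoidHom

theorem vU_tmul (hι : ∀ a : A, g'.appTop.hom (ιA a) = ιB (algebraMap A B a)) (U : X.Opens) (b : B)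
    (p : SecA ιA M U) :
    vU g' ιB hι M U (b ⊗ₜ[A] p) =
      (αU ιB (g' ⁻¹ᵁ U) b • pbs g' M U p : Γ((Scheme.Modules.pullback g').obj M, g' ⁻¹ᵁ U)) := by
  change H'equiv₀ (Opens.grothendieckTopology X) (Coh.toAb (PM g' M)) U
    (theta (actF ιA M) (actPush g' ιB ((Scheme.Modules.pullback g').obj M)) (uM g' M)
      (uM_equivariant g' ιA ιB M hι) (Zfree (Opens.grothendieckTopology X) U) 0
      (b ⊗ₜ[A] (eF ιA M U).symm p)) = _
  rw [theta_tmul]
  change H'equiv₀ (Opens.grothendieckTopology X) (Coh.toAb (PM g' M)) U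
    ((((eF ιA M U).symm p).toExt.comp (Ext.mk₀ (uM g' M)) (add_zero 0)).comp
      (Ext.mk₀ ((CohTop.push g'.base).map (Coh.smulAb _ (ιB b)))) (add_zero 0)) = _
  refine (H'equiv₀_comp (T := X.toTopCat) (F := Coh.toAb (PM g' M)) (G := Coh.toAb (PM g' M))
    ((CohTop.push g'.base).map (Coh.smulAb ((Scheme.Modules.pullback g').obj M) (ιB b))) U
    (((eF ιA M U).symm p).toExt.comp (Ext.mk₀ (uM g' M)) (add_zero 0))).trans ?_
  rw [H'equiv₀_comp (T := X.toTopCat) (uM g' M) U ((eF ιA M U).symm p).toExt]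
  have h1 : H'equiv₀ (Opens.grothendieckTopology X.toTopCat) (Coh.toAb M) U ((eF ιA M U).symm p).toExt = p :=
    (eF ιA M U).apply_symm_apply p
  refine (congrArg (fun z => ((CohTop.push g'.base).map
    (Coh.smulAb ((Scheme.Modules.pullback g').obj M) (ιB b))).hom.app (op U)
      ((uM g' M).hom.app (op U) z)) h1).trans ?_
  change (Coh.smulAb ((Scheme.Modules.pullback g').obj M) (ιB b)).hom.app (op (g' ⁻¹ᵁ U))
    (pbs g' M U p) = _
  rw [Coh.smulAb_app]
  rfl

end deg0

end Groth.Agent.Lib.Helper17.FlatBCH1
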