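import Groth.Agent.Lib.Helper17.FlatBCH1
import Groth.Agent.Lib.Helper28.QCohPush
import Mathlib
set_option backward.isDefEq.respectTransparency.types false
set_option autoImplicit false
universe u
open AlgebraicGeometry CategoryTheory Opposite TopologicalSpace TensorProduct CategoryTheory.Limits Abelian

noncomputable section

namespace Groth.Agent.Lib.Helper17.FlatBCH2
open Scheme.Modules Groth.Agent.Lib.Helper17.ExtTensor Groth.Agent.Lib.Helper17.FlatBCH1
open Groth.Agent.Lib.Helper28.PullbackInv Groth.Agent.Lib.Helper28.QCohLoc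
open Groth.Agent.Lib.Helper6.SheafCoh Groth.Agent.Lib.Helper17.PullbackBC

variable {X X' : Scheme.{u}} (g' : X' ⟶ X)
variable {A B : Type u} [CommRing A] [CommRing B] [Algebra A B]
variable (ιA : A →+* Coh.Γtop X) (ιB : B →+* Coh.Γtop X')
variable (M : X.Modules)
variable (hι : ∀ a : A, g'.appTop.hom (ιA a) = ιB (algebraMap A B a))

/-- the comparison map of the flat base change theorem on `Ext` groups from `Z` -/
abbrev Θ (Z : CohTop.Ab X.toTopCat) (n : ℕ) :=
  theta (actF ιA M) (actPush g' ιB ((Scheme.Modules.pullback g').obj M)) (uM g' M)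
    (uM_equivariant g' ιA ιB M hι) Z n

/-- bijectivity in all degrees -/
abbrev BijZ (Z : CohTop.Ab X.toTopCat) : Prop :=
  Bij (actF ιA M) (actPush g' ιB ((Scheme.Modules.pullback g').obj M)) (uM g' M)
    (uM_equivariant g' ιA ιB M hι) Z

theorem vU_smul (U : X.Opens) (b : B) (t : B ⊗[A] SecA ιA M U) :
    vU g' ιB hι M U (b • t) =
      (αU ιB (g' ⁻¹ᵁ U) b • vU g' ιB hι M U t : Γ((Scheme.Modules.pullback g').obj M, g' ⁻¹ᵁ U)) := by
  induction t using TensorProduct.induction_on with
  | zero => rw [smul_zero, map_zero, smul_zero]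
  | tmul c p =>
    rw [TensorProduct.smul_tmul', vU_tmul, vU_tmul, smul_eq_mul, map_mul, mul_smul]
  | add s t hs ht => rw [smul_add, map_add, map_add, hs, ht, smul_add]

theorem theta0_bijective [M.IsQuasicoherent] {U : X.Opens} (hU : IsAffineOpen U)
    (hU' : IsAffineOpen (g' ⁻¹ᵁ U))
    (hpo : IsPushout (CommRingCat.ofHom (algebraMap A B)) (CommRingCat.ofHom (αU ιA U))
      (CommRingCat.ofHom (αU ιB (g' ⁻¹ᵁ U))) (CommRingCat.ofHom (g'.appLE U (g' ⁻¹ᵁ U) le_rfl).hom)) :
    Function.Bijective (Θ g' ιA ιB M hι (Zfree (Opens.grothendieckTopology X) U) 0) := by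
  have hv : Function.Bijective (vU g' ιB hι M U) := by
    refine bijective_of_isBC_alg (αU ιA U) (αU ιB (g' ⁻¹ᵁ U)) (g'.appLE U (g' ⁻¹ᵁ U) le_rfl).hom hpo
      (P := SecA ιA M U) (T₂ := Γ((Scheme.Modules.pullback g').obj M, g' ⁻¹ᵁ U)) (secA_smul U)
      (fun m => res ((Scheme.Modules.pullback g').obj M) le_rfl (pbs g' M U m))
      (isBC_pullback g' hU hU' le_rfl M) (vU g' ιB hι M U) (vU_smul g' ιA ιB M hι U) ?_
    intro p
    rw [vU_tmul, map_one, one_smul, res_self]
  have key : ∀ t, Θ g' ιA ιB M hι (Zfree (Opens.grothendieckTopology X) U) 0 t =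
      (H'equiv₀ (Opens.grothendieckTopology X) (Coh.toAb (PM g' M)) U).symm
        (vU g' ιB hι M U ((eF ιA M U).toLinearMap.lTensor B t)) := by
    intro t
    change _ = (H'equiv₀ (Opens.grothendieckTopology X) (Coh.toAb (PM g' M)) U).symm
      (H'equiv₀ (Opens.grothendieckTopology X) (Coh.toAb (PM g' M)) U
        (Θ g' ιA ιB M hι (Zfree (Opens.grothendieckTopology X) U) 0
          ((eF ιA M U).symm.toLinearMap.lTensor B ((eF ιA M U).toLinearMap.lTensor B t))))
    rw [AddEquiv.symm_apply_apply, ← LinearMap.comp_apply, ← LinearMap.lTensor_comp]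
    have : (eF ιA M U).symm.toLinearMap ∘ₗ (eF ιA M U).toLinearMap = LinearMap.id := by
      ext x
      exact (eF ιA M U).symm_apply_apply x
    rw [this, LinearMap.lTensor_id, LinearMap.id_apply]
  have hl : Function.Bijective ((eF ιA M U).toLinearMap.lTensor B) :=
    (LinearEquiv.lTensor B (eF ιA M U)).bijective
  have : (Θ g' ιA ιB M hι (Zfree (Opens.grothendieckTopology X) U) 0 : _ → _) =
      (H'equiv₀ (Opens.grothendieckTopology X) (Coh.toAb (PM g' M)) U).symm ∘ (vU g' ιB hι M U) ∘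
        ((eF ιA M U).toLinearMap.lTensor B) := funext key
  rw [this]
  exact (AddEquiv.bijective _).comp (hv.comp hl)


open Groth.Agent.Lib.Helper17.AffineVanish in
theorem subsingleton_ext_of_isAffineOpen (N : X.Modules) [N.IsQuasicoherent] {U : X.Opens}
    (hU : IsAffineOpen U) (n : ℕ) :
    Subsingleton (Ext (Zfree (Opens.grothendieckTopology X) U) (Coh.toAb N) (n + 1)) :=
  subsingleton_HU_of_isAffineOpen N hU n

theorem bijZ_of_isAffineOpen [IsAffineHom g'] [M.IsQuasicoherent] {U : X.Opens} (hU : IsAffineOpen U)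
    (hpo : IsPushout (CommRingCat.ofHom (algebraMap A B)) (CommRingCat.ofHom (αU ιA U))
      (CommRingCat.ofHom (αU ιB (g' ⁻¹ᵁ U))) (CommRingCat.ofHom (g'.appLE U (g' ⁻¹ᵁ U) le_rfl).hom)) :
    BijZ g' ιA ιB M hι (Zfree (Opens.grothendieckTopology X) U) := by
  have hq : (PM g' M).IsQuasicoherent := isQuasicoherent_pushforward g' _
  have hF : ∀ n, Subsingleton (Ext (Zfree (Opens.grothendieckTopology X) U) (Coh.toAb M) (n + 1)) :=
    fun n => subsingleton_ext_of_isAffineOpen M hU n
  have hG : ∀ n, Subsingleton (Ext (Zfree (Opens.grothendieckTopology X) U) (Coh.toAb (PM g' M)) (n + 1)) :=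
    fun n => @subsingleton_ext_of_isAffineOpen X (PM g' M) hq U hU n
  have h0 := theta0_bijective g' ιA ιB M hι hU (hU.preimage g') hpo
  exact bij_of_acyclic (actF ιA M) (actPush g' ιB ((Scheme.Modules.pullback g').obj M)) (uM g' M)
    (uM_equivariant g' ιA ιB M hι) hF hG h0

variable [Module.Flat A B]

theorem bijZ_sup (U V : X.Opens)
    (hU : BijZ g' ιA ιB M hι (Zfree (Opens.grothendieckTopology X) U))
    (hV : BijZ g' ιA ιB M hι (Zfree (Opens.grothendieckTopology X) V))
    (hUV : BijZ g' ιA ιB M hι (Zfree (Opens.grothendieckTopology X) (U ⊓ V))) :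
    BijZ g' ιA ιB M hι (Zfree (Opens.grothendieckTopology X) (U ⊔ V)) := by
  let S := Opens.mayerVietorisSquare (T := X) U V
  have e₁ : S.shortComplex.X₁ = Zfree (Opens.grothendieckTopology X) (U ⊓ V) := rfl
  have e₂ : S.shortComplex.X₂ = (Zfree (Opens.grothendieckTopology X) U ⊞ Zfree (Opens.grothendieckTopology X) V) := rfl
  have e₃ : S.shortComplex.X₃ = Zfree (Opens.grothendieckTopology X) (U ⊔ V) := rfl
  have h₁ : BijZ g' ιA ιB M hι S.shortComplex.X₁ := by rw [e₁]; exact hUV
  have h₂ : BijZ g' ιA ιB M hι S.shortComplex.X₂ := by rw [e₂]; exact bij_biprod _ _ _ _ hU hV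
  have h₃ : BijZ g' ιA ιB M hι S.shortComplex.X₃ :=
    bij_of_shortExact _ _ _ _ S.shortComplex_shortExact h₁ h₂
  rw [e₃] at h₃
  exact h₃

end Groth.Agent.Lib.Helper17.FlatBCH2
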