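import Groth.Agent.Lib.Helper17.FlatBCH3
import Groth.Agent.Lib.Helper17.ExtTensorDual
import Mathlib
set_option backward.isDefEq.respectTransparency.types false
set_option autoImplicit false
universe u
open AlgebraicGeometry CategoryTheory Opposite TopologicalSpace TensorProduct CategoryTheory.Limits Abelian

noncomputable section

namespace Groth.Agent.Lib.Helper17.FlatBCH4
open Scheme.Modules Groth.Agent.Lib.Helper17.ExtTensor Groth.Agent.Lib.Helper17.FlatBCH1
open Groth.Agent.Lib.Helper17.FlatBCH2 Groth.Agent.Lib.Helper17.FlatBCH3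
open Groth.Agent.Lib.Helper28.PullbackInv Groth.Agent.Lib.Helper28.QCohLoc
open Groth.Agent.Lib.Helper6.SheafCoh Groth.Agent.Lib.Helper17.PullbackBC

variable {X X' : Scheme.{u}} (g' : X' ⟶ X)
variable {A B : Type u} [CommRing A] [CommRing B] [Algebra A B]
variable (ιA : A →+* Coh.Γtop X) (ιB : B →+* Coh.Γtop X')
variable (M : X.Modules)
variable (hι : ∀ a : A, g'.appTop.hom (ιA a) = ιB (algebraMap A B a))

theorem vU_bijective [M.IsQuasicoherent] {U : X.Opens} (hU : IsAffineOpen U)
    (hU' : IsAffineOpen (g' ⁻¹ᵁ U))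
    (hpo : IsPushout (CommRingCat.ofHom (algebraMap A B)) (CommRingCat.ofHom (αU ιA U))
      (CommRingCat.ofHom (αU ιB (g' ⁻¹ᵁ U))) (CommRingCat.ofHom (g'.appLE U (g' ⁻¹ᵁ U) le_rfl).hom)) :
    Function.Bijective (vU g' ιB hι M U) := by
  refine bijective_of_isBC_alg (αU ιA U) (αU ιB (g' ⁻¹ᵁ U)) (g'.appLE U (g' ⁻¹ᵁ U) le_rfl).hom hpo
    (P := SecA ιA M U) (T₂ := Γ((Scheme.Modules.pullback g').obj M, g' ⁻¹ᵁ U)) (secA_smul U)
    (fun m => res ((Scheme.Modules.pullback g').obj M) le_rfl (pbs g' M U m))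
    (isBC_pullback g' hU hU' le_rfl M) (vU g' ιB hι M U) (vU_smul g' ιA ιB M hι U) ?_
  intro p
  rw [vU_tmul, map_one, one_smul, res_self]

theorem resO_αU {Y : Scheme.{u}} {R : Type u} [CommRing R] (ι : R →+* Coh.Γtop Y) {U V : Y.Opens} (h : V ≤ U)
    (a : R) : resO h (αU ι U a) = αU ι V a :=
  Coh.resTop_comp (X := Y) (op U) (op V) (homOfLE h).op (ι a)

/-- restriction of sections, `A`-linearly -/
def resA {U V : X.Opens} (h : V ≤ U) : SecA ιA M U →ₗ[A] SecA ιA M V where
  toFun p := res M h p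
  map_add' p q := map_add _ p q
  map_smul' a p := by
    change res M h (αU ιA U a • (show Γ(M, U) from p)) = αU ιA V a • res M h p
    rw [res_smul, resO_αU]

theorem resA_apply {U V : X.Opens} (h : V ≤ U) (p : SecA ιA M U) : resA ιA M h p = res M h p := rfl

theorem vU_res {U V : X.Opens} (h : V ≤ U) (t : B ⊗[A] SecA ιA M U) :
    res ((Scheme.Modules.pullback g').obj M) (g'.preimage_mono h) (vU g' ιB hι M U t) =
      vU g' ιB hι M V ((resA ιA M h).lTensor B t) := by
  induction t using TensorProduct.induction_on with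
  | zero => rw [map_zero, map_zero, map_zero, res_zero]
  | tmul b p =>
    rw [LinearMap.lTensor_tmul, vU_tmul, vU_tmul, res_smul, resO_αU, resA_apply, pbs_res]
  | add s t hs ht => rw [map_add, map_add, map_add, res_add, hs, ht]

section ell
variable (lam : B →ₗ[A] A)

/-- `λ ⊗ id : B ⊗[A] Γ(M, U) → Γ(M, U)` -/
def lamMap (U : X.Opens) : B ⊗[A] SecA ιA M U →ₗ[A] SecA ιA M U :=
  (TensorProduct.lid A _).toLinearMap ∘ₗ lam.rTensor _

theorem lamMap_tmul (U : X.Opens) (b : B) (p : SecA ιA M U) :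
    lamMap ιA M lam U (b ⊗ₜ[A] p) = lam b • p := by
  change (TensorProduct.lid A _) (lam.rTensor _ (b ⊗ₜ[A] p)) = _
  rw [LinearMap.rTensor_tmul, TensorProduct.lid_tmul]

theorem lamMap_res {U V : X.Opens} (h : V ≤ U) (t : B ⊗[A] SecA ιA M U) :
    resA ιA M h (lamMap ιA M lam U t) = lamMap ιA M lam V ((resA ιA M h).lTensor B t) := by
  induction t using TensorProduct.induction_on with
  | zero => rw [map_zero, map_zero, map_zero, map_zero]
  | tmul b p => rw [LinearMap.lTensor_tmul, lamMap_tmul, lamMap_tmul, LinearMap.map_smul]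
  | add s t hs ht => rw [map_add, map_add, map_add, map_add, hs, ht]

variable [M.IsQuasicoherent] [IsAffineHom g']
variable (hpo : ∀ U : X.Opens, IsAffineOpen U →
      IsPushout (CommRingCat.ofHom (algebraMap A B)) (CommRingCat.ofHom (αU ιA U))
        (CommRingCat.ofHom (αU ιB (g' ⁻¹ᵁ U))) (CommRingCat.ofHom (g'.appLE U (g' ⁻¹ᵁ U) le_rfl).hom))

/-- `vU` as an additive equivalence over an affine open -/
def vEquiv (U : X.affineOpens) :
    B ⊗[A] SecA ιA M U.1 ≃+ Γ((Scheme.Modules.pullback g').obj M, g' ⁻¹ᵁ U.1) :=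
  AddEquiv.ofBijective (vU g' ιB hι M U.1)
    (vU_bijective g' ιA ιB M hι U.2 (U.2.preimage g') (hpo U.1 U.2))

/-- the local retraction `g'_* g'^* M → M` attached to `λ : B → A`, over an affine open -/
def ellU (U : X.affineOpens) : Γ((Scheme.Modules.pullback g').obj M, g' ⁻¹ᵁ U.1) →+ Γ(M, U.1) :=
  (lamMap ιA M lam U.1).toAddMonoidHom.comp (vEquiv g' ιA ιB M hι hpo U).symm.toAddMonoidHom

theorem ellU_vU (U : X.affineOpens) (t : B ⊗[A] SecA ιA M U.1) :
    ellU g' ιA ιB M hι lam hpo U (vU g' ιB hι M U.1 t) = lamMap ιA M lam U.1 t := by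
  change lamMap ιA M lam U.1 ((vEquiv g' ιA ιB M hι hpo U).symm (vEquiv g' ιA ιB M hι hpo U t)) = _
  rw [AddEquiv.symm_apply_apply]

theorem ellU_res {U V : X.affineOpens} (h : V.1 ≤ U.1)
    (y : Γ((Scheme.Modules.pullback g').obj M, g' ⁻¹ᵁ U.1)) :
    ellU g' ιA ιB M hι lam hpo V (res ((Scheme.Modules.pullback g').obj M) (g'.preimage_mono h) y) =
      res M h (ellU g' ιA ιB M hι lam hpo U y) := by
  obtain ⟨t, rfl⟩ := (vEquiv g' ιA ιB M hι hpo U).surjective y
  change ellU g' ιA ιB M hι lam hpo V (res ((Scheme.Modules.pullback g').obj M) (g'.preimage_mono h)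
    (vU g' ιB hι M U.1 t)) = res M h (ellU g' ιA ιB M hι lam hpo U (vU g' ιB hι M U.1 t))
  rw [vU_res, ellU_vU, ellU_vU]
  exact (lamMap_res ιA M lam h t).symm

/-- the affine opens as a basis -/
abbrev affB (X : Scheme.{u}) : X.affineOpens → Opens X.toTopCat := fun U => U.1

theorem isBasis_affB (X : Scheme.{u}) : Opens.IsBasis (Set.range (affB X)) := by
  have : Set.range (affB X) = X.affineOpens := Subtype.range_coe
  rw [this]
  exact X.isBasis_affineOpens

/-- the local retractions as a natural transformation on the affine basis -/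
def ellNat : (inducedFunctor (affB X)).op ⋙ (Coh.toAb (PM g' M)).obj ⟶
    (inducedFunctor (affB X)).op ⋙ (Coh.toAb M).obj where
  app U := AddCommGrpCat.ofHom (ellU g' ιA ιB M hι lam hpo U.unop)
  naturality U V f := by
    ext y
    have hle : V.unop.1 ≤ U.unop.1 := leOfHom f.unop.hom
    exact ellU_res g' ιA ιB M hι lam hpo hle y

/-- **the retraction** `g'_* g'^* M → M` of abelian sheaves attached to `λ : B → A` -/
def ell : Coh.toAb (PM g' M) ⟶ Coh.toAb M :=
  ⟨TopCat.Sheaf.restrictHomEquivHom (Coh.toAb (PM g' M)).obj (Coh.toAb M) (isBasis_affB X)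
    (ellNat g' ιA ιB M hι lam hpo)⟩

theorem ell_app (U : X.affineOpens) (y : Γ((Scheme.Modules.pullback g').obj M, g' ⁻¹ᵁ U.1)) :
    (ell g' ιA ιB M hι lam hpo).hom.app (op U.1) y = ellU g' ιA ιB M hι lam hpo U y := by
  have h := TopCat.Sheaf.extend_hom_app (Coh.toAb (PM g' M)).obj (Coh.toAb M) (isBasis_affB X)
    (ellNat g' ιA ιB M hι lam hpo) U
  exact congrArg (fun φ => φ.hom y) h

omit [M.IsQuasicoherent] [IsAffineHom g'] in
/-- `(uM ≫ c) p = vU (c ⊗ p)` on sections -/
theorem act_uM_app (U : X.Opens) (c : B) (p : SecA ιA M U) :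
    ((actPush g' ιB ((Scheme.Modules.pullback g').obj M)).act c).hom.app (op U)
      ((uM g' M).hom.app (op U) p) = vU g' ιB hι M U (c ⊗ₜ[A] p) := by
  rw [vU_tmul]
  change (Coh.smulAb ((Scheme.Modules.pullback g').obj M) (ιB c)).hom.app (op (g' ⁻¹ᵁ U))
    (pbs g' M U p) = _
  rw [Coh.smulAb_app]
  rfl

theorem comp_ell (c : B) :
    uM g' M ≫ (actPush g' ιB ((Scheme.Modules.pullback g').obj M)).act c ≫ ell g' ιA ιB M hι lam hpo =
      (actF ιA M).act (lam c) := by
  apply Sheaf.hom_ext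
  apply TopCat.Sheaf.hom_ext (Coh.toAb M).obj (Coh.toAb M) (isBasis_affB X)
  intro U
  ext p
  change (ell g' ιA ιB M hι lam hpo).hom.app (op U.1)
    (((actPush g' ιB ((Scheme.Modules.pullback g').obj M)).act c).hom.app (op U.1)
      ((uM g' M).hom.app (op U.1) p)) = (Coh.smulAb M (ιA (lam c))).hom.app (op U.1) p
  rw [act_uM_app g' ιA ιB M hι U.1 c p, ell_app, ellU_vU, lamMap_tmul, Coh.smulAb_app]
  rfl

end ell

section dual
variable [M.IsQuasicoherent] [IsAffineHom g']
variable (hpo : ∀ U : X.Opens, IsAffineOpen U →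
      IsPushout (CommRingCat.ofHom (algebraMap A B)) (CommRingCat.ofHom (αU ιA U))
        (CommRingCat.ofHom (αU ιB (g' ⁻¹ᵁ U))) (CommRingCat.ofHom (g'.appLE U (g' ⁻¹ᵁ U) le_rfl).hom))

/-- evaluation of morphisms of abelian sheaves on sections, additively -/
def evHom {T : TopCat.{u}} (F G : CohTop.Ab T) (U : Opens T) :
    (F ⟶ G) →+ (F.obj.obj (op U) →+ G.obj.obj (op U)) where
  toFun φ := (φ.hom.app (op U)).hom
  map_zero' := rfl
  map_add' _ _ := rfl

theorem sum_ell_comp {J : Type} [Fintype J] (b : J → B) (lam : J → (B →ₗ[A] A))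
    (h₃ : ∀ c : B, ∑ j, lam j c • b j = c) :
    ∑ j, ell g' ιA ιB M hι (lam j) hpo ≫ uM g' M ≫
      (actPush g' ιB ((Scheme.Modules.pullback g').obj M)).act (b j) = 𝟙 (Coh.toAb (PM g' M)) := by
  apply Sheaf.hom_ext
  apply TopCat.Sheaf.hom_ext (Coh.toAb (PM g' M)).obj (Coh.toAb (PM g' M)) (isBasis_affB X)
  intro U
  ext y
  change evHom (Coh.toAb (PM g' M)) (Coh.toAb (PM g' M)) U.1 (∑ j, ell g' ιA ιB M hι (lam j) hpo ≫ uM g' M ≫
      (actPush g' ιB ((Scheme.Modules.pullback g').obj M)).act (b j)) y = y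
  rw [map_sum, AddMonoidHom.finset_sum_apply]
  obtain ⟨t, rfl⟩ := (vEquiv g' ιA ιB M hι hpo U).surjective y
  change ∑ j, ((actPush g' ιB ((Scheme.Modules.pullback g').obj M)).act (b j)).hom.app (op U.1)
    ((uM g' M).hom.app (op U.1) ((ell g' ιA ιB M hι (lam j) hpo).hom.app (op U.1)
      (vU g' ιB hι M U.1 t))) = vU g' ιB hι M U.1 t
  have key : ∀ j, ((actPush g' ιB ((Scheme.Modules.pullback g').obj M)).act (b j)).hom.app (op U.1)
    ((uM g' M).hom.app (op U.1) ((ell g' ιA ιB M hι (lam j) hpo).hom.app (op U.1)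
      (vU g' ιB hι M U.1 t))) = vU g' ιB hι M U.1 (b j ⊗ₜ[A] lamMap ιA M (lam j) U.1 t) := by
    intro j
    rw [ell_app, ellU_vU]
    exact act_uM_app g' ιA ιB M hι U.1 (b j) _
  refine (Finset.sum_congr rfl fun j _ => key j).trans ?_
  refine (map_sum (vU g' ιB hι M U.1) (fun j => b j ⊗ₜ[A] lamMap ιA M (lam j) U.1 t) Finset.univ).symm.trans ?_
  congr 1
  clear key
  induction t using TensorProduct.induction_on with
  | zero =>
    refine Finset.sum_eq_zero fun j _ => ?_
    rw [map_zero, TensorProduct.tmul_zero]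
  | tmul c p =>
    have : ∀ j, b j ⊗ₜ[A] lamMap ιA M (lam j) U.1 (c ⊗ₜ[A] p) = (lam j c • b j) ⊗ₜ[A] p := by
      intro j
      rw [lamMap_tmul, TensorProduct.smul_tmul]
    rw [Finset.sum_congr rfl fun j _ => this j, ← TensorProduct.sum_tmul, h₃]
  | add s t hs ht =>
    have : ∀ j, b j ⊗ₜ[A] lamMap ιA M (lam j) U.1 (s + t) =
        b j ⊗ₜ[A] lamMap ιA M (lam j) U.1 s + b j ⊗ₜ[A] lamMap ιA M (lam j) U.1 t := by
      intro j
      rw [map_add, TensorProduct.tmul_add]
    rw [Finset.sum_congr rfl fun j _ => this j, Finset.sum_add_distrib, hs, ht]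

include hpo in
/-- **finite projective base change on Ext groups**: `Θ` is bijective for every `Z` -/
theorem bijZ_of_finite_projective [Module.Finite A B] [Module.Projective A B] (Z : CohTop.Ab X.toTopCat) :
    BijZ g' ιA ιB M hι Z := by
  obtain ⟨n, f, g, -, -, hfg⟩ := Module.Finite.exists_comp_eq_id_of_projective A B
  let b : Fin n → B := fun j => f (fun k => if j = k then 1 else 0)
  let lam : Fin n → (B →ₗ[A] A) := fun j => LinearMap.proj j ∘ₗ g
  have h₃ : ∀ c : B, ∑ j, lam j c • b j = c := by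
    intro c
    have h1 : f (g c) = c := congrArg (fun φ => φ c) hfg
    rw [LinearMap.pi_apply_eq_sum_univ f (g c)] at h1
    exact h1
  exact bij_of_dualBasis (actF ιA M) (actPush g' ιB ((Scheme.Modules.pullback g').obj M)) (uM g' M)
    (uM_equivariant g' ιA ιB M hι) b (fun j c => lam j c) (fun j => ell g' ιA ιB M hι (lam j) hpo)
    (fun j c => comp_ell g' ιA ιB M hι (lam j) hpo c)
    (sum_ell_comp g' ιA ιB M hι hpo b lam h₃) h₃ Z

include hι hpo in
open Groth.Agent.Lib.Helper17.HCompare in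
/-- **Finite projective base change, abstract form**: for `g' : X' ⟶ X` affine, `A → B` finite projective,
rings of sections over affine opens forming pushout squares, and `M` quasi-coherent, there is a
bijective additive map `B ⊗[A] H^n(X, M) → H^n(X', g'^* M)`, compatible with multiplication by `B`. -/
theorem exists_comparison_of_finite_projective [Module.Finite A B] [Module.Projective A B] (n : ℕ) :
    ∃ Φ : B ⊗[A] E (actF ιA M) (ZZ (Opens.grothendieckTopology X)) n →+
        Coh.HH X' ((Scheme.Modules.pullback g').obj M) n,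
      Function.Bijective Φ ∧ ∀ (b : B) (t : B ⊗[A] E (actF ιA M) (ZZ (Opens.grothendieckTopology X)) n),
        Φ (b • t) = Sheaf.H.map (Coh.smulAb ((Scheme.Modules.pullback g').obj M) (ιB b)) n (Φ t) := by
  let Θ₀ := Θ g' ιA ιB M hι (ZZ (Opens.grothendieckTopology X)) n
  let pe : E (actPush g' ιB ((Scheme.Modules.pullback g').obj M)) (ZZ (Opens.grothendieckTopology X)) n →+
      Coh.HH X' ((Scheme.Modules.pullback g').obj M) n :=
    CohPull.pushEdge g' ((Scheme.Modules.pullback g').obj M) n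
  refine ⟨pe.comp Θ₀, ?_, ?_⟩
  · exact (pushEdge_bijective_of_isAffineHom g' ((Scheme.Modules.pullback g').obj M) n).comp
      (bijZ_of_finite_projective g' ιA ιB M hι hpo _ n)
  · intro b t
    change pe (Θ₀ (b • t)) = _
    rw [theta_smul]
    exact pushEdge_smul g' ((Scheme.Modules.pullback g').obj M) (ιB b) n (Θ₀ t)

end dual

end Groth.Agent.Lib.Helper17.FlatBCH4
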