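import Groth.Agent.Lib.Helper17.PullbackBC
import Mathlib
set_option backward.isDefEq.respectTransparency.types false
set_option autoImplicit false
universe u
open CategoryTheory TensorProduct CategoryTheory.Limits

noncomputable section

namespace Groth.Agent.Lib.Helper17.PairAlg
open Groth.Agent.Lib.Helper17.PullbackBC

theorem bijective_of_isBC_pair {A A' R R' : Type u} [CommRing A] [CommRing A'] [CommRing R] [CommRing R']
    [Algebra A A'] (α : A →+* R) (α' : A' →+* R') (ψ : R →+* R')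
    (hpo : IsPushout (CommRingCat.ofHom (algebraMap A A')) (CommRingCat.ofHom α) (CommRingCat.ofHom α')
      (CommRingCat.ofHom ψ))
    {P₀ P' M Q' : Type u} [AddCommGroup P₀] [Module A P₀] [Module R P₀]
    (hP : ∀ (a : A) (p : P₀), a • p = α a • p)
    [AddCommGroup P'] [Module R' P'] (cP : P₀ → P') (hcP : IsBC ψ cP)
    [AddCommGroup M] [Module A' M] [Module A M] [IsScalarTower A A' M]
    [AddCommGroup Q'] [Module R' Q'] (cM : M → Q') (hcM : IsBC α' cM)
    (w : M ⊗[A] P₀ →+ P' ⊗[R'] Q') (hw : ∀ m p, w (m ⊗ₜ[A] p) = cP p ⊗ₜ[R'] cM m) :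
    Function.Bijective w := by
  letI := α.toAlgebra
  letI := α'.toAlgebra
  letI := ψ.toAlgebra
  letI : Algebra A R' := (α'.comp (algebraMap A A')).toAlgebra
  haveI : IsScalarTower A A' R' := .of_algebraMap_eq' rfl
  have hw' : α'.comp (algebraMap A A') = ψ.comp α := by
    have := hpo.w
    exact congrArg CommRingCat.Hom.hom this
  haveI : IsScalarTower A R R' := .of_algebraMap_eq' hw'
  haveI : IsScalarTower A R P₀ := ⟨fun a b p => by
    rw [hP a (b • p), ← mul_smul]; rfl⟩
  haveI : Algebra.IsPushout A A' R R' := CommRingCat.isPushout_iff_isPushout.mp hpo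
  obtain ⟨eP, heP⟩ := (isBC_iff ψ cP).mp hcP
  obtain ⟨eM, heM⟩ := (isBC_iff α' cM).mp hcM
  let T1 : P' ⊗[R'] Q' ≃ₗ[R'] (R' ⊗[R] P₀) ⊗[R'] (R' ⊗[A'] M) := TensorProduct.congr eP eM
  let T2 : (R' ⊗[R] P₀) ⊗[R'] (R' ⊗[A'] M) ≃ₗ[R'] (R' ⊗[R] P₀) ⊗[A'] M :=
    TensorProduct.AlgebraTensorModule.cancelBaseChange A' R' R' (R' ⊗[R] P₀) M
  let C : R' ⊗[R] P₀ ≃ₗ[A'] A' ⊗[A] P₀ := Algebra.IsPushout.cancelBaseChange A A' R R' P₀
  let T3 : (R' ⊗[R] P₀) ⊗[A'] M ≃ₗ[A'] (A' ⊗[A] P₀) ⊗[A'] M := TensorProduct.congr C (LinearEquiv.refl A' M)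
  let T4 : (A' ⊗[A] P₀) ⊗[A'] M ≃ₗ[A'] M ⊗[A'] (A' ⊗[A] P₀) := TensorProduct.comm A' _ _
  let T5 : M ⊗[A'] (A' ⊗[A] P₀) ≃ₗ[A'] M ⊗[A] P₀ :=
    TensorProduct.AlgebraTensorModule.cancelBaseChange A A' A' M P₀
  let Φ : P' ⊗[R'] Q' → M ⊗[A] P₀ := fun z => T5 (T4 (T3 (T2 (T1 z))))
  have hΦ : Function.Bijective Φ :=
    T5.bijective.comp (T4.bijective.comp (T3.bijective.comp (T2.bijective.comp T1.bijective)))
  have key : ∀ t, Φ (w t) = t := by
    intro t
    induction t using TensorProduct.induction_on with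
    | zero => simp [Φ]
    | add x y hx hy =>
      rw [map_add]
      change T5 (T4 (T3 (T2 (T1 (w x + w y))))) = x + y
      rw [map_add, map_add, map_add, map_add, map_add]
      exact congrArg₂ (· + ·) hx hy
    | tmul m p =>
      rw [hw]
      change T5 (T4 (T3 (T2 (TensorProduct.congr eP eM (cP p ⊗ₜ[R'] cM m))))) = _
      rw [TensorProduct.congr_tmul, heP, heM]
      change T5 (T4 (T3 (TensorProduct.AlgebraTensorModule.cancelBaseChange A' R' R' (R' ⊗[R] P₀) M
        (((1 : R') ⊗ₜ[R] p) ⊗ₜ[R'] ((1 : R') ⊗ₜ[A'] m))))) = _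
      rw [TensorProduct.AlgebraTensorModule.cancelBaseChange_tmul, one_smul]
      change T5 (T4 (TensorProduct.congr C (LinearEquiv.refl A' M) (((1 : R') ⊗ₜ[R] p) ⊗ₜ[A'] m))) = _
      rw [TensorProduct.congr_tmul, Algebra.IsPushout.cancelBaseChange_tmul]
      change T5 (TensorProduct.comm A' _ _ (((1 : A') ⊗ₜ[A] p) ⊗ₜ[A'] m)) = _
      rw [TensorProduct.comm_tmul]
      change TensorProduct.AlgebraTensorModule.cancelBaseChange A A' A' M P₀
        (m ⊗ₜ[A'] ((1 : A') ⊗ₜ[A] p)) = _
      rw [TensorProduct.AlgebraTensorModule.cancelBaseChange_tmul, one_smul]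
  have h1 : Function.Injective w := fun a b hab => by rw [← key a, ← key b, hab]
  have h2 : Function.Surjective w := by
    intro z
    refine ⟨Φ z, hΦ.1 ?_⟩
    rw [key]
  exact ⟨h1, h2⟩

/-- transport of a base change map along an isomorphism of the base ring and a compatible isomorphism of modules -/
theorem isBC_of_equiv {R₀ R S : Type u} [CommRing R₀] [CommRing R] [CommRing S] (φ : R →+* S) (σ : R₀ ≃+* R)
    {P₀ P T : Type u} [AddCommGroup P₀] [Module R₀ P₀] [AddCommGroup P] [Module R P]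
    [AddCommGroup T] [Module S T] (c : P → T) (h : IsBC φ c) (τ : P₀ ≃+ P)
    (hτ : ∀ (r : R₀) (p : P₀), τ (r • p) = σ r • τ p) :
    IsBC (φ.comp σ.toRingHom) (fun p => c (τ p)) := by
  obtain ⟨e, he⟩ := (isBC_iff φ c).mp h
  rw [isBC_iff]
  letI i1 : Algebra R S := φ.toAlgebra
  letI i2 : Algebra R₀ S := (φ.comp σ.toRingHom).toAlgebra
  have hsm : ∀ (r : R₀) (s : S), r • s = σ r • s := fun r s => rfl
  have hτs : ∀ (r : R₀) (p : P), τ.symm (σ r • p) = r • τ.symm p := by
    intro r p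
    apply τ.injective
    rw [hτ, AddEquiv.apply_symm_apply, AddEquiv.apply_symm_apply]
  let fwd : S ⊗[R] P →+ S ⊗[R₀] P₀ :=
    TensorProduct.liftAddHom
      { toFun := fun s =>
          { toFun := fun p => s ⊗ₜ[R₀] τ.symm p
            map_zero' := by rw [map_zero, TensorProduct.tmul_zero]
            map_add' := fun p q => by rw [map_add, TensorProduct.tmul_add] }
        map_zero' := by ext p; exact TensorProduct.zero_tmul _ _
        map_add' := fun s s' => by ext p; exact TensorProduct.add_tmul _ _ _ }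
      (fun r s p => by
        change (r • s) ⊗ₜ[R₀] τ.symm p = s ⊗ₜ[R₀] τ.symm (r • p)
        obtain ⟨r₀, rfl⟩ := σ.surjective r
        rw [hτs, ← hsm, TensorProduct.smul_tmul])
  let bwd : S ⊗[R₀] P₀ →+ S ⊗[R] P :=
    TensorProduct.liftAddHom
      { toFun := fun s =>
          { toFun := fun p => s ⊗ₜ[R] τ p
            map_zero' := by rw [map_zero, TensorProduct.tmul_zero]
            map_add' := fun p q => by rw [map_add, TensorProduct.tmul_add] }
        map_zero' := by ext p; exact TensorProduct.zero_tmul _ _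
        map_add' := fun s s' => by ext p; exact TensorProduct.add_tmul _ _ _ }
      (fun r s p => by
        change (r • s) ⊗ₜ[R] τ p = s ⊗ₜ[R] τ (r • p)
        rw [hτ, hsm, TensorProduct.smul_tmul])
  have hfb : ∀ z, fwd (bwd z) = z := by
    intro z
    induction z using TensorProduct.induction_on with
    | zero => rw [map_zero, map_zero]
    | tmul s p =>
      change s ⊗ₜ[R₀] τ.symm (τ p) = _
      rw [AddEquiv.symm_apply_apply]
    | add a b ha hb => rw [map_add, map_add, ha, hb]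
  have hbf : ∀ z, bwd (fwd z) = z := by
    intro z
    induction z using TensorProduct.induction_on with
    | zero => rw [map_zero, map_zero]
    | tmul s p =>
      change s ⊗ₜ[R] τ (τ.symm p) = _
      rw [AddEquiv.apply_symm_apply]
    | add a b ha hb => rw [map_add, map_add, ha, hb]
  have hlin : ∀ (s' : S) (z : S ⊗[R] P), fwd (s' • z) = s' • fwd z := by
    intro s' z
    induction z using TensorProduct.induction_on with
    | zero => rw [smul_zero, map_zero, smul_zero]
    | tmul s p =>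
      rw [TensorProduct.smul_tmul']
      change (s' • s) ⊗ₜ[R₀] τ.symm p = s' • (s ⊗ₜ[R₀] τ.symm p)
      rw [TensorProduct.smul_tmul']
    | add a b ha hb => rw [smul_add, map_add, map_add, ha, hb, smul_add]
  let κ : S ⊗[R] P ≃ₗ[S] S ⊗[R₀] P₀ :=
    { toFun := fwd
      invFun := bwd
      left_inv := hbf
      right_inv := hfb
      map_add' := map_add fwd
      map_smul' := hlin }
  refine ⟨e ≪≫ₗ κ, fun p => ?_⟩
  change fwd (e (c (τ p))) = _
  rw [he]
  change (1 : S) ⊗ₜ[R₀] τ.symm (τ p) = _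
  rw [AddEquiv.symm_apply_apply]


end Groth.Agent.Lib.Helper17.PairAlg
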