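import Groth.Agent.Lib.Helper17.FlatBCH3
import Groth.Agent.Lib.Helper17.ExtPair
import Groth.Agent.Lib.Helper17.PairAlg
import Groth.Agent.Lib.Helper17.TensorQC
import Mathlib
set_option backward.isDefEq.respectTransparency.types false
set_option autoImplicit false
universe u
open AlgebraicGeometry CategoryTheory Opposite TopologicalSpace TensorProduct CategoryTheory.Limits Abelian

noncomputable section

namespace Groth.Agent.Lib.Helper17.FlatBCM1
open Scheme.Modules Groth.Agent.Lib.Helper17.ExtTensor Groth.Agent.Lib.Helper17.FlatBCH1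
open Groth.Agent.Lib.Helper17.FlatBCH2 Groth.Agent.Lib.Helper17.FlatBCH3
open Groth.Agent.Lib.Helper28.PullbackInv Groth.Agent.Lib.Helper28.QCohLoc
open Groth.Agent.Lib.Helper28.TensorGen Groth.Agent.Lib.Helper17.TensorQC
open Groth.Agent.Lib.Helper6.SheafCoh Groth.Agent.Lib.Helper17.PullbackBC

variable {X X' : Scheme.{u}} (g : X' ⟶ X)
variable {A B : Type u} [CommRing A] [CommRing B] [Algebra A B]
variable (ιA : A →+* Coh.Γtop X) (ιB : B →+* Coh.Γtop X')
variable (F : X.Modules) (Q : X'.Modules)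
variable {M : Type u} [AddCommGroup M] [Module B M] [Module A M] [IsScalarTower A B M]
variable (s : M →+ Γ(Q, ⊤))
variable (hs : ∀ (b : B) (m : M), s (b • m) = ((show Γ(X', ⊤) from ιB b) • s m : Γ(Q, ⊤)))
variable (hι : ∀ a : A, g.appTop.hom (ιA a) = ιB (algebraMap A B a))

/-- `g^* F ⊗ Q` -/
abbrev NM : X'.Modules := CohB1.tensorMod ((Scheme.Modules.pullback g).obj F) Q

/-- `g_* (g^* F ⊗ Q)` -/
abbrev GM : X.Modules := (Scheme.Modules.pushforward g).obj (NM g F Q)

/-- the pairing on sections: `(m, p) ↦ g^* p ⊗ s m` -/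
def pairSec (m : M) (U : X.Opens) (p : Γ(F, U)) : Γ(NM g F Q, g ⁻¹ᵁ U) :=
  tmulSec ((Scheme.Modules.pullback g).obj F) Q (pbs g F U p) (res Q le_top (s m))

theorem pairSec_add (m : M) (U : X.Opens) (p p' : Γ(F, U)) :
    pairSec g F Q s m U (p + p') = pairSec g F Q s m U p + pairSec g F Q s m U p' := by
  unfold pairSec
  rw [pbs_add, tmulSec_add_left]

theorem pairSec_add_left (m m' : M) (U : X.Opens) (p : Γ(F, U)) :
    pairSec g F Q s (m + m') U p = pairSec g F Q s m U p + pairSec g F Q s m' U p := by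
  unfold pairSec
  rw [map_add, res_add, tmulSec_add_right]

theorem pairSec_res (m : M) {U V : X.Opens} (h : V ≤ U) (p : Γ(F, U)) :
    res (NM g F Q) (g.preimage_mono h) (pairSec g F Q s m U p) = pairSec g F Q s m V (res F h p) := by
  unfold pairSec
  rw [tmulSec_res, pbs_res, res_res]

/-- the pairing `M → Hom(F, g_*(g^*F ⊗ Q))` on abelian sheaves, one element at a time -/
def uP (m : M) : Coh.toAb F ⟶ Coh.toAb (GM g F Q) :=
  ⟨{ app := fun U => AddCommGrpCat.ofHom
      { toFun := fun p => pairSec g F Q s m U.unop p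
        map_zero' := by
          have h := pairSec_add g F Q s m U.unop 0 0
          rw [add_zero] at h
          exact left_eq_add.mp h
        map_add' := fun p p' => pairSec_add g F Q s m U.unop p p' }
     naturality := by
       intro U V f
       ext p
       exact (pairSec_res g F Q s m (leOfHom f.unop) p).symm }⟩

theorem uP_app (m : M) (U : X.Opens) (p : Γ(F, U)) :
    (uP g F Q s m).hom.app (op U) p = pairSec g F Q s m U p := rfl

/-- the pairing, additively in `m` -/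
def uPair : M →+ (Coh.toAb F ⟶ Coh.toAb (GM g F Q)) where
  toFun := uP g F Q s
  map_zero' := by
    ext U p
    rw [uP_app]
    have h := pairSec_add_left g F Q s 0 0 U.unop p
    rw [add_zero] at h
    exact left_eq_add.mp h
  map_add' m m' := by
    ext U p
    exact pairSec_add_left g F Q s m m' U.unop p

include hs in
theorem uPair_smul_B (b : B) (m : M) :
    uPair g F Q s (b • m) = uPair g F Q s m ≫ (actPush g ιB (NM g F Q)).act b := by
  ext U p
  obtain ⟨U⟩ := U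
  change pairSec g F Q s (b • m) U p =
    (Coh.smulAb (NM g F Q) (ιB b)).hom.app (op (g ⁻¹ᵁ U)) (pairSec g F Q s m U p)
  rw [Coh.smulAb_app]
  unfold pairSec
  rw [hs, res_smul, tmulSec_smul_right]
  rfl

theorem app_resTop (U : X.Opens) (r : Coh.Γtop X) :
    (g.app U).hom (Coh.resTop X (op U) r) = Coh.resTop X' (op (g ⁻¹ᵁ U)) (g.appTop.hom r) :=
  congrArg (fun φ => φ.hom r) (g.naturality (homOfLE (le_top : U ≤ ⊤)).op)

include hs hι in
theorem uPair_smul_A (a : A) (m : M) :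
    uPair g F Q s (a • m) = (actF ιA F).act a ≫ uPair g F Q s m := by
  rw [← algebraMap_smul B a m, uPair_smul_B g ιB F Q s hs]
  ext U p
  obtain ⟨U⟩ := U
  change (Coh.smulAb (NM g F Q) (ιB (algebraMap A B a))).hom.app (op (g ⁻¹ᵁ U)) (pairSec g F Q s m U p) =
    pairSec g F Q s m U ((Coh.smulAb F (ιA a)).hom.app (op U) p)
  rw [Coh.smulAb_app, Coh.smulAb_app]
  unfold pairSec
  change _ = tmulSec _ _ (pbs g F U ((show Γ(X, U) from Coh.resTop X (op U) (ιA a)) • (show Γ(F, U) from p))) _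
  rw [pbs_smul, tmulSec_smul_left, app_resTop, hι]
  rfl

/-- the comparison map `M ⊗[A] Ext Z F n → Ext Z (g_*(g^*F ⊗ Q)) n` -/
abbrev ΘM (Z : CohTop.Ab X.toTopCat) (n : ℕ) :=
  ExtPair.theta (actF ιA F) (uPair g F Q s) (uPair_smul_A g ιA ιB F Q s hs hι) Z n

/-- bijectivity in all degrees -/
abbrev BijM (Z : CohTop.Ab X.toTopCat) : Prop :=
  ExtPair.Bij (actF ιA F) (uPair g F Q s) (uPair_smul_A g ιA ιB F Q s hs hι) Z

/-- the comparison map in degree zero over an open, on sections -/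
def wU (U : X.Opens) : M ⊗[A] SecA ιA F U →+ Γ(NM g F Q, g ⁻¹ᵁ U) :=
  ((H'equiv₀ (Opens.grothendieckTopology X) (Coh.toAb (GM g F Q)) U).toAddMonoidHom.comp
    (ΘM g ιA ιB F Q s hs hι (Zfree (Opens.grothendieckTopology X) U) 0)).comp
    ((eF ιA F U).symm.toLinearMap.lTensor M).toAddMonoidHom

theorem wU_tmul (U : X.Opens) (m : M) (p : SecA ιA F U) :
    wU g ιA ιB F Q s hs hι U (m ⊗ₜ[A] p) = pairSec g F Q s m U p := by
  change H'equiv₀ (Opens.grothendieckTopology X) (Coh.toAb (GM g F Q)) U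
    (ΘM g ιA ιB F Q s hs hι (Zfree (Opens.grothendieckTopology X) U) 0
      (m ⊗ₜ[A] (eF ιA F U).symm p)) = _
  rw [ExtPair.theta_tmul]
  refine (H'equiv₀_comp (T := X.toTopCat) (F := Coh.toAb F) (G := Coh.toAb (GM g F Q))
    (uPair g F Q s m) U ((eF ιA F U).symm p).toExt).trans ?_
  have h1 : H'equiv₀ (Opens.grothendieckTopology X.toTopCat) (Coh.toAb F) U ((eF ιA F U).symm p).toExt = p :=
    (eF ιA F U).apply_symm_apply p
  exact congrArg (fun z => (uPair g F Q s m).hom.app (op U) z) h1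

open Groth.Agent.Lib.Helper17.PairAlg in
theorem wU_bijective [F.IsQuasicoherent] [Q.IsQuasicoherent] {U : X.Opens} (hU : IsAffineOpen U)
    (hU' : IsAffineOpen (g ⁻¹ᵁ U))
    (hpo : IsPushout (CommRingCat.ofHom (algebraMap A B)) (CommRingCat.ofHom (αU ιA U))
      (CommRingCat.ofHom (αU ιB (g ⁻¹ᵁ U))) (CommRingCat.ofHom (g.appLE U (g ⁻¹ᵁ U) le_rfl).hom))
    (hQ : IsBC (αU ιB (g ⁻¹ᵁ U)) (P := M) (T := Γ(Q, g ⁻¹ᵁ U)) (fun m : M => res Q le_top (s m))) :
    Function.Bijective (wU g ιA ιB F Q s hs hι U) := by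
  let P := (Scheme.Modules.pullback g).obj F
  haveI : P.IsQuasicoherent := inferInstance
  have hη : Function.Bijective (η P Q (W := g ⁻¹ᵁ U)) := by
    constructor
    · intro a b hab
      have h0 : η P Q (a - b) = 0 := by rw [η_sub, hab, sub_self]
      exact sub_eq_zero.mp (η_injective P Q hU' _ h0)
    · intro t
      exact η_surjective P Q hU' t
  let ηE : PT P Q (g ⁻¹ᵁ U) ≃+ Γ(TT P Q, g ⁻¹ᵁ U) :=
    AddEquiv.ofBijective (AddMonoidHom.mk' (η P Q (W := g ⁻¹ᵁ U)) (η_add P Q)) hη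
  let w₀ : M ⊗[A] SecA ιA F U →+ (Γ(P, g ⁻¹ᵁ U) ⊗[Γ(X', g ⁻¹ᵁ U)] Γ(Q, g ⁻¹ᵁ U)) :=
    ηE.symm.toAddMonoidHom.comp (wU g ιA ιB F Q s hs hι U)
  have hw₀ : Function.Bijective w₀ := by
    refine bijective_of_isBC_pair (αU ιA U) (αU ιB (g ⁻¹ᵁ U)) (g.appLE U (g ⁻¹ᵁ U) le_rfl).hom hpo
      (P₀ := SecA ιA F U) (P' := Γ(P, g ⁻¹ᵁ U)) (secA_smul U)
      (fun p => res P le_rfl (pbs g F U p)) (isBC_pullback g hU hU' le_rfl F)
      (fun m : M => res Q le_top (s m)) hQ w₀ ?_
    intro m p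
    change ηE.symm (wU g ιA ιB F Q s hs hι U (m ⊗ₜ[A] p)) = _
    rw [wU_tmul, res_self]
    exact ηE.symm_apply_apply (ptmul P Q (pbs g F U p) (res Q le_top (s m)))
  have : (wU g ιA ιB F Q s hs hι U : _ → _) = ηE ∘ w₀ := by
    funext t
    exact (ηE.apply_symm_apply _).symm
  rw [this]
  exact ηE.bijective.comp hw₀

theorem thetaM0_bijective [F.IsQuasicoherent] [Q.IsQuasicoherent] {U : X.Opens} (hU : IsAffineOpen U)
    (hU' : IsAffineOpen (g ⁻¹ᵁ U))
    (hpo : IsPushout (CommRingCat.ofHom (algebraMap A B)) (CommRingCat.ofHom (αU ιA U))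
      (CommRingCat.ofHom (αU ιB (g ⁻¹ᵁ U))) (CommRingCat.ofHom (g.appLE U (g ⁻¹ᵁ U) le_rfl).hom))
    (hQ : IsBC (αU ιB (g ⁻¹ᵁ U)) (P := M) (T := Γ(Q, g ⁻¹ᵁ U)) (fun m : M => res Q le_top (s m))) :
    Function.Bijective (ΘM g ιA ιB F Q s hs hι (Zfree (Opens.grothendieckTopology X) U) 0) := by
  have hv := wU_bijective g ιA ιB F Q s hs hι hU hU' hpo hQ
  have key : ∀ t, ΘM g ιA ιB F Q s hs hι (Zfree (Opens.grothendieckTopology X) U) 0 t =
      (H'equiv₀ (Opens.grothendieckTopology X) (Coh.toAb (GM g F Q)) U).symm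
        (wU g ιA ιB F Q s hs hι U ((eF ιA F U).toLinearMap.lTensor M t)) := by
    intro t
    change _ = (H'equiv₀ (Opens.grothendieckTopology X) (Coh.toAb (GM g F Q)) U).symm
      (H'equiv₀ (Opens.grothendieckTopology X) (Coh.toAb (GM g F Q)) U
        (ΘM g ιA ιB F Q s hs hι (Zfree (Opens.grothendieckTopology X) U) 0
          ((eF ιA F U).symm.toLinearMap.lTensor M ((eF ιA F U).toLinearMap.lTensor M t))))
    rw [AddEquiv.symm_apply_apply, ← LinearMap.comp_apply, ← LinearMap.lTensor_comp]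
    have : (eF ιA F U).symm.toLinearMap ∘ₗ (eF ιA F U).toLinearMap = LinearMap.id := by
      ext x
      exact (eF ιA F U).symm_apply_apply x
    rw [this, LinearMap.lTensor_id, LinearMap.id_apply]
  have hl : Function.Bijective ((eF ιA F U).toLinearMap.lTensor M) :=
    (LinearEquiv.lTensor M (eF ιA F U)).bijective
  have : (ΘM g ιA ιB F Q s hs hι (Zfree (Opens.grothendieckTopology X) U) 0 : _ → _) =
      (H'equiv₀ (Opens.grothendieckTopology X) (Coh.toAb (GM g F Q)) U).symm ∘ (wU g ιA ιB F Q s hs hι U) ∘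
        ((eF ιA F U).toLinearMap.lTensor M) := funext key
  rw [this]
  exact (AddEquiv.bijective _).comp (hv.comp hl)

theorem bijM_of_isAffineOpen [IsAffineHom g] [F.IsQuasicoherent] [Q.IsQuasicoherent] {U : X.Opens}
    (hU : IsAffineOpen U)
    (hpo : IsPushout (CommRingCat.ofHom (algebraMap A B)) (CommRingCat.ofHom (αU ιA U))
      (CommRingCat.ofHom (αU ιB (g ⁻¹ᵁ U))) (CommRingCat.ofHom (g.appLE U (g ⁻¹ᵁ U) le_rfl).hom))
    (hQ : IsBC (αU ιB (g ⁻¹ᵁ U)) (P := M) (T := Γ(Q, g ⁻¹ᵁ U)) (fun m : M => res Q le_top (s m))) :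
    BijM g ιA ιB F Q s hs hι (Zfree (Opens.grothendieckTopology X) U) := by
  have hq : (GM g F Q).IsQuasicoherent := isQuasicoherent_pushforward g _
  have hF : ∀ n, Subsingleton (Ext (Zfree (Opens.grothendieckTopology X) U) (Coh.toAb F) (n + 1)) :=
    fun n => subsingleton_ext_of_isAffineOpen F hU n
  have hG : ∀ n, Subsingleton (Ext (Zfree (Opens.grothendieckTopology X) U) (Coh.toAb (GM g F Q)) (n + 1)) :=
    fun n => @subsingleton_ext_of_isAffineOpen X (GM g F Q) hq U hU n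
  have h0 := thetaM0_bijective g ιA ιB F Q s hs hι hU (hU.preimage g) hpo hQ
  exact ExtPair.bij_of_acyclic (actF ιA F) (uPair g F Q s) (uPair_smul_A g ιA ιB F Q s hs hι) hF hG h0

section flat
variable [Module.Flat A M]

theorem bijM_sup (U V : X.Opens)
    (hU : BijM g ιA ιB F Q s hs hι (Zfree (Opens.grothendieckTopology X) U))
    (hV : BijM g ιA ιB F Q s hs hι (Zfree (Opens.grothendieckTopology X) V))
    (hUV : BijM g ιA ιB F Q s hs hι (Zfree (Opens.grothendieckTopology X) (U ⊓ V))) :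
    BijM g ιA ιB F Q s hs hι (Zfree (Opens.grothendieckTopology X) (U ⊔ V)) := by
  let S := Opens.mayerVietorisSquare (T := X) U V
  have e₁ : S.shortComplex.X₁ = Zfree (Opens.grothendieckTopology X) (U ⊓ V) := rfl
  have e₂ : S.shortComplex.X₂ = (Zfree (Opens.grothendieckTopology X) U ⊞ Zfree (Opens.grothendieckTopology X) V) := rfl
  have e₃ : S.shortComplex.X₃ = Zfree (Opens.grothendieckTopology X) (U ⊔ V) := rfl
  have h₁ : BijM g ιA ιB F Q s hs hι S.shortComplex.X₁ := by rw [e₁]; exact hUV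
  have h₂ : BijM g ιA ιB F Q s hs hι S.shortComplex.X₂ := by
    rw [e₂]; exact ExtPair.bij_biprod _ _ _ hU hV
  have h₃ : BijM g ιA ιB F Q s hs hι S.shortComplex.X₃ :=
    ExtPair.bij_of_shortExact _ _ _ S.shortComplex_shortExact h₁ h₂
  rw [e₃] at h₃
  exact h₃

variable (hpo : ∀ U : X.Opens, IsAffineOpen U →
      IsPushout (CommRingCat.ofHom (algebraMap A B)) (CommRingCat.ofHom (αU ιA U))
        (CommRingCat.ofHom (αU ιB (g ⁻¹ᵁ U))) (CommRingCat.ofHom (g.appLE U (g ⁻¹ᵁ U) le_rfl).hom))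
  (hQ : ∀ U : X.Opens, IsAffineOpen U →
    IsBC (αU ιB (g ⁻¹ᵁ U)) (P := M) (T := Γ(Q, g ⁻¹ᵁ U)) (fun m : M => res Q le_top (s m)))

include hpo hQ in
theorem bijM_top [CompactSpace X] [QuasiSeparatedSpace X] [IsAffineHom g] [F.IsQuasicoherent]
    [Q.IsQuasicoherent] :
    BijM g ιA ιB F Q s hs hι (Zfree (Opens.grothendieckTopology X) (⊤ : X.Opens)) := by
  refine Groth.Agent.S0015.result X
    (fun U => BijM g ιA ιB F Q s hs hι (Zfree (Opens.grothendieckTopology X) U)) ?_ ?_ ⊤ isCompact_univ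
  · intro U hU
    exact bijM_of_isAffineOpen g ιA ιB F Q s hs hι hU (hpo U hU) (hQ U hU)
  · intro U V _ _ hU hV hUV
    exact bijM_sup g ιA ιB F Q s hs hι U V hU hV hUV

include hpo hQ in
open Groth.Agent.Lib.Helper17.HCompare in
theorem bijM_ZZ [CompactSpace X] [QuasiSeparatedSpace X] [IsAffineHom g] [F.IsQuasicoherent]
    [Q.IsQuasicoherent] :
    BijM g ιA ιB F Q s hs hι (ZZ (Opens.grothendieckTopology X)) :=
  ExtPair.bij_of_iso _ _ _ (zzIso (Opens.grothendieckTopology X) isTerminalTop).symm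
    (bijM_top g ιA ιB F Q s hs hι hpo hQ)

include hpo hQ hs hι in
open Groth.Agent.Lib.Helper17.HCompare in
/-- **Flat base change with module coefficients, abstract form** -/
theorem exists_comparisonM [CompactSpace X] [QuasiSeparatedSpace X] [IsAffineHom g] [F.IsQuasicoherent]
    [Q.IsQuasicoherent] (n : ℕ) :
    ∃ Φ : M ⊗[A] E (actF ιA F) (ZZ (Opens.grothendieckTopology X)) n →+ Coh.HH X' (NM g F Q) n,
      Function.Bijective Φ ∧ ∀ (b : B) (t : M ⊗[A] E (actF ιA F) (ZZ (Opens.grothendieckTopology X)) n),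
        Φ (((LinearMap.lsmul B M b).restrictScalars A).rTensor _ t) =
          Sheaf.H.map (Coh.smulAb (NM g F Q) (ιB b)) n (Φ t) := by
  let Θ₀ := ΘM g ιA ιB F Q s hs hι (ZZ (Opens.grothendieckTopology X)) n
  let pe : Ext (ZZ (Opens.grothendieckTopology X)) (Coh.toAb (GM g F Q)) n →+ Coh.HH X' (NM g F Q) n :=
    CohPull.pushEdge g (NM g F Q) n
  refine ⟨pe.comp Θ₀, ?_, ?_⟩
  · exact (pushEdge_bijective_of_isAffineHom g (NM g F Q) n).comp
      (bijM_ZZ g ιA ιB F Q s hs hι hpo hQ n)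
  · intro b t
    change pe (Θ₀ _) = _
    rw [ExtPair.theta_rTensor (actF ιA F) (uPair g F Q s) (uPair_smul_A g ιA ιB F Q s hs hι)
      ((LinearMap.lsmul B M b).restrictScalars A) ((actPush g ιB (NM g F Q)).act b)
      (fun m => uPair_smul_B g ιB F Q s hs b m)]
    exact pushEdge_smul g (NM g F Q) (ιB b) n (Θ₀ t)

end flat

end Groth.Agent.Lib.Helper17.FlatBCM1
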