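import Groth.Agent.Lib.Helper17.FlatBCM1
import Mathlib
set_option backward.isDefEq.respectTransparency.types false
set_option autoImplicit false
universe u
open AlgebraicGeometry CategoryTheory Opposite TopologicalSpace TensorProduct CategoryTheory.Limits Abelian

noncomputable section

namespace Groth.Agent.Lib.Helper17.FlatBCM2
open Scheme.Modules Groth.Agent.Lib.Helper17.ExtTensor Groth.Agent.Lib.Helper17.FlatBCH1
open Groth.Agent.Lib.Helper17.FlatBCH2 Groth.Agent.Lib.Helper17.FlatBCH3 Groth.Agent.Lib.Helper17.FlatBCM1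
open Groth.Agent.Lib.Helper28.PullbackInv Groth.Agent.Lib.Helper28.QCohLoc
open Groth.Agent.Lib.Helper28.TensorGen Groth.Agent.Lib.Helper17.TensorQC
open Groth.Agent.Lib.Helper6.SheafCoh Groth.Agent.Lib.Helper17.PullbackBC Groth.Agent.Lib.Helper17.PairAlg

variable (A' : Type u) [CommRing A'] (M : Type u) [AddCommGroup M] [Module A' M]
variable {X' : Scheme.{u}} (f' : X' ⟶ Spec (CommRingCat.of A'))

/-- the quasi-coherent module attached to `M` on `Spec A'` -/
abbrev Mt : (Spec (CommRingCat.of A')).Modules := tilde (R := CommRingCat.of A') (ModuleCat.of A' M)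

/-- its pullback to `X'` -/
abbrev QM : X'.Modules := (Scheme.Modules.pullback f').obj (Mt A' M)

/-- `M ≃ Γ(M~, ⊤)` -/
def τM : M ≃+ Γ(Mt A' M, ⊤) :=
  (tilde.isoTop (R := CommRingCat.of A') (ModuleCat.of A' M)).toLinearEquiv.toAddEquiv

theorem τM_smul (b : A') (m : M) :
    τM A' M (b • m) = (((Scheme.ΓSpecIso (CommRingCat.of A')).inv.hom b : Γ(Spec (CommRingCat.of A'), ⊤)) •
      τM A' M m : Γ(Mt A' M, ⊤)) := by
  have h := (tilde.isoTop (R := CommRingCat.of A') (ModuleCat.of A' M)).toLinearEquiv.map_smul b m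
  refine h.trans ?_
  refine (Scheme.Modules.smul_Spec_def (M := Mt A' M) (U := ⊤) b (τM A' M m)).trans ?_
  congr 1

/-- the sections `m ↦ f'^* m` of `f'^* M~` -/
def sM : M →+ Γ(QM A' M f', ⊤) where
  toFun m := res (QM A' M f') (le_of_eq (Scheme.Hom.preimage_top f').symm) (pbs f' (Mt A' M) ⊤ (τM A' M m))
  map_zero' := by
    have h : pbs f' (Mt A' M) ⊤ (0 : Γ(Mt A' M, ⊤)) = 0 := map_zero _
    rw [map_zero, h, res_zero]
  map_add' m m' := by rw [map_add, pbs_add, res_add]

theorem sM_smul (b : A') (m : M) :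
    sM A' M f' (b • m) = ((show Γ(X', ⊤) from Coh.toGlobal f' b) • sM A' M f' m : Γ(QM A' M f', ⊤)) := by
  change res (QM A' M f') _ (pbs f' (Mt A' M) ⊤ (τM A' M (b • m))) = _
  rw [τM_smul, pbs_smul, res_smul]
  congr 1
  exact congrArg (fun φ => φ.hom ((f'.app ⊤).hom ((Scheme.ΓSpecIso (CommRingCat.of A')).inv.hom b)))
    (X'.presheaf.map_id (op ⊤))

theorem isBC_sM {U' : X'.Opens} (hU' : IsAffineOpen U') :
    IsBC (αU (Coh.toGlobal f') U') (P := M) (T := Γ(QM A' M f', U'))
      (fun m : M => res (QM A' M f') le_top (sM A' M f' m)) := by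
  have e : U' ≤ f' ⁻¹ᵁ ⊤ := by rw [Scheme.Hom.preimage_top]; exact le_top
  have h0 := isBC_pullback f' (isAffineOpen_top (Spec (CommRingCat.of A'))) hU' e (Mt A' M)
  have h1 := isBC_of_equiv (f'.appLE ⊤ U' e).hom
    (Scheme.ΓSpecIso (CommRingCat.of A')).symm.commRingCatIsoToRingEquiv _ h0 (τM A' M)
    (fun r p => τM_smul A' M r p)
  have e1 : (f'.appLE ⊤ U' e).hom.comp
      (Scheme.ΓSpecIso (CommRingCat.of A')).symm.commRingCatIsoToRingEquiv.toRingHom =
      αU (Coh.toGlobal f') U' := by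
    ext b
    rfl
  have e2 : (fun m : M => res (QM A' M f') le_top (sM A' M f' m)) =
      (fun m : M => res (QM A' M f') e (pbs f' (Mt A' M) ⊤ (τM A' M m))) := by
    funext m
    exact res_res _ _ _ _
  rw [e2, ← e1]
  exact h1

end Groth.Agent.Lib.Helper17.FlatBCM2
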