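import Groth.Agent.Lib.Helper17.InvDescAlg
import Mathlib

/-!
# Descent of bijectivity along a jointly faithfully flat family of ring maps (semilinear form)
-/

set_option autoImplicit false
universe u
open TensorProduct

namespace Groth.Agent.Lib.Helper17.FlatDescAlg

open Groth.Agent.Lib.Helper17.FlatMV Groth.Agent.Lib.Helper17.FlatBC Groth.Agent.Lib.Helper17.InvDescAlg

variable {ι : Type*} {A : Type u} [CommRing A] {M N : Type u} [AddCommGroup M] [Module A M] [AddCommGroup N]
  [Module A N] (u : M →ₗ[A] N)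
  (B : ι → Type u) [∀ i, CommRing (B i)] (φ : ∀ i, A →+* B i) (hflat : ∀ i, (φ i).Flat)
  (hcov : ∀ I : Ideal A, I ≠ ⊤ → ∃ i, I.map (φ i) ≠ ⊤)
  (M' N' : ι → Type u) [∀ i, AddCommGroup (M' i)] [∀ i, Module (B i) (M' i)]
  [∀ i, AddCommGroup (N' i)] [∀ i, Module (B i) (N' i)]
  (a : ∀ i, M →+ M' i) (b : ∀ i, N →+ N' i) (ha : ∀ i, LinBij (φ i) (a i)) (hb : ∀ i, LinBij (φ i) (b i))
  (u' : ∀ i, M' i →+ N' i) (hu' : ∀ i (c : B i) (t : M' i), u' i (c • t) = c • u' i t)
  (hcomm : ∀ i m, u' i (a i m) = b i (u m))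

include hflat hcov ha hcomm in
theorem injective_of_forall (hinj : ∀ i, Function.Injective (u' i)) : Function.Injective u := by
  rw [injective_iff_map_eq_zero]
  intro m hm
  have key : ∀ i, (1 : B i) ∈ Ideal.map (φ i) (colonIdeal (⊥ : Submodule A M) m) := by
    intro i
    letI := (φ i).toAlgebra
    haveI : Module.Flat A (B i) := hflat i
    obtain ⟨hc, hbij⟩ := ha i
    refine mem_map_colonIdeal (B := B i) (⊥ : Submodule A M) m 1 ?_
    have h0 : (1 : B i) ⊗ₜ[A] m = 0 := by
      apply hbij.1
      rw [lin_tmul, map_zero, one_smul]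
      apply hinj i
      rw [hcomm, hm, map_zero, map_zero]
    rw [h0]
    exact Submodule.zero_mem _
  by_contra hne
  have hI : colonIdeal (⊥ : Submodule A M) m ≠ ⊤ := by
    intro htop
    have : (1 : A) ∈ colonIdeal (⊥ : Submodule A M) m := htop ▸ Submodule.mem_top
    rw [mem_colonIdeal, one_smul, Submodule.mem_bot] at this
    exact hne this
  obtain ⟨i, hi⟩ := hcov _ hI
  exact hi ((Ideal.eq_top_iff_one _).2 (key i))

include hflat hcov ha hb hu' hcomm in
theorem surjective_of_forall (hsurj : ∀ i, Function.Surjective (u' i)) : Function.Surjective u := by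
  intro n
  have key : ∀ i, (1 : B i) ∈ Ideal.map (φ i) (colonIdeal (LinearMap.range u) n) := by
    intro i
    letI := (φ i).toAlgebra
    haveI : Module.Flat A (B i) := hflat i
    obtain ⟨hc, hbij⟩ := ha i
    obtain ⟨hc', hbij'⟩ := hb i
    refine mem_map_colonIdeal (B := B i) (LinearMap.range u) n 1 ?_
    obtain ⟨t, ht⟩ := hsurj i (b i n)
    obtain ⟨w, hw⟩ := hbij.2 t
    have h1 : (u.lTensor (B i)) w = (1 : B i) ⊗ₜ[A] n := by
      apply hbij'.1
      rw [lin_lTensor (a i) hc (b i) hc' u (u' i) (hu' i) (hcomm i), hw, ht, lin_tmul, one_smul]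
    have h2 : (LinearMap.range u).subtype.comp u.rangeRestrict = u := by
      ext z
      rfl
    have h3 : (u.lTensor (B i)) w =
        ((LinearMap.range u).subtype.lTensor (B i)) ((u.rangeRestrict.lTensor (B i)) w) := by
      rw [← LinearMap.comp_apply, ← LinearMap.lTensor_comp, h2]
    rw [← h1, h3]
    exact LinearMap.mem_range_self _ _
  by_contra hne
  have hI : colonIdeal (LinearMap.range u) n ≠ ⊤ := by
    intro htop
    have : (1 : A) ∈ colonIdeal (LinearMap.range u) n := htop ▸ Submodule.mem_top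
    rw [mem_colonIdeal, one_smul] at this
    exact hne this
  obtain ⟨i, hi⟩ := hcov _ hI
  exact hi ((Ideal.eq_top_iff_one _).2 (key i))

include hflat hcov ha hb hu' hcomm in
/-- **descent of bijectivity** along a jointly faithfully flat family -/
theorem bijective_of_forall (hbij : ∀ i, Function.Bijective (u' i)) : Function.Bijective u :=
  ⟨injective_of_forall u B φ hflat hcov M' N' a b ha u' hcomm fun i => (hbij i).1,
    surjective_of_forall u B φ hflat hcov M' N' a b ha hb u' hu' hcomm fun i => (hbij i).2⟩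

end Groth.Agent.Lib.Helper17.FlatDescAlg
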