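import Groth.Agent.Lib.Helper17.InvDesc
import Groth.Agent.Lib.Helper16.MR3
import Groth.Prelude.Def_Formal2
import Mathlib

/-!
# Descent of the triviality of an invertible module, II: `Pic X → Pic X'` has trivial kernel
-/

set_option backward.isDefEq.respectTransparency.types false
set_option autoImplicit false
universe u
open CategoryTheory CategoryTheory.Limits AlgebraicGeometry Opposite TopologicalSpace TensorProduct
noncomputable section

namespace Groth.Agent.Lib.Helper17.InvDesc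

open Groth.Agent.Lib.Helper28 Groth.Agent.Lib.Helper28.QCohLoc Groth.Agent.Lib.Helper28.GenLocus
open Groth.Agent.Lib.Helper28.PullbackInv Groth.Agent.Lib.Helper28.GrTwistGenVal Groth.Agent.Lib.Helper28.RelTwistVal
open Groth.Agent.Lib.Helper17.FlatMV Groth.Agent.Lib.Helper17.FlatBC Groth.Agent.Lib.Helper17.PullbackBC
open Groth.Agent.Lib.Helper16.MR Groth.Agent.Lib.Helper16.RS

variable {X Y X' Y' : Scheme.{u}} (f : X ⟶ Y) (g : Y' ⟶ Y) (g' : X' ⟶ X) (f' : X' ⟶ Y')
  (h : IsPullback g' f' f g)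

theorem unitPush_app {T W : Scheme.{u}} (k : T ⟶ W) (U : W.Opens) (c : Γ(W, U)) :
    (unitPush k).app U (show Γ(Coh.structureModule W, U) from c) =
      (show Γ(Coh.structureModule T, k ⁻¹ᵁ U) from (k.app U).hom c) := rfl

include h in
/-- `O_{Y'} ≅ f'_* O_{X'}` as modules -/
theorem isIso_unitPush [QuasiCompact f] [QuasiSeparated f] [Flat g]
    (hf : ∀ V : Y.Opens, Function.Bijective (f.app V)) : IsIso (unitPush f') := by
  refine Groth.Agent.Lib.Helper28.TensorIso.isIso_of_bijective_on_basis _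
    (fun W' => IsAffineOpen W' ∧ ∃ W : Y.Opens, IsAffineOpen W ∧ W' ≤ g ⁻¹ᵁ W) ?_ ?_
  · intro U y' hy'U
    obtain ⟨W, hW, hyW, -⟩ := Opens.isBasis_iff_nbhd.mp Y.isBasis_affineOpens (show g y' ∈ (⊤ : Y.Opens) from trivial)
    obtain ⟨W', hW', hyW', hle⟩ := Opens.isBasis_iff_nbhd.mp Y'.isBasis_affineOpens
      (show y' ∈ U ⊓ g ⁻¹ᵁ W from ⟨hy'U, hyW⟩)
    exact ⟨W', ⟨hW', W, hW, hle.trans inf_le_right⟩, hyW', hle.trans inf_le_left⟩
  · rintro W' ⟨hW', W, hW, e⟩
    exact bijective_app_of_flat f g g' f' h hf hW hW' e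


include h in
/-- **`Pic X → Pic X'` has trivial kernel** if `Pic Y → Pic Y'` has -/
theorem nonempty_iso_structureModule [QuasiCompact f] [QuasiSeparated f] [Flat g] [Surjective g] [QuasiCompact g]
    (hf : ∀ V : Y.Opens, Function.Bijective (f.app V)) (hg : Formal2.PicPullbackInjective g)
    (L : X.Modules) (hL : PicF.IsInvertible L) (ε : (Scheme.Modules.pullback g').obj L ≅ Coh.structureModule X') :
    Nonempty (L ≅ Coh.structureModule X) := by
  haveI : L.IsQuasicoherent := Groth.Agent.Lib.Helper28.InvQC.isQuasicoherent_of_isInvertible L hL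
  have hN := isInvertible_pushforward f g g' f' h hf L hL ε
  haveI := isIso_counit f g g' f' h hf L hL ε
  haveI := isIso_pbLift_bcV_of_flat f g g' f' h L
  haveI := isIso_unitPush f g g' f' h hf
  let β := asIso (pbLift g (bcV f g g' f' h L))
  let γ := (Scheme.Modules.pushforward f').mapIso ε
  let δ := (asIso (unitPush f')).symm
  obtain ⟨e1⟩ := hg _ hN ⟨β ≪≫ γ ≪≫ δ⟩
  exact ⟨(asIso ((Scheme.Modules.pullbackPushforwardAdjunction f).counit.app L)).symm ≪≫
    (Scheme.Modules.pullback f).mapIso e1 ≪≫ pullbackUnitIso f⟩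

end Groth.Agent.Lib.Helper17.InvDesc
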