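import Groth.Agent.Lib.Helper17.FlatDescAlg
import Groth.Agent.Lib.Helper17.InvDesc2
import Mathlib

/-!
# Flat descent of `O_Y = f_* O_X`
-/

set_option backward.isDefEq.respectTransparency.types false
set_option autoImplicit false
universe u
open CategoryTheory CategoryTheory.Limits AlgebraicGeometry Opposite TopologicalSpace TensorProduct
noncomputable section

namespace Groth.Agent.Lib.Helper17.FlatDescBij

open Groth.Agent.Lib.Helper28 Groth.Agent.Lib.Helper28.QCohLoc Groth.Agent.Lib.Helper28.GenLocus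
open Groth.Agent.Lib.Helper28.PullbackInv
open Groth.Agent.Lib.Helper17.FlatMV Groth.Agent.Lib.Helper17.FlatBC Groth.Agent.Lib.Helper17.PullbackBC
open Groth.Agent.Lib.Helper17.InvDesc Groth.Agent.Lib.Helper17.FlatDescAlg
open Groth.Agent.Lib.Helper16.MR Groth.Agent.Lib.Helper16.RS

/-- the trivialisation of `k^* O` sends the inverse image of a function to its pull-back -/
theorem pullbackUnitIso_pbs {T Z : Scheme.{u}} (k : T ⟶ Z) (U : Z.Opens) (c : Γ(Z, U)) :
    (pullbackUnitIso k).hom.app (k ⁻¹ᵁ U) (pbs k (Coh.structureModule Z) U (show Γ(Coh.structureModule Z, U) from c)) =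
      (show Γ(Coh.structureModule T, k ⁻¹ᵁ U) from (k.app U).hom c) := by
  rw [pullbackUnitIso_hom_eq]
  have := pbLift_pbs k (unitPush k) U (show Γ(Coh.structureModule Z, U) from c)
  rw [unitPush_app] at this
  exact this


variable {X Y X' Y' : Scheme.{u}} (f : X ⟶ Y) (g : Y' ⟶ Y) (g' : X' ⟶ X) (f' : X' ⟶ Y')
  (h : IsPullback g' f' f g)

section One

variable [QuasiCompact f] [QuasiSeparated f] [Flat g]
  {W : Y.Opens} (hW : IsAffineOpen W) {W' : Y'.Opens} (hW' : IsAffineOpen W') (e : W' ≤ g ⁻¹ᵁ W)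

/-- the semilinear map `Γ(X, f⁻¹W) → Γ(X', f'⁻¹W')` -/
def bmap : SecOver f W (Coh.structureModule X) (f ⁻¹ᵁ W) le_rfl →+
    SecOver f' W' (Coh.structureModule X') (f' ⁻¹ᵁ W') le_rfl :=
  AddMonoidHom.mk' (fun n => (pullbackUnitIso g').hom.app (f' ⁻¹ᵁ W')
      (res _ (le_preimage' f g g' f' h e) (pbs g' (Coh.structureModule X) (f ⁻¹ᵁ W) n))) (fun a b => by
    have h1 : pbs g' (Coh.structureModule X) (f ⁻¹ᵁ W) ((show Γ(Coh.structureModule X, f ⁻¹ᵁ W) from a) +
        (show Γ(Coh.structureModule X, f ⁻¹ᵁ W) from b)) =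
        pbs g' (Coh.structureModule X) (f ⁻¹ᵁ W) a + pbs g' (Coh.structureModule X) (f ⁻¹ᵁ W) b := pbs_add g' _ _ _ _
    change (pullbackUnitIso g').hom.app (f' ⁻¹ᵁ W') (res _ (le_preimage' f g g' f' h e)
      (pbs g' (Coh.structureModule X) (f ⁻¹ᵁ W) ((show Γ(Coh.structureModule X, f ⁻¹ᵁ W) from a) +
        (show Γ(Coh.structureModule X, f ⁻¹ᵁ W) from b)))) = _
    rw [h1, res_add, map_add]
    rfl)

theorem bmap_apply (n : Γ(X, f ⁻¹ᵁ W)) :
    bmap f g g' f' h e (show Γ(Coh.structureModule X, f ⁻¹ᵁ W) from n) =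
      (show Γ(Coh.structureModule X', f' ⁻¹ᵁ W') from
        (g'.appLE (f ⁻¹ᵁ W) (f' ⁻¹ᵁ W') (le_preimage' f g g' f' h e)).hom n) := by
  show (pullbackUnitIso g').hom.app (f' ⁻¹ᵁ W')
      (res _ (le_preimage' f g g' f' h e) (pbs g' (Coh.structureModule X) (f ⁻¹ᵁ W) n)) = _
  rw [app_res, pullbackUnitIso_pbs]
  rfl

include hW hW' in
theorem linBij_bmap : LinBij (g.appLE W W' e).hom (bmap f g g' f' h e) := by
  have hflat : (g.appLE W W' e).hom.Flat := Flat.flat_appLE g hW hW' e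
  have hVc : IsCompact ((f ⁻¹ᵁ W : X.Opens) : Set X) := QuasiCompact.isCompact_preimage (f := f) _ W.2 hW.isCompact
  have h₂ := linBij_of_isCompact f g g' f' h e (Coh.structureModule X) hW hW' hflat (f ⁻¹ᵁ W) hVc le_rfl
  have heq := pr_preimage_eq f g g' f' h e
  let M' := (Scheme.Modules.pullback g').obj (Coh.structureModule X)
  let u : SecOver f' W' M' (pr g' f' W' (f ⁻¹ᵁ W)) (pr_le_right g' f' _) →+
      SecOver f' W' (Coh.structureModule X') (f' ⁻¹ᵁ W') le_rfl :=
    AddMonoidHom.mk' (fun t => (pullbackUnitIso g').hom.app (f' ⁻¹ᵁ W') (res M' heq.ge t))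
      (fun a b => by
        change (pullbackUnitIso g').hom.app (f' ⁻¹ᵁ W')
          (res M' heq.ge ((show Γ(M', pr g' f' W' (f ⁻¹ᵁ W)) from a) + (show Γ(M', pr g' f' W' (f ⁻¹ᵁ W)) from b))) = _
        rw [res_add, map_add]
        rfl)
  have hcomp : bmap f g g' f' h e = u.comp (cU f g' f' (W' := W') (Coh.structureModule X) (f ⁻¹ᵁ W) le_rfl) := by
    ext n
    show (pullbackUnitIso g').hom.app (f' ⁻¹ᵁ W') (res M' (le_preimage' f g g' f' h e)
      (pbs g' (Coh.structureModule X) (f ⁻¹ᵁ W) n)) = (pullbackUnitIso g').hom.app (f' ⁻¹ᵁ W') (res M' heq.ge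
      (res M' (pr_le_left g' f' _) (pbs g' (Coh.structureModule X) (f ⁻¹ᵁ W) n)))
    rw [res_res]
  rw [hcomp]
  refine linBij_comp _ h₂ u ?_ ?_
  · intro a' t
    show (pullbackUnitIso g').hom.app (f' ⁻¹ᵁ W') (res M' heq.ge
      (((f'.appLE W' (pr g' f' W' (f ⁻¹ᵁ W)) (pr_le_right g' f' _)).hom a' •
        (show Γ(M', pr g' f' W' (f ⁻¹ᵁ W)) from t) : Γ(M', pr g' f' W' (f ⁻¹ᵁ W))))) =
      ((f'.appLE W' (f' ⁻¹ᵁ W') le_rfl).hom a' • ((pullbackUnitIso g').hom.app (f' ⁻¹ᵁ W') (res M' heq.ge t)) :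
        Γ(Coh.structureModule X', f' ⁻¹ᵁ W'))
    rw [res_smul, Scheme.Modules.Hom.app_smul]
    congr 1
    have := Scheme.Hom.appLE_map f' (pr_le_right g' f' (f ⁻¹ᵁ W) : pr g' f' W' (f ⁻¹ᵁ W) ≤ f' ⁻¹ᵁ W')
      (homOfLE heq.ge).op
    exact congrArg (fun ψ => ψ.hom a') this
  · have hb1 : Function.Bijective (fun t : SecOver f' W' M' (pr g' f' W' (f ⁻¹ᵁ W)) (pr_le_right g' f' _) =>
        res M' heq.ge t) := by
      refine ⟨fun a b hab => ?_, fun t => ⟨res M' heq.le t, ?_⟩⟩
      · have := congrArg (res M' heq.le) hab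
        change res M' heq.le (res M' heq.ge a) = res M' heq.le (res M' heq.ge b) at this
        rw [res_res, res_res, res_self, res_self] at this
        exact this
      · change res M' heq.ge (res M' heq.le t) = t
        rw [res_res, res_self]
    have hb2 : Function.Bijective ((pullbackUnitIso g').hom.app (f' ⁻¹ᵁ W')) :=
      app_bijective_of_isIso (pullbackUnitIso g').hom _
    exact hb2.comp hb1

end One


section Affine

variable [QuasiCompact f] [QuasiSeparated f] [Flat g] [Surjective g]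
  (hf' : ∀ W' : Y'.Opens, Function.Bijective (f'.app W'))

/-- a ring map is a base change of the identity -/
theorem linBij_self {A B : Type u} [CommRing A] [CommRing B] (φ : A →+* B) :
    LinBij φ (φ.toAddMonoidHom : A →+ B) := by
  letI := φ.toAlgebra
  have hc : ∀ (a n : A), φ.toAddMonoidHom (a • n) = algebraMap A B a • φ.toAddMonoidHom n := by
    intro a n
    show φ (a * n) = φ a * φ n
    exact map_mul φ a n
  refine ⟨hc, ?_⟩
  have hfun : ⇑(lin (φ.toAddMonoidHom : A →+ B) hc) = ⇑(TensorProduct.rid A B) := by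
    funext z
    induction z using TensorProduct.induction_on with
    | zero => simp
    | add x y hx hy => rw [map_add, map_add, hx, hy]
    | tmul b c =>
      rw [lin_tmul, TensorProduct.rid_tmul, smul_eq_mul]
      show b * φ c = c • b
      rw [Algebra.smul_def, mul_comm]
      rfl
  rw [hfun]
  exact (TensorProduct.rid A B).bijective

include h hf' in
theorem bijective_app_of_isAffineOpen {W : Y.Opens} (hW : IsAffineOpen W) : Function.Bijective (f.app W) := by
  let u : Γ(Y, W) →ₗ[Γ(Y, W)] SecOver f W (Coh.structureModule X) (f ⁻¹ᵁ W) le_rfl :=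
    { toFun := fun c => (show Γ(Coh.structureModule X, f ⁻¹ᵁ W) from (f.app W).hom c)
      map_add' := fun c d => map_add (f.app W).hom c d
      map_smul' := fun c d => by
        show (f.app W).hom (c * d) = (f.appLE W (f ⁻¹ᵁ W) le_rfl).hom c * (f.app W).hom d
        rw [map_mul, Scheme.Hom.app_eq_appLE] }
  suffices hu : Function.Bijective u from hu
  let ι := {W' : Y'.Opens // IsAffineOpen W' ∧ W' ≤ g ⁻¹ᵁ W}
  refine bijective_of_forall (ι := ι) u (fun i => Γ(Y', i.1)) (fun i => (g.appLE W i.1 i.2.2).hom)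
    (fun i => Flat.flat_appLE g hW i.2.1 i.2.2) ?_
    (fun i => Γ(Y', i.1)) (fun i => SecOver f' i.1 (Coh.structureModule X') (f' ⁻¹ᵁ i.1) le_rfl)
    (fun i => (g.appLE W i.1 i.2.2).hom.toAddMonoidHom) (fun i => bmap f g g' f' h i.2.2)
    (fun i => linBij_self _) (fun i => linBij_bmap f g g' f' h hW i.2.1 i.2.2)
    (fun i => (f'.app i.1).hom.toAddMonoidHom) ?_ ?_ (fun i => hf' i.1)
  · -- covering
    intro I hI
    obtain ⟨m, hm, hIm⟩ := Ideal.exists_le_maximal I hI
    haveI := hm.isPrime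
    let y : Y := hW.fromSpec ⟨m, hm.isPrime⟩
    have hyW : y ∈ W := by
      have : y ∈ Set.range hW.fromSpec := ⟨_, rfl⟩
      rw [hW.range_fromSpec] at this
      exact this
    obtain ⟨y', hy'⟩ := g.surjective y
    have hy'W : y' ∈ g ⁻¹ᵁ W := by
      show g y' ∈ W
      rw [hy']
      exact hyW
    obtain ⟨W', hW', hy'W', hle⟩ := Opens.isBasis_iff_nbhd.mp Y'.isBasis_affineOpens hy'W
    refine ⟨⟨W', hW', hle⟩, ?_⟩
    let q := RingHom.ker (Y'.evaluation W' y' hy'W').hom
    haveI : q.IsPrime := RingHom.ker_isPrime _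
    have hq : I.map (g.appLE W W' hle).hom ≤ q := by
      rw [Ideal.map_le_iff_le_comap]
      intro c hc
      show (g.appLE W W' hle).hom c ∈ q
      rw [RingHom.mem_ker]
      by_contra hne
      have h2 := (Scheme.evaluation_ne_zero_iff_mem_basicOpen Y' y' hy'W' _).1 hne
      rw [Scheme.basicOpen_appLE] at h2
      have h3 : g y' ∈ Y.basicOpen c := h2.2
      rw [hy'] at h3
      have h4 : (⟨m, hm.isPrime⟩ : PrimeSpectrum Γ(Y, W)) ∈ hW.fromSpec ⁻¹ᵁ Y.basicOpen c := h3
      rw [hW.fromSpec_preimage_basicOpen] at h4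
      exact h4 (hIm hc)
    intro htop
    rw [htop] at hq
    exact (inferInstance : q.IsPrime).ne_top (top_le_iff.1 hq)
  · -- linearity of `f'^♯`
    intro i c t
    show (f'.app i.1).hom (c * t) = (f'.appLE i.1 (f' ⁻¹ᵁ i.1) le_rfl).hom c * (f'.app i.1).hom t
    rw [map_mul, Scheme.Hom.app_eq_appLE]
  · -- compatibility
    intro i m
    show (show Γ(Coh.structureModule X', f' ⁻¹ᵁ i.1) from (f'.app i.1).hom ((g.appLE W i.1 i.2.2).hom m)) =
      bmap f g g' f' h i.2.2 (show Γ(Coh.structureModule X, f ⁻¹ᵁ W) from (f.app W).hom m)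
    rw [bmap_apply]
    have := appLE_comm f g g' f' h i.2.2 (f ⁻¹ᵁ W) le_rfl (f' ⁻¹ᵁ i.1) le_rfl
      (le_preimage' f g g' f' h i.2.2)
    rw [← Scheme.Hom.app_eq_appLE, ← Scheme.Hom.app_eq_appLE] at this
    exact (congrArg (fun ψ => ψ.hom m) this).symm

include h hf' in
/-- **flat descent of `O_Y = f_* O_X`** -/
theorem bijective_app (V : Y.Opens) : Function.Bijective (f.app V) := by
  haveI : IsIso (unitPush f) := by
    refine Groth.Agent.Lib.Helper28.TensorIso.isIso_of_bijective_on_basis _ (fun W => IsAffineOpen W) ?_ ?_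
    · intro U y hyU
      obtain ⟨W, hW, hyW, hle⟩ := Opens.isBasis_iff_nbhd.mp Y.isBasis_affineOpens hyU
      exact ⟨W, hW, hyW, hle⟩
    · intro W hW
      exact bijective_app_of_isAffineOpen f g g' f' h hf' hW
  exact app_bijective_of_isIso (unitPush f) V

end Affine

end Groth.Agent.Lib.Helper17.FlatDescBij
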