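import Groth.Agent.Lib.Helper17.FlatDict
import Mathlib
set_option backward.isDefEq.respectTransparency.types false
set_option autoImplicit false
universe u
open AlgebraicGeometry CategoryTheory Opposite TopologicalSpace TensorProduct CategoryTheory.Limits

/-!
# Flatness of an `O_X`-module (stalkwise, `FlatMod.IsFlat`) versus flatness of sections over affines
-/

namespace Groth.Agent.Lib.Helper17.FlatDict2

open Groth.Agent.Lib.Helper17.ModStalk Groth.Agent.Lib.Helper17.FlatDict

variable {X : Scheme.{u}}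

/-- flatness of the stalk over `O_{X,x}` is flatness over `Γ(X,U)` for any affine `U ∋ x`. -/
theorem isFlatAt_iff_flat_of_affine (F : X.Modules) (x : X) {U : X.Opens} (hU : IsAffineOpen U) (hx : x ∈ U) :
    letI := moduleStalkSections F U x hx
    FlatMod.IsFlatAt F x ↔ Module.Flat Γ(X, U) (F.presheaf.stalk x) := by
  letI := moduleStalkSections F U x hx
  letI alg : Algebra Γ(X, U) (X.presheaf.stalk x) := (X.presheaf.germ U x hx).hom.toAlgebra
  haveI : IsLocalization (hU.primeIdealOf ⟨x, hx⟩).asIdeal.primeCompl (X.presheaf.stalk x) :=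
    hU.isLocalization_stalk ⟨x, hx⟩
  haveI : IsScalarTower Γ(X, U) (X.presheaf.stalk x) (F.presheaf.stalk x) := IsScalarTower.of_compHom _ _ _
  exact Module.flat_iff_of_isLocalization (X.presheaf.stalk x)
    (hU.primeIdealOf ⟨x, hx⟩).asIdeal.primeCompl (F.presheaf.stalk x)

/-- **Flatness dictionary**: for `F` quasi-coherent and `U` affine, `Γ(F,U)` is flat over `Γ(X,U)` iff `F` is flat
at every point of `U`. -/
theorem flat_sections_iff_isFlatAt (F : X.Modules) [F.IsQuasicoherent] {U : X.Opens} (hU : IsAffineOpen U) :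
    Module.Flat Γ(X, U) Γ(F, U) ↔ ∀ x ∈ U, FlatMod.IsFlatAt F x := by
  constructor
  · intro h x hx
    letI := moduleStalkSections F U x hx
    letI alg : Algebra Γ(X, U) (X.presheaf.stalk x) := (X.presheaf.germ U x hx).hom.toAlgebra
    haveI : IsLocalization (hU.primeIdealOf ⟨x, hx⟩).asIdeal.primeCompl (X.presheaf.stalk x) :=
      hU.isLocalization_stalk ⟨x, hx⟩
    haveI : IsScalarTower Γ(X, U) (X.presheaf.stalk x) (F.presheaf.stalk x) := IsScalarTower.of_compHom _ _ _
    haveI := isLocalizedModule_germLinear F hU x hx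
    exact Module.Flat.of_isLocalizedModule (X.presheaf.stalk x)
      (hU.primeIdealOf ⟨x, hx⟩).asIdeal.primeCompl (germLinear F U x hx)
  · intro H
    let pt : ∀ (P : Ideal Γ(X, U)) [P.IsMaximal], X := fun P _ => hU.fromSpec ⟨P, inferInstance⟩
    have hpt : ∀ (P : Ideal Γ(X, U)) [P.IsMaximal], pt P ∈ U := fun P _ => by
      have : hU.fromSpec ⟨P, inferInstance⟩ ∈ Set.range hU.fromSpec := ⟨_, rfl⟩
      rw [hU.range_fromSpec] at this
      exact this
    letI mB : ∀ (P : Ideal Γ(X, U)) [P.IsMaximal], Module Γ(X, U) (F.presheaf.stalk (pt P)) :=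
      fun P _ => moduleStalkSections F U (pt P) (hpt P)
    haveI : ∀ (P : Ideal Γ(X, U)) [P.IsMaximal],
        IsLocalizedModule.AtPrime P (germLinear F U (pt P) (hpt P)) := fun P _ => by
      have h1 := isLocalizedModule_germLinear F hU (pt P) (hpt P)
      have h2 : hU.primeIdealOf ⟨pt P, hpt P⟩ = ⟨P, inferInstance⟩ :=
        primeIdealOf_fromSpec hU ⟨P, inferInstance⟩ (hpt P)
      rw [h2] at h1
      exact h1
    exact @Module.flat_of_isLocalized_maximal Γ(X, U) Γ(X, U) _ _ _ Γ(F, U) _ _ _ _
      (fun P _ => F.presheaf.stalk (pt P)) (fun P _ => inferInstance) (fun P _ => mB P) (fun P _ => mB P)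
      (fun P _ => inferInstance)
      (fun P _ => germLinear F U (pt P) (hpt P)) (fun P _ => this P)
      (fun P _ => (isFlatAt_iff_flat_of_affine F (pt P) hU (hpt P)).1 (H (pt P) (hpt P)))

end Groth.Agent.Lib.Helper17.FlatDict2
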