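import Groth.Agent.Lib.Helper28.PullbackInv
import Groth.Agent.Lib.Helper28.GenIso
import Groth.Agent.Lib.Helper28.TensorIso
import Groth.Agent.Lib.Helper29.FreeIso2
import Mathlib

/-!
# Frames (local bases) of modules and their inverse images

* `IsFrame L U γ`: the sections `γ j` over `U` freely generate `L` on every open of `U`.
* `IsFrame.coef`: coefficients with respect to a frame.
* `exists_isFrame_of_iso`: a trivialisation `L|_U ≅ O_U^n` gives a frame over `U`.
* `isFrame_pbs`: the inverse image of a frame is a frame.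
* `pbs_bijective`: if `f^♯` is bijective on all opens, `M(V) → (f^*M)(f⁻¹V)` is bijective for `V` inside a framed open.
* `isIso_unit_of_isFinLocFree`: if `f^♯` is bijective on all opens, then `M → f_* f^* M` is an isomorphism for `M`
  finite locally free.
-/

set_option backward.isDefEq.respectTransparency.types false
set_option autoImplicit false
universe u
open CategoryTheory CategoryTheory.Limits AlgebraicGeometry Opposite TopologicalSpace
noncomputable section

namespace Groth.Agent.Lib.Helper17.Frame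

open Groth.Agent.Lib.Helper28 Groth.Agent.Lib.Helper28.QCohLoc Groth.Agent.Lib.Helper28.GenLocus
open Groth.Agent.Lib.Helper28.PullbackInv

variable {X : Scheme.{u}}

/-- the sections `γ j` freely generate `L` over every open of `U` -/
def IsFrame (L : X.Modules) (U : X.Opens) {n : ℕ} (γ : Fin n → Γ(L, U)) : Prop :=
  ∀ (W : X.Opens) (hW : W ≤ U),
    Function.Bijective (fun c : Fin n → Γ(X, W) => (∑ j, c j • res L hW (γ j) : Γ(L, W)))

section Coef

variable {L : X.Modules} {U : X.Opens} {n : ℕ} {γ : Fin n → Γ(L, U)} (hγ : IsFrame L U γ)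

/-- the coefficients of a section with respect to a frame -/
def IsFrame.coef {V : X.Opens} (hV : V ≤ U) (x : Γ(L, V)) : Fin n → Γ(X, V) :=
  (Equiv.ofBijective _ (hγ V hV)).symm x

theorem IsFrame.coef_sum {V : X.Opens} (hV : V ≤ U) (x : Γ(L, V)) :
    (∑ j, hγ.coef hV x j • res L hV (γ j) : Γ(L, V)) = x :=
  (Equiv.ofBijective _ (hγ V hV)).apply_symm_apply x

theorem IsFrame.coef_eq {V : X.Opens} (hV : V ≤ U) (x : Γ(L, V)) (c : Fin n → Γ(X, V))
    (hc : (∑ j, c j • res L hV (γ j) : Γ(L, V)) = x) : hγ.coef hV x = c := by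
  apply (hγ V hV).1
  show (∑ j, hγ.coef hV x j • res L hV (γ j) : Γ(L, V)) = (∑ j, c j • res L hV (γ j) : Γ(L, V))
  rw [hγ.coef_sum, hc]

theorem IsFrame.coef_add {V : X.Opens} (hV : V ≤ U) (x y : Γ(L, V)) (j : Fin n) :
    hγ.coef hV (x + y) j = hγ.coef hV x j + hγ.coef hV y j := by
  have h : hγ.coef hV (x + y) = fun j => hγ.coef hV x j + hγ.coef hV y j := by
    apply hγ.coef_eq
    simp only [add_smul, Finset.sum_add_distrib, hγ.coef_sum]
  exact congrFun h j

theorem IsFrame.coef_smul_left {V : X.Opens} (hV : V ≤ U) (a : Γ(X, V)) (x : Γ(L, V)) (j : Fin n) :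
    hγ.coef hV (a • x : Γ(L, V)) j = a * hγ.coef hV x j := by
  have h : hγ.coef hV (a • x : Γ(L, V)) = fun j => a * hγ.coef hV x j := by
    apply hγ.coef_eq
    simp only [mul_smul, ← Finset.smul_sum, hγ.coef_sum]
  exact congrFun h j

theorem IsFrame.coef_res {V V' : X.Opens} (hV : V ≤ U) (h : V' ≤ V) (x : Γ(L, V)) (j : Fin n) :
    hγ.coef (h.trans hV) (res L h x) j = resO h (hγ.coef hV x j) := by
  have h' : hγ.coef (h.trans hV) (res L h x) = fun j => resO h (hγ.coef hV x j) := by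
    apply hγ.coef_eq
    have h1 := congrArg (res L h) (hγ.coef_sum hV x)
    rw [Groth.Agent.Lib.Helper29.FreeIso.res_sum_smul] at h1
    refine Eq.trans (Finset.sum_congr rfl fun j _ => ?_) h1
    rw [res_res]
  exact congrFun h' j

theorem IsFrame.coef_res_self {V : X.Opens} (hV : V ≤ U) (k j : Fin n) :
    hγ.coef hV (res L hV (γ k)) j = if j = k then 1 else 0 := by
  have h : hγ.coef hV (res L hV (γ k)) = fun j => if j = k then 1 else 0 := by
    apply hγ.coef_eq
    simp only [ite_smul, one_smul, zero_smul, Finset.sum_ite_eq', Finset.mem_univ, if_true]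
  exact congrFun h j

end Coef

/-- a trivialisation gives a frame -/
theorem exists_isFrame_of_iso (F : X.Modules) (U : X.Opens) (n : ℕ)
    (e : F.restrict U.ι ≅ FlatMod.freeMod (↑U) n) : ∃ γ : Fin n → Γ(F, U), IsFrame F U γ := by
  obtain ⟨τ, hτ, hgen⟩ := Groth.Agent.Lib.Helper29.FreeIso.exists_isBasisOn_of_iso' F U n e
  refine ⟨τ, fun W hW => ⟨?_, ?_⟩⟩
  · intro c c' hcc
    have h0 : (∑ j, (c j - c' j) • res F hW (τ j) : Γ(F, W)) = 0 := by
      simp only [sub_smul, Finset.sum_sub_distrib]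
      exact sub_eq_zero.2 hcc
    funext j
    exact sub_eq_zero.1 (hτ.1 W hW _ h0 j)
  · intro t
    obtain ⟨c, hc⟩ := hgen W hW t
    exact ⟨c, hc.symm⟩


section Gen

variable {Y : Scheme.{u}} {f : X ⟶ Y} {M : Y.Modules} {U : Y.Opens} {n : ℕ} {γ : Fin n → Γ(M, U)}
  (hγ : IsFrame M U γ)

/-- the `j`-th coefficient of `y` with respect to the frame `γ`, pulled back to `X` -/
def coefr (j : Fin n) (V : Y.Opens) (y : Γ(M, V)) : Γ(X, cut (f ⁻¹ᵁ U) (f ⁻¹ᵁ V)) :=
  resO (cut_le_preimage V) (f.app (V ⊓ U) (hγ.coef inf_le_right (res M inf_le_left y) j))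

theorem coefr_add (j : Fin n) (V : Y.Opens) (y y' : Γ(M, V)) :
    coefr (f := f) hγ j V (y + y') = coefr hγ j V y + coefr hγ j V y' := by
  unfold coefr
  rw [res_add, hγ.coef_add, map_add]
  exact map_add _ _ _

theorem coefr_smul (j : Fin n) (V : Y.Opens) (a : Γ(Y, V)) (y : Γ(M, V)) :
    coefr (f := f) hγ j V (a • y : Γ(M, V)) = resO (cut_le_left _ _) (f.app V a) * coefr hγ j V y := by
  unfold coefr
  rw [res_smul, hγ.coef_smul_left, map_mul, app_resO, resO_mul, resO_resO]

theorem coefr_res (j : Fin n) {V V' : Y.Opens} (h : V' ≤ V) (y : Γ(M, V)) :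
    coefr (f := f) hγ j V' (res M h y) = resO (cut_mono _ (f.preimage_mono h)) (coefr hγ j V y) := by
  unfold coefr
  have h1 : res M (inf_le_left : V' ⊓ U ≤ V') (res M h y) =
      res M (inf_le_inf_right U h) (res M (inf_le_left : V ⊓ U ≤ V) y) := by
    rw [res_res, res_res]
  rw [h1, hγ.coef_res inf_le_right (inf_le_inf_right U h), app_resO, resO_resO, resO_resO]

theorem coefr_self (j k : Fin n) : coefr (f := f) hγ j U (γ k) = if j = k then 1 else 0 := by
  unfold coefr
  rw [hγ.coef_res_self]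
  split_ifs
  · rw [map_one]; exact map_one _
  · rw [map_zero]; exact map_zero _

/-- the coefficient morphism `M ⟶ f_* j_* O` -/
def coefData (j : Fin n) :
    LocalHomData M ((Scheme.Modules.pushforward f).obj (cutMod (f ⁻¹ᵁ U) (Coh.structureModule X))) where
  B := fun _ => True
  down := fun _ _ _ _ => trivial
  cov := fun _ => ⟨⊤, trivial, trivial⟩
  φ := fun V _ y => coefr hγ j V y
  add := fun V _ y y' => coefr_add hγ j V y y'
  smul := fun V _ a y => by
    refine (coefr_smul hγ j V a y).trans ?_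
    exact (cutMod_smul (f ⁻¹ᵁ U) (Coh.structureModule X) (f.app V a) (coefr hγ j V y)).symm
  nat := fun V _ V' h y => coefr_res hγ j h y

/-- the morphism `f^* M ⟶ j_* O` dual to `pbs (γ j)` -/
def dualHom (j : Fin n) : (Scheme.Modules.pullback f).obj M ⟶ cutMod (f ⁻¹ᵁ U) (Coh.structureModule X) :=
  pbLift f (coefData (f := f) hγ j).hom

theorem dualHom_pbs (j : Fin n) (V : Y.Opens) (y : Γ(M, V)) :
    (dualHom (f := f) hγ j).app (f ⁻¹ᵁ V) (pbs f M V y) = coefr hγ j V y := by
  unfold dualHom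
  rw [pbLift_pbs]
  exact (coefData (f := f) hγ j).hom_app V trivial y

/-- the `j`-th dual coordinate of `z` as a function on `W ∩ f⁻¹U` -/
def dualr (j : Fin n) (W : X.Opens) (z : Γ((Scheme.Modules.pullback f).obj M, W)) : Γ(X, cut (f ⁻¹ᵁ U) W) :=
  (dualHom (f := f) hγ j).app W z

theorem dualr_add (j : Fin n) (W : X.Opens) (z z' : Γ((Scheme.Modules.pullback f).obj M, W)) :
    dualr (f := f) hγ j W (z + z') = dualr hγ j W z + dualr hγ j W z' := by
  unfold dualr
  rw [map_add]
  rfl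

theorem dualr_smul (j : Fin n) (W : X.Opens) (b : Γ(X, W)) (z : Γ((Scheme.Modules.pullback f).obj M, W)) :
    dualr (f := f) hγ j W (b • z : Γ((Scheme.Modules.pullback f).obj M, W)) =
      resO (cut_le_left _ _) b * dualr hγ j W z := by
  unfold dualr
  rw [Scheme.Modules.Hom.app_smul, cutMod_smul]
  rfl

theorem dualr_res (j : Fin n) {W W' : X.Opens} (h : W' ≤ W) (z : Γ((Scheme.Modules.pullback f).obj M, W)) :
    dualr (f := f) hγ j W' (res _ h z) = resO (cut_mono _ h) (dualr hγ j W z) := by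
  unfold dualr
  rw [app_res, cutMod_res]
  rfl

theorem dualr_pbs (j : Fin n) (V : Y.Opens) (y : Γ(M, V)) :
    dualr (f := f) hγ j (f ⁻¹ᵁ V) (pbs f M V y) = coefr hγ j V y :=
  dualHom_pbs hγ j V y

theorem dualr_zero (j : Fin n) (W : X.Opens) : dualr (f := f) hγ j W 0 = 0 := by
  have h := dualr_add (f := f) hγ j W 0 0
  rw [add_zero] at h
  exact left_eq_add.1 h

theorem dualr_sum (j : Fin n) (W : X.Opens) {ι : Type*} (s : Finset ι)
    (z : ι → Γ((Scheme.Modules.pullback f).obj M, W)) :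
    dualr (f := f) hγ j W (∑ i ∈ s, z i) = ∑ i ∈ s, dualr hγ j W (z i) := by
  classical
  induction s using Finset.induction_on with
  | empty => simp only [Finset.sum_empty]; exact dualr_zero hγ j W
  | insert a s ha ih => rw [Finset.sum_insert ha, Finset.sum_insert ha, dualr_add, ih]

/-- `z ↦ ∑ j, ψ_j(z) • pbs (γ j)` -/
def betaφ (W : X.Opens) (z : Γ((Scheme.Modules.pullback f).obj M, W)) :
    Γ((Scheme.Modules.pullback f).obj M, cut (f ⁻¹ᵁ U) W) :=
  (∑ j, dualr (f := f) hγ j W z • res _ (cut_le_right (f ⁻¹ᵁ U) W) (pbs f M U (γ j)) :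
    Γ((Scheme.Modules.pullback f).obj M, cut (f ⁻¹ᵁ U) W))

theorem betaφ_add (W : X.Opens) (z z' : Γ((Scheme.Modules.pullback f).obj M, W)) :
    betaφ (f := f) hγ W (z + z') = betaφ hγ W z + betaφ hγ W z' := by
  unfold betaφ
  simp only [dualr_add, add_smul, Finset.sum_add_distrib]

theorem betaφ_smul (W : X.Opens) (b : Γ(X, W)) (z : Γ((Scheme.Modules.pullback f).obj M, W)) :
    betaφ (f := f) hγ W (b • z : Γ((Scheme.Modules.pullback f).obj M, W)) =
      (resO (cut_le_left (f ⁻¹ᵁ U) W) b • betaφ hγ W z :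
        Γ((Scheme.Modules.pullback f).obj M, cut (f ⁻¹ᵁ U) W)) := by
  unfold betaφ
  simp only [dualr_smul, mul_smul, ← Finset.smul_sum]

theorem betaφ_res {W W' : X.Opens} (h : W' ≤ W) (z : Γ((Scheme.Modules.pullback f).obj M, W)) :
    betaφ (f := f) hγ W' (res _ h z) = res _ (cut_mono _ h) (betaφ hγ W z) := by
  unfold betaφ
  rw [Groth.Agent.Lib.Helper29.FreeIso.res_sum_smul]
  refine Finset.sum_congr rfl fun j _ => ?_
  rw [dualr_res, res_res]

/-- `z ↦ ∑ j, ψ_j(z) • pbs (γ j)` as local data -/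
def cutBeta : LocalHomData ((Scheme.Modules.pullback f).obj M)
    (cutMod (f ⁻¹ᵁ U) ((Scheme.Modules.pullback f).obj M)) where
  B := fun _ => True
  down := fun _ _ _ _ => trivial
  cov := fun _ => ⟨⊤, trivial, trivial⟩
  φ := fun W _ z => betaφ hγ W z
  add := fun W _ z z' => betaφ_add hγ W z z'
  smul := fun W _ b z => by
    refine (betaφ_smul hγ W b z).trans ?_
    exact (cutMod_smul (f ⁻¹ᵁ U) _ b (betaφ hγ W z)).symm
  nat := fun W _ W' h z => betaφ_res hγ h z

theorem pbs_sum (V : Y.Opens) {ι : Type*} (s : Finset ι) (y : ι → Γ(M, V)) :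
    pbs f M V (∑ i ∈ s, y i) = ∑ i ∈ s, pbs f M V (y i) := by
  unfold pbs
  exact map_sum _ _ _

theorem cutUnit_eq_cutBeta :
    (cutUnit (f ⁻¹ᵁ U) ((Scheme.Modules.pullback f).obj M)).hom = (cutBeta (f := f) hγ).hom := by
  apply pb_hom_ext
  intro V y
  rw [(cutUnit (f ⁻¹ᵁ U) ((Scheme.Modules.pullback f).obj M)).hom_app _ trivial,
    (cutBeta (f := f) hγ).hom_app _ trivial]
  show res _ (cut_le_left (f ⁻¹ᵁ U) (f ⁻¹ᵁ V)) (pbs f M V y) = betaφ hγ (f ⁻¹ᵁ V) (pbs f M V y)
  unfold betaφ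
  simp only [dualr_pbs]
  unfold coefr
  have h1 : res M (inf_le_left : V ⊓ U ≤ V) y =
      (∑ j, hγ.coef inf_le_right (res M inf_le_left y) j • res M (inf_le_right : V ⊓ U ≤ U) (γ j) :
        Γ(M, V ⊓ U)) :=
    (hγ.coef_sum inf_le_right _).symm
  have h2 := congrArg (pbs f M (V ⊓ U)) h1
  rw [pbs_sum, pbs_res] at h2
  have h3 := congrArg (res _ (cut_le_preimage (f := f) (U := U) V)) h2
  rw [res_res] at h3
  refine h3.trans ?_
  have h4 : ∀ j, pbs f M (V ⊓ U) (hγ.coef inf_le_right (res M inf_le_left y) j •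
      res M (inf_le_right : V ⊓ U ≤ U) (γ j) : Γ(M, V ⊓ U)) =
      (f.app (V ⊓ U) (hγ.coef inf_le_right (res M inf_le_left y) j) •
        res _ (f.preimage_mono (inf_le_right : V ⊓ U ≤ U)) (pbs f M U (γ j)) :
        Γ((Scheme.Modules.pullback f).obj M, f ⁻¹ᵁ (V ⊓ U))) := by
    intro j
    rw [pbs_smul, pbs_res]
  simp only [h4]
  rw [Groth.Agent.Lib.Helper29.FreeIso.res_sum_smul]
  refine Finset.sum_congr rfl fun j _ => ?_
  rw [res_res]

include hγ in
/-- **the inverse image of a frame is a frame** -/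
theorem isFrame_pbs : IsFrame ((Scheme.Modules.pullback f).obj M) (f ⁻¹ᵁ U) (fun j => pbs f M U (γ j)) := by
  intro W hW
  have e : cut (f ⁻¹ᵁ U) W = W := cut_eq _ hW
  have hle : W ≤ cut (f ⁻¹ᵁ U) W := le_of_eq e.symm
  have hone : ∀ j k, dualr (f := f) hγ j W (res _ hW (pbs f M U (γ k))) = if j = k then 1 else 0 := by
    intro j k
    rw [dualr_res, dualr_pbs, coefr_self]
    split_ifs
    · exact map_one _
    · exact map_zero _
  have hself : ∀ c : Γ(X, W), resO hle (resO (cut_le_left (f ⁻¹ᵁ U) W) c) = c := by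
    intro c
    rw [resO_resO]
    exact Groth.Agent.Lib.Helper29.FreeIso.resO_self' c
  constructor
  · intro c c' hcc
    have hd : (∑ k, (c k - c' k) • res _ hW (pbs f M U (γ k)) :
        Γ((Scheme.Modules.pullback f).obj M, W)) = 0 := by
      simp only [sub_smul, Finset.sum_sub_distrib]
      exact sub_eq_zero.2 hcc
    funext j
    have h1 := congrArg (dualr (f := f) hγ j W) hd
    rw [dualr_sum, dualr_zero] at h1
    simp only [dualr_smul, hone, mul_ite, mul_one, mul_zero, Finset.sum_ite_eq, Finset.mem_univ, if_true] at h1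
    have h2 := congrArg (resO hle) h1
    rw [hself, resO_zero] at h2
    exact sub_eq_zero.1 h2
  · intro z
    have h1 := congrArg (fun θ => (Scheme.Modules.Hom.app θ W) z) (cutUnit_eq_cutBeta (f := f) hγ)
    have h2 : res _ (cut_le_left (f ⁻¹ᵁ U) W) z = betaφ hγ W z := by
      have ha := (cutUnit (f ⁻¹ᵁ U) ((Scheme.Modules.pullback f).obj M)).hom_app W trivial z
      have hb := (cutBeta (f := f) hγ).hom_app W trivial z
      exact ha.symm.trans (h1.trans hb)
    have h3 := congrArg (res _ hle) h2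
    unfold betaφ at h3
    rw [res_res, res_self, Groth.Agent.Lib.Helper29.FreeIso.res_sum_smul] at h3
    refine ⟨fun j => resO hle (dualr hγ j W z), ?_⟩
    refine Eq.trans (Finset.sum_congr rfl fun j _ => ?_) h3.symm
    rw [res_res]

end Gen


section Unit

variable {Y : Scheme.{u}} (f : X ⟶ Y) {M : Y.Modules} {U : Y.Opens} {n : ℕ} {γ : Fin n → Γ(M, U)}
  (hγ : IsFrame M U γ)

theorem pbs_eq_sum (V : Y.Opens) (hV : V ≤ U) (y : Γ(M, V)) :
    pbs f M V y = (∑ j, f.app V (hγ.coef hV y j) • res _ (f.preimage_mono hV) (pbs f M U (γ j)) :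
      Γ((Scheme.Modules.pullback f).obj M, f ⁻¹ᵁ V)) := by
  conv_lhs => rw [← hγ.coef_sum hV y]
  rw [pbs_sum]
  refine Finset.sum_congr rfl fun j _ => ?_
  rw [pbs_smul, pbs_res]

include hγ in
/-- if `f^♯` is bijective on all opens, `M(V) → (f^* M)(f⁻¹ V)` is bijective for `V` inside a framed open -/
theorem pbs_bijective (hf : ∀ V : Y.Opens, Function.Bijective (f.app V)) (V : Y.Opens) (hV : V ≤ U) :
    Function.Bijective (pbs f M V) := by
  have hF := isFrame_pbs (f := f) hγ (f ⁻¹ᵁ V) (f.preimage_mono hV)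
  have hfun : pbs f M V =
      (fun c : Fin n → Γ(X, f ⁻¹ᵁ V) => (∑ j, c j • res _ (f.preimage_mono hV) (pbs f M U (γ j)) :
        Γ((Scheme.Modules.pullback f).obj M, f ⁻¹ᵁ V))) ∘
      (fun c : Fin n → Γ(Y, V) => fun j => f.app V (c j)) ∘ (hγ.coef hV) := by
    funext y
    exact pbs_eq_sum f hγ V hV y
  rw [hfun]
  refine hF.comp (Function.Bijective.comp ?_ ?_)
  · constructor
    · intro c c' h
      funext j
      exact (hf V).1 (congrFun h j)
    · intro d
      choose c hc using fun j => (hf V).2 (d j)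
      exact ⟨c, funext hc⟩
  · exact (Equiv.ofBijective _ (hγ V hV)).symm.bijective

/-- **if `O_Y → f_* O_X` is bijective on all opens, then `M → f_* f^* M` is an isomorphism for `M` finite
locally free** -/
theorem isIso_unit_of_isFinLocFree (hf : ∀ V : Y.Opens, Function.Bijective (f.app V)) (M : Y.Modules)
    (hM : FlatMod.IsFinLocFree M) :
    IsIso ((Scheme.Modules.pullbackPushforwardAdjunction f).unit.app M) := by
  refine Groth.Agent.Lib.Helper28.TensorIso.isIso_of_bijective_on_basis _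
    (fun V => ∃ (U : Y.Opens) (n : ℕ) (γ : Fin n → Γ(M, U)), IsFrame M U γ ∧ V ≤ U) ?_ ?_
  · intro V x hx
    obtain ⟨U, n, hxU, ⟨e⟩⟩ := hM x
    obtain ⟨γ, hγ⟩ := exists_isFrame_of_iso M U n e
    exact ⟨V ⊓ U, ⟨U, n, γ, hγ, inf_le_right⟩, ⟨hx, hxU⟩, inf_le_left⟩
  · rintro W ⟨U, n, γ, hγ, hWU⟩
    exact pbs_bijective f hγ hf W hWU

end Unit

end Groth.Agent.Lib.Helper17.Frame
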