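import Groth.Agent.Lib.Helper17.SForm
import Groth.Agent.Lib.Helper28.FinType
import Groth.Agent.Lib.Helper29.QCohStalk
import Mathlib
set_option backward.isDefEq.respectTransparency.types false
set_option autoImplicit false

/-!
# Sections of negative twists: chart-level arguments

`F ⊗ M^n` is the twist of `F` by `M` of degree `n`; a form `f` of degree `m` on `M` gives "multiplication" maps
`F ⊗ M^(n + m j) ⟶ F ⊗ M^n`.  If `f` is invertible at the associated points of `F`, these maps are injective on global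
sections, and a global section divisible by all powers of `f` is supported in the locus where `f` is invertible
(Krull's intersection theorem).
-/

universe u
open CategoryTheory CategoryTheory.Limits AlgebraicGeometry Opposite TopologicalSpace
noncomputable section

namespace Groth.Agent.Lib.Helper17.H0Neg

open Groth.Agent.Lib.Helper28 Groth.Agent.Lib.Helper28.QCohLoc Groth.Agent.Lib.Helper28.TensorGen
  Groth.Agent.Lib.Helper28.GenLocus Groth.Agent.Lib.Helper17.TwHom Groth.Agent.Lib.Helper29.QCohStalk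

theorem exists_smul_eq_self_of_divisible {R N : Type*} [CommRing R] [IsNoetherianRing R] [AddCommGroup N]
    [Module R N] [Module.Finite R N] (f : R) (x : N) (h : ∀ j : ℕ, ∃ xj : N, x = f ^ j • xj) :
    ∃ a : R, (a * f) • x = x := by
  have hx : x ∈ (⨅ i : ℕ, (Ideal.span {f}) ^ i • ⊤ : Submodule R N) := by
    rw [Submodule.mem_iInf]
    intro i
    obtain ⟨xi, hxi⟩ := h i
    rw [hxi]
    exact Submodule.smul_mem_smul (Ideal.pow_mem_pow (Ideal.mem_span_singleton_self f) i) Submodule.mem_top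
  obtain ⟨r, hr⟩ := (Ideal.mem_iInf_smul_pow_eq_bot_iff _ x).1 hx
  obtain ⟨a, ha⟩ := Ideal.mem_span_singleton'.1 r.2
  exact ⟨a, by rw [ha]; exact hr⟩

variable {X : Scheme.{u}}

theorem exists_chart {M : X.Modules} (hM : PicF.IsInvertible M) (z : X) :
    ∃ (W : X.Opens) (g : Γ(M, W)), z ∈ W ∧ IsAffineOpen W ∧ IsGen M W g := by
  obtain ⟨U, g, hxU, hg⟩ := exists_isGen M hM z
  obtain ⟨_, ⟨V, hV, rfl⟩, hxV, hVU⟩ := X.isBasis_affineOpens.exists_subset_of_mem_open hxU U.isOpen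
  exact ⟨V, QCohLoc.res M (show V ≤ U from hVU) g, hxV, hV, hg.res _⟩

section Defs
variable (F M : X.Modules)

/-- the twist `F ⊗ M^n` -/
abbrev Pn (n : ℕ) : X.Modules := CohB1.tensorMod F (CohB1.tensorPow M n)

/-- the standard twisting maps -/
def Θn (n : ℕ) (W : X.Opens) (g : Γ(M, W)) (x : Γ(F, W)) : Γ(Pn F M n, W) :=
  tmulSec F (CohB1.tensorPow M n) x (gpow M g n)

theorem isTwist_Pn (n : ℕ) : IsTwist F M (0 + n) (Pn F M n) (Θn F M n) :=
  (IsTwist.refl F M).tensorPow n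

end Defs

variable {F M : X.Modules} {m : ℕ} {f : ∀ W : X.Opens, Γ(M, W) → Γ(X, W)} {S : X.Opens}

/-- the multiplication maps -/
theorem exists_mu (hM : PicF.IsInvertible M) (hf : IsForm M m f) (n j : ℕ) :
    ∃ μ : Pn F M (n + m * j) ⟶ Pn F M n, ∀ (W : X.Opens) (g : Γ(M, W)), IsGen M W g → ∀ x : Γ(F, W),
      μ.app W (Θn F M (n + m * j) W g x) = Θn F M n W g ((f W g ^ j • x : Γ(F, W))) := by
  have hsrc : IsTwist F M (0 + n + m * j) (Pn F M (n + m * j)) (Θn F M (n + m * j)) :=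
    (isTwist_Pn F M (n + m * j)).congr_deg (by omega)
  have hdst := (IsTwist.isPreTwist (isTwist_Pn F M n)).form (hf.pow j)
  exact exists_hom hsrc hdst hM

/-- the hypotheses on the form: it cuts out `S` and `S` contains the associated points of `F` -/
structure Good (F M : X.Modules) (m : ℕ) (f : ∀ W : X.Opens, Γ(M, W) → Γ(X, W)) (S : X.Opens) : Prop where
  form : IsForm M m f
  loc : ∀ (W : X.Opens) (g : Γ(M, W)), IsGen M W g → ∀ y ∈ W, (y ∈ S ↔ y ∈ X.basicOpen (f W g))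
  ass : ∀ y : X, Curv2.IsWeakAssPoint F y → y ∈ S

theorem Good.nzd [F.IsQuasicoherent] (hG : Good F M m f S) {W : X.Opens} (hW : IsAffineOpen W) {g : Γ(M, W)}
    (hg : IsGen M W g) (j : ℕ) (x : Γ(F, W)) (h : (f W g ^ j • x : Γ(F, W)) = 0) : x = 0 := by
  by_contra hx
  obtain ⟨y, hy, hw, hne⟩ := exists_isWeakAssPoint_of_ne_zero hW (isLocOn_of_isQuasicoherent F hW) x hx
  have hyB := (hG.loc W g hg y hy).1 (hG.ass y hw)
  have hu : IsUnit (X.presheaf.germ W y hy (f W g)) := (Scheme.mem_basicOpen _ _ _ hy).1 hyB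
  apply hne
  have h1 := congrArg (gm F W y hy) h
  rw [gm_smul, gm_zero, map_pow] at h1
  exact eq_zero_of_isUnit_smul (hu.pow j) h1

theorem Θn_zero (n : ℕ) (W : X.Opens) (g : Γ(M, W)) : Θn F M n W g 0 = 0 :=
  (isTwist_Pn F M n).map_zero W g

/-- injectivity on global sections -/
theorem eq_zero_of_mu_app_eq_zero [F.IsQuasicoherent] (hM : PicF.IsInvertible M) (hG : Good F M m f S) (n j : ℕ)
    (μ : Pn F M (n + m * j) ⟶ Pn F M n)
    (hμ : ∀ (W : X.Opens) (g : Γ(M, W)), IsGen M W g → ∀ x : Γ(F, W),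
      μ.app W (Θn F M (n + m * j) W g x) = Θn F M n W g ((f W g ^ j • x : Γ(F, W))))
    (t : Γ(Pn F M (n + m * j), ⊤)) (ht : μ.app ⊤ t = 0) : t = 0 := by
  choose W g hzW hW hg using exists_chart hM
  refine eq_of_locally_eq (Pn F M (n + m * j)) W ⊤ (fun _ => le_top)
    (fun z _ => Opens.mem_iSup.2 ⟨z, hzW z⟩) t 0 ?_
  intro z
  obtain ⟨x, hx⟩ := ((isTwist_Pn F M (n + m * j)).bij (W z) (g z) (hg z)).2
    (res (Pn F M (n + m * j)) (le_top : W z ≤ ⊤) t)
  have h1 : μ.app (W z) (res (Pn F M (n + m * j)) (le_top : W z ≤ ⊤) t) = 0 := by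
    rw [app_res, ht, res_zero]
  rw [← hx, hμ (W z) (g z) (hg z)] at h1
  have h2 : (f (W z) (g z) ^ j • x : Γ(F, W z)) = 0 := by
    apply ((isTwist_Pn F M n).bij (W z) (g z) (hg z)).1
    show Θn F M n (W z) (g z) _ = Θn F M n (W z) (g z) 0
    rw [h1, Θn_zero]
  have h3 := hG.nzd (hW z) (hg z) j x h2
  rw [res_zero, ← hx, h3, Θn_zero]

/-- divisibility of a global section of `F ⊗ M^n` by all powers of the form -/
def Divisible (F M : X.Modules) (m : ℕ) (f : ∀ W : X.Opens, Γ(M, W) → Γ(X, W)) (n : ℕ)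
    (t : Γ(Pn F M n, ⊤)) : Prop :=
  ∀ j : ℕ, ∃ (μ : Pn F M (n + m * j) ⟶ Pn F M n) (tj : Γ(Pn F M (n + m * j), ⊤)),
    (∀ (W : X.Opens) (g : Γ(M, W)), IsGen M W g → ∀ x : Γ(F, W),
      μ.app W (Θn F M (n + m * j) W g x) = Θn F M n W g ((f W g ^ j • x : Γ(F, W)))) ∧ μ.app ⊤ tj = t

theorem Divisible.exists_smul_eq_self [IsLocallyNoetherian X] [F.IsQuasicoherent]
    [SheafOfModules.IsFiniteType.{u} (R := X.ringCatSheaf) F] {n : ℕ} {t : Γ(Pn F M n, ⊤)}
    (hdiv : Divisible F M m f n t) {W : X.Opens} (hW : IsAffineOpen W) {g : Γ(M, W)} (hg : IsGen M W g)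
    (x : Γ(F, W)) (hx : Θn F M n W g x = res (Pn F M n) (le_top : W ≤ ⊤) t) :
    ∃ a : Γ(X, W), ((a * f W g) • x : Γ(F, W)) = x := by
  haveI : IsNoetherianRing Γ(X, W) := IsLocallyNoetherian.component_noetherian ⟨W, hW⟩
  haveI : Module.Finite Γ(X, W) Γ(F, W) := FinType.finite_of_isAffineOpen F hW
  apply exists_smul_eq_self_of_divisible
  intro j
  obtain ⟨μ, tj, hμ, htj⟩ := hdiv j
  obtain ⟨xj, hxj⟩ := ((isTwist_Pn F M (n + m * j)).bij W g hg).2
    (res (Pn F M (n + m * j)) (le_top : W ≤ ⊤) tj)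
  refine ⟨xj, ?_⟩
  apply ((isTwist_Pn F M n).bij W g hg).1
  show Θn F M n W g x = Θn F M n W g (f W g ^ j • xj : Γ(F, W))
  rw [hx, ← hμ W g hg, hxj, app_res, htj]

/-- a divisible section vanishes near every point outside `S` -/
theorem Divisible.exists_res_eq_zero [IsLocallyNoetherian X] [F.IsQuasicoherent]
    [SheafOfModules.IsFiniteType.{u} (R := X.ringCatSheaf) F] (hM : PicF.IsInvertible M)
    (hG : Good F M m f S) {n : ℕ} {t : Γ(Pn F M n, ⊤)}
    (hdiv : Divisible F M m f n t) (z : X) (hz : z ∉ S) :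
    ∃ N : X.Opens, z ∈ N ∧ res (Pn F M n) (le_top : N ≤ ⊤) t = 0 := by
  obtain ⟨W, g, hzW, hW, hg⟩ := exists_chart hM z
  obtain ⟨x, hx⟩ := ((isTwist_Pn F M n).bij W g hg).2 (res (Pn F M n) (le_top : W ≤ ⊤) t)
  obtain ⟨a, ha⟩ := hdiv.exists_smul_eq_self hW hg x hx
  have hzB : z ∉ X.basicOpen (f W g) := fun h => hz ((hG.loc W g hg z hzW).2 h)
  have hnu : ¬ IsUnit (X.presheaf.germ W z hzW (f W g)) := fun h => hzB ((Scheme.mem_basicOpen _ _ _ hzW).2 h)
  set u : Γ(X, W) := 1 - a * f W g with hu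
  have hzu : z ∈ X.basicOpen u := by
    rw [Scheme.mem_basicOpen _ _ _ hzW, hu, map_sub, map_one, map_mul]
    exact IsLocalRing.isUnit_one_sub_self_of_mem_nonunits _ (mul_mem_nonunits_right hnu)
  have hux : (u • x : Γ(F, W)) = 0 := by
    rw [hu, sub_smul, one_smul, ha, sub_self]
  have hle : X.basicOpen u ≤ W := X.basicOpen_le u
  have hunit : IsUnit (resO hle u) := isUnit_resO_of_le_basicOpen u le_rfl
  have hx0 : res F hle x = 0 := by
    have := congrArg (res F hle) hux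
    rw [res_smul, res_zero] at this
    exact eq_zero_of_isUnit_smul hunit this
  refine ⟨X.basicOpen u, hzu, ?_⟩
  have h1 : res (Pn F M n) (le_top : X.basicOpen u ≤ ⊤) t =
      res (Pn F M n) hle (res (Pn F M n) (le_top : W ≤ ⊤) t) := (res_res _ _ _ _).symm
  rw [h1, ← hx, (isTwist_Pn F M n).res, hx0, Θn_zero]

/-- **a nonzero divisible section produces an associated point of `F` whose closure lies in `S`** -/
theorem Divisible.exists_assPoint [IsLocallyNoetherian X] [F.IsQuasicoherent]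
    [SheafOfModules.IsFiniteType.{u} (R := X.ringCatSheaf) F] (hM : PicF.IsInvertible M)
    (hG : Good F M m f S) {n : ℕ} {t : Γ(Pn F M n, ⊤)}
    (hdiv : Divisible F M m f n t) (ht : t ≠ 0) :
    ∃ y : X, Curv2.IsWeakAssPoint F y ∧ closure ({y} : Set X) ⊆ S := by
  choose W g hzW hW hg using exists_chart hM
  have hex : ∃ z : X, res (Pn F M n) (le_top : W z ≤ ⊤) t ≠ 0 := by
    by_contra hcon
    simp only [not_exists, not_not] at hcon
    apply ht
    refine eq_of_locally_eq (Pn F M n) W ⊤ (fun _ => le_top)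
      (fun z _ => Opens.mem_iSup.2 ⟨z, hzW z⟩) t 0 ?_
    intro z
    rw [hcon z, res_zero]
  obtain ⟨z₀, hz₀⟩ := hex
  obtain ⟨x, hx⟩ := ((isTwist_Pn F M n).bij (W z₀) (g z₀) (hg z₀)).2 (res (Pn F M n) (le_top : W z₀ ≤ ⊤) t)
  have hx0 : x ≠ 0 := by
    rintro rfl
    apply hz₀
    rw [← hx, Θn_zero]
  obtain ⟨y, hy, hw, hne⟩ := exists_isWeakAssPoint_of_ne_zero (hW z₀)
    (isLocOn_of_isQuasicoherent F (hW z₀)) x hx0
  refine ⟨y, hw, ?_⟩
  intro z hz
  by_contra hzS
  obtain ⟨N, hzN, hN⟩ := hdiv.exists_res_eq_zero hM hG z hzS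
  have hyN : y ∈ N := by
    obtain ⟨y', hy'N, hy'⟩ := mem_closure_iff.1 hz N N.isOpen hzN
    rw [Set.mem_singleton_iff] at hy'
    rw [← hy']
    exact hy'N
  apply hne
  have hle : N ⊓ W z₀ ≤ W z₀ := inf_le_right
  have h1 : res (Pn F M n) hle (res (Pn F M n) (le_top : W z₀ ≤ ⊤) t) = 0 := by
    have : res (Pn F M n) hle (res (Pn F M n) (le_top : W z₀ ≤ ⊤) t) =
        res (Pn F M n) (inf_le_left : N ⊓ W z₀ ≤ N) (res (Pn F M n) (le_top : N ≤ ⊤) t) := by
      rw [res_res, res_res]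
    rw [this, hN, res_zero]
  rw [← hx, (isTwist_Pn F M n).res] at h1
  have h2 : res F hle x = 0 := by
    apply ((isTwist_Pn F M n).bij _ _ ((hg z₀).res hle)).1
    show Θn F M n _ _ _ = Θn F M n _ _ 0
    rw [h1, Θn_zero]
  have h3 := gm_res F hle y ⟨hyN, hy⟩ x
  rw [h2, gm_zero] at h3
  exact h3.symm

end Groth.Agent.Lib.Helper17.H0Neg
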