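import Groth.Agent.Lib.Helper17.TowA
import Groth.Agent.Lib.Helper17.PullTwist
import Groth.Agent.Lib.Helper17.ClosedUnit
import Groth.Agent.Lib.Helper17.Serre
import Groth.Agent.Lib.Helper17.InvDescLoc
import Groth.Agent.Lib.Helper28.AmpleH1A
import Groth.Agent.Lib.Helper28.ModExact
import Groth.Prelude.Def_ClSub2
import Mathlib
set_option backward.isDefEq.respectTransparency.types false
set_option autoImplicit false
universe u
open AlgebraicGeometry CategoryTheory Opposite TopologicalSpace CategoryTheory.Limits

namespace Groth.Agent.Lib.Helper17.SqZero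
open Scheme.Modules
open Groth.Agent.Lib.Helper17.PullbackBC
open Groth.Agent.Lib.Helper28.PullbackInv Groth.Agent.Lib.Helper28.QCohLoc
open Groth.Agent.Lib.Helper28.GenLocus

variable {X : Scheme.{u}} (I : X.IdealSheafData)


theorem toSubscheme_app (W : X.Opens) (c : Γ(X, W)) :
    (ClSub.toSubscheme I).app W c = (I.subschemeι.app W).hom c := rfl

theorem app_idealModι (W : X.Opens) (x : Γ(ClSub.idealMod I, W)) :
    (I.subschemeι.app W).hom ((ClSub.idealModι I).app W x) = 0 := by
  have := congrArg (fun φ => Scheme.Modules.Hom.app φ W x) (kernel.condition (ClSub.toSubscheme I))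
  exact this

theorem exists_idealModι_eq (W : X.Opens) (c : Γ(X, W)) (hc : (I.subschemeι.app W).hom c = 0) :
    ∃ x : Γ(ClSub.idealMod I, W), (ClSub.idealModι I).app W x = c :=
  Groth.Agent.Lib.Helper28.AmpleH1.exists_app_eq_of_exact (kernel.ι (ClSub.toSubscheme I)) (ClSub.toSubscheme I)
    (kernel.condition _) (ShortComplex.kernelSequence_exact _) W c hc

theorem idealModι_injective (W : X.Opens) : Function.Injective ((ClSub.idealModι I).app W) :=
  injective_of_mono (kernel.ι (ClSub.toSubscheme I)) inferInstance W


/-! ### the kernel of the unit -/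

variable (N : X.Modules)

/-- the unit `N ⟶ i_* i^* N` -/
noncomputable abbrev un : N ⟶ (Scheme.Modules.pushforward I.subschemeι).obj ((Scheme.Modules.pullback I.subschemeι).obj N) :=
  (Scheme.Modules.pullbackPushforwardAdjunction I.subschemeι).unit.app N

/-- the kernel `I N` of the unit -/
noncomputable abbrev KK : X.Modules := kernel (un I N)

theorem un_app (W : X.Opens) (m : Γ(N, W)) : (un I N).app W m = pbs I.subschemeι N W m := rfl

theorem un_app_kernel (W : X.Opens) (k : Γ(KK I N, W)) :
    pbs I.subschemeι N W ((kernel.ι (un I N)).app W k) = 0 := by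
  have := congrArg (fun φ => Scheme.Modules.Hom.app φ W k) (kernel.condition (un I N))
  exact this

theorem exists_kernel_eq (W : X.Opens) (m : Γ(N, W)) (hm : pbs I.subschemeι N W m = 0) :
    ∃ k : Γ(KK I N, W), (kernel.ι (un I N)).app W k = m :=
  Groth.Agent.Lib.Helper28.AmpleH1.exists_app_eq_of_exact (kernel.ι (un I N)) (un I N)
    (kernel.condition _) (ShortComplex.kernelSequence_exact _) W m hm

theorem kernelι_injective (W : X.Opens) : Function.Injective ((kernel.ι (un I N)).app W) :=
  injective_of_mono (kernel.ι (un I N)) inferInstance W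

theorem pbs_idealModι_smul (W : X.Opens) (g : Γ(N, W)) (x : Γ(ClSub.idealMod I, W)) :
    pbs I.subschemeι N W ((show Γ(X, W) from (ClSub.idealModι I).app W x) • g : Γ(N, W)) = 0 := by
  rw [pbs_smul]
  have := app_idealModι I W x
  erw [this]
  exact zero_smul _ _

/-- the twisting map -/
noncomputable def Θ (W : X.Opens) (g : Γ(N, W)) (x : Γ(ClSub.idealMod I, W)) : Γ(KK I N, W) :=
  (exists_kernel_eq I N W _ (pbs_idealModι_smul I N W g x)).choose

theorem ι_Θ (W : X.Opens) (g : Γ(N, W)) (x : Γ(ClSub.idealMod I, W)) :
    (kernel.ι (un I N)).app W (Θ I N W g x) = ((show Γ(X, W) from (ClSub.idealModι I).app W x) • g : Γ(N, W)) :=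
  (exists_kernel_eq I N W _ (pbs_idealModι_smul I N W g x)).choose_spec

theorem isTwist_Θ : IsTwist (ClSub.idealMod I) N 1 (KK I N) (Θ I N) where
  bij W g hg := by
    constructor
    · intro x y hxy
      have h1 := congrArg ((kernel.ι (un I N)).app W) hxy
      rw [ι_Θ, ι_Θ] at h1
      have h2 := (hg W le_rfl).1
      simp only [res_self] at h2
      exact idealModι_injective I W (h2 h1)
    · intro k
      obtain ⟨c, hc⟩ := (hg W le_rfl).2 ((kernel.ι (un I N)).app W k)
      simp only [res_self] at hc
      have h0 := un_app_kernel I N W k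
      rw [← hc, pbs_smul] at h0
      have hgen := isGen_pbs (f := I.subschemeι) hg
      have h3 := (hgen (I.subschemeι ⁻¹ᵁ W) le_rfl).1
      simp only [res_self] at h3
      have h4 : (I.subschemeι.app W).hom c = 0 := by
        apply h3
        simp only []
        rw [zero_smul]
        exact h0
      obtain ⟨x, hx⟩ := exists_idealModι_eq I W c h4
      refine ⟨x, ?_⟩
      apply kernelι_injective I N W
      rw [ι_Θ, hx, hc]
  add W g x y := by
    apply kernelι_injective I N W
    rw [map_add, ι_Θ, ι_Θ, ι_Θ, map_add]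
    exact add_smul _ _ _
  smul W g a x := by
    apply kernelι_injective I N W
    rw [Scheme.Modules.Hom.app_smul, ι_Θ, ι_Θ, Scheme.Modules.Hom.app_smul]
    exact mul_smul _ _ _
  res W W' h g x := by
    apply kernelι_injective I N W'
    rw [app_res, ι_Θ, ι_Θ, res_smul]
    congr 1
    exact (app_res (ClSub.idealModι I) h x).symm
  hom W c g x := by
    apply kernelι_injective I N W
    rw [Scheme.Modules.Hom.app_smul, ι_Θ, ι_Θ, pow_one]
    exact smul_comm _ _ _

end Groth.Agent.Lib.Helper17.SqZero
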