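import Groth.Agent.Lib.Helper28.TwistIso
import Groth.Agent.Lib.Helper28.ModGlueHom
import Mathlib
set_option backward.isDefEq.respectTransparency.types false
set_option autoImplicit false

/-!
# Morphisms out of a twist

`IsPreTwist F L d P Θ` is `IsTwist` without bijectivity; a twist maps to any pre-twist of the same degree
(`exists_hom`).  A form of degree `e` on `L` (`IsForm`) turns a twist of degree `d` into a pre-twist of degree `d + e`.
-/

universe u
open CategoryTheory CategoryTheory.Limits AlgebraicGeometry Opposite TopologicalSpace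
noncomputable section

namespace Groth.Agent.Lib.Helper17.TwHom

open Groth.Agent.Lib.Helper28 Groth.Agent.Lib.Helper28.QCohLoc Groth.Agent.Lib.Helper28.TensorGen
  Groth.Agent.Lib.Helper28.GenLocus

variable {X : Scheme.{u}}

/-- a homogeneous family of maps `Γ(F, W) → Γ(P, W)` of degree `d` in the local sections of `L` -/
structure IsPreTwist (F L : X.Modules) (d : ℕ) (P : X.Modules)
    (Θ : ∀ W : X.Opens, Γ(L, W) → Γ(F, W) → Γ(P, W)) : Prop where
  add : ∀ (W : X.Opens) (g : Γ(L, W)) (x y : Γ(F, W)), Θ W g (x + y) = Θ W g x + Θ W g y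
  smul : ∀ (W : X.Opens) (g : Γ(L, W)) (a : Γ(X, W)) (x : Γ(F, W)),
    Θ W g (a • x : Γ(F, W)) = (a • Θ W g x : Γ(P, W))
  res : ∀ (W W' : X.Opens) (h : W' ≤ W) (g : Γ(L, W)) (x : Γ(F, W)),
    QCohLoc.res P h (Θ W g x) = Θ W' (QCohLoc.res L h g) (QCohLoc.res F h x)
  hom : ∀ (W : X.Opens) (c : Γ(X, W)) (g : Γ(L, W)) (x : Γ(F, W)),
    Θ W (c • g : Γ(L, W)) x = (c ^ d • Θ W g x : Γ(P, W))

theorem IsTwist.isPreTwist {F L P : X.Modules} {d : ℕ} {Θ : ∀ W : X.Opens, Γ(L, W) → Γ(F, W) → Γ(P, W)}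
    (h : IsTwist F L d P Θ) : IsPreTwist F L d P Θ :=
  ⟨h.add, h.smul, h.res, h.hom⟩

/-- a form of degree `e` on `L` -/
structure IsForm (L : X.Modules) (e : ℕ) (f : ∀ W : X.Opens, Γ(L, W) → Γ(X, W)) : Prop where
  res : ∀ (W W' : X.Opens) (h : W' ≤ W) (g : Γ(L, W)), resO h (f W g) = f W' (QCohLoc.res L h g)
  hom : ∀ (W : X.Opens) (c : Γ(X, W)) (g : Γ(L, W)), f W (c • g : Γ(L, W)) = c ^ e * f W g

theorem IsForm.pow {L : X.Modules} {e : ℕ} {f : ∀ W : X.Opens, Γ(L, W) → Γ(X, W)} (hf : IsForm L e f) (j : ℕ) :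
    IsForm L (e * j) (fun W g => f W g ^ j) where
  res W W' h g := by
    show resO h (f W g ^ j) = f W' (QCohLoc.res L h g) ^ j
    rw [resO_pow, hf.res]
  hom W c g := by
    show f W (c • g : Γ(L, W)) ^ j = c ^ (e * j) * f W g ^ j
    rw [hf.hom, mul_pow, pow_mul]

section
variable {F L P : X.Modules} {d : ℕ} {Θ : ∀ W : X.Opens, Γ(L, W) → Γ(F, W) → Γ(P, W)}

/-- precomposing a pre-twist with a form raises the degree -/
theorem IsPreTwist.form (h : IsPreTwist F L d P Θ) {e : ℕ} {f : ∀ W : X.Opens, Γ(L, W) → Γ(X, W)}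
    (hf : IsForm L e f) :
    IsPreTwist F L (d + e) P (fun W g x => Θ W g (f W g • x : Γ(F, W))) where
  add W g x y := by
    show Θ W g (f W g • (x + y) : Γ(F, W)) = _
    rw [smul_add, h.add]
  smul W g a x := by
    show Θ W g (f W g • (a • x : Γ(F, W)) : Γ(F, W)) = (a • Θ W g (f W g • x : Γ(F, W)) : Γ(P, W))
    rw [smul_comm, h.smul]
  res W W' hW g x := by
    show QCohLoc.res P hW (Θ W g (f W g • x : Γ(F, W))) = _
    rw [h.res, res_smul, hf.res]
  hom W c g x := by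
    show Θ W (c • g : Γ(L, W)) (f W (c • g : Γ(L, W)) • x : Γ(F, W)) =
      (c ^ (d + e) • Θ W g (f W g • x : Γ(F, W)) : Γ(P, W))
    rw [h.hom, hf.hom, mul_smul, h.smul, ← mul_smul, pow_add]

end

section Hom

variable {F L P P' : X.Modules} {d : ℕ} {Θ : ∀ W : X.Opens, Γ(L, W) → Γ(F, W) → Γ(P, W)}
  {Θ' : ∀ W : X.Opens, Γ(L, W) → Γ(F, W) → Γ(P', W)}
variable (h : IsTwist F L d P Θ) (h' : IsPreTwist F L d P' Θ')

/-- the local comparison map -/
def tw {W : X.Opens} {g : Γ(L, W)} (hg : IsGen L W g) (y : Γ(P, W)) : Γ(P', W) :=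
  Θ' W g ((Equiv.ofBijective _ (h.bij W g hg)).symm y)

theorem tw_apply {W : X.Opens} {g : Γ(L, W)} (hg : IsGen L W g) (x : Γ(F, W)) :
    tw h (Θ' := Θ') hg (Θ W g x) = Θ' W g x := by
  unfold tw
  congr 1
  exact (Equiv.ofBijective _ (h.bij W g hg)).symm_apply_apply x

include h' in
theorem tw_indep {W : X.Opens} {g g' : Γ(L, W)} (hg : IsGen L W g) (hg' : IsGen L W g') (y : Γ(P, W)) :
    tw h (Θ' := Θ') hg' y = tw h (Θ' := Θ') hg y := by
  obtain ⟨x', rfl⟩ := (h.bij W g' hg').2 y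
  have hc : (hg.coef le_rfl g' • g : Γ(L, W)) = g' := by
    have := hg.coef_smul le_rfl g'
    rwa [res_self] at this
  rw [tw_apply h hg']
  have e1 : Θ W g' x' = Θ W g ((hg.coef le_rfl g') ^ d • x' : Γ(F, W)) := by
    rw [h.smul, ← h.hom, hc]
  rw [e1, tw_apply h hg, h'.smul, ← h'.hom, hc]

include h' in
theorem tw_add {W : X.Opens} {g : Γ(L, W)} (hg : IsGen L W g) (y y' : Γ(P, W)) :
    tw h (Θ' := Θ') hg (y + y') = tw h (Θ' := Θ') hg y + tw h (Θ' := Θ') hg y' := by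
  obtain ⟨x, rfl⟩ := (h.bij W g hg).2 y
  obtain ⟨x', rfl⟩ := (h.bij W g hg).2 y'
  rw [← h.add, tw_apply h hg, tw_apply h hg, tw_apply h hg, h'.add]

include h' in
theorem tw_smul {W : X.Opens} {g : Γ(L, W)} (hg : IsGen L W g) (a : Γ(X, W)) (y : Γ(P, W)) :
    tw h (Θ' := Θ') hg (a • y : Γ(P, W)) = (a • tw h (Θ' := Θ') hg y : Γ(P', W)) := by
  obtain ⟨x, rfl⟩ := (h.bij W g hg).2 y
  rw [← h.smul, tw_apply h hg, tw_apply h hg, h'.smul]

include h' in
theorem tw_res {W W' : X.Opens} (hW : W' ≤ W) {g : Γ(L, W)} (hg : IsGen L W g) (y : Γ(P, W)) :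
    tw h (Θ' := Θ') (hg.res hW) (QCohLoc.res P hW y) = QCohLoc.res P' hW (tw h (Θ' := Θ') hg y) := by
  obtain ⟨x, rfl⟩ := (h.bij W g hg).2 y
  rw [h.res, tw_apply h (hg.res hW), tw_apply h hg, h'.res]

include h h' in
/-- **a twist maps to every pre-twist of the same degree** -/
theorem exists_hom (hL : PicF.IsInvertible L) :
    ∃ ψ : P ⟶ P', ∀ (W : X.Opens) (g : Γ(L, W)), IsGen L W g → ∀ x : Γ(F, W),
      ψ.app W (Θ W g x) = Θ' W g x := by
  let D : QCohLoc.LocalHomData P P' :=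
    { B := fun V => ∃ g : Γ(L, V), IsGen L V g
      down := fun V V' hle ⟨g, hg⟩ => ⟨QCohLoc.res L hle g, hg.res hle⟩
      cov := fun x => by
        obtain ⟨U, g, hxU, hg⟩ := exists_isGen L hL x
        exact ⟨U, ⟨g, hg⟩, hxU⟩
      φ := fun V hV y => tw h (Θ' := Θ') hV.choose_spec y
      add := fun V hV y y' => tw_add h h' _ y y'
      smul := fun V hV a y => tw_smul h h' _ a y
      nat := fun V hV V' hle y => by
        rw [← tw_res h h' hle hV.choose_spec y]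
        exact tw_indep h h' _ _ _ }
  have happ : ∀ (W : X.Opens) (g : Γ(L, W)) (hg : IsGen L W g) (y : Γ(P, W)),
      D.hom.app W y = tw h (Θ' := Θ') hg y := by
    intro W g hg y
    have hB : D.B W := ⟨g, hg⟩
    rw [D.hom_app W hB y]
    exact tw_indep h h' hg hB.choose_spec y
  refine ⟨D.hom, fun W g hg x => ?_⟩
  rw [happ W g hg, tw_apply h hg]

end Hom

end Groth.Agent.Lib.Helper17.TwHom
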