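import Groth.Prelude.Def_Fitting
import Mathlib
set_option backward.isDefEq.respectTransparency.types false
set_option autoImplicit false
universe u
open CategoryTheory CategoryTheory.Limits AlgebraicGeometry Opposite TopologicalSpace

/-!
# Helper17 — WNormDef: a weak norm of degree `d` for a morphism `π : X ⟶ Y`

The same data as the prelude's `Nrm.NormOfDegree`, except that the last axiom only asks that a function whose
norm is invertible at `y` be invertible at *some* point over `y` (this is what holds for the generic determinant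
norm of a finite surjective morphism whose source may have components not dominating the target).
-/

namespace Groth.Agent.Lib.Helper17

variable {X Y : Scheme.{u}}

/-- a weak norm of degree `d` -/
structure WNorm (π : X ⟶ Y) (d : ℕ) where
  one_le : 1 ≤ d
  norm : ∀ U : Y.Opens, Γ(X, π ⁻¹ᵁ U) →* Γ(Y, U)
  norm_res : ∀ {U V : Y.Opens} (i : V ⟶ U) (s : Γ(X, π ⁻¹ᵁ U)),
    Y.presheaf.map i.op (norm U s) = norm V (X.presheaf.map ((Opens.map π.base).map i).op s)
  norm_app : ∀ (U : Y.Opens) (g : Γ(Y, U)), norm U (π.app U g) = g ^ d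
  norm_mem : ∀ (U : Y.Opens) (s : Γ(X, π ⁻¹ᵁ U)) (y : Y), y ∈ Y.basicOpen (norm U s) →
    ∃ x : X, π.base x = y ∧ x ∈ X.basicOpen s

/-- a norm is a weak norm, provided `π` is surjective -/
def WNorm.ofNorm {π : X ⟶ Y} {d : ℕ} (Nm : Nrm.NormOfDegree π d) (hsurj : Function.Surjective π.base) :
    WNorm π d where
  one_le := Nm.one_le
  norm := Nm.norm
  norm_res := Nm.norm_res
  norm_app := Nm.norm_app
  norm_mem U s y hy := by
    obtain ⟨x, rfl⟩ := hsurj y
    refine ⟨x, rfl, ?_⟩
    have hx : π.base x ∈ U := Y.basicOpen_le _ hy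
    by_contra hxs
    have h1 : X.presheaf.germ (π ⁻¹ᵁ U) x hx s ∈ IsLocalRing.maximalIdeal (X.presheaf.stalk x) := by
      rw [IsLocalRing.mem_maximalIdeal, mem_nonunits_iff]
      intro hu
      exact hxs ((Scheme.mem_basicOpen _ s x hx).2 hu)
    have h2 := Nm.norm_mem U s x hx h1
    rw [IsLocalRing.mem_maximalIdeal, mem_nonunits_iff] at h2
    exact h2 ((Scheme.mem_basicOpen _ _ _ hx).1 hy)

end Groth.Agent.Lib.Helper17
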