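import Groth.Agent.Lib.Helper17.GNormLocal
import Groth.Agent.Lib.Helper17.WNormDef
import Mathlib
set_option backward.isDefEq.respectTransparency.types false
set_option autoImplicit false
universe u
open CategoryTheory CategoryTheory.Limits AlgebraicGeometry Opposite TopologicalSpace

/-!
# Helper17 — GNorm: the generic determinant norm of a finite surjective morphism onto a reduced locally
Noetherian scheme each of whose points either has an integrally closed local domain or has a neighbourhood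
over which the morphism is free.
-/

namespace Groth.Agent.Lib.Helper17.GNorm

open Groth.Agent.Lib.Helper17.NormGlue Groth.Agent.Lib.Helper17.NormFLF Groth.Agent.Lib.Helper17.NormFLFD
open Groth.Agent.Lib.Helper17.GNormLocal

variable {X Y : Scheme.{u}} (π : X ⟶ Y) (N : ℕ)

attribute [local instance] Groth.Agent.Lib.Helper17.NormFLF.algApp

/-- `s` is the norm of degree `N` of `t` : it restricts to the `N / rank`-th power of the usual norm
on every open over which `π` is free -/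
def IsNrm (U : Y.Opens) (t : Γ(X, π ⁻¹ᵁ U)) (s : Γ(Y, U)) : Prop :=
  ∀ (W : Y.Opens) (_ : Good π W) (hWU : W ≤ U), resY hWU s = nrmD π N W (resPre π hWU t)

variable {π N}

theorem IsNrm.res {U U' : Y.Opens} {t : Γ(X, π ⁻¹ᵁ U)} {s : Γ(Y, U)} (h : IsNrm π N U t s) (hU : U' ≤ U) :
    IsNrm π N U' (resPre π hU t) (resY hU s) := by
  intro W hW hWU'
  rw [resY_resY, resPre_resPre]
  exact h W hW (hWU'.trans hU)

/-- the density hypothesis: every nonempty open contains a nonempty good open -/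
def GoodDense (π : X ⟶ Y) : Prop :=
  ∀ U' : Y.Opens, (∃ y, y ∈ U') → ∃ W, Good π W ∧ W ≤ U' ∧ ∃ y, y ∈ W

theorem IsNrm.unique [IsReduced Y] (hd : GoodDense π) {U : Y.Opens} {t : Γ(X, π ⁻¹ᵁ U)} {s s' : Γ(Y, U)}
    (h : IsNrm π N U t s) (h' : IsNrm π N U t s') : s = s' := by
  let V : Y.Opens := ⨆ W : {W : Y.Opens // Good π W ∧ W ≤ U}, W.1
  have hVU : V ≤ U := iSup_le fun W => W.2.2
  refine eq_of_res_eq_of_dense hVU ?_ s s' ?_
  · intro U' hU' hne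
    obtain ⟨W, hW, hWU', z, hz⟩ := hd U' hne
    refine ⟨z, hWU' hz, ?_⟩
    exact Opens.mem_iSup.2 ⟨⟨W, hW, hWU'.trans hU'⟩, hz⟩
  · apply eq_of_forall_mem
    intro z hz
    obtain ⟨⟨W, hW, hWU⟩, hzW⟩ := Opens.mem_iSup.1 hz
    have hWV : W ≤ V := le_iSup (fun W : {W : Y.Opens // Good π W ∧ W ≤ U} => W.1) ⟨W, hW, hWU⟩
    refine ⟨W, hWV, hzW, ?_⟩
    change resY hWV (resY hVU s) = resY hWV (resY hVU s')
    rw [resY_resY, resY_resY, h W hW hWU, h' W hW hWU]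

variable [IsFinite π]

/-- on a good open the local norm is the norm -/
theorem isNrm_good {U W : Y.Opens} (hW : Good π W) (hWU : W ≤ U) (t : Γ(X, π ⁻¹ᵁ U)) :
    IsNrm π N W (resPre π hWU t) (nrmD π N W (resPre π hWU t)) := by
  intro W' hW' hW'W
  rw [resPre_resPre]
  apply eq_of_forall_mem
  intro z hz
  obtain ⟨D, hD₁, hD₂, hzD, heq⟩ := nrmD_compat π N hW hW' hWU (hW'W.trans hWU) t z ⟨hW'W hz, hz⟩
  refine ⟨D, hD₂, hzD, ?_⟩
  change resY hD₂ (resY hW'W _) = resY hD₂ _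
  rw [resY_resY]
  exact heq

/-- in an integral affine open, nonempty opens meet nonempty basic opens -/
theorem exists_mem_inf_basicOpen [IsReduced Y] {W : Y.Opens} (hW : IsAffineOpen W) [IsDomain Γ(Y, W)]
    (h : Γ(Y, W)) (h0 : h ≠ 0) (U' : Y.Opens) (hU' : U' ≤ W) (hne : ∃ y, y ∈ U') :
    ∃ y, y ∈ U' ⊓ Y.basicOpen h := by
  obtain ⟨z, hz⟩ := hne
  obtain ⟨f, hf, hzf⟩ := hW.exists_basicOpen_le (V := U') ⟨z, hz⟩ (hU' hz)
  have hf0 : f ≠ 0 := by
    rintro rfl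
    rw [Scheme.basicOpen_zero] at hzf
    exact hzf
  have hfh : Y.basicOpen (f * h) ≠ ⊥ := by
    rw [Ne, AlgebraicGeometry.basicOpen_eq_bot_iff]
    exact mul_ne_zero hf0 h0
  obtain ⟨y, hy⟩ : ∃ y, y ∈ Y.basicOpen (f * h) := by
    by_contra hcon
    apply hfh
    ext y
    simp only [Opens.coe_bot, Set.mem_empty_iff_false, iff_false]
    exact fun hy => hcon ⟨y, hy⟩
  rw [Scheme.basicOpen_mul] at hy
  exact ⟨y, hf hy.1, hy.2⟩

/-- the localization package gives the spanning hypothesis -/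
theorem span_range_eq_top {W : Y.Opens} (hW : IsAffineOpen W) (h : Γ(Y, W)) :
    letI : Algebra Γ(X, π ⁻¹ᵁ W) Γ(X, π ⁻¹ᵁ (Y.basicOpen h)) :=
      (X.presheaf.map (homOfLE (π.preimage_mono (Y.basicOpen_le h))).op).hom.toAlgebra
    Submodule.span Γ(Y, Y.basicOpen h)
      (Set.range (algebraMap Γ(X, π ⁻¹ᵁ W) Γ(X, π ⁻¹ᵁ (Y.basicOpen h)))) = ⊤ := by
  obtain ⟨h1, h2, h3, h4⟩ := basic_package π h hW
  letI : Algebra Γ(Y, W) Γ(Y, Y.basicOpen h) :=
    (Y.presheaf.map (homOfLE (Y.basicOpen_le h)).op).hom.toAlgebra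
  letI : Algebra Γ(X, π ⁻¹ᵁ W) Γ(X, π ⁻¹ᵁ (Y.basicOpen h)) :=
    (X.presheaf.map (homOfLE (π.preimage_mono (Y.basicOpen_le h))).op).hom.toAlgebra
  letI : Algebra Γ(Y, W) Γ(X, π ⁻¹ᵁ (Y.basicOpen h)) :=
    ((algebraMap Γ(Y, Y.basicOpen h) Γ(X, π ⁻¹ᵁ (Y.basicOpen h))).comp
      (algebraMap Γ(Y, W) Γ(Y, Y.basicOpen h))).toAlgebra
  haveI := h1; haveI := h2; haveI := h3; haveI := h4
  rw [eq_top_iff]
  rintro x -
  obtain ⟨b, ⟨_, ⟨_, ⟨n, rfl⟩, rfl⟩⟩, rfl⟩ := IsLocalization.exists_mk'_eq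
    (Algebra.algebraMapSubmonoid Γ(X, π ⁻¹ᵁ W) (Submonoid.powers h)) x
  have hu : IsUnit (algebraMap Γ(Y, W) Γ(Y, Y.basicOpen h) (h ^ n)) :=
    IsLocalization.map_units Γ(Y, Y.basicOpen h) (⟨h ^ n, n, rfl⟩ : Submonoid.powers h)
  have hsp := IsLocalization.mk'_spec Γ(X, π ⁻¹ᵁ (Y.basicOpen h)) b
    (⟨algebraMap Γ(Y, W) Γ(X, π ⁻¹ᵁ W) (h ^ n), ⟨h ^ n, ⟨n, rfl⟩, rfl⟩⟩ :
      Algebra.algebraMapSubmonoid Γ(X, π ⁻¹ᵁ W) (Submonoid.powers h))
  set x := IsLocalization.mk' Γ(X, π ⁻¹ᵁ (Y.basicOpen h)) b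
    (⟨algebraMap Γ(Y, W) Γ(X, π ⁻¹ᵁ W) (h ^ n), ⟨h ^ n, ⟨n, rfl⟩, rfl⟩⟩ :
      Algebra.algebraMapSubmonoid Γ(X, π ⁻¹ᵁ W) (Submonoid.powers h)) with hx
  have h5 : x = (↑hu.unit⁻¹ : Γ(Y, Y.basicOpen h)) • algebraMap Γ(X, π ⁻¹ᵁ W) Γ(X, π ⁻¹ᵁ (Y.basicOpen h)) b := by
    rw [← hsp, Algebra.smul_def]
    change x = _ * (x * algebraMap Γ(X, π ⁻¹ᵁ W) Γ(X, π ⁻¹ᵁ (Y.basicOpen h))
      (algebraMap Γ(Y, W) Γ(X, π ⁻¹ᵁ W) (h ^ n)))
    rw [← IsScalarTower.algebraMap_apply Γ(Y, W) Γ(X, π ⁻¹ᵁ W) Γ(X, π ⁻¹ᵁ (Y.basicOpen h)),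
      IsScalarTower.algebraMap_apply Γ(Y, W) Γ(Y, Y.basicOpen h) Γ(X, π ⁻¹ᵁ (Y.basicOpen h)),
      mul_left_comm, ← map_mul]
    have : (↑hu.unit⁻¹ : Γ(Y, Y.basicOpen h)) * algebraMap Γ(Y, W) Γ(Y, Y.basicOpen h) (h ^ n) = 1 :=
      hu.val_inv_mul
    rw [this, map_one, mul_one]
  rw [h5]
  exact Submodule.smul_mem _ _ (Submodule.subset_span ⟨b, rfl⟩)

/-- integrality of the local norm on a good basic open of an integral affine open -/
theorem isIntegral_nrmD {W : Y.Opens} (hW : IsAffineOpen W) [IsDomain Γ(Y, W)] (h : Γ(Y, W)) (h0 : h ≠ 0)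
    (hg : Good π (Y.basicOpen h)) (t : Γ(X, π ⁻¹ᵁ W)) :
    letI : Algebra Γ(Y, W) Γ(Y, Y.basicOpen h) :=
      (Y.presheaf.map (homOfLE (Y.basicOpen_le h)).op).hom.toAlgebra
    IsIntegral Γ(Y, W) (nrmD π N (Y.basicOpen h) (resPre π (Y.basicOpen_le h) t)) := by
  obtain ⟨h1, h2, h3, h4⟩ := basic_package π h hW
  have hspan := span_range_eq_top (π := π) hW h
  letI : Algebra Γ(Y, W) Γ(Y, Y.basicOpen h) :=
    (Y.presheaf.map (homOfLE (Y.basicOpen_le h)).op).hom.toAlgebra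
  letI : Algebra Γ(X, π ⁻¹ᵁ W) Γ(X, π ⁻¹ᵁ (Y.basicOpen h)) :=
    (X.presheaf.map (homOfLE (π.preimage_mono (Y.basicOpen_le h))).op).hom.toAlgebra
  letI : Algebra Γ(Y, W) Γ(X, π ⁻¹ᵁ (Y.basicOpen h)) :=
    ((algebraMap Γ(Y, Y.basicOpen h) Γ(X, π ⁻¹ᵁ (Y.basicOpen h))).comp
      (algebraMap Γ(Y, W) Γ(Y, Y.basicOpen h))).toAlgebra
  haveI := h1; haveI := h2; haveI := h3; haveI := h4
  haveI : IsDomain Γ(Y, Y.basicOpen h) :=
    IsLocalization.isDomain_of_le_nonZeroDivisors (M := Submonoid.powers h) Γ(Y, Y.basicOpen h)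
      (powers_le_nonZeroDivisors_of_noZeroDivisors h0)
  haveI := finite_app π hW
  haveI := finite_app π hg.1
  haveI := hg.2
  rw [nrmD_apply]
  exact IsIntegral.pow (GNormAlg.isIntegral_norm (A := Γ(Y, W)) (A' := Γ(Y, Y.basicOpen h))
    (B := Γ(X, π ⁻¹ᵁ W)) (B' := Γ(X, π ⁻¹ᵁ (Y.basicOpen h))) hspan t) _

/-- local existence of the norm at a point with an integrally closed local domain -/
theorem exists_isNrm_of_normal [IsReduced Y] [IsLocallyNoetherian Y] {U : Y.Opens} (t : Γ(X, π ⁻¹ᵁ U))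
    (y : Y) (hy : y ∈ U) [IsDomain (Y.presheaf.stalk y)] [IsIntegrallyClosed (Y.presheaf.stalk y)] :
    ∃ (W' : Y.Opens) (hW'U : W' ≤ U), y ∈ W' ∧ ∃ σ : Γ(Y, W'), IsNrm π N W' (resPre π hW'U t) σ := by
  obtain ⟨W, hW, hyW, hWU, hdom⟩ := exists_isDomain_affine_nhd y U hy
  haveI := hdom
  haveI : IsNoetherianRing Γ(Y, W) := IsLocallyNoetherian.component_noetherian ⟨W, hW⟩
  obtain ⟨h, h0, hg⟩ := exists_good_basicOpen π hW
  have hint := isIntegral_nrmD (N := N) hW h h0 hg (resPre π hWU t)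
  obtain ⟨s, σ, hys, hσ⟩ := exists_section_of_normal hW y hyW h h0 _ hint
  refine ⟨Y.basicOpen s, (Y.basicOpen_le s).trans hWU, hys, σ, ?_⟩
  intro W'' hW'' hW''s
  rw [resPre_resPre]
  have hV : W'' ⊓ Y.basicOpen h ≤ W'' := inf_le_left
  refine eq_of_res_eq_of_dense hV ?_ _ _ ?_
  · intro U' hU' hne
    obtain ⟨z, hz⟩ := exists_mem_inf_basicOpen hW h h0 U' (hU'.trans (hW''s.trans (Y.basicOpen_le s))) hne
    exact ⟨z, hz.1, hU' hz.1, hz.2⟩
  · apply eq_of_forall_mem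
    intro z hz
    obtain ⟨D, hD₁, hD₂, hzD, heq⟩ := nrmD_compat π N hW'' hg (hW''s.trans ((Y.basicOpen_le s).trans hWU))
      ((Y.basicOpen_le h).trans hWU) t z hz
    refine ⟨D, le_inf hD₁ hD₂, hzD, ?_⟩
    change resY _ (resY hV (resY hW''s σ)) = resY _ (resY hV _)
    rw [resY_resY, resY_resY, resY_resY, heq]
    have h5 := congrArg (resY (le_inf (hD₁.trans hW''s) hD₂ : D ≤ Y.basicOpen s ⊓ Y.basicOpen h)) hσ
    rw [resY_resY, resY_resY, resPre_resPre] at h5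
    exact h5

/-- the pointwise hypothesis: every point either has an integrally closed local domain or lies in a good open -/
def PtHyp (π : X ⟶ Y) : Prop :=
  ∀ y : Y, (IsDomain (Y.presheaf.stalk y) ∧ IsIntegrallyClosed (Y.presheaf.stalk y)) ∨
    ∃ W, Good π W ∧ y ∈ W

theorem exists_good_le {W₀ : Y.Opens} (hW₀ : Good π W₀) (U : Y.Opens) (y : Y) (hy : y ∈ U) (hy₀ : y ∈ W₀) :
    ∃ W, Good π W ∧ W ≤ U ∧ W ≤ W₀ ∧ y ∈ W := by
  obtain ⟨f, hf, hyf⟩ := hW₀.1.exists_basicOpen_le (V := U ⊓ W₀) ⟨y, ⟨hy, hy₀⟩⟩ hy₀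
  exact ⟨Y.basicOpen f, good_basicOpen π f hW₀, hf.trans inf_le_left, Y.basicOpen_le f, hyf⟩

theorem goodDense_of_ptHyp [IsReduced Y] [IsLocallyNoetherian Y] (hpt : PtHyp π) : GoodDense π := by
  rintro U' ⟨y, hy⟩
  rcases hpt y with ⟨hdom, hic⟩ | ⟨W₀, hW₀, hyW₀⟩
  · haveI := hdom
    obtain ⟨W, hW, hyW, hWU, hdomW⟩ := exists_isDomain_affine_nhd y U' hy
    haveI := hdomW
    haveI : IsNoetherianRing Γ(Y, W) := IsLocallyNoetherian.component_noetherian ⟨W, hW⟩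
    obtain ⟨h, h0, hg⟩ := exists_good_basicOpen π hW
    obtain ⟨z, hz⟩ := exists_mem_inf_basicOpen hW h h0 W le_rfl ⟨y, hyW⟩
    exact ⟨Y.basicOpen h, hg, (Y.basicOpen_le h).trans hWU, z, hz.2⟩
  · obtain ⟨W, hW, hWU, -, hyW⟩ := exists_good_le hW₀ U' y hy hyW₀
    exact ⟨W, hW, hWU, y, hyW⟩

theorem exists_isNrm_local [IsReduced Y] [IsLocallyNoetherian Y] (hpt : PtHyp π) {U : Y.Opens}
    (t : Γ(X, π ⁻¹ᵁ U)) (y : Y) (hy : y ∈ U) :
    ∃ (W' : Y.Opens) (hW'U : W' ≤ U), y ∈ W' ∧ ∃ σ : Γ(Y, W'), IsNrm π N W' (resPre π hW'U t) σ := by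
  rcases hpt y with ⟨hdom, hic⟩ | ⟨W₀, hW₀, hyW₀⟩
  · haveI := hdom
    haveI := hic
    exact exists_isNrm_of_normal t y hy
  · obtain ⟨W, hW, hWU, -, hyW⟩ := exists_good_le hW₀ U y hy hyW₀
    exact ⟨W, hWU, hyW, _, isNrm_good hW hWU t⟩

/-- **existence of the norm** -/
theorem exists_isNrm [IsReduced Y] [IsLocallyNoetherian Y] (hpt : PtHyp π) (U : Y.Opens)
    (t : Γ(X, π ⁻¹ᵁ U)) : ∃ s : Γ(Y, U), IsNrm π N U t s := by
  have hd := goodDense_of_ptHyp hpt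
  let I := {W' : Y.Opens // ∃ hW'U : W' ≤ U, ∃ σ : Γ(Y, W'), IsNrm π N W' (resPre π hW'U t) σ}
  have hle : ∀ i : I, i.1 ≤ U := fun i => i.2.choose
  let σ : ∀ i : I, Γ(Y, i.1) := fun i => i.2.choose_spec.choose
  have hσ : ∀ i : I, IsNrm π N i.1 (resPre π (hle i) t) (σ i) := fun i => i.2.choose_spec.choose_spec
  have h := Y.sheaf.existsUnique_gluing' (fun i : I => i.1) U (fun i => homOfLE (hle i))
    (by
      intro y hy
      obtain ⟨W', hW'U, hyW', σ', hσ'⟩ := exists_isNrm_local (N := N) hpt t y hy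
      exact Opens.mem_iSup.2 ⟨⟨W', hW'U, σ', hσ'⟩, hyW'⟩)
    σ
    (by
      intro i j
      have h1 := (hσ i).res (inf_le_left : i.1 ⊓ j.1 ≤ i.1)
      have h2 := (hσ j).res (inf_le_right : i.1 ⊓ j.1 ≤ j.1)
      rw [resPre_resPre] at h1 h2
      exact h1.unique hd h2)
  obtain ⟨s, hs, -⟩ := h
  refine ⟨s, fun W hW hWU => ?_⟩
  have hi : ∃ hW'U : W ≤ U, ∃ σ : Γ(Y, W), IsNrm π N W (resPre π hW'U t) σ :=
    ⟨hWU, _, isNrm_good hW hWU t⟩
  have h3 := hs ⟨W, hi⟩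
  have h4 : σ ⟨W, hi⟩ = nrmD π N W (resPre π hWU t) := (hσ ⟨W, hi⟩).unique hd (isNrm_good hW hWU t)
  rw [← h4]
  exact h3

section Structure

variable [IsReduced Y] [IsLocallyNoetherian Y] (hpt : PtHyp π)

/-- the norm function -/
noncomputable def normFun (hpt : PtHyp π) (N : ℕ) (U : Y.Opens) (t : Γ(X, π ⁻¹ᵁ U)) : Γ(Y, U) :=
  (exists_isNrm (N := N) hpt U t).choose

theorem isNrm_normFun (U : Y.Opens) (t : Γ(X, π ⁻¹ᵁ U)) : IsNrm π N U t (normFun hpt N U t) :=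
  (exists_isNrm (N := N) hpt U t).choose_spec

theorem eq_normFun {U : Y.Opens} {t : Γ(X, π ⁻¹ᵁ U)} {s : Γ(Y, U)} (h : IsNrm π N U t s) :
    s = normFun hpt N U t :=
  h.unique (goodDense_of_ptHyp hpt) (isNrm_normFun hpt U t)

/-- the norm as a monoid homomorphism -/
noncomputable def normHom (hpt : PtHyp π) (N : ℕ) (U : Y.Opens) : Γ(X, π ⁻¹ᵁ U) →* Γ(Y, U) where
  toFun := normFun hpt N U
  map_one' := by
    symm
    apply eq_normFun
    intro W hW hWU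
    unfold resY resPre
    rw [map_one, map_one, map_one]
  map_mul' a b := by
    symm
    apply eq_normFun
    intro W hW hWU
    have ha := isNrm_normFun (N := N) hpt U a W hW hWU
    have hb := isNrm_normFun (N := N) hpt U b W hW hWU
    unfold resY resPre at ha hb ⊢
    rw [map_mul, map_mul, map_mul, ha, hb]

theorem isNrm_normHom (U : Y.Opens) (t : Γ(X, π ⁻¹ᵁ U)) : IsNrm π N U t (normHom hpt N U t) :=
  isNrm_normFun hpt U t

theorem normHom_res {U V : Y.Opens} (h : V ≤ U) (t : Γ(X, π ⁻¹ᵁ U)) :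
    resY h (normHom hpt N U t) = normHom hpt N V (resPre π h t) :=
  eq_normFun hpt ((isNrm_normFun hpt U t).res h)

omit [IsReduced Y] [IsLocallyNoetherian Y] in
theorem one_le_rk [Surjective π] {W : Y.Opens} (hW : Good π W) (hne : ∃ y, y ∈ W) : 1 ≤ rk π W := by
  obtain ⟨y, hy⟩ := hne
  obtain ⟨x, rfl⟩ := π.surjective y
  haveI := hW.2
  haveI := finite_app π hW.1
  haveI : Nontrivial Γ(X, π ⁻¹ᵁ W) := nontrivial_of_mem (Y := X) (W := π ⁻¹ᵁ W) (y := x) hy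
  haveI : Nontrivial Γ(Y, W) := nontrivial_of_mem hy
  unfold rk
  exact (Module.finrank_pos_iff_of_free Γ(Y, W) Γ(X, π ⁻¹ᵁ W)).2 inferInstance

variable (hN : ∀ W, Good π W → (∃ y, y ∈ W) → rk π W ∣ N)

include hN in
theorem normHom_app (U : Y.Opens) (g : Γ(Y, U)) : normHom hpt N U (π.app U g) = g ^ N := by
  symm
  apply eq_normFun hpt
  intro W hW hWU
  have hnat : resPre π hWU (π.app U g) = π.app W (resY hWU g) := by
    unfold resPre resY
    rw [← CommRingCat.comp_apply, ← CommRingCat.comp_apply]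
    congr 2
    exact (π.naturality (homOfLE hWU).op).symm
  rw [hnat]
  unfold resY
  rw [map_pow]
  by_cases hne : ∃ y, y ∈ W
  · haveI := hW.2
    haveI : Nontrivial Γ(Y, W) := nontrivial_of_mem hne.choose_spec
    have h1 := hN W hW hne
    unfold rk at h1
    rw [nrmD_apply, ← algebraMap_eq, Algebra.norm_algebraMap, ← pow_mul, Nat.mul_div_cancel' h1]
  · haveI := subsingleton_of_empty hne
    exact Subsingleton.elim _ _

include hN in
theorem normHom_mem_of_good [Surjective π] (hN1 : 1 ≤ N) (U : Y.Opens) (t : Γ(X, π ⁻¹ᵁ U)) (y : Y)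
    (hy : y ∈ Y.basicOpen (normHom hpt N U t)) {W₀ : Y.Opens} (hW₀ : Good π W₀) (hyW₀ : y ∈ W₀) :
    ∃ x : X, π.base x = y ∧ x ∈ X.basicOpen t := by
  have hyU : y ∈ U := Y.basicOpen_le _ hy
  obtain ⟨W, hW, hWU, -, hyW⟩ := exists_good_le hW₀ U y hyU hyW₀
  have hk : 0 < N / rk π W :=
    Nat.div_pos (Nat.le_of_dvd hN1 (hN W hW ⟨y, hyW⟩)) (one_le_rk hW ⟨y, hyW⟩)
  have h1 : resY hWU (normHom hpt N U t) = nrmD π N W (resPre π hWU t) :=
    isNrm_normFun hpt U t W hW hWU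
  have hy1 : y ∈ Y.basicOpen (resY hWU (normHom hpt N U t)) := by
    unfold resY
    rw [Scheme.basicOpen_res]
    exact ⟨hyW, hy⟩
  rw [h1, nrmD_apply] at hy1
  unfold rk at hk
  rw [Scheme.basicOpen_pow Y _ hk] at hy1
  obtain ⟨x, rfl⟩ := π.surjective y
  refine ⟨x, rfl, ?_⟩
  by_contra hxt
  have hx : π.base x ∈ W := hyW
  have h2 : X.presheaf.germ (π ⁻¹ᵁ W) x hx (resPre π hWU t) ∈
      IsLocalRing.maximalIdeal (X.presheaf.stalk x) := by
    rw [IsLocalRing.mem_maximalIdeal, mem_nonunits_iff]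
    intro hu
    have h3 : x ∈ X.basicOpen (resPre π hWU t) := (Scheme.mem_basicOpen _ _ x hx).2 hu
    unfold resPre at h3
    rw [Scheme.basicOpen_res] at h3
    exact hxt h3.2
  have h3 := NormFLF.norm_mem π hW _ x hx h2
  rw [IsLocalRing.mem_maximalIdeal, mem_nonunits_iff] at h3
  exact h3 ((Scheme.mem_basicOpen _ _ _ hx).1 hy1)

include hN in
theorem normHom_mem_of_isDomain [Surjective π] (hN1 : 1 ≤ N) (U : Y.Opens) (t : Γ(X, π ⁻¹ᵁ U)) (y : Y)
    (hy : y ∈ Y.basicOpen (normHom hpt N U t)) [IsDomain (Y.presheaf.stalk y)] :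
    ∃ x : X, π.base x = y ∧ x ∈ X.basicOpen t := by
  have hyU : y ∈ U := Y.basicOpen_le _ hy
  obtain ⟨W, hW, hyW, hWU, hdomW⟩ := exists_isDomain_affine_nhd y U hyU
  haveI := hdomW
  haveI : IsNoetherianRing Γ(Y, W) := IsLocallyNoetherian.component_noetherian ⟨W, hW⟩
  obtain ⟨h, h0, hg⟩ := exists_good_basicOpen π hW
  obtain ⟨z, hz⟩ := exists_mem_inf_basicOpen hW h h0 W le_rfl ⟨y, hyW⟩
  have hk : 0 < N / rk π (Y.basicOpen h) :=
    Nat.div_pos (Nat.le_of_dvd hN1 (hN _ hg ⟨z, hz.2⟩)) (one_le_rk hg ⟨z, hz.2⟩)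
  have hd : 1 ≤ rk π (Y.basicOpen h) := one_le_rk hg ⟨z, hz.2⟩
  set k := N / rk π (Y.basicOpen h) with hkdef
  set a : Γ(Y, W) := resY hWU (normHom hpt N U t) with hadef
  set b : Γ(X, π ⁻¹ᵁ W) := resPre π hWU t with hbdef
  obtain ⟨h1, h2, h3, h4⟩ := basic_package π h hW
  have hspan := span_range_eq_top (π := π) hW h
  letI : Algebra Γ(Y, W) Γ(Y, Y.basicOpen h) :=
    (Y.presheaf.map (homOfLE (Y.basicOpen_le h)).op).hom.toAlgebra
  letI : Algebra Γ(X, π ⁻¹ᵁ W) Γ(X, π ⁻¹ᵁ (Y.basicOpen h)) :=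
    (X.presheaf.map (homOfLE (π.preimage_mono (Y.basicOpen_le h))).op).hom.toAlgebra
  letI : Algebra Γ(Y, W) Γ(X, π ⁻¹ᵁ (Y.basicOpen h)) :=
    ((algebraMap Γ(Y, Y.basicOpen h) Γ(X, π ⁻¹ᵁ (Y.basicOpen h))).comp
      (algebraMap Γ(Y, W) Γ(Y, Y.basicOpen h))).toAlgebra
  haveI := h1; haveI := h2; haveI := h3; haveI := h4
  haveI : IsDomain Γ(Y, Y.basicOpen h) :=
    IsLocalization.isDomain_of_le_nonZeroDivisors (M := Submonoid.powers h) Γ(Y, Y.basicOpen h)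
      (powers_le_nonZeroDivisors_of_noZeroDivisors h0)
  haveI := finite_app π hW
  haveI := finite_app π hg.1
  haveI := hg.2
  have hinj : Function.Injective (algebraMap Γ(Y, W) Γ(Y, Y.basicOpen h)) :=
    IsLocalization.injective Γ(Y, Y.basicOpen h) (powers_le_nonZeroDivisors_of_noZeroDivisors h0)
  have ha : algebraMap Γ(Y, W) Γ(Y, Y.basicOpen h) a =
      Algebra.norm Γ(Y, Y.basicOpen h)
        (algebraMap Γ(X, π ⁻¹ᵁ W) Γ(X, π ⁻¹ᵁ (Y.basicOpen h)) (b ^ k)) := by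
    change resY (Y.basicOpen_le h) a = _
    rw [hadef, resY_resY, isNrm_normHom hpt U t _ hg ((Y.basicOpen_le h).trans hWU), nrmD_apply,
      map_pow, map_pow]
    change _ = (Algebra.norm Γ(Y, Y.basicOpen h)) (resPre π (Y.basicOpen_le h) b) ^ k
    rw [hbdef, resPre_resPre]
    rfl
  by_contra hcon
  simp only [not_exists, not_and] at hcon
  set p := (hW.primeIdealOf ⟨y, hyW⟩).asIdeal with hp
  have hV : IsAffineOpen (π ⁻¹ᵁ W) := hW.preimage π
  have hb : ∀ P : Ideal Γ(X, π ⁻¹ᵁ W), P.IsPrime →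
      P.comap (algebraMap Γ(Y, W) Γ(X, π ⁻¹ᵁ W)) = p → b ^ k ∈ P := by
    intro P hP hPp
    have hπ : π.base (hV.fromSpec ⟨P, hP⟩) = y := by
      have h5 := IsAffineOpen.SpecMap_appLE_fromSpec π hW hV le_rfl
      have h6 := congrArg (fun f => f.base ⟨P, hP⟩) h5
      simp only [Scheme.Hom.comp_base, TopCat.hom_comp, ContinuousMap.comp_apply] at h6
      rw [← h6]
      have h7 : (Spec.map (π.appLE W (π ⁻¹ᵁ W) le_rfl)).base ⟨P, hP⟩ = hW.primeIdealOf ⟨y, hyW⟩ := by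
        apply PrimeSpectrum.ext
        exact hPp
      rw [h7]
      exact hW.fromSpec_primeIdealOf ⟨y, hyW⟩
    have hx := hcon _ hπ
    have h8 : (⟨P, hP⟩ : PrimeSpectrum Γ(X, π ⁻¹ᵁ W)) ∉ hV.fromSpec ⁻¹ᵁ X.basicOpen b := by
      intro h9
      have h10 : hV.fromSpec ⟨P, hP⟩ ∈ X.basicOpen b := h9
      rw [hbdef] at h10
      unfold resPre at h10
      rw [Scheme.basicOpen_res] at h10
      exact hx h10.2
    rw [hV.fromSpec_preimage_basicOpen] at h8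
    have h11 : b ∈ P := by
      by_contra h12
      exact h8 h12
    exact Ideal.pow_mem_of_mem P h11 k hk
  have hap := GNormAlg.mem_of_norm_eq_of_forall_prime (A := Γ(Y, W)) (A' := Γ(Y, Y.basicOpen h))
    (B := Γ(X, π ⁻¹ᵁ W)) (B' := Γ(X, π ⁻¹ᵁ (Y.basicOpen h))) hinj hspan hd p (b ^ k) hb a ha
  have hya : y ∈ Y.basicOpen a := by
    rw [hadef]
    unfold resY
    rw [Scheme.basicOpen_res]
    exact ⟨hyW, hy⟩
  exact (mem_basicOpen_iff hW y hyW a).1 hya hap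

/-- **the generic determinant norm as a weak norm** -/
noncomputable def wnorm [Surjective π] (hN1 : 1 ≤ N) : WNorm π N where
  one_le := hN1
  norm := normHom hpt N
  norm_res {U V} i s := normHom_res hpt i.le s
  norm_app U g := normHom_app hpt hN U g
  norm_mem U s y hy := by
    rcases hpt y with ⟨hdom, -⟩ | ⟨W₀, hW₀, hyW₀⟩
    · haveI := hdom
      exact normHom_mem_of_isDomain hpt hN hN1 U s y hy
    · exact normHom_mem_of_good hpt hN hN1 U s y hy hW₀ hyW₀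

end Structure

/-- a common multiple of the ranks over the good opens -/
theorem exists_degree [Surjective π] [CompactSpace Y] [IsLocallyNoetherian Y] :
    ∃ N : ℕ, 1 ≤ N ∧ ∀ W, Good π W → (∃ y, y ∈ W) → rk π W ∣ N := by
  classical
  haveI : IsNoetherian Y := {}
  haveI : NoetherianSpace Y := inferInstance
  let V₀ : Y.Opens := ⨆ W : {W : Y.Opens // Good π W}, W.1
  have hcomp : IsCompact (V₀ : Set Y) := NoetherianSpace.isCompact _
  obtain ⟨F, hF⟩ := hcomp.elim_finite_subcover (fun W : {W : Y.Opens // Good π W} => (W.1 : Set Y))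
    (fun W => W.1.isOpen) (by
      intro z hz
      obtain ⟨W, hzW⟩ := Opens.mem_iSup.1 hz
      exact Set.mem_iUnion.2 ⟨W, hzW⟩)
  refine ⟨∏ W ∈ F, (if rk π W.1 = 0 then 1 else rk π W.1), ?_, fun W hW hne => ?_⟩
  · apply Nat.one_le_iff_ne_zero.2
    rw [Finset.prod_ne_zero_iff]
    intro W _
    split_ifs with h0
    · exact one_ne_zero
    · exact h0
  · obtain ⟨z, hz⟩ := hne
    have hzV : z ∈ (V₀ : Set Y) := Opens.mem_iSup.2 ⟨⟨W, hW⟩, hz⟩
    obtain ⟨W', hW'F, hzW'⟩ : ∃ W' ∈ F, z ∈ W'.1 := by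
      have := hF hzV
      simpa using this
    have h1 : rk π W = rk π W'.1 := rk_eq π hW W'.2 z ⟨hz, hzW'⟩
    have h2 : 1 ≤ rk π W := one_le_rk hW ⟨z, hz⟩
    have h3 : rk π W'.1 ∣ ∏ W ∈ F, (if rk π W.1 = 0 then 1 else rk π W.1) := by
      have h4 : (if rk π W'.1 = 0 then 1 else rk π W'.1) = rk π W'.1 := by
        rw [if_neg]
        rw [← h1]
        omega
      rw [← h4]
      exact Finset.dvd_prod_of_mem (fun W : {W : Y.Opens // Good π W} => if rk π W.1 = 0 then 1 else rk π W.1) hW'F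
    rw [h1]
    exact h3

/-- **existence of a weak norm** for a finite surjective morphism onto a reduced Noetherian scheme each of whose
points has an integrally closed local domain or a neighbourhood over which the morphism is free -/
theorem exists_wnorm [Surjective π] [IsReduced Y] [IsNoetherian Y] (hpt : PtHyp π) :
    ∃ N : ℕ, Nonempty (WNorm π N) := by
  obtain ⟨N, hN1, hN⟩ := exists_degree (π := π)
  exact ⟨N, ⟨wnorm hpt hN hN1⟩⟩

end Groth.Agent.Lib.Helper17.GNorm
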