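import Mathlib
set_option backward.isDefEq.respectTransparency.types false
set_option autoImplicit false
universe u v
open Polynomial

/-!
# Helper17 — GNormAlg: algebra of the generic determinant norm
-/

namespace Groth.Agent.Lib.Helper17.GNormAlg

section Det

variable {A A' F : Type*} [CommRing A] [CommRing A'] [Algebra A A'] [AddCommGroup F] [Module A' F]
  [Module A F] [IsScalarTower A A' F] {d r : ℕ} (e : Module.Basis (Fin d) A' F) (v : Fin r → F)

/-- the `A`-span of the `d × d` minors of the family `v` -/
def minors : Submodule A A' := Submodule.span A (Set.range fun σ : Fin d → Fin r => e.det (v ∘ σ))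

theorem minors_fg : (minors (A := A) e v).FG := Submodule.fg_span (Set.finite_range _)

/-- multilinear expansion -/
theorem det_mem (I : Ideal A) (w : Fin d → F)
    (hw : ∀ i, w i ∈ I • Submodule.span A (Set.range v)) :
    e.det w ∈ (I ^ d) • minors (A := A) e v := by
  have h1 : ∀ i, ∃ m : Fin r → A, (∀ l, m l ∈ I) ∧ w i = ∑ l, m l • v l := by
    intro i
    obtain ⟨a, ha, hsum⟩ := (Submodule.mem_ideal_smul_span_iff_exists_sum I v (w i)).1 (hw i)
    refine ⟨a, ha, ?_⟩
    rw [← hsum, Finsupp.sum_fintype]
    intro l; exact zero_smul _ _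
  choose m hm hwm using h1
  have h2 : w = fun i => ∑ l, (algebraMap A A' (m i l)) • v l := by
    funext i
    rw [hwm i]
    exact Finset.sum_congr rfl fun l _ => (algebraMap_smul A' (m i l) (v l)).symm
  rw [h2]
  rw [show (e.det fun i => ∑ l, (algebraMap A A' (m i l)) • v l) =
    e.det.toMultilinearMap (fun i => ∑ l, (algebraMap A A' (m i l)) • v l) from rfl]
  rw [MultilinearMap.map_sum]
  refine Submodule.sum_mem _ fun τ _ => ?_
  rw [MultilinearMap.map_smul_univ]
  rw [← map_prod, algebraMap_smul]
  refine Submodule.smul_mem_smul ?_ (Submodule.subset_span ⟨τ, rfl⟩)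
  have h3 : ∏ i : Fin d, m i (τ i) ∈ ∏ _i : Fin d, I :=
    Ideal.prod_mem_prod fun i _ => hm i (τ i)
  simpa using h3

/-- the determinant of an endomorphism preserving `I • span v` multiplies the minors into `I^d •` minors -/
theorem det_mul_mem (I : Ideal A) (u : F →ₗ[A'] F)
    (hu : ∀ l, u (v l) ∈ I • Submodule.span A (Set.range v)) (j : A')
    (hj : j ∈ minors (A := A) e v) : LinearMap.det u * j ∈ (I ^ d) • minors (A := A) e v := by
  unfold minors at hj
  induction hj using Submodule.span_induction with
  | mem x hx =>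
    obtain ⟨σ, rfl⟩ := hx
    change LinearMap.det u * e.det (v ∘ σ) ∈ _
    rw [← Module.Basis.det_comp]
    exact det_mem e v I _ (fun i => hu (σ i))
  | zero => rw [mul_zero]; exact Submodule.zero_mem _
  | add x y _ _ hx hy => rw [mul_add]; exact Submodule.add_mem _ hx hy
  | smul a x _ hx => rw [mul_smul_comm]; exact Submodule.smul_mem _ a hx

end Det

section Ne

variable {A' F : Type*} [CommRing A'] [Nontrivial A'] [AddCommGroup F] [Module A' F]
  {d r : ℕ} (e : Module.Basis (Fin d) A' F) (v : Fin r → F)

/-- if `v` spans, some minor is nonzero -/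
theorem exists_minor_ne_zero (hv : Submodule.span A' (Set.range v) = ⊤) :
    ∃ σ : Fin d → Fin r, e.det (v ∘ σ) ≠ 0 := by
  by_contra hcon
  simp only [not_exists, not_not] at hcon
  have h1 : e.det e ∈ ((⊤ : Ideal A') ^ d) • minors (A := A') e v := by
    refine det_mem e v ⊤ e (fun i => ?_)
    rw [Submodule.top_smul, hv]
    exact Submodule.mem_top
  have h2 : minors (A := A') e v = ⊥ := by
    unfold minors
    rw [Submodule.span_eq_bot]
    rintro _ ⟨σ, rfl⟩
    exact hcon σ
  rw [h2, Submodule.smul_bot, Submodule.mem_bot, Module.Basis.det_self] at h1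
  exact one_ne_zero h1

end Ne

section Norm

variable {A A' B B' : Type*} [CommRing A] [CommRing A'] [CommRing B] [CommRing B']
  [Algebra A A'] [Algebra A B] [Algebra A' B'] [Algebra B B'] [Algebra A B']
  [IsScalarTower A A' B'] [IsScalarTower A B B'] [Module.Finite A B]
  [Module.Free A' B'] [Module.Finite A' B'] [Nontrivial A']

/-- the package: generators of `B`, a basis of `B'`, and the key multiplication property -/
theorem norm_package (hspan : Submodule.span A' (Set.range (algebraMap B B')) = ⊤) :
    ∃ (r : ℕ) (v : Fin r → B') (e : Module.Basis (Fin (Module.finrank A' B')) A' B'),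
      Submodule.span A' (Set.range v) = ⊤ ∧
      ∀ (I : Ideal A) (c : B), c ∈ I • (⊤ : Submodule A B) → ∀ j ∈ minors (A := A) e v,
        Algebra.norm A' (algebraMap B B' c) * j ∈ (I ^ (Module.finrank A' B')) • minors (A := A) e v := by
  obtain ⟨r, β, hβ⟩ := Module.Finite.exists_fin (R := A) (M := B)
  let φ : B →ₗ[A] B' := (IsScalarTower.toAlgHom A B B').toLinearMap
  have hφ : ∀ b, φ b = algebraMap B B' b := fun _ => rfl
  let v : Fin r → B' := fun l => algebraMap B B' (β l)
  have hrange : Submodule.span A (Set.range v) = Submodule.map φ ⊤ := by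
    rw [← hβ, Submodule.map_span, ← Set.range_comp]
    rfl
  refine ⟨r, v, Module.finBasis A' B', ?_, fun I c hc j hj => ?_⟩
  · rw [eq_top_iff, ← hspan, Submodule.span_le]
    rintro _ ⟨b, rfl⟩
    have hb : b ∈ Submodule.span A (Set.range β) := hβ ▸ Submodule.mem_top
    have h1 : φ b ∈ Submodule.span A (Set.range v) := by
      rw [hrange]; exact ⟨b, Submodule.mem_top, rfl⟩
    rw [hφ] at h1
    have h2 : Submodule.span A (Set.range v) ≤ (Submodule.span A' (Set.range v)).restrictScalars A :=
      Submodule.span_le_restrictScalars A A' _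
    exact h2 h1
  · rw [Algebra.norm_apply]
    refine det_mul_mem (Module.finBasis A' B') v I _ (fun l => ?_) j hj
    change algebraMap B B' c * algebraMap B B' (β l) ∈ _
    rw [← map_mul, ← hφ, hrange, ← Submodule.map_smul'']
    refine ⟨c * β l, ?_, rfl⟩
    refine Submodule.smul_induction_on hc (fun a ha b _ => ?_) (fun x y hx hy => ?_)
    · rw [smul_mul_assoc]
      exact Submodule.smul_mem_smul ha Submodule.mem_top
    · rw [add_mul]
      exact Submodule.add_mem _ hx hy

/-- **the generic norm of an element of `B` is integral over `A`** -/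
theorem isIntegral_norm [IsDomain A'] (hspan : Submodule.span A' (Set.range (algebraMap B B')) = ⊤) (b : B) :
    IsIntegral A (Algebra.norm A' (algebraMap B B' b)) := by
  obtain ⟨r, v, e, hv, hmul⟩ := norm_package (A := A) (A' := A') (B := B) (B' := B') hspan
  obtain ⟨σ, hσ⟩ := exists_minor_ne_zero e v hv
  refine isIntegral_of_smul_mem_submodule (M := A') (minors (A := A) e v) ?_ (minors_fg e v) _ ?_
  · intro h
    have : e.det (v ∘ σ) ∈ minors (A := A) e v := Submodule.subset_span ⟨σ, rfl⟩
    rw [h, Submodule.mem_bot] at this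
    exact hσ this
  · intro j hj
    have h1 := hmul ⊤ b (by rw [Submodule.top_smul]; exact Submodule.mem_top) j hj
    rw [Ideal.top_pow, Submodule.top_smul] at h1
    exact h1

/-- Cayley–Hamilton: if `a • J ⊆ p • J` for a nonzero finitely generated `A`-submodule `J` of a domain
`A' ⊇ A`, then `a ∈ p` -/
theorem mem_of_smul_minors_le {A A' : Type*} [CommRing A] [CommRing A'] [IsDomain A'] [Algebra A A']
    (hinj : Function.Injective (algebraMap A A')) (p : Ideal A) [p.IsPrime] (J : Submodule A A') (hJ : J.FG)
    (j₀ : A') (hj₀ : j₀ ∈ J) (hj₀' : j₀ ≠ 0) (a : A) (ha : ∀ j ∈ J, a • j ∈ p • J) : a ∈ p := by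
  haveI : Module.Finite A J := Module.Finite.iff_fg.2 hJ
  let f : Module.End A J := algebraMap A (Module.End A J) a
  have hf : LinearMap.range f ≤ p • (⊤ : Submodule A J) := by
    rintro _ ⟨j, rfl⟩
    rw [Submodule.mem_smul_top_iff]
    change ((a • j : J) : A') ∈ p • J
    exact ha j j.2
  obtain ⟨Q, hQm, -, hQc, hQ0⟩ :=
    LinearMap.exists_monic_and_natDegree_eq_and_coeff_mem_pow_and_aeval_eq_zero A f p hf
  rw [Polynomial.aeval_algebraMap_apply] at hQ0
  have h1 : (Polynomial.aeval a Q) • j₀ = 0 := by
    have := congrArg (fun g : Module.End A J => ((g ⟨j₀, hj₀⟩ : J) : A')) hQ0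
    simpa [Module.algebraMap_end_apply] using this
  rw [Algebra.smul_def, mul_eq_zero] at h1
  have h2 : Polynomial.aeval a Q = 0 := by
    rcases h1 with h1 | h1
    · exact hinj (by rw [h1, map_zero])
    · exact absurd h1 hj₀'
  rw [Polynomial.coe_aeval_eq_eval, Polynomial.eval_eq_sum_range, Finset.sum_range_succ, hQm.coeff_natDegree,
    one_mul] at h2
  have h3 : a ^ Q.natDegree ∈ p := by
    rw [eq_neg_of_add_eq_zero_right h2]
    refine p.neg_mem (p.sum_mem fun k hk => p.mul_mem_right _ ?_)
    have hk' : k < Q.natDegree := Finset.mem_range.1 hk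
    exact Ideal.pow_le_self (Nat.sub_ne_zero_of_lt hk') (hQc k)
  exact Ideal.IsPrime.mem_of_pow_mem inferInstance _ h3

/-- **elements of `p B` have generic norm in `p`** -/
theorem mem_of_norm_eq [IsDomain A'] (hinj : Function.Injective (algebraMap A A'))
    (hspan : Submodule.span A' (Set.range (algebraMap B B')) = ⊤) (hd : 1 ≤ Module.finrank A' B')
    (p : Ideal A) [p.IsPrime] (c : B) (hc : c ∈ p • (⊤ : Submodule A B)) (a : A)
    (ha : algebraMap A A' a = Algebra.norm A' (algebraMap B B' c)) : a ∈ p := by
  obtain ⟨r, v, e, hv, hmul⟩ := norm_package (A := A) (A' := A') (B := B) (B' := B') hspan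
  obtain ⟨σ, hσ⟩ := exists_minor_ne_zero e v hv
  refine mem_of_smul_minors_le hinj p (minors (A := A) e v) (minors_fg e v) (e.det (v ∘ σ))
    (Submodule.subset_span ⟨σ, rfl⟩) hσ a (fun j hj => ?_)
  have h1 := hmul p c hc j hj
  rw [← ha, ← Algebra.smul_def] at h1
  exact Submodule.smul_mono_left (Ideal.pow_le_self (Nat.one_le_iff_ne_zero.1 hd)) h1

end Norm

section PA

variable {A B : Type*} [CommRing A] [CommRing B] [Algebra A B]

/-- an element lying in every prime over `p` has a power which, up to a factor outside `p`, lies in `p B` -/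
theorem exists_smul_pow_mem (p : Ideal A) [p.IsPrime] (b : B)
    (hb : ∀ P : Ideal B, P.IsPrime → P.comap (algebraMap A B) = p → b ∈ P) :
    ∃ s : A, s ∉ p ∧ ∃ n : ℕ, algebraMap A B s * b ^ n ∈ p.map (algebraMap A B) := by
  by_contra hcon
  simp only [not_exists, not_and] at hcon
  let T : Submonoid B := Algebra.algebraMapSubmonoid B p.primeCompl ⊔ Submonoid.powers b
  have hdisj : Disjoint ((p.map (algebraMap A B) : Ideal B) : Set B) (T : Set B) := by
    rw [Set.disjoint_left]
    intro z hz hzT
    obtain ⟨y, hy, w, hw, rfl⟩ := Submonoid.mem_sup.1 hzT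
    obtain ⟨s, hs, rfl⟩ := hy
    obtain ⟨n, rfl⟩ := hw
    exact hcon s hs n hz
  obtain ⟨P, hP, hle, hPT⟩ := Ideal.exists_le_prime_disjoint _ T hdisj
  have hcomap : P.comap (algebraMap A B) = p := by
    apply le_antisymm
    · intro a ha
      by_contra hap
      have h1 : algebraMap A B a ∈ T := Submonoid.mem_sup_left ⟨a, hap, rfl⟩
      exact Set.disjoint_left.1 hPT ha h1
    · exact Ideal.le_comap_of_map_le hle
  have hbT : b ∈ T := Submonoid.mem_sup_right (Submonoid.mem_powers b)
  exact Set.disjoint_left.1 hPT (hb P hP hcomap) hbT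

end PA

section Norm2

variable {A A' B B' : Type*} [CommRing A] [CommRing A'] [CommRing B] [CommRing B']
  [Algebra A A'] [Algebra A B] [Algebra A' B'] [Algebra B B'] [Algebra A B']
  [IsScalarTower A A' B'] [IsScalarTower A B B'] [Module.Finite A B]
  [Module.Free A' B'] [Module.Finite A' B'] [IsDomain A']

/-- **an element lying in every prime over `p` has generic norm in `p`** -/
theorem mem_of_norm_eq_of_forall_prime (hinj : Function.Injective (algebraMap A A'))
    (hspan : Submodule.span A' (Set.range (algebraMap B B')) = ⊤) (hd : 1 ≤ Module.finrank A' B')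
    (p : Ideal A) [p.IsPrime] (b : B)
    (hb : ∀ P : Ideal B, P.IsPrime → P.comap (algebraMap A B) = p → b ∈ P) (a : A)
    (ha : algebraMap A A' a = Algebra.norm A' (algebraMap B B' b)) : a ∈ p := by
  obtain ⟨s, hs, n, hsn⟩ := exists_smul_pow_mem p b hb
  have hc : algebraMap A B s * b ^ n ∈ p • (⊤ : Submodule A B) := by
    rw [Ideal.smul_top_eq_map]
    exact hsn
  have h1 : algebraMap A A' (s ^ Module.finrank A' B' * a ^ n) =
      Algebra.norm A' (algebraMap B B' (algebraMap A B s * b ^ n)) := by
    rw [map_mul, map_mul, map_pow, map_pow, map_mul, map_pow, map_pow, ← ha,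
      ← IsScalarTower.algebraMap_apply A B B', IsScalarTower.algebraMap_apply A A' B',
      Algebra.norm_algebraMap]
  have h2 := mem_of_norm_eq (B := B) (B' := B') hinj hspan hd p _ hc _ h1
  rcases (Ideal.IsPrime.mem_or_mem inferInstance h2) with h3 | h3
  · exact absurd (Ideal.IsPrime.mem_of_pow_mem inferInstance _ h3) hs
  · exact Ideal.IsPrime.mem_of_pow_mem inferInstance _ h3

end Norm2

section Dom

/-- in a Noetherian ring, a prime whose localization is a domain has a basic open neighbourhood which is a
domain -/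
theorem exists_isDomain_away {A : Type u} [CommRing A] [IsNoetherianRing A] (p : Ideal A) [p.IsPrime]
    (Ap : Type v) [CommRing Ap] [Algebra A Ap] [IsLocalization.AtPrime Ap p] [IsDomain Ap] :
    ∃ f : A, f ∉ p ∧ ∀ (Af : Type u) [CommRing Af] [Algebra A Af] [IsLocalization.Away f Af], IsDomain Af := by
  classical
  let q : Ideal A := RingHom.ker (algebraMap A Ap)
  obtain ⟨G, hG⟩ := (IsNoetherian.noetherian q : q.FG)
  have h1 : ∀ x ∈ q, ∃ s : A, s ∉ p ∧ s * x = 0 := by
    intro x hx
    have hx0 : algebraMap A Ap x = 0 := hx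
    obtain ⟨⟨s, hs⟩, hsx⟩ := (IsLocalization.map_eq_zero_iff p.primeCompl Ap x).1 hx0
    exact ⟨s, hs, hsx⟩
  choose! s hs hsx using h1
  let f : A := ∏ x ∈ G, s x
  have hGq : ∀ x ∈ G, x ∈ q := fun x hx => hG ▸ Ideal.subset_span hx
  have hf : f ∉ p := by
    have : f ∈ p.primeCompl := Submonoid.prod_mem _ fun x hx => hs x (hGq x hx)
    exact this
  have hfq : ∀ x ∈ q, f * x = 0 := by
    intro x hx
    rw [← hG] at hx
    induction hx using Submodule.span_induction with
    | mem y hy =>
      have : s y ∣ f := Finset.dvd_prod_of_mem s hy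
      obtain ⟨c, hc⟩ := this
      rw [hc, mul_comm (s y) c, mul_assoc, hsx y (hGq y hy), mul_zero]
    | zero => exact mul_zero _
    | add y z _ _ hy hz => rw [mul_add, hy, hz, add_zero]
    | smul a y _ hy => rw [smul_eq_mul, mul_left_comm, hy, mul_zero]
  refine ⟨f, hf, fun Af _ _ _ => ?_⟩
  have hunit : ∀ y : Submonoid.powers f, IsUnit (algebraMap A Ap y) := by
    rintro ⟨_, n, rfl⟩
    rw [map_pow]
    exact (IsLocalization.map_units Ap (⟨f, hf⟩ : p.primeCompl)).pow n
  have hinj : Function.Injective (IsLocalization.lift (S := Af) hunit) := by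
    rw [IsLocalization.lift_injective_iff]
    intro x y
    constructor
    · intro h
      obtain ⟨⟨_, n, rfl⟩, hc⟩ := (IsLocalization.eq_iff_exists (Submonoid.powers f) Af).1 h
      have h2 := congrArg (algebraMap A Ap) hc
      rw [map_mul, map_mul] at h2
      exact (hunit ⟨f ^ n, n, rfl⟩).mul_left_cancel h2
    · intro h
      have hxy : x - y ∈ q := by
        change algebraMap A Ap (x - y) = 0
        rw [map_sub, h, sub_self]
      have h3 := hfq _ hxy
      rw [IsLocalization.eq_iff_exists (Submonoid.powers f) Af]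
      refine ⟨⟨f, 1, pow_one f⟩, ?_⟩
      rw [mul_sub, sub_eq_zero] at h3
      exact h3
  exact hinj.isDomain (IsLocalization.lift (S := Af) hunit)

end Dom

end Groth.Agent.Lib.Helper17.GNormAlg
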