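import Groth.Agent.Lib.Helper17.NormFLFD
import Groth.Agent.Lib.Helper17.GNormAlg
import Mathlib
set_option backward.isDefEq.respectTransparency.types false
set_option autoImplicit false
universe u
open CategoryTheory CategoryTheory.Limits AlgebraicGeometry Opposite TopologicalSpace

/-!
# Helper17 — GNormLocal: local study of the norm on opens over which a finite morphism is free
(no global flatness assumption)
-/

namespace Groth.Agent.Lib.Helper17.GNormLocal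

open Groth.Agent.Lib.Helper17.NormGlue Groth.Agent.Lib.Helper17.NormFLF Groth.Agent.Lib.Helper17.NormFLFD

variable {X Y : Scheme.{u}} (π : X ⟶ Y)

attribute [local instance] Groth.Agent.Lib.Helper17.NormFLF.algApp

/-- the rank of the sections over `W` -/
noncomputable def rk (W : Y.Opens) : ℕ := Module.finrank Γ(Y, W) Γ(X, π ⁻¹ᵁ W)

/-- restriction of sections of `O_Y` -/
noncomputable abbrev resY {U W : Y.Opens} (h : W ≤ U) (s : Γ(Y, U)) : Γ(Y, W) :=
  Y.presheaf.map (homOfLE h).op s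

theorem resY_resY {U V W : Y.Opens} (h : V ≤ U) (h' : W ≤ V) (s : Γ(Y, U)) :
    resY h' (resY h s) = resY (h'.trans h) s := by
  unfold resY
  rw [← CommRingCat.comp_apply, ← Y.presheaf.map_comp]
  rfl

theorem nontrivial_of_mem {W : Y.Opens} {y : Y} (hy : y ∈ W) : Nontrivial Γ(Y, W) := by
  by_contra h
  rw [not_nontrivial_iff_subsingleton] at h
  have h1 : (Y.presheaf.germ W y hy) (1 : Γ(Y, W)) = (Y.presheaf.germ W y hy) 0 := by
    rw [Subsingleton.elim (1 : Γ(Y, W)) 0]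
  rw [map_one, map_zero] at h1
  exact one_ne_zero h1

variable [IsFinite π]

theorem rk_basicOpen {W : Y.Opens} (hW : Good π W) (f : Γ(Y, W)) (hne : ∃ y, y ∈ Y.basicOpen f) :
    rk π (Y.basicOpen f) = rk π W := by
  obtain ⟨y, hy⟩ := hne
  haveI : Nontrivial Γ(Y, Y.basicOpen f) := nontrivial_of_mem hy
  haveI : Nontrivial Γ(Y, W) := nontrivial_of_mem (Y.basicOpen_le f hy)
  obtain ⟨h1, h2, h3, h4⟩ := basic_package π f hW.1
  letI : Algebra Γ(Y, W) Γ(Y, Y.basicOpen f) :=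
    (Y.presheaf.map (homOfLE (Y.basicOpen_le f)).op).hom.toAlgebra
  letI : Algebra Γ(X, π ⁻¹ᵁ W) Γ(X, π ⁻¹ᵁ (Y.basicOpen f)) :=
    (X.presheaf.map (homOfLE (π.preimage_mono (Y.basicOpen_le f))).op).hom.toAlgebra
  letI : Algebra Γ(Y, W) Γ(X, π ⁻¹ᵁ (Y.basicOpen f)) :=
    ((algebraMap Γ(Y, Y.basicOpen f) Γ(X, π ⁻¹ᵁ (Y.basicOpen f))).comp
      (algebraMap Γ(Y, W) Γ(Y, Y.basicOpen f))).toAlgebra
  haveI := h1; haveI := h2; haveI := h3; haveI := h4
  haveI := hW.2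
  haveI := finite_app π hW.1
  let b := Module.Free.chooseBasis Γ(Y, W) Γ(X, π ⁻¹ᵁ W)
  let b' := b.localizationLocalization Γ(Y, Y.basicOpen f) (Submonoid.powers f) Γ(X, π ⁻¹ᵁ (Y.basicOpen f))
  unfold rk
  rw [Module.finrank_eq_card_basis b, Module.finrank_eq_card_basis b']

/-- ranks of good opens agree on overlaps -/
theorem rk_eq {W₁ W₂ : Y.Opens} (h₁ : Good π W₁) (h₂ : Good π W₂) (z : Y) (hz : z ∈ W₁ ⊓ W₂) :
    rk π W₁ = rk π W₂ := by
  obtain ⟨f, g, hfg, hzf⟩ := exists_basicOpen_le_affine_inter h₁.1 h₂.1 z hz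
  rw [← rk_basicOpen π h₁ f ⟨z, hzf⟩, ← rk_basicOpen π h₂ g ⟨z, hfg ▸ hzf⟩, hfg]

/-- compatibility of the local norm of degree `N` with passing to a basic open -/
theorem nrmD_basicOpen (N : ℕ) {W : Y.Opens} (hW : Good π W) (f : Γ(Y, W)) (t : Γ(X, π ⁻¹ᵁ W)) :
    nrmD π N (Y.basicOpen f) (resPre π (Y.basicOpen_le f) t) =
      resY (Y.basicOpen_le f) (nrmD π N W t) := by
  by_cases hne : ∃ y, y ∈ Y.basicOpen f
  · have h1 := rk_basicOpen π hW f hne
    unfold rk at h1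
    rw [nrmD_apply, nrmD_apply, norm_basicOpen π f hW t, h1]
    unfold resY
    rw [map_pow]
  · haveI := subsingleton_of_empty hne
    exact Subsingleton.elim _ _

theorem nrmD_congr (N : ℕ) {U D D' : Y.Opens} (h : D = D') (hD : D ≤ U) (hD' : D' ≤ U) (t : Γ(X, π ⁻¹ᵁ U)) :
    nrmD π N D (resPre π hD t) =
      Y.presheaf.map (eqToHom h).op (nrmD π N D' (resPre π hD' t)) := by
  subst h
  simp

/-- the local norms of two good opens agree near every point of the intersection -/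
theorem nrmD_compat (N : ℕ) {U W₁ W₂ : Y.Opens} (h₁ : Good π W₁) (h₂ : Good π W₂) (hU₁ : W₁ ≤ U) (hU₂ : W₂ ≤ U)
    (t : Γ(X, π ⁻¹ᵁ U)) (z : Y) (hz : z ∈ W₁ ⊓ W₂) :
    ∃ (D : Y.Opens) (hD₁ : D ≤ W₁) (hD₂ : D ≤ W₂), z ∈ D ∧
      resY hD₁ (nrmD π N W₁ (resPre π hU₁ t)) = resY hD₂ (nrmD π N W₂ (resPre π hU₂ t)) := by
  obtain ⟨f, g, hfg, hzf⟩ := exists_basicOpen_le_affine_inter h₁.1 h₂.1 z hz
  refine ⟨Y.basicOpen f, Y.basicOpen_le f, hfg ▸ Y.basicOpen_le g, hzf, ?_⟩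
  rw [← nrmD_basicOpen π N h₁ f, resPre_resPre]
  have h3 := nrmD_basicOpen π N h₂ g (resPre π hU₂ t)
  rw [resPre_resPre] at h3
  rw [nrmD_congr π N hfg ((Y.basicOpen_le f).trans hU₁) ((Y.basicOpen_le g).trans hU₂) t, h3]
  unfold resY
  rw [← CommRingCat.comp_apply, ← Y.presheaf.map_comp]
  rfl

omit [IsFinite π] in
/-- on a reduced scheme, sections agreeing on a dense open agree -/
theorem eq_of_res_eq_of_dense [IsReduced Y] {U V : Y.Opens} (hVU : V ≤ U)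
    (hdense : ∀ U' : Y.Opens, U' ≤ U → (∃ y, y ∈ U') → ∃ y, y ∈ U' ⊓ V) (s s' : Γ(Y, U))
    (h : resY hVU s = resY hVU s') : s = s' := by
  rw [← sub_eq_zero, ← AlgebraicGeometry.basicOpen_eq_bot_iff]
  by_contra hne
  obtain ⟨y, hy⟩ : ∃ y, y ∈ Y.basicOpen (s - s') := by
    by_contra hcon
    apply hne
    ext y
    simp only [Opens.coe_bot, Set.mem_empty_iff_false, iff_false]
    exact fun hy => hcon ⟨y, hy⟩
  obtain ⟨z, hz⟩ := hdense _ (Y.basicOpen_le _) ⟨y, hy⟩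
  have h1 : z ∈ Y.basicOpen (resY hVU (s - s')) := by
    unfold resY
    rw [Scheme.basicOpen_res]
    exact ⟨hz.2, hz.1⟩
  unfold resY at h h1
  rw [map_sub, h, sub_self, Scheme.basicOpen_zero] at h1
  exact h1

/-- generic freeness over an integral affine open -/
theorem exists_good_basicOpen {W : Y.Opens} (hW : IsAffineOpen W) [IsDomain Γ(Y, W)] [IsNoetherianRing Γ(Y, W)] :
    ∃ h : Γ(Y, W), h ≠ 0 ∧ Good π (Y.basicOpen h) := by
  haveI : Module.Finite Γ(Y, W) Γ(X, π ⁻¹ᵁ W) := finite_app π hW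
  haveI : Module.FinitePresentation Γ(Y, W) Γ(X, π ⁻¹ᵁ W) := Module.finitePresentation_of_finite _ _
  let S := nonZeroDivisors Γ(Y, W)
  haveI : Module.Free (FractionRing Γ(Y, W)) (LocalizedModule S Γ(X, π ⁻¹ᵁ W)) :=
    Module.Free.of_divisionRing _ _
  obtain ⟨r, hr, hfree, -⟩ := Module.FinitePresentation.exists_free_localizedModule_powers
    S (LocalizedModule.mkLinearMap S Γ(X, π ⁻¹ᵁ W)) (FractionRing Γ(Y, W))
  refine ⟨r, nonZeroDivisors.ne_zero hr, ⟨hW.basicOpen r, ?_⟩⟩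
  obtain ⟨h1, h2, h3, h4⟩ := basic_package π r hW
  letI : Algebra Γ(Y, W) Γ(Y, Y.basicOpen r) :=
    (Y.presheaf.map (homOfLE (Y.basicOpen_le r)).op).hom.toAlgebra
  letI : Algebra Γ(X, π ⁻¹ᵁ W) Γ(X, π ⁻¹ᵁ (Y.basicOpen r)) :=
    (X.presheaf.map (homOfLE (π.preimage_mono (Y.basicOpen_le r))).op).hom.toAlgebra
  letI : Algebra Γ(Y, W) Γ(X, π ⁻¹ᵁ (Y.basicOpen r)) :=
    ((algebraMap Γ(Y, Y.basicOpen r) Γ(X, π ⁻¹ᵁ (Y.basicOpen r))).comp
      (algebraMap Γ(Y, W) Γ(Y, Y.basicOpen r))).toAlgebra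
  haveI := h1; haveI := h2; haveI := h3; haveI := h4
  haveI : IsLocalizedModule (Submonoid.powers r)
      (IsScalarTower.toAlgHom Γ(Y, W) Γ(X, π ⁻¹ᵁ W) Γ(X, π ⁻¹ᵁ (Y.basicOpen r))).toLinearMap :=
    isLocalizedModule_iff_isLocalization.mpr h4
  exact (free_localized_iff (Submonoid.powers r) Γ(Y, Y.basicOpen r) Γ(X, π ⁻¹ᵁ (Y.basicOpen r))
    (IsScalarTower.toAlgHom Γ(Y, W) Γ(X, π ⁻¹ᵁ W) Γ(X, π ⁻¹ᵁ (Y.basicOpen r))).toLinearMap).1 hfree

omit [IsFinite π] in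
/-- a point of a locally Noetherian scheme whose local ring is a domain has an integral affine neighbourhood -/
theorem exists_isDomain_affine_nhd [IsLocallyNoetherian Y] (y : Y) [IsDomain (Y.presheaf.stalk y)]
    (U : Y.Opens) (hy : y ∈ U) :
    ∃ W : Y.Opens, IsAffineOpen W ∧ y ∈ W ∧ W ≤ U ∧ IsDomain Γ(Y, W) := by
  obtain ⟨W₀, hW₀, hyW₀, hW₀U⟩ := (Opens.isBasis_iff_nbhd.1 Y.isBasis_affineOpens) hy
  haveI : IsNoetherianRing Γ(Y, W₀) := IsLocallyNoetherian.component_noetherian ⟨W₀, hW₀⟩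
  letI : Algebra Γ(Y, W₀) (Y.presheaf.stalk y) := TopCat.Presheaf.algebra_section_stalk Y.presheaf ⟨y, hyW₀⟩
  haveI : IsLocalization.AtPrime (Y.presheaf.stalk y) (hW₀.primeIdealOf ⟨y, hyW₀⟩).asIdeal :=
    hW₀.isLocalization_stalk ⟨y, hyW₀⟩
  obtain ⟨f, hf, hdom⟩ := GNormAlg.exists_isDomain_away (hW₀.primeIdealOf ⟨y, hyW₀⟩).asIdeal
    (Y.presheaf.stalk y)
  refine ⟨Y.basicOpen f, hW₀.basicOpen f, (mem_basicOpen_iff hW₀ y hyW₀ f).2 hf,
    (Y.basicOpen_le f).trans hW₀U, ?_⟩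
  letI : Algebra Γ(Y, W₀) Γ(Y, Y.basicOpen f) :=
    (Y.presheaf.map (homOfLE (Y.basicOpen_le f)).op).hom.toAlgebra
  haveI : IsLocalization.Away f Γ(Y, Y.basicOpen f) := hW₀.isLocalization_basicOpen f
  exact hdom Γ(Y, Y.basicOpen f)

omit [IsFinite π] in
/-- **a section over a nonempty basic open of an integral affine open which is integral over the ring of the
affine open extends to a neighbourhood of every point whose local ring is integrally closed** -/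
theorem exists_section_of_normal {W : Y.Opens} (hW : IsAffineOpen W) [IsDomain Γ(Y, W)] (y : Y) (hy : y ∈ W)
    [IsDomain (Y.presheaf.stalk y)] [IsIntegrallyClosed (Y.presheaf.stalk y)] (h : Γ(Y, W)) (h0 : h ≠ 0)
    (n₀ : Γ(Y, Y.basicOpen h))
    (hint : letI : Algebra Γ(Y, W) Γ(Y, Y.basicOpen h) :=
        (Y.presheaf.map (homOfLE (Y.basicOpen_le h)).op).hom.toAlgebra
      IsIntegral Γ(Y, W) n₀) :
    ∃ (s : Γ(Y, W)) (σ : Γ(Y, Y.basicOpen s)), y ∈ Y.basicOpen s ∧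
      resY (inf_le_left : Y.basicOpen s ⊓ Y.basicOpen h ≤ Y.basicOpen s) σ =
        resY (inf_le_right : Y.basicOpen s ⊓ Y.basicOpen h ≤ Y.basicOpen h) n₀ := by
  letI : Algebra Γ(Y, W) Γ(Y, Y.basicOpen h) :=
    (Y.presheaf.map (homOfLE (Y.basicOpen_le h)).op).hom.toAlgebra
  haveI : IsLocalization.Away h Γ(Y, Y.basicOpen h) := hW.isLocalization_basicOpen h
  letI : Algebra Γ(Y, W) (Y.presheaf.stalk y) := TopCat.Presheaf.algebra_section_stalk Y.presheaf ⟨y, hy⟩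
  set p := (hW.primeIdealOf ⟨y, hy⟩).asIdeal with hp
  haveI : IsLocalization.AtPrime (Y.presheaf.stalk y) p := hW.isLocalization_stalk ⟨y, hy⟩
  let S := Y.presheaf.stalk y
  let K := FractionRing S
  have hinjS : Function.Injective (algebraMap Γ(Y, W) S) :=
    IsLocalization.injective S p.primeCompl_le_nonZeroDivisors
  have hinjK : Function.Injective ((algebraMap S K).comp (algebraMap Γ(Y, W) S)) :=
    (IsFractionRing.injective S K).comp hinjS
  let g : Γ(Y, W) →+* K := (algebraMap S K).comp (algebraMap Γ(Y, W) S)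
  have hunit : ∀ z : Submonoid.powers h, IsUnit (g z) := by
    rintro ⟨_, n, rfl⟩
    rw [map_pow]
    refine IsUnit.pow n (IsUnit.mk0 _ ?_)
    intro h1
    exact h0 (hinjK (by rw [map_zero]; exact h1))
  let ψ : Γ(Y, Y.basicOpen h) →+* K := IsLocalization.lift (M := Submonoid.powers h) hunit
  have hψ : ∀ a, ψ (algebraMap Γ(Y, W) Γ(Y, Y.basicOpen h) a) = g a := fun a => IsLocalization.lift_eq hunit a
  have hψinj : Function.Injective ψ := by
    rw [IsLocalization.lift_injective_iff]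
    intro a b
    exact ⟨fun hab => by rw [← hψ, ← hψ, hab], fun hab => by rw [hinjK hab]⟩
  have hint' : IsIntegral S (ψ n₀) := by
    refine IsIntegral.map_of_comp_eq (algebraMap Γ(Y, W) S) ψ ?_ hint
    ext a
    exact (hψ a).symm
  obtain ⟨σy, hσy⟩ := IsIntegrallyClosed.algebraMap_eq_of_integral hint'
  obtain ⟨a, ⟨s, hs⟩, rfl⟩ := IsLocalization.exists_mk'_eq p.primeCompl σy
  have hspec : IsLocalization.mk' S a ⟨s, hs⟩ * algebraMap Γ(Y, W) S s = algebraMap Γ(Y, W) S a :=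
    IsLocalization.mk'_spec S a ⟨s, hs⟩
  have heq : n₀ * algebraMap Γ(Y, W) Γ(Y, Y.basicOpen h) s = algebraMap Γ(Y, W) Γ(Y, Y.basicOpen h) a := by
    apply hψinj
    rw [map_mul, hψ, hψ, ← hσy]
    change algebraMap S K _ * algebraMap S K (algebraMap Γ(Y, W) S s) = algebraMap S K (algebraMap Γ(Y, W) S a)
    rw [← map_mul, hspec]
  have hu : IsUnit (resY (Y.basicOpen_le s) s) := Y.toRingedSpace.isUnit_res_basicOpen s
  refine ⟨s, resY (Y.basicOpen_le s) a * ↑hu.unit⁻¹, (mem_basicOpen_iff hW y hy s).2 hs, ?_⟩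
  have hu' : IsUnit (resY (inf_le_left : Y.basicOpen s ⊓ Y.basicOpen h ≤ Y.basicOpen s)
      (resY (Y.basicOpen_le s) s)) := hu.map _
  apply hu'.mul_right_cancel
  have h1 : (resY (Y.basicOpen_le s) a * ↑hu.unit⁻¹) * resY (Y.basicOpen_le s) s = resY (Y.basicOpen_le s) a := by
    rw [mul_assoc]
    have : (↑hu.unit⁻¹ : Γ(Y, Y.basicOpen s)) * resY (Y.basicOpen_le s) s = 1 := hu.val_inv_mul
    rw [this, mul_one]
  have h2 := congrArg (resY (inf_le_left : Y.basicOpen s ⊓ Y.basicOpen h ≤ Y.basicOpen s)) h1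
  have h3 := congrArg (resY (inf_le_right : Y.basicOpen s ⊓ Y.basicOpen h ≤ Y.basicOpen h)) heq
  unfold resY at h2 h3 ⊢
  rw [map_mul] at h2 h3
  rw [h2]
  change _ = _ * (Y.presheaf.map _) ((Y.presheaf.map _) s)
  have key : ∀ {A B : Y.Opens} (p q : op A ⟶ op B) (x : Γ(Y, A)),
      Y.presheaf.map p x = Y.presheaf.map q x := by
    intro A B p q x; rw [Subsingleton.elim p q]
  change (Y.presheaf.map _) n₀ * (Y.presheaf.map _) ((Y.presheaf.map _) s) =
    (Y.presheaf.map _) ((Y.presheaf.map _) a) at h3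
  simp only [← CommRingCat.comp_apply, ← Y.presheaf.map_comp] at h3 ⊢
  rw [key _ ((homOfLE (Y.basicOpen_le h)).op ≫ (homOfLE inf_le_right).op) a]
  rw [← h3]
  congr 1

end Groth.Agent.Lib.Helper17.GNormLocal
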