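import Groth.Agent.S0468
import Groth.Agent.Lib.Helper17.HCompare
import Groth.Agent.Lib.Helper27.ExtFiltTop2
import Mathlib

/-!
# Grothendieck vanishing, part 1: cohomology of a directed colimit of acyclic sheaves
-/

set_option autoImplicit false
set_option backward.isDefEq.respectTransparency.types false
universe u
open CategoryTheory CategoryTheory.Limits TopologicalSpace Opposite

namespace Groth.Agent.Lib.Helper17.GV

variable {X : TopCat.{u}}

/-- transport of vanishing between `H` and `HU ⊤` -/
theorem subsingleton_H_iff (F : CohTop.Ab X) (q : ℕ) :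
    Subsingleton (CohTop.H F q) ↔ Subsingleton (CohTop.HU F q ⊤) :=
  (Groth.Agent.Lib.Helper17.HCompare.topHEquiv F q).toEquiv.subsingleton_congr

/-- If `H^q` vanishes on every member of a directed system of abelian sheaves on a Noetherian space,
it vanishes on the colimit. -/
theorem subsingleton_H_of_isColimit [NoetherianSpace X]
    {ι : Type u} [Preorder ι] [IsDirected ι (· ≤ ·)] [Nonempty ι]
    (D : ι ⥤ CohTop.Ab X) (c : Cocone D) (hc : IsColimit c) (q : ℕ)
    (h : ∀ i, Subsingleton (CohTop.H (D.obj i) q)) : Subsingleton (CohTop.H c.pt q) := by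
  haveI := Groth.Agent.Lib.Helper27.ExtFilt.quasiSeparatedSpace_of_noetherian (X := X)
  rw [subsingleton_H_iff]
  set Φ : CohTop.Ab X ⥤ AddCommGrpCat.{u} :=
    (Sheaf.cohomologyPresheafFunctor (Opens.grothendieckTopology X) q).flip.obj (op ⊤) with hΦ
  haveI : PreservesColimitsOfShape ι Φ :=
    Groth.Agent.S0468.result (X := X) ⊤ (NoetherianSpace.isCompact _) ι q
  have hc' : IsColimit (Φ.mapCocone c) := isColimitOfPreserves Φ hc
  have hz : ∀ i, IsZero (Φ.obj (D.obj i)) := by
    intro i
    have h1 : Subsingleton (CohTop.HU (D.obj i) q ⊤) := (subsingleton_H_iff _ q).mp (h i)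
    haveI : Subsingleton ↑(Φ.obj (D.obj i)) := h1
    exact AddCommGrpCat.isZero_of_subsingleton _
  have hid : 𝟙 (Φ.obj c.pt) = 0 := by
    refine hc'.hom_ext (fun i => ?_)
    exact (hz i).eq_of_src _ _
  have hZ : IsZero (Φ.obj c.pt) := (IsZero.iff_id_eq_zero _).mpr hid
  exact AddCommGrpCat.subsingleton_of_isZero hZ

end Groth.Agent.Lib.Helper17.GV
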