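import Groth.Agent.Lib.Helper17.GV1
import Mathlib

/-!
# Grothendieck vanishing, part 2: the sheaves `F_W : U ↦ F(U ⊓ W)` and sections with support
-/

set_option autoImplicit false
set_option backward.isDefEq.respectTransparency.types false
universe u
open CategoryTheory CategoryTheory.Limits TopologicalSpace Opposite

namespace Groth.Agent.Lib.Helper17.GV

variable {X : TopCat.{u}}

/-- restriction of a section -/
noncomputable abbrev rs (F : CohTop.Ab X) {U V : Opens X} (h : V ≤ U) (s : F.obj.obj (op U)) :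
    F.obj.obj (op V) :=
  (F.obj.map (homOfLE h).op).hom s

theorem rs_rs (F : CohTop.Ab X) {U V W : Opens X} (h : V ≤ U) (h' : W ≤ V)
    (s : F.obj.obj (op U)) : rs F h' (rs F h s) = rs F (h'.trans h) s := by
  change ((F.obj.map (homOfLE h).op) ≫ (F.obj.map (homOfLE h').op)).hom s = _
  rw [← F.obj.map_comp]
  rfl

theorem rs_refl (F : CohTop.Ab X) {U : Opens X} (s : F.obj.obj (op U)) : rs F (le_refl U) s = s := by
  change (F.obj.map (𝟙 (op U))).hom s = s
  rw [F.obj.map_id]
  rfl

theorem rs_zero (F : CohTop.Ab X) {U V : Opens X} (h : V ≤ U) : rs F h (0 : F.obj.obj (op U)) = 0 :=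
  map_zero _

theorem map_eq_rs (F : CohTop.Ab X) {U V : Opens X} (f : op U ⟶ op V) (s : F.obj.obj (op U)) :
    (F.obj.map f).hom s = rs F (leOfHom f.unop) s := rfl

theorem hom_rs {F G : CohTop.Ab X} (φ : F ⟶ G) {U V : Opens X} (h : V ≤ U) (s : F.obj.obj (op U)) :
    (φ.hom.app (op V)).hom (rs F h s) = rs G h ((φ.hom.app (op U)).hom s) := by
  have := φ.hom.naturality (homOfLE h).op
  exact congrArg (fun k => k.hom s) this

/-- `U ↦ U ⊓ W` -/
def infFunctor (W : Opens X) : Opens X ⥤ Opens X where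
  obj U := U ⊓ W
  map f := homOfLE (inf_le_inf_right W f.le)

def infFunctorIso (W : Opens X) :
    Opens.map W.inclusion' ⋙ W.isOpenEmbedding.functor ≅ infFunctor W :=
  NatIso.ofComponents (fun U => eqToIso (Opens.functor_map_eq_inf W U))
    (by intros; subsingleton)

instance (W : Opens X) : (infFunctor W).IsContinuous (Opens.grothendieckTopology X)
    (Opens.grothendieckTopology X) := by
  haveI := W.isOpenEmbedding.functor_isContinuous
  haveI : (Opens.map W.inclusion' ⋙ W.isOpenEmbedding.functor).IsContinuous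
      (Opens.grothendieckTopology X) (Opens.grothendieckTopology X) :=
    Functor.isContinuous_comp (Opens.map W.inclusion') W.isOpenEmbedding.functor
      (Opens.grothendieckTopology X) (Opens.grothendieckTopology ((Opens.toTopCat X).obj W))
      (Opens.grothendieckTopology X)
  exact Functor.isContinuous_of_iso (infFunctorIso W) _ _

/-- the sheaf `F_W : U ↦ F(U ⊓ W)` -/
noncomputable def FW (F : CohTop.Ab X) (W : Opens X) : CohTop.Ab X :=
  ⟨(infFunctor W).op ⋙ F.obj, Functor.op_comp_isSheaf _ _ _ F⟩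

theorem FW_obj (F : CohTop.Ab X) (W U : Opens X) :
    (FW F W).obj.obj (op U) = F.obj.obj (op (U ⊓ W)) := rfl

/-- the transition map `F_W ⟶ F_{W'}` for `W' ≤ W` -/
noncomputable def FWmap (F : CohTop.Ab X) {W W' : Opens X} (h : W' ≤ W) : FW F W ⟶ FW F W' :=
  ⟨{ app := fun U => F.obj.map (homOfLE (inf_le_inf_left U.unop h)).op
     naturality := fun U V f => by
      change F.obj.map _ ≫ F.obj.map _ = F.obj.map _ ≫ F.obj.map _
      rw [← F.obj.map_comp, ← F.obj.map_comp]
      rfl }⟩

theorem FWmap_app (F : CohTop.Ab X) {W W' : Opens X} (h : W' ≤ W) (U : Opens X)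
    (s : F.obj.obj (op (U ⊓ W))) :
    ((FWmap F h).hom.app (op U)).hom s = rs F (inf_le_inf_left U h) s := rfl

/-- the unit `F ⟶ F_W` -/
noncomputable def toFW (F : CohTop.Ab X) (W : Opens X) : F ⟶ FW F W :=
  ⟨{ app := fun U => F.obj.map (homOfLE (inf_le_left : U.unop ⊓ W ≤ U.unop)).op
     naturality := fun U V f => by
      change F.obj.map _ ≫ F.obj.map _ = F.obj.map _ ≫ F.obj.map _
      rw [← F.obj.map_comp, ← F.obj.map_comp]
      rfl }⟩

theorem toFW_app (F : CohTop.Ab X) (W U : Opens X) (s : F.obj.obj (op U)) :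
    ((toFW F W).hom.app (op U)).hom s = rs F inf_le_left s := rfl

theorem FW_rs (F : CohTop.Ab X) (W : Opens X) {U V : Opens X} (h : V ≤ U)
    (s : F.obj.obj (op (U ⊓ W))) :
    rs (FW F W) h s = rs F (inf_le_inf_right W h) s := rfl

theorem toFW_FWmap (F : CohTop.Ab X) {W W' : Opens X} (h : W' ≤ W) :
    toFW F W ≫ FWmap F h = toFW F W' := by
  ext U s
  change rs F _ (rs F _ s) = rs F _ s
  rw [rs_rs]

theorem FWmap_comp (F : CohTop.Ab X) {W W' W'' : Opens X} (h : W' ≤ W) (h' : W'' ≤ W') :
    FWmap F h ≫ FWmap F h' = FWmap F (h'.trans h) := by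
  ext U s
  change rs F _ (rs F _ s) = rs F _ s
  rw [rs_rs]

theorem FWmap_refl (F : CohTop.Ab X) (W : Opens X) : FWmap F (le_refl W) = 𝟙 _ := by
  ext U s
  change rs F _ s = s
  exact rs_refl F s

end Groth.Agent.Lib.Helper17.GV
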