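import Groth.Agent.Lib.Helper17.GV2
import Mathlib

/-!
# Grothendieck vanishing, part 3: sections with support in the complement of an open
-/

set_option autoImplicit false
set_option backward.isDefEq.respectTransparency.types false
universe u
open CategoryTheory CategoryTheory.Limits TopologicalSpace Opposite

namespace Groth.Agent.Lib.Helper17.GV

open Groth.Agent.Lib.Helper6.SheafCoh

variable {X : TopCat.{u}}

/-- a monomorphism of abelian sheaves is injective on sections -/
theorem injective_of_mono {F G : CohTop.Ab X} (φ : F ⟶ G) [Mono φ] (U : Opens X) :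
    Function.Injective (φ.hom.app (op U)).hom := by
  haveI : Mono ((sheafToPresheaf _ _).map φ) := inferInstance
  haveI : Mono φ.hom := ‹Mono ((sheafToPresheaf _ _).map φ)›
  haveI : Mono (φ.hom.app (op U)) := inferInstance
  exact (AddCommGrpCat.mono_iff_injective _).mp inferInstance

/-- lifting a section killed by `g` to the kernel of `g` -/
theorem exists_kernel_section {F G : CohTop.Ab X} (g : F ⟶ G) (U : Opens X) (t : F.obj.obj (op U))
    (ht : (g.hom.app (op U)).hom t = 0) :
    ∃ s : (kernel g).obj.obj (op U), ((kernel.ι g).hom.app (op U)).hom s = t := by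
  set f : Zfree (Opens.grothendieckTopology X) U ⟶ F :=
    (homEquiv (Opens.grothendieckTopology X) U F).symm t with hf
  have hfg : f ≫ g = 0 := by
    apply (homAddEquiv (Opens.grothendieckTopology X) U G).injective
    rw [map_zero, homAddEquiv_apply, homEquiv_naturality_right, hf, Equiv.apply_symm_apply]
    exact ht
  refine ⟨homEquiv (Opens.grothendieckTopology X) U _ (kernel.lift g f hfg), ?_⟩
  have := homEquiv_naturality_right (J := Opens.grothendieckTopology X) (kernel.lift g f hfg)
    (kernel.ι g)
  rw [kernel.lift_ι] at this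
  have h2 : homEquiv (Opens.grothendieckTopology X) U F f = t := by
    rw [hf, Equiv.apply_symm_apply]
  exact this.symm.trans h2

theorem kernel_section_condition {F G : CohTop.Ab X} (g : F ⟶ G) (U : Opens X)
    (s : (kernel g).obj.obj (op U)) :
    (g.hom.app (op U)).hom (((kernel.ι g).hom.app (op U)).hom s) = 0 := by
  have h : kernel.ι g ≫ g = 0 := kernel.condition g
  have := congrArg (fun k => (k.hom.app (op U)).hom s) h
  exact this

/-- `Γ_Z K`, `Z` the complement of the open `W` -/
noncomputable def GammaZ (K : CohTop.Ab X) (W : Opens X) : CohTop.Ab X := kernel (toFW K W)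

noncomputable def GammaZι (K : CohTop.Ab X) (W : Opens X) : GammaZ K W ⟶ K := kernel.ι _

instance (K : CohTop.Ab X) (W : Opens X) : Mono (GammaZι K W) :=
  inferInstanceAs (Mono (kernel.ι (toFW K W)))

theorem GammaZι_injective (K : CohTop.Ab X) (W U : Opens X) :
    Function.Injective ((GammaZι K W).hom.app (op U)).hom :=
  injective_of_mono _ U

theorem GammaZ_condition (K : CohTop.Ab X) (W U : Opens X) (s : (GammaZ K W).obj.obj (op U)) :
    rs K (inf_le_left : U ⊓ W ≤ U) (((GammaZι K W).hom.app (op U)).hom s) = 0 :=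
  kernel_section_condition (toFW K W) U s

theorem exists_GammaZ_section (K : CohTop.Ab X) (W U : Opens X) (t : K.obj.obj (op U))
    (ht : rs K (inf_le_left : U ⊓ W ≤ U) t = 0) :
    ∃ s : (GammaZ K W).obj.obj (op U), ((GammaZι K W).hom.app (op U)).hom s = t :=
  exists_kernel_section (toFW K W) U t ht

/-- `Γ_Z K` vanishes on opens inside `W` -/
theorem GammaZ_subsingleton (K : CohTop.Ab X) (W V : Opens X) (hV : V ≤ W) :
    Subsingleton ((GammaZ K W).obj.obj (op V)) := by
  refine ⟨fun a b => ?_⟩
  apply GammaZι_injective K W V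
  have h : ∀ s : (GammaZ K W).obj.obj (op V), ((GammaZι K W).hom.app (op V)).hom s = 0 := by
    intro s
    have h1 := GammaZ_condition K W V s
    have h2 : V ≤ V ⊓ W := le_inf le_rfl hV
    have h3 := congrArg (rs K h2) h1
    rw [rs_rs, rs_zero, rs_refl] at h3
    exact h3
  rw [h a, h b]

/-- the transition `Γ_{W} K ⟶ Γ_{W'} K` for `W' ≤ W` -/
noncomputable def GammaZmap (K : CohTop.Ab X) {W W' : Opens X} (h : W' ≤ W) :
    GammaZ K W ⟶ GammaZ K W' :=
  kernel.lift _ (GammaZι K W) (by
    rw [← toFW_FWmap K h, ← Category.assoc]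
    have : GammaZι K W ≫ toFW K W = 0 := kernel.condition _
    rw [this, zero_comp])

theorem GammaZmap_ι (K : CohTop.Ab X) {W W' : Opens X} (h : W' ≤ W) :
    GammaZmap K h ≫ GammaZι K W' = GammaZι K W := kernel.lift_ι _ _ _

/-- dense opens, ordered by reverse inclusion -/
structure DenseOpen (X : TopCat.{u}) : Type u where
  /-- the underlying open -/
  val : Opens X
  /-- density -/
  dense : Dense (val : Set X)

instance : Preorder (DenseOpen X) where
  le W W' := W'.1 ≤ W.1
  le_refl W := le_refl W.1
  le_trans _ _ _ h h' := le_trans h' h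

instance : IsDirected (DenseOpen X) (· ≤ ·) :=
  ⟨fun W W' => ⟨⟨W.1 ⊓ W'.1, W.2.inter_of_isOpen_left W'.2 W.1.2⟩,
    (inf_le_left : W.1 ⊓ W'.1 ≤ W.1), (inf_le_right : W.1 ⊓ W'.1 ≤ W'.1)⟩⟩

instance : Nonempty (DenseOpen X) := ⟨⟨⊤, dense_univ⟩⟩

theorem GammaZmap_refl (K : CohTop.Ab X) (W : Opens X) : GammaZmap K (le_refl W) = 𝟙 _ := by
  rw [← cancel_mono (GammaZι K W), GammaZmap_ι, Category.id_comp]

theorem GammaZmap_comp (K : CohTop.Ab X) {W W' W'' : Opens X} (h : W' ≤ W) (h' : W'' ≤ W') :
    GammaZmap K h ≫ GammaZmap K h' = GammaZmap K (h'.trans h) := by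
  rw [← cancel_mono (GammaZι K W''), Category.assoc, GammaZmap_ι, GammaZmap_ι, GammaZmap_ι]

/-- the directed system `W ↦ Γ_{Wᶜ} K` -/
noncomputable def GammaDiagram (K : CohTop.Ab X) : DenseOpen X ⥤ CohTop.Ab X where
  obj W := GammaZ K W.1
  map f := GammaZmap K (leOfHom f)
  map_id W := GammaZmap_refl K W.1
  map_comp f g := (GammaZmap_comp K (leOfHom f) (leOfHom g)).symm

noncomputable def GammaCocone (K : CohTop.Ab X) : Cocone (GammaDiagram K) where
  pt := K
  ι := { app := fun W => GammaZι K W.1
         naturality := fun W W' f => by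
          change GammaZmap K (leOfHom f) ≫ GammaZι K W'.1 = GammaZι K W.1 ≫ 𝟙 _
          rw [GammaZmap_ι, Category.comp_id] }

/-- every section of `K` vanishes on a dense open -/
def GenZero (K : CohTop.Ab X) : Prop :=
  ∀ (U : Opens X) (t : K.obj.obj (op U)), ∃ W : Opens X, Dense (W : Set X) ∧
    rs K (inf_le_left : U ⊓ W ≤ U) t = 0

/-- a generically zero sheaf is the directed union of its subsheaves of sections supported on
nowhere dense closed subsets -/
noncomputable def isColimitGammaCocone (K : CohTop.Ab X) (hK : GenZero K) :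
    IsColimit (GammaCocone K) := by
  apply isColimitOfReflects (sheafToPresheaf (Opens.grothendieckTopology X) AddCommGrpCat.{u})
  apply evaluationJointlyReflectsColimits
  intro U
  haveI : ReflectsColimit ((GammaDiagram K ⋙ sheafToPresheaf (Opens.grothendieckTopology X)
      AddCommGrpCat.{u}) ⋙ (evaluation (Opens X)ᵒᵖ AddCommGrpCat.{u}).obj U)
      (forget AddCommGrpCat.{u}) := reflectsColimit_of_reflectsIsomorphisms _ _
  apply isColimitOfReflects (forget AddCommGrpCat.{u})
  apply Types.FilteredColimit.isColimitOf'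
  · intro t
    obtain ⟨W, hW, ht⟩ := hK U.unop t
    obtain ⟨s, hs⟩ := exists_GammaZ_section K W U.unop t ht
    exact ⟨⟨W, hW⟩, s, hs.symm⟩
  · intro W x y h
    refine ⟨W, 𝟙 _, ?_⟩
    have : x = y := GammaZι_injective K W.1 U.unop h
    rw [this]

end Groth.Agent.Lib.Helper17.GV
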