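import Groth.Agent.Lib.Helper17.GV3
import Groth.Agent.Lib.Helper6.ClosedEmbStalk
import Groth.Agent.Lib.Helper6.CohTopClosed
import Mathlib

/-!
# Grothendieck vanishing, part 4: vanishing for generically zero sheaves
-/

set_option autoImplicit false
set_option backward.isDefEq.respectTransparency.types false
universe u
open CategoryTheory CategoryTheory.Limits TopologicalSpace Opposite Abelian

namespace Groth.Agent.Lib.Helper17.GV

variable {X : TopCat.{u}}

theorem subsingleton_H_of_iso {A B : CohTop.Ab X} (e : A ≅ B) (q : ℕ)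
    (h : Subsingleton (CohTop.H A q)) : Subsingleton (CohTop.H B q) := by
  refine ⟨fun x y => ?_⟩
  have key : ∀ z : CohTop.H B q, z = 0 := by
    intro z
    have h1 : (z.comp (Ext.mk₀ e.inv) (add_zero q)).comp (Ext.mk₀ e.hom) (add_zero q) = z := by
      rw [Ext.comp_assoc_of_third_deg_zero, Ext.mk₀_comp_mk₀, Iso.inv_hom_id, Ext.comp_mk₀_id]
    have h2 : z.comp (Ext.mk₀ e.inv) (add_zero q) = 0 := Subsingleton.elim _ _
    rw [← h1, h2, Ext.zero_comp]
  rw [key x, key y]

/-- the closed complement of an open, as a space -/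
abbrev complSpace (W : Opens X) : TopCat.{u} := TopCat.of ↥((W : Set X)ᶜ)

/-- the inclusion of the closed complement -/
def complIncl (W : Opens X) : complSpace W ⟶ X :=
  TopCat.ofHom ⟨Subtype.val, continuous_subtype_val⟩

theorem complIncl_isClosedEmbedding (W : Opens X) : Topology.IsClosedEmbedding (complIncl W) :=
  W.2.isClosed_compl.isClosedEmbedding_subtypeVal

theorem range_complIncl (W : Opens X) : Set.range (complIncl W) = (W : Set X)ᶜ :=
  Subtype.range_coe

theorem subsingleton_H_GammaZ (K : CohTop.Ab X) (W : Opens X) (q : ℕ)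
    (hIH : ∀ G : CohTop.Ab (complSpace W), Subsingleton (CohTop.H G q)) :
    Subsingleton (CohTop.H (GammaZ K W) q) := by
  have hi := complIncl_isClosedEmbedding W
  have hU : (W : Set X) = (Set.range (complIncl W))ᶜ := by rw [range_complIncl, compl_compl]
  have hsupp : Groth.Agent.Lib.Helper6.ClosedEmb.Supp W (GammaZ K W) := by
    intro V hV
    haveI := GammaZ_subsingleton K W V hV
    exact AddCommGrpCat.isZero_of_subsingleton _
  set G' := Groth.Agent.Lib.Helper6.ClosedEmb.flat (complIncl W) hi W hU (GammaZ K W) hsupp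
  have e : (CohTop.push (complIncl W)).obj G' ≅ GammaZ K W :=
    Groth.Agent.Lib.Helper6.ClosedEmb.pushFlatIso (complIncl W) hi W hU (GammaZ K W) hsupp
  obtain ⟨eq⟩ := Groth.Agent.Lib.Helper6.CohTopClosed.nonempty_H_addEquiv (complIncl W) hi G' q
  have h1 : Subsingleton (CohTop.H ((CohTop.push (complIncl W)).obj G') q) :=
    eq.symm.toEquiv.subsingleton_congr.mpr (hIH G')
  exact subsingleton_H_of_iso e q h1

/-- vanishing for generically zero sheaves, given vanishing on all nowhere dense closed subspaces -/
theorem subsingleton_H_of_genZero [NoetherianSpace X] (K : CohTop.Ab X) (hK : GenZero K) (q : ℕ)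
    (hIH : ∀ W : Opens X, Dense (W : Set X) → ∀ G : CohTop.Ab (complSpace W),
      Subsingleton (CohTop.H G q)) :
    Subsingleton (CohTop.H K q) :=
  subsingleton_H_of_isColimit (GammaDiagram K) (GammaCocone K) (isColimitGammaCocone K hK) q
    (fun W => subsingleton_H_GammaZ K W.1 q (hIH W.1 W.2))

end Groth.Agent.Lib.Helper17.GV
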