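import Groth.Agent.Lib.Helper17.GV4
import Mathlib

/-!
# Grothendieck vanishing, part 5: the generic flasque sheaf
-/

set_option autoImplicit false
set_option backward.isDefEq.respectTransparency.types false
universe u
open CategoryTheory CategoryTheory.Limits TopologicalSpace Opposite Abelian

namespace Groth.Agent.Lib.Helper17.GV

variable {X : TopCat.{u}}

/-- sections over the empty open are zero -/
theorem eq_zero_of_bot (F : CohTop.Ab X) {V : Opens X} (hV : V = ⊥) (s : F.obj.obj (op V)) :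
    s = 0 := by
  have hT := TopCat.Sheaf.isTerminalOfEqEmpty F hV
  have hz : IsZero (F.obj.obj (op V)) :=
    (isZero_zero _).of_iso (hT.uniqueUpToIso (isZero_zero _).isTerminal)
  haveI := AddCommGrpCat.subsingleton_of_isZero hz
  exact Subsingleton.elim _ _

/-- gluing two sections over disjoint opens -/
theorem glue_disjoint (F : CohTop.Ab X) {A B V : Opens X} (hA : A ≤ V) (hB : B ≤ V)
    (hcov : V ≤ A ⊔ B) (hdisj : A ⊓ B = ⊥) (a : F.obj.obj (op A)) (b : F.obj.obj (op B)) :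
    ∃ s : F.obj.obj (op V), rs F hA s = a ∧ rs F hB s = b := by
  let U : Bool → Opens X := fun i => cond i A B
  let sf : ∀ i : Bool, ToType (F.obj.obj (op (U i))) := fun i =>
    Bool.rec (motive := fun i => ToType (F.obj.obj (op (U i)))) b a i
  have hcomp : TopCat.Presheaf.IsCompatible F.obj U sf := by
    rintro (_ | _) (_ | _)
    · rfl
    · have h1 : U false ⊓ U true = ⊥ := by
        change B ⊓ A = ⊥
        rw [inf_comm]; exact hdisj
      exact (eq_zero_of_bot F h1 _).trans (eq_zero_of_bot F h1 _).symm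
    · have h1 : U true ⊓ U false = ⊥ := hdisj
      exact (eq_zero_of_bot F h1 _).trans (eq_zero_of_bot F h1 _).symm
    · rfl
  have hcov' : V ≤ iSup U := by
    refine hcov.trans (sup_le ?_ ?_)
    · exact le_iSup U true
    · exact le_iSup U false
  obtain ⟨s, hs, -⟩ := TopCat.Sheaf.existsUnique_gluing' F U V
    (fun i => Bool.rec (motive := fun i => U i ⟶ V) (homOfLE hB) (homOfLE hA) i) hcov' sf hcomp
  exact ⟨s, hs true, hs false⟩

/-- the directed system `W ↦ F_W` over dense opens -/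
noncomputable def FWDiagram (F : CohTop.Ab X) : DenseOpen X ⥤ CohTop.Ab X where
  obj W := FW F W.1
  map f := FWmap F (leOfHom f)
  map_id W := FWmap_refl F W.1
  map_comp f g := (FWmap_comp F (leOfHom f) (leOfHom g)).symm

/-- the generic sheaf -/
noncomputable def Ggen (F : CohTop.Ab X) : CohTop.Ab X := colimit (FWDiagram F)

noncomputable def ιW (F : CohTop.Ab X) (W : DenseOpen X) : FW F W.1 ⟶ Ggen F :=
  colimit.ι (FWDiagram F) W

theorem FWmap_ιW (F : CohTop.Ab X) {W W' : DenseOpen X} (h : W'.1 ≤ W.1) :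
    FWmap F h ≫ ιW F W' = ιW F W :=
  colimit.w (FWDiagram F) (homOfLE (show W ≤ W' from h))

/-- the topmost dense open -/
def topD (X : TopCat.{u}) : DenseOpen X := ⟨⊤, dense_univ⟩

/-- the canonical map `F ⟶ G` -/
noncomputable def toG (F : CohTop.Ab X) : F ⟶ Ggen F := toFW F ⊤ ≫ ιW F (topD X)

theorem toFW_ιW (F : CohTop.Ab X) (W : DenseOpen X) : toFW F W.1 ≫ ιW F W = toG F := by
  have h : W.1 ≤ (topD X).1 := le_top
  have h1 : FWmap F h ≫ ιW F W = ιW F (topD X) := FWmap_ιW F h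
  calc toFW F W.1 ≫ ιW F W = (toFW F ⊤ ≫ FWmap F h) ≫ ιW F W := by rw [toFW_FWmap]
    _ = toFW F ⊤ ≫ (FWmap F h ≫ ιW F W) := Category.assoc _ _ _
    _ = toG F := congrArg (fun k => toFW F ⊤ ≫ k) h1

theorem dense_sup_ext (V : Opens X) :
    Dense (((V ⊔ ⟨(closure (V : Set X))ᶜ, isClosed_closure.isOpen_compl⟩ : Opens X)) : Set X) := by
  rw [dense_iff_inter_open]
  intro O hO hne
  by_cases h : (O ∩ (V : Set X)).Nonempty
  · obtain ⟨x, hxO, hxV⟩ := h
    exact ⟨x, hxO, Or.inl hxV⟩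
  · obtain ⟨x, hx⟩ := hne
    refine ⟨x, hx, Or.inr ?_⟩
    change x ∈ (closure (V : Set X))ᶜ
    rw [← interior_compl]
    refine interior_maximal ?_ hO hx
    intro y hy hyV
    exact h ⟨y, hy, hyV⟩

section Noeth

variable [NoetherianSpace X]

theorem Ggen_sections_surj (F : CohTop.Ab X) (U : Opens X) (t : (Ggen F).obj.obj (op U)) :
    ∃ (W : DenseOpen X) (s : F.obj.obj (op (U ⊓ W.1))),
      ((ιW F W).hom.app (op U)).hom s = t := by
  haveI := Groth.Agent.Lib.Helper27.ExtFilt.quasiSeparatedSpace_of_noetherian (X := X)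
  obtain ⟨W, s, hs⟩ := Groth.Agent.Lib.Helper27.ExtFilt.sections_surj
    (colimit.isColimit (FWDiagram F))
    (Groth.Agent.Lib.Helper27.ExtFilt.isQCQSSite_of_isCompact U (NoetherianSpace.isCompact _)) t
  exact ⟨W, s, hs⟩

theorem Ggen_sections_inj (F : CohTop.Ab X) (U : Opens X) (W : DenseOpen X)
    (s : F.obj.obj (op (U ⊓ W.1))) (h : ((ιW F W).hom.app (op U)).hom s = 0) :
    ∃ (W' : DenseOpen X) (h' : W'.1 ≤ W.1), rs F (inf_le_inf_left U h') s = 0 := by
  haveI := Groth.Agent.Lib.Helper27.ExtFilt.quasiSeparatedSpace_of_noetherian (X := X)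
  obtain ⟨W', u, hu⟩ := Groth.Agent.Lib.Helper27.ExtFilt.sections_inj
    (colimit.isColimit (FWDiagram F))
    (Groth.Agent.Lib.Helper27.ExtFilt.isQCQSSite_of_isCompact U
      (NoetherianSpace.isCompact _)).isQCSite W s h
  exact ⟨W', leOfHom u, hu⟩

omit [NoetherianSpace X] in
theorem ιW_rs (F : CohTop.Ab X) (W : DenseOpen X) {U V : Opens X} (h : V ≤ U)
    (s : F.obj.obj (op (U ⊓ W.1))) :
    rs (Ggen F) h (((ιW F W).hom.app (op U)).hom s) =
      ((ιW F W).hom.app (op V)).hom (rs F (inf_le_inf_right W.1 h) s) :=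
  (hom_rs (ιW F W) h s).symm

omit [NoetherianSpace X] in
theorem ιW_FWmap (F : CohTop.Ab X) {W W' : DenseOpen X} (h : W'.1 ≤ W.1) (U : Opens X)
    (s : F.obj.obj (op (U ⊓ W.1))) :
    ((ιW F W').hom.app (op U)).hom (rs F (inf_le_inf_left U h) s) =
      ((ιW F W).hom.app (op U)).hom s := by
  have := FWmap_ιW F h
  exact congrArg (fun k => (k.hom.app (op U)).hom s) this

/-- the generic sheaf is flasque: restriction maps are surjective -/
theorem Ggen_rs_surjective (F : CohTop.Ab X) {U V : Opens X} (hVU : V ≤ U) :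
    Function.Surjective (rs (Ggen F) hVU) := by
  intro t
  obtain ⟨W, s, hs⟩ := Ggen_sections_surj F V t
  let Vext : Opens X := ⟨(closure (V : Set X))ᶜ, isClosed_closure.isOpen_compl⟩
  have hdense : Dense ((V ⊔ Vext : Opens X) : Set X) := dense_sup_ext V
  let W₃ : DenseOpen X := ⟨W.1 ⊓ (V ⊔ Vext), W.2.inter_of_isOpen_left hdense W.1.2⟩
  have hW₃ : W₃.1 ≤ W.1 := inf_le_left
  have hA : V ⊓ W.1 ≤ U ⊓ W₃.1 := by
    intro x hx
    exact ⟨hVU hx.1, hx.2, Or.inl hx.1⟩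
  have hB : U ⊓ W.1 ⊓ Vext ≤ U ⊓ W₃.1 := by
    intro x hx
    exact ⟨hx.1.1, hx.1.2, Or.inr hx.2⟩
  have hcov : U ⊓ W₃.1 ≤ (V ⊓ W.1) ⊔ (U ⊓ W.1 ⊓ Vext) := by
    rintro x ⟨hxU, hxW, hx | hx⟩
    · exact Or.inl ⟨hx, hxW⟩
    · exact Or.inr ⟨⟨hxU, hxW⟩, hx⟩
  have hdisj : (V ⊓ W.1) ⊓ (U ⊓ W.1 ⊓ Vext) = ⊥ := by
    ext x
    simp only [Opens.coe_inf, Opens.coe_bot, Set.mem_inter_iff, Set.mem_empty_iff_false, iff_false]
    rintro ⟨⟨hxV, -⟩, ⟨-, hxe⟩⟩
    exact hxe (subset_closure hxV)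
  obtain ⟨s', hs'A, -⟩ := glue_disjoint F hA hB hcov hdisj s 0
  refine ⟨((ιW F W₃).hom.app (op U)).hom s', ?_⟩
  have step1 := ιW_rs F W₃ hVU s'
  have hle : V ⊓ W₃.1 ≤ V ⊓ W.1 := inf_le_inf_left V hW₃
  have step2 : rs F (inf_le_inf_right W₃.1 hVU) s' = rs F hle s := by
    rw [← hs'A, rs_rs]
  have step3 := ιW_FWmap F hW₃ V s
  exact (step1.trans (congrArg _ step2)).trans (step3.trans hs)

theorem isFlasque_Ggen (F : CohTop.Ab X) : TopCat.Sheaf.IsFlasque (Ggen F) := by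
  constructor
  intro U V r
  rw [AddCommGrpCat.epi_iff_surjective]
  have hr : r = (homOfLE (leOfHom r.unop)).op := Subsingleton.elim _ _
  rw [hr]
  exact Ggen_rs_surjective F (leOfHom r.unop)

end Noeth

section Noeth2

variable [NoetherianSpace X]

/-- sections of the kernel of `F ⟶ G` vanish on a dense open -/
theorem genZero_kernel (F : CohTop.Ab X) : GenZero (kernel (toG F)) := by
  intro U t
  set x := ((kernel.ι (toG F)).hom.app (op U)).hom t with hx
  have h0 : ((toG F).hom.app (op U)).hom x = 0 := kernel_section_condition (toG F) U t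
  have h1 : ((ιW F (topD X)).hom.app (op U)).hom (rs F (inf_le_left : U ⊓ (topD X).1 ≤ U) x) = 0 := h0
  obtain ⟨W', hW', h2⟩ := Ggen_sections_inj F U (topD X) _ h1
  have h3 : rs F (inf_le_left : U ⊓ W'.1 ≤ U) x = 0 := (rs_rs F _ _ x).symm.trans h2
  refine ⟨W'.1, W'.2, ?_⟩
  apply injective_of_mono (kernel.ι (toG F)) (U ⊓ W'.1)
  rw [map_zero, hom_rs]
  exact h3

/-- sections of the cokernel of `F ⟶ G` vanish on a dense open -/
theorem genZero_cokernel (F : CohTop.Ab X) : GenZero (cokernel (toG F)) := by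
  intro U c
  let C : CohTop.Ab X := cokernel (toG F)
  let π : Ggen F ⟶ C := cokernel.π (toG F)
  have hls := (TopCat.Sheaf.isLocallySurjective_iff_epi π).mpr
    (inferInstanceAs (Epi (cokernel.π (toG F))))
  rw [TopCat.Presheaf.isLocallySurjective_iff] at hls
  have hcond : toG F ≫ π = 0 := cokernel.condition _
  -- local data
  have hloc : ∀ x : ↥U, ∃ (V : Opens X) (hVU : V ≤ U) (W : DenseOpen X), x.1 ∈ V ∧
      rs C ((inf_le_left : V ⊓ W.1 ≤ V).trans hVU) c = 0 := by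
    intro x
    obtain ⟨V, hVU, ⟨g, hg⟩, hxV⟩ := hls U c x.1 x.2
    obtain ⟨W, s, hs⟩ := Ggen_sections_surj F V g
    refine ⟨V, hVU, W, hxV, ?_⟩
    have hg' : (π.hom.app (op V)).hom g = rs C hVU c := hg
    have e1 : rs (Ggen F) (inf_le_left : V ⊓ W.1 ≤ V) g =
        ((toG F).hom.app (op (V ⊓ W.1))).hom s := by
      rw [← hs, ιW_rs, ← toFW_ιW F W]
      rfl
    have e2 : rs C ((inf_le_left : V ⊓ W.1 ≤ V).trans hVU) c =
        (π.hom.app (op (V ⊓ W.1))).hom (rs (Ggen F) (inf_le_left : V ⊓ W.1 ≤ V) g) := by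
      rw [hom_rs, hg', rs_rs]
    rw [e2, e1]
    exact congrArg (fun k => (k.hom.app (op (V ⊓ W.1))).hom s) hcond
  choose V hVU W hxV hzero using hloc
  let O : Opens X := ⨆ x : ↥U, V x ⊓ (W x).1
  have hOU : O ≤ U := iSup_le fun x => inf_le_left.trans (hVU x)
  have hcO : rs C hOU c = 0 := by
    refine TopCat.Sheaf.eq_of_locally_eq' C (fun x : ↥U => V x ⊓ (W x).1) O
      (fun x => homOfLE (le_iSup (fun x : ↥U => V x ⊓ (W x).1) x)) le_rfl _ _ (fun x => ?_)
    change rs C _ (rs C hOU c) = rs C _ 0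
    rw [rs_rs, rs_zero]
    exact hzero x
  let Uext : Opens X := ⟨(closure (U : Set X))ᶜ, isClosed_closure.isOpen_compl⟩
  have hdense : Dense ((O ⊔ Uext : Opens X) : Set X) := by
    rw [dense_iff_inter_open]
    intro Q hQ hne
    by_cases h : (Q ∩ (U : Set X)).Nonempty
    · obtain ⟨x, hxQ, hxU⟩ := h
      have hVo : IsOpen (Q ∩ (V ⟨x, hxU⟩ : Set X)) := hQ.inter (V ⟨x, hxU⟩).2
      obtain ⟨y, ⟨hyQ, hyV⟩, hyW⟩ := (W ⟨x, hxU⟩).2.inter_open_nonempty _ hVo ⟨x, hxQ, hxV ⟨x, hxU⟩⟩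
      refine ⟨y, hyQ, Or.inl ?_⟩
      exact Opens.mem_iSup.mpr ⟨⟨x, hxU⟩, hyV, hyW⟩
    · obtain ⟨x, hx⟩ := hne
      refine ⟨x, hx, Or.inr ?_⟩
      change x ∈ (closure (U : Set X))ᶜ
      rw [← interior_compl]
      refine interior_maximal ?_ hQ hx
      intro y hy hyU
      exact h ⟨y, hy, hyU⟩
  refine ⟨O ⊔ Uext, hdense, ?_⟩
  have hle : U ⊓ (O ⊔ Uext) ≤ O := by
    rintro x ⟨hxU, hx | hx⟩
    · exact hx
    · exact absurd (subset_closure hxU) hx
  have : rs C (inf_le_left : U ⊓ (O ⊔ Uext) ≤ U) c = rs C hle (rs C hOU c) := by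
    rw [rs_rs]
  rw [this, hcO, rs_zero]

end Noeth2

end Groth.Agent.Lib.Helper17.GV
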