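import Groth.Agent.Lib.Helper17.GV6
import Mathlib

/-!
# Grothendieck vanishing, part 7: sheaves supported on a closed subspace of small dimension
-/

set_option autoImplicit false
set_option backward.isDefEq.respectTransparency.types false
universe u
open CategoryTheory CategoryTheory.Limits TopologicalSpace Opposite Abelian

namespace Groth.Agent.Lib.Helper17.GV

variable {X : TopCat.{u}}

/-- a sheaf vanishing on the open `W` has the cohomology of a sheaf on the closed complement -/
theorem subsingleton_H_of_supp (K : CohTop.Ab X) (W : Opens X) (q : ℕ)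
    (hsupp : Groth.Agent.Lib.Helper6.ClosedEmb.Supp W K)
    (hIH : ∀ G : CohTop.Ab (complSpace W), Subsingleton (CohTop.H G q)) :
    Subsingleton (CohTop.H K q) := by
  have hi := complIncl_isClosedEmbedding W
  have hU : (W : Set X) = (Set.range (complIncl W))ᶜ := by rw [range_complIncl, compl_compl]
  set G' := Groth.Agent.Lib.Helper6.ClosedEmb.flat (complIncl W) hi W hU K hsupp
  have e : (CohTop.push (complIncl W)).obj G' ≅ K :=
    Groth.Agent.Lib.Helper6.ClosedEmb.pushFlatIso (complIncl W) hi W hU K hsupp
  obtain ⟨eq⟩ := Groth.Agent.Lib.Helper6.CohTopClosed.nonempty_H_addEquiv (complIncl W) hi G' q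
  have h1 : Subsingleton (CohTop.H ((CohTop.push (complIncl W)).obj G') q) :=
    eq.symm.toEquiv.subsingleton_congr.mpr (hIH G')
  exact subsingleton_H_of_iso e q h1

/-- a sheaf on a Noetherian space vanishing outside a closed subset of dimension `≤ d` has no
cohomology above degree `d` -/
theorem subsingleton_H_of_supp_of_dim [NoetherianSpace X] (K : CohTop.Ab X) (W : Opens X) (d q : ℕ)
    (hsupp : Groth.Agent.Lib.Helper6.ClosedEmb.Supp W K)
    (hd : topologicalKrullDim ↥((W : Set X)ᶜ) ≤ d) (hq : d < q) :
    Subsingleton (CohTop.H K q) := by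
  haveI : NoetherianSpace (complSpace W) :=
    Topology.IsInducing.subtypeVal.noetherianSpace
  exact subsingleton_H_of_supp K W q hsupp (fun G => grothendieck_vanishing d hd G q hq)

end Groth.Agent.Lib.Helper17.GV
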