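import Groth.Agent.Lib.Helper17.GeomUnibranch
import Mathlib

/-!
# Étale over geometrically unibranch is geometrically unibranch
-/

set_option autoImplicit false
set_option backward.isDefEq.respectTransparency.types false
universe u

namespace Groth.Agent.Lib.Helper17.GeomUnibranchEtale

open TensorProduct IsLocalRing Groth.Agent.Lib.Helper17.Unibranch Groth.Agent.Lib.Helper17.GeomUnibranch

/-- **Core**: an étale algebra over a local domain `R` whose normalization `R'` is local with
purely inseparable residue field extension has geometrically unibranch local rings at primes over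
the maximal ideal. -/
theorem isGeomUnibranch_localization_of_etale {R : Type u} [CommRing R] [IsDomain R] [IsLocalRing R]
    (R' : Type u) [CommRing R'] [IsDomain R'] [IsIntegrallyClosed R'] [Algebra R R']
    [Algebra.IsIntegral R R'] [IsLocalRing R']
    (hinj : Function.Injective (algebraMap R R'))
    (hfracR : ∀ r' : R', ∃ b : R, b ≠ 0 ∧ ∃ a : R, algebraMap R R' b * r' = algebraMap R R' a)
    (e : ℕ) (he : e = 1 ∨ (e.Prime ∧ (e : R') ∈ maximalIdeal R'))
    (hpi : ∀ r' : R', ∃ (n : ℕ) (r : R), r' ^ (e ^ n) - algebraMap R R' r ∈ maximalIdeal R')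
    {C : Type u} [CommRing C] [Algebra R C] [Algebra.Etale R C] (Q : Ideal C) [Q.IsPrime]
    (hQ : Q.comap (algebraMap R C) = maximalIdeal R) :
    IsDomain (Localization.AtPrime Q) ∧ CAlg2.IsGeomUnibranch (Localization.AtPrime Q) := by
  letI algC := Algebra.TensorProduct.rightAlgebra (R := R) (A := R') (B := C)
  haveI hint : Algebra.IsIntegral C (R' ⊗[R] C) := isIntegral_rightAlgebra
  have hι : Function.Injective (algebraMap C (R' ⊗[R] C)) := by
    rw [Algebra.TensorProduct.algebraMap_eq_includeRight]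
    exact Algebra.TensorProduct.includeRight_injective hinj
  have halgC : ∀ c : C, algebraMap C (R' ⊗[R] C) c = 1 ⊗ₜ c := fun c => rfl
  -- a prime over Q
  obtain ⟨P, -, hPprime, hPQ⟩ := Ideal.exists_ideal_over_prime_of_isIntegral
    (S := R' ⊗[R] C) Q ⊥ (by
      rw [← RingHom.ker_eq_comap_bot, (RingHom.injective_iff_ker_eq_bot _).mp hι]; exact bot_le)
  -- every prime over Q contains m'
  have hm' : ∀ (P' : Ideal (R' ⊗[R] C)) [P'.IsPrime], P'.comap (algebraMap C (R' ⊗[R] C)) = Q →
      (maximalIdeal R').map (algebraMap R' (R' ⊗[R] C)) ≤ P' := by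
    intro P' _ hP'
    rw [Ideal.map_le_iff_le_comap]
    have h1 : (P'.comap (algebraMap R' (R' ⊗[R] C))).comap (algebraMap R R') = maximalIdeal R := by
      rw [← hQ, ← hP', Ideal.comap_comap, Ideal.comap_comap]
      congr 1
      ext r
      simp [Algebra.TensorProduct.algebraMap_eq_includeRight, Algebra.algebraMap_eq_smul_one,
        TensorProduct.smul_tmul]
    have h2 : (P'.comap (algebraMap R' (R' ⊗[R] C))).IsMaximal :=
      Ideal.isMaximal_of_isIntegral_of_isMaximal_comap (R := R) _ (by rw [h1]; infer_instance)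
    exact (IsLocalRing.eq_maximalIdeal h2).ge
  -- uniqueness
  have huniq : ∀ (P' : Ideal (R' ⊗[R] C)) [P'.IsPrime],
      P'.comap (algebraMap C (R' ⊗[R] C)) = Q → P' = P := by
    intro P' _ hP'
    refine prime_eq_of_comap_eq (C := C) (maximalIdeal R') e he hpi P' P (hm' P' hP') (hm' P hPQ) ?_
    have h3 : (Algebra.TensorProduct.includeRight : C →ₐ[R] R' ⊗[R] C).toRingHom =
        algebraMap C (R' ⊗[R] C) := by
      rw [Algebra.TensorProduct.algebraMap_eq_includeRight]; rfl
    rw [h3, hP', hPQ]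
  -- the local ring of C' at P is a normal domain
  obtain ⟨hdom, hic⟩ :=
    Groth.Agent.Lib.Helper17.SmoothNormal.isDomain_and_isIntegrallyClosed_atPrime_of_etale R' P
  -- the map C_Q → C'_P
  have hle : Q.primeCompl ≤ P.primeCompl.comap (algebraMap C (R' ⊗[R] C)) := by
    intro s hs hmem
    apply hs
    rw [← hPQ]
    exact hmem
  -- every element outside `P` is a unit in the localization at `C ∖ Q`
  have hunits : ∀ t : R' ⊗[R] C, t ∉ P → IsUnit (algebraMap (R' ⊗[R] C)
      (Localization (Algebra.algebraMapSubmonoid (R' ⊗[R] C) Q.primeCompl)) t) := by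
    intro t ht
    by_contra hnu
    obtain ⟨𝔪, h𝔪, ht𝔪⟩ := exists_max_ideal_of_mem_nonunits hnu
    haveI := h𝔪.isPrime
    have hdisj : ∀ c : C, algebraMap C (R' ⊗[R] C) c ∈ 𝔪.comap (algebraMap (R' ⊗[R] C)
        (Localization (Algebra.algebraMapSubmonoid (R' ⊗[R] C) Q.primeCompl))) → c ∈ Q := by
      intro c hc
      by_contra hcQ
      have hu : IsUnit (algebraMap (R' ⊗[R] C)
          (Localization (Algebra.algebraMapSubmonoid (R' ⊗[R] C) Q.primeCompl))
          (algebraMap C (R' ⊗[R] C) c)) :=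
        IsLocalization.map_units _ (⟨_, c, hcQ, rfl⟩ :
          Algebra.algebraMapSubmonoid (R' ⊗[R] C) Q.primeCompl)
      exact h𝔪.ne_top (Ideal.eq_top_of_isUnit_mem _ hc hu)
    obtain ⟨P₂, hP₂ge, hP₂prime, hP₂Q⟩ :=
      Ideal.exists_ideal_over_prime_of_isIntegral_of_isPrime Q (𝔪.comap (algebraMap (R' ⊗[R] C)
        (Localization (Algebra.algebraMapSubmonoid (R' ⊗[R] C) Q.primeCompl)))) hdisj
    have hP₂ : P₂ = P := huniq P₂ hP₂Q
    exact ht (hP₂ ▸ hP₂ge ht𝔪)
  haveI hlocP : IsLocalization P.primeCompl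
      (Localization (Algebra.algebraMapSubmonoid (R' ⊗[R] C) Q.primeCompl)) :=
    IsLocalization.of_le (Algebra.algebraMapSubmonoid (R' ⊗[R] C) Q.primeCompl) P.primeCompl
      (by
        rintro _ ⟨c, hc, rfl⟩
        exact hle hc)
      (fun t ht => hunits t ht)
  haveI hlocM : IsLocalization (Algebra.algebraMapSubmonoid (R' ⊗[R] C) Q.primeCompl)
      (Localization.AtPrime P) :=
    IsLocalization.isLocalization_of_algEquiv _
      (IsLocalization.algEquiv P.primeCompl
        (Localization (Algebra.algebraMapSubmonoid (R' ⊗[R] C) Q.primeCompl))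
        (Localization.AtPrime P))
  -- injectivity of C_Q → C'_P
  have hinj2 : Function.Injective
      (IsLocalization.map (Localization.AtPrime P) (algebraMap C (R' ⊗[R] C)) hle :
        Localization.AtPrime Q →+* Localization.AtPrime P) := by
    rw [injective_iff_map_eq_zero]
    intro z hz
    obtain ⟨x, s, rfl⟩ := IsLocalization.exists_mk'_eq Q.primeCompl z
    rw [IsLocalization.map_mk', IsLocalization.mk'_eq_zero_iff] at hz
    obtain ⟨⟨t, ht⟩, htx⟩ := hz
    simp only at htx
    -- t is a unit in the localization at C ∖ Q, so some s' ∉ Q kills x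
    have h0 : algebraMap (R' ⊗[R] C)
        (Localization (Algebra.algebraMapSubmonoid (R' ⊗[R] C) Q.primeCompl))
        (algebraMap C (R' ⊗[R] C) x) = 0 := by
      have h1 := congrArg (algebraMap (R' ⊗[R] C)
        (Localization (Algebra.algebraMapSubmonoid (R' ⊗[R] C) Q.primeCompl))) htx
      rw [map_mul, map_zero] at h1
      exact (hunits t ht).mul_right_eq_zero.mp h1
    obtain ⟨⟨_, s', hs', rfl⟩, hs'x⟩ := (IsLocalization.map_eq_zero_iff
      (Algebra.algebraMapSubmonoid (R' ⊗[R] C) Q.primeCompl) _ _).mp h0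
    simp only at hs'x
    rw [← map_mul] at hs'x
    have hs'x' : s' * x = 0 := hι (by rw [hs'x, map_zero])
    rw [IsLocalization.mk'_eq_zero_iff]
    exact ⟨⟨s', hs'⟩, hs'x'⟩
  haveI hdomD : IsDomain (Localization.AtPrime Q) := hinj2.isDomain _
  refine ⟨hdomD, ?_⟩
  letI algDD' : Algebra (Localization.AtPrime Q) (Localization.AtPrime P) :=
    (IsLocalization.map (Localization.AtPrime P) (algebraMap C (R' ⊗[R] C)) hle).toAlgebra
  have hDD' : ∀ c : C, algebraMap (Localization.AtPrime Q) (Localization.AtPrime P)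
      (algebraMap C (Localization.AtPrime Q) c) =
      algebraMap (R' ⊗[R] C) (Localization.AtPrime P) (algebraMap C (R' ⊗[R] C) c) :=
    fun c => IsLocalization.map_eq _ _
  haveI hintD : Algebra.IsIntegral (Localization.AtPrime Q) (Localization.AtPrime P) :=
    ⟨isIntegral_localization (R := C) (S := R' ⊗[R] C) (M := Q.primeCompl)
      (Rₘ := Localization.AtPrime Q) (Sₘ := Localization.AtPrime P)⟩
  -- R → D is injective (flatness)
  haveI : Module.Flat R (Localization.AtPrime Q) := Module.Flat.trans R C (Localization.AtPrime Q)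
  have hRD : ∀ b : R, b ≠ 0 → algebraMap R (Localization.AtPrime Q) b ≠ 0 := by
    intro b hb h0
    have hreg := Module.Flat.isSMulRegular_of_nonZeroDivisors (M := Localization.AtPrime Q)
      (mem_nonZeroDivisors_of_ne_zero hb)
    have h1 : b • (1 : Localization.AtPrime Q) = b • 0 := by
      rw [smul_zero, Algebra.smul_def, mul_one, h0]
    exact one_ne_zero (hreg h1)
  have hP : (maximalIdeal R').map (algebraMap R' (R' ⊗[R] C)) ≤ P := hm' P hPQ
  -- fraction condition
  have hfrac : ∀ y : Localization.AtPrime P, ∃ d : Localization.AtPrime Q, d ≠ 0 ∧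
      ∃ d₂ : Localization.AtPrime Q, algebraMap (Localization.AtPrime Q) (Localization.AtPrime P) d * y =
        algebraMap (Localization.AtPrime Q) (Localization.AtPrime P) d₂ := by
    intro y
    obtain ⟨⟨x, ⟨_, s, hs, rfl⟩⟩, hxy⟩ :=
      IsLocalization.surj (Algebra.algebraMapSubmonoid (R' ⊗[R] C) Q.primeCompl) y
    simp only at hxy
    obtain ⟨b, hb, c, hbc⟩ := exists_smul_eq_includeRight (C := C) hfracR x
    refine ⟨algebraMap C (Localization.AtPrime Q) (algebraMap R C b * s), ?_,
      algebraMap C (Localization.AtPrime Q) c, ?_⟩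
    · rw [map_mul, ← IsScalarTower.algebraMap_apply]
      exact mul_ne_zero (hRD b hb)
        (IsLocalization.map_units (Localization.AtPrime Q) (⟨s, hs⟩ : Q.primeCompl)).ne_zero
    · rw [hDD', hDD', map_mul, map_mul, mul_assoc, mul_comm _ y, hxy, ← map_mul]
      congr 1
      rw [halgC c, ← hbc, Algebra.smul_def, IsScalarTower.algebraMap_apply R C (R' ⊗[R] C)]
  -- characteristic exponent
  have he' : e = 1 ∨ (e.Prime ∧ (e : Localization.AtPrime P) ∈ maximalIdeal (Localization.AtPrime P)) := by
    rcases he with he | ⟨hp, hpm⟩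
    · exact Or.inl he
    · refine Or.inr ⟨hp, ?_⟩
      have h1 : (e : R' ⊗[R] C) ∈ P := by
        apply hP
        rw [← map_natCast (algebraMap R' (R' ⊗[R] C))]
        exact Ideal.mem_map_of_mem _ hpm
      rw [← map_natCast (algebraMap (R' ⊗[R] C) (Localization.AtPrime P))]
      exact (IsLocalization.AtPrime.to_map_mem_maximal_iff _ P _).mpr h1
  -- purely inseparable residue extension
  have hpi' : ∀ y : Localization.AtPrime P, ∃ (n : ℕ) (d : Localization.AtPrime Q),
      y ^ (e ^ n) - algebraMap (Localization.AtPrime Q) (Localization.AtPrime P) d ∈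
        maximalIdeal (Localization.AtPrime P) := by
    intro y
    obtain ⟨⟨x, ⟨_, s, hs, rfl⟩⟩, hxy⟩ :=
      IsLocalization.surj (Algebra.algebraMapSubmonoid (R' ⊗[R] C) Q.primeCompl) y
    simp only at hxy
    obtain ⟨n, c, hc⟩ := exists_pow_sub_mem (C := C) (maximalIdeal R') e he hpi x
    have hsN : s ^ (e ^ n) ∈ Q.primeCompl := Q.primeCompl.pow_mem hs _
    refine ⟨n, IsLocalization.mk' (Localization.AtPrime Q) c ⟨s ^ (e ^ n), hsN⟩, ?_⟩
    have hu : IsUnit (algebraMap (R' ⊗[R] C) (Localization.AtPrime P)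
        (algebraMap C (R' ⊗[R] C) s) ^ (e ^ n)) :=
      (IsLocalization.map_units (Localization.AtPrime P) (⟨_, hle hs⟩ : P.primeCompl)).pow _
    rw [← Ideal.unit_mul_mem_iff_mem _ hu, mul_sub, ← mul_pow, mul_comm _ y, hxy]
    have h2 : algebraMap (R' ⊗[R] C) (Localization.AtPrime P) (algebraMap C (R' ⊗[R] C) s) ^ (e ^ n) *
        algebraMap (Localization.AtPrime Q) (Localization.AtPrime P)
          (IsLocalization.mk' (Localization.AtPrime Q) c ⟨s ^ (e ^ n), hsN⟩) =
        algebraMap (R' ⊗[R] C) (Localization.AtPrime P) (1 ⊗ₜ c) := by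
      rw [← map_pow, ← map_pow, ← hDD', ← map_mul, mul_comm,
        show IsLocalization.mk' (Localization.AtPrime Q) c ⟨s ^ (e ^ n), hsN⟩ *
          algebraMap C (Localization.AtPrime Q) (s ^ (e ^ n)) = algebraMap C (Localization.AtPrime Q) c
          from IsLocalization.mk'_spec _ c ⟨s ^ (e ^ n), hsN⟩, hDD', halgC]
    rw [h2, ← map_pow, ← map_sub]
    exact (IsLocalization.AtPrime.to_map_mem_maximal_iff _ P _).mpr (hP hc)
  exact isGeomUnibranch_of_normalization (Localization.AtPrime P) hinj2 hfrac e he' hpi'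

/-- Unpacking the Prelude definition of geometric unibranchness for a local domain (in
continuation-passing style, to expose the normalization with its instances). -/
theorem of_isGeomUnibranch {R : Type u} [CommRing R] [IsDomain R] [IsLocalRing R]
    (h : CAlg2.IsGeomUnibranch R) (motive : Prop)
    (k : ∀ (R' : Type u) [CommRing R'] [IsDomain R'] [IsIntegrallyClosed R'] [Algebra R R']
      [Algebra.IsIntegral R R'] [IsLocalRing R'],
      Function.Injective (algebraMap R R') →
      (∀ r' : R', ∃ b : R, b ≠ 0 ∧ ∃ a : R, algebraMap R R' b * r' = algebraMap R R' a) →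
      ∀ e : ℕ, (e = 1 ∨ (e.Prime ∧ (e : R') ∈ maximalIdeal R')) →
      (∀ r' : R', ∃ (n : ℕ) (r : R), r' ^ (e ^ n) - algebraMap R R' r ∈ maximalIdeal R') →
      motive) : motive := by
  obtain ⟨⟨hdom, hloc⟩, hpi⟩ := h
  haveI := hdom
  haveI := hloc
  letI algR : Algebra R (CAlg2.normRed R) :=
    ((algebraMap (CAlg2.red R) (CAlg2.normRed R)).comp (Ideal.Quotient.mk (nilradical R))).toAlgebra
  have halgR : ∀ r : R, algebraMap R (CAlg2.normRed R) r =
      algebraMap (CAlg2.red R) (CAlg2.normRed R) (Ideal.Quotient.mk _ r) := fun r => rfl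
  haveI : IsIntegrallyClosed (CAlg2.normRed R) :=
    integralClosure.isIntegrallyClosedOfFiniteExtension (FractionRing (CAlg2.red R))
  haveI : Algebra.IsIntegral R (CAlg2.normRed R) := by
    have h1 : (Ideal.Quotient.mk (nilradical R)).IsIntegral :=
      RingHom.isIntegral_of_surjective _ Ideal.Quotient.mk_surjective
    have h2 : (algebraMap (CAlg2.red R) (CAlg2.normRed R)).IsIntegral :=
      algebraMap_isIntegral_iff.mpr inferInstance
    exact ⟨RingHom.IsIntegral.trans _ _ h1 h2⟩
  have h1inj : Function.Injective (Ideal.Quotient.mk (nilradical R)) := by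
    rw [injective_iff_map_eq_zero]
    intro x hx
    rw [Ideal.Quotient.eq_zero_iff_mem, nilradical_eq_zero, Ideal.zero_eq_bot,
      Ideal.mem_bot] at hx
    exact hx
  have hinj : Function.Injective (algebraMap R (CAlg2.normRed R)) := by
    have h2 : Function.Injective (algebraMap (CAlg2.red R) (CAlg2.normRed R)) := by
      have h3 : Function.Injective (algebraMap (CAlg2.red R) (FractionRing (CAlg2.red R))) :=
        IsFractionRing.injective _ _
      rw [IsScalarTower.algebraMap_eq (CAlg2.red R) (CAlg2.normRed R)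
        (FractionRing (CAlg2.red R)), RingHom.coe_comp] at h3
      exact Function.Injective.of_comp h3
    exact h2.comp h1inj
  have hfracR : ∀ r' : CAlg2.normRed R, ∃ b : R, b ≠ 0 ∧ ∃ a : R,
      algebraMap R (CAlg2.normRed R) b * r' = algebraMap R (CAlg2.normRed R) a := by
    intro r'
    obtain ⟨α, β, hβ, hαβ⟩ := IsFractionRing.div_surjective (A := CAlg2.red R)
      (r' : FractionRing (CAlg2.red R))
    obtain ⟨a, rfl⟩ := Ideal.Quotient.mk_surjective α
    obtain ⟨b, rfl⟩ := Ideal.Quotient.mk_surjective β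
    have hb0 : (Ideal.Quotient.mk (nilradical R)) b ≠ 0 := nonZeroDivisors.ne_zero hβ
    refine ⟨b, fun h0 => hb0 (by rw [h0, map_zero]), a, ?_⟩
    rw [halgR, halgR]
    apply Subtype.ext
    have hb1 : algebraMap (CAlg2.red R) (FractionRing (CAlg2.red R))
        ((Ideal.Quotient.mk (nilradical R)) b) ≠ 0 := fun h0 =>
      hb0 (IsFractionRing.injective (CAlg2.red R) (FractionRing (CAlg2.red R))
        (by rw [h0, map_zero]))
    show algebraMap (CAlg2.red R) (FractionRing (CAlg2.red R)) _ *
      (r' : FractionRing (CAlg2.red R)) = algebraMap (CAlg2.red R) (FractionRing (CAlg2.red R)) _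
    rw [← hαβ, mul_div_cancel₀ _ hb1]
  have he : ringExpChar (CAlg2.normRed R ⧸ maximalIdeal (CAlg2.normRed R)) = 1 ∨
      ((ringExpChar (CAlg2.normRed R ⧸ maximalIdeal (CAlg2.normRed R))).Prime ∧
        ((ringExpChar (CAlg2.normRed R ⧸ maximalIdeal (CAlg2.normRed R)) : ℕ) :
          CAlg2.normRed R) ∈ maximalIdeal (CAlg2.normRed R)) := by
    letI : Field (CAlg2.normRed R ⧸ maximalIdeal (CAlg2.normRed R)) := Ideal.Quotient.field _
    rcases expChar_is_prime_or_one (CAlg2.normRed R ⧸ maximalIdeal (CAlg2.normRed R))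
      (ringExpChar (CAlg2.normRed R ⧸ maximalIdeal (CAlg2.normRed R))) with hp | h1
    · right
      refine ⟨hp, ?_⟩
      rw [← Ideal.Quotient.eq_zero_iff_mem, map_natCast]
      exact natCast_eq_zero_of_expChar_prime _ _ hp
    · left
      exact h1
  have hpi' : ∀ r' : CAlg2.normRed R, ∃ (n : ℕ) (r : R),
      r' ^ ((ringExpChar (CAlg2.normRed R ⧸ maximalIdeal (CAlg2.normRed R))) ^ n) -
        algebraMap R (CAlg2.normRed R) r ∈ maximalIdeal (CAlg2.normRed R) := by
    intro r'
    obtain ⟨n, r, hr⟩ := hpi (maximalIdeal (CAlg2.normRed R))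
      (Ideal.Quotient.mk (maximalIdeal (CAlg2.normRed R)) r')
    refine ⟨n, r, ?_⟩
    refine Ideal.Quotient.eq.mp ?_
    rw [RingHom.map_pow]
    exact hr.symm
  exact k (CAlg2.normRed R) hinj hfracR _ he hpi'

/-- **Étale over geometrically unibranch is geometrically unibranch** (local domain base). -/
theorem isGeomUnibranch_localization_atPrime {R : Type u} [CommRing R] [IsDomain R] [IsLocalRing R]
    (h : CAlg2.IsGeomUnibranch R)
    {C : Type u} [CommRing C] [Algebra R C] [Algebra.Etale R C] (Q : Ideal C) [Q.IsPrime]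
    (hQ : Q.comap (algebraMap R C) = maximalIdeal R) :
    IsDomain (Localization.AtPrime Q) ∧ CAlg2.IsGeomUnibranch (Localization.AtPrime Q) :=
  of_isGeomUnibranch h _ (fun R' _ _ _ _ _ _ hinj hfracR e he hpi =>
    isGeomUnibranch_localization_of_etale R' hinj hfracR e he hpi Q hQ)

/-- Geometric unibranchness of local domains is invariant under ring isomorphisms. -/
theorem isGeomUnibranch_of_ringEquiv {D₁ D₂ : Type u} [CommRing D₁] [IsDomain D₁] [IsLocalRing D₁]
    [CommRing D₂] [IsDomain D₂] [IsLocalRing D₂] (σ : D₂ ≃+* D₁)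
    (h : CAlg2.IsGeomUnibranch D₁) : CAlg2.IsGeomUnibranch D₂ := by
  refine of_isGeomUnibranch h _ (fun R' _ _ _ _ _ _ hinj hfracR e he hpi => ?_)
  letI alg2 : Algebra D₂ R' := ((algebraMap D₁ R').comp σ.toRingHom).toAlgebra
  have halg2 : ∀ d : D₂, algebraMap D₂ R' d = algebraMap D₁ R' (σ d) := fun d => rfl
  haveI : Algebra.IsIntegral D₂ R' := by
    refine ⟨fun y => ?_⟩
    obtain ⟨p, hp, hpy⟩ := Algebra.IsIntegral.isIntegral (R := D₁) y
    refine ⟨p.map σ.symm.toRingHom, hp.map _, ?_⟩
    rw [Polynomial.eval₂_map]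
    have : (algebraMap D₂ R').comp σ.symm.toRingHom = algebraMap D₁ R' := by
      ext d
      simp [halg2]
    rw [this]
    exact hpy
  refine isGeomUnibranch_of_normalization R' (hinj.comp σ.injective) ?_ e he ?_
  · intro y
    obtain ⟨b, hb, a, hab⟩ := hfracR y
    refine ⟨σ.symm b, fun h0 => hb ?_, σ.symm a, ?_⟩
    · rw [← σ.apply_symm_apply b, h0, map_zero]
    · rw [halg2, halg2, σ.apply_symm_apply, σ.apply_symm_apply, hab]
  · intro y
    obtain ⟨n, r, hr⟩ := hpi y
    exact ⟨n, σ.symm r, by rw [halg2, σ.apply_symm_apply]; exact hr⟩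

end Groth.Agent.Lib.Helper17.GeomUnibranchEtale
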