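import Mathlib

/-!
# Graded modules over polynomial rings given by commuting shift operators: stability (helper17)

`B` a Noetherian ring, `M n` finite `B`-modules, commuting `B`-linear shift operators
`x j n : M n → M (n+1)` (`j : Fin r`) generating `M (n+1)` from `M n` for `n ≥ n₀`. Then every family
of submodules `N n ≤ M n` stable under the operators is also generated in bounded degree.
-/

set_option autoImplicit false
universe u
open DirectSum

namespace Groth.Agent.Lib.Helper17.GrAlg

variable {B : Type u} [CommRing B] {r : ℕ}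
variable (M : ℕ → Type u) [∀ n, AddCommGroup (M n)] [∀ n, Module B (M n)]
variable (x : Fin r → ∀ n, M n →ₗ[B] M (n + 1))

/-- the shift operators on the total module -/
noncomputable def X (j : Fin r) : (⨁ n, M n) →ₗ[B] (⨁ n, M n) :=
  DirectSum.toModule B ℕ (⨁ n, M n) (fun n => (DirectSum.lof B ℕ M (n + 1)).comp (x j n))

theorem X_lof (j : Fin r) (n : ℕ) (m : M n) :
    X M x j (DirectSum.lof B ℕ M n m) = DirectSum.lof B ℕ M (n + 1) (x j n m) := by
  unfold X
  rw [DirectSum.toModule_lof]
  rfl

variable {M x}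

theorem X_comm (hc : ∀ i j n (m : M n), x i (n + 1) (x j n m) = x j (n + 1) (x i n m)) (i j : Fin r) :
    X M x i * X M x j = X M x j * X M x i := by
  apply DirectSum.linearMap_ext
  intro n
  refine LinearMap.ext fun m => ?_
  change X M x i (X M x j (DirectSum.lof B ℕ M n m)) = X M x j (X M x i (DirectSum.lof B ℕ M n m))
  rw [X_lof, X_lof, X_lof, X_lof, hc]


section main

open scoped IsMulCommutative

/-- the (commutative) algebra of operators generated by the shifts -/
abbrev Sx (M : ℕ → Type u) [∀ n, AddCommGroup (M n)] [∀ n, Module B (M n)]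
    (x : Fin r → ∀ n, M n →ₗ[B] M (n + 1)) : Subalgebra B (Module.End B (⨁ n, M n)) :=
  Algebra.adjoin B (Set.range (X M x))

theorem isMulCommutative_Sx
    (hc : ∀ i j n (m : M n), x i (n + 1) (x j n m) = x j (n + 1) (x i n m)) :
    IsMulCommutative (Sx M x) :=
  Algebra.isMulCommutative_adjoin B (by
    rintro _ ⟨i, rfl⟩ _ ⟨j, rfl⟩
    exact X_comm hc i j)

/-- the generator `X j` as an element of the operator algebra -/
noncomputable def Xs (j : Fin r) : Sx M x := ⟨X M x j, Algebra.subset_adjoin ⟨j, rfl⟩⟩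

theorem Xs_smul (j : Fin r) (t : ⨁ n, M n) : (Xs (M := M) (x := x) j) • t = X M x j t := rfl

theorem algebraMap_smul' (b : B) (t : ⨁ n, M n) : (algebraMap B (Sx M x) b) • t = b • t := rfl

/-- a `B`-submodule of the total module stable under the shifts is a submodule over the operator algebra -/
def ofStable (W : Submodule B (⨁ n, M n)) (hW : ∀ j t, t ∈ W → X M x j t ∈ W) :
    Submodule (Sx M x) (⨁ n, M n) where
  carrier := W
  add_mem' := W.add_mem
  zero_mem' := W.zero_mem
  smul_mem' := by
    rintro ⟨c, hc⟩ t ht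
    change c t ∈ W
    have key : ∀ t ∈ W, c t ∈ W := by
      induction hc using Algebra.adjoin_induction with
      | mem y hy =>
        obtain ⟨j, rfl⟩ := hy
        exact fun t ht => hW j t ht
      | algebraMap b => exact fun t ht => W.smul_mem b ht
      | add y z _ _ hy hz => exact fun t ht => W.add_mem (hy t ht) (hz t ht)
      | mul y z _ _ hy hz => exact fun t ht => hy _ (hz t ht)
    exact key t ht

theorem mem_ofStable (W : Submodule B (⨁ n, M n)) (hW : ∀ j t, t ∈ W → X M x j t ∈ W)
    (t : ⨁ n, M n) : t ∈ ofStable W hW ↔ t ∈ W := Iff.rfl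


theorem component_X (j : Fin r) (n : ℕ) (t : ⨁ n, M n) :
    DirectSum.component B ℕ M (n + 1) (X M x j t) = x j n (DirectSum.component B ℕ M n t) := by
  classical
  have h : (DirectSum.component B ℕ M (n + 1)).comp (X M x j) =
      (x j n).comp (DirectSum.component B ℕ M n) := by
    apply DirectSum.linearMap_ext
    intro k
    refine LinearMap.ext fun m => ?_
    change DirectSum.component B ℕ M (n + 1) (X M x j (DirectSum.lof B ℕ M k m)) =
      x j n (DirectSum.component B ℕ M n (DirectSum.lof B ℕ M k m))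
    rw [X_lof]
    by_cases hk : k = n
    · subst hk
      rw [DirectSum.component.lof_self, DirectSum.component.lof_self]
    · rw [DirectSum.component.of, DirectSum.component.of, dif_neg hk,
        dif_neg (by omega : ¬ k + 1 = n + 1), map_zero]
  exact LinearMap.congr_fun h t

theorem component_X_zero (j : Fin r) (t : ⨁ n, M n) :
    DirectSum.component B ℕ M 0 (X M x j t) = 0 := by
  classical
  have h : (DirectSum.component B ℕ M 0).comp (X M x j) = 0 := by
    apply DirectSum.linearMap_ext
    intro k
    refine LinearMap.ext fun m => ?_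
    change DirectSum.component B ℕ M 0 (X M x j (DirectSum.lof B ℕ M k m)) = 0
    rw [X_lof, DirectSum.component.of, dif_neg (by omega : ¬ k + 1 = 0)]
  exact LinearMap.congr_fun h t

/-- a submodule over the operator algebra containing the low-degree parts is everything -/
theorem eq_top_of_lof_mem (G : Submodule (Sx M x) (⨁ n, M n)) (n0 : ℕ)
    (hgen : ∀ n, n0 ≤ n → ∀ y : M (n + 1), y ∈ ⨆ j, LinearMap.range (x j n))
    (h : ∀ i, i ≤ n0 → ∀ m : M i, DirectSum.lof B ℕ M i m ∈ G) : G = ⊤ := by
  have hall : ∀ n (m : M n), DirectSum.lof B ℕ M n m ∈ G := by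
    intro n
    induction n with
    | zero => exact h 0 (Nat.zero_le _)
    | succ k ih =>
      intro y
      by_cases hk : k + 1 ≤ n0
      · exact h _ hk y
      · have hy := hgen k (by omega) y
        induction hy using Submodule.iSup_induction' with
        | mem j y hy =>
          obtain ⟨z, rfl⟩ := hy
          rw [← X_lof, ← Xs_smul]
          exact G.smul_mem _ (ih z)
        | zero => rw [map_zero]; exact G.zero_mem
        | add y z _ _ hy hz => rw [map_add]; exact G.add_mem hy hz
  rw [eq_top_iff]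
  intro t _
  clear * - hall
  induction t using DirectSum.induction_on with
  | zero => exact G.zero_mem
  | of n m => exact hall n m
  | add t t' ht ht' => exact G.add_mem ht ht'

/-- the auxiliary family: equal to `N` up to degree `m0` and generated from below afterwards -/
def Wn (x : Fin r → ∀ n, M n →ₗ[B] M (n + 1)) (N : ∀ n, Submodule B (M n)) (m0 : ℕ) :
    ∀ n, Submodule B (M n)
  | 0 => N 0
  | (n + 1) => if n + 1 ≤ m0 then N (n + 1) else ⨆ j, (Wn x N m0 n).map (x j n)

theorem Wn_le (N : ∀ n, Submodule B (M n)) (hN : ∀ j n, (N n).map (x j n) ≤ N (n + 1)) (m0 : ℕ) :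
    ∀ n, Wn x N m0 n ≤ N n
  | 0 => le_refl _
  | (n + 1) => by
    unfold Wn
    split_ifs with h
    · exact le_refl _
    · exact iSup_le fun j => (Submodule.map_mono (Wn_le N hN m0 n)).trans (hN j n)

theorem Wn_eq_of_le (N : ∀ n, Submodule B (M n)) (m0 : ℕ) : ∀ n, n ≤ m0 → Wn x N m0 n = N n
  | 0, _ => rfl
  | (n + 1), h => by
    unfold Wn
    rw [if_pos h]

theorem Wn_map_le (N : ∀ n, Submodule B (M n)) (hN : ∀ j n, (N n).map (x j n) ≤ N (n + 1)) (m0 : ℕ)
    (j : Fin r) (n : ℕ) : (Wn x N m0 n).map (x j n) ≤ Wn x N m0 (n + 1) := by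
  conv_rhs => unfold Wn
  split_ifs with h
  · exact (Submodule.map_mono (Wn_le N hN m0 n)).trans (hN j n)
  · exact le_iSup (fun j => (Wn x N m0 n).map (x j n)) j


/-- the total submodule of the auxiliary family -/
def Wtot (x : Fin r → ∀ n, M n →ₗ[B] M (n + 1)) (N : ∀ n, Submodule B (M n)) (m0 : ℕ) :
    Submodule B (⨁ n, M n) :=
  ⨅ n, (Wn x N m0 n).comap (DirectSum.component B ℕ M n)

theorem mem_Wtot (N : ∀ n, Submodule B (M n)) (m0 : ℕ) (t : ⨁ n, M n) :
    t ∈ Wtot x N m0 ↔ ∀ n, DirectSum.component B ℕ M n t ∈ Wn x N m0 n := by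
  unfold Wtot
  rw [Submodule.mem_iInf]
  rfl

theorem Wtot_stable (N : ∀ n, Submodule B (M n)) (hN : ∀ j n, (N n).map (x j n) ≤ N (n + 1)) (m0 : ℕ)
    (j : Fin r) (t : ⨁ n, M n) (ht : t ∈ Wtot x N m0) : X M x j t ∈ Wtot x N m0 := by
  rw [mem_Wtot] at ht ⊢
  intro n
  cases n with
  | zero => rw [component_X_zero]; exact Submodule.zero_mem _
  | succ n =>
    rw [component_X]
    exact Wn_map_le N hN m0 j n (Submodule.mem_map_of_mem (ht n))

variable [IsNoetherianRing B]

/-- **stability**: a family of submodules stable under the shifts of a finitely generated graded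
family is generated in bounded degree. -/
theorem exists_stable
    (hc : ∀ i j n (m : M n), x i (n + 1) (x j n m) = x j (n + 1) (x i n m))
    (hfin : ∀ n, Module.Finite B (M n)) (n0 : ℕ)
    (hgen : ∀ n, n0 ≤ n → ∀ y : M (n + 1), y ∈ ⨆ j, LinearMap.range (x j n))
    (N : ∀ n, Submodule B (M n)) (hN : ∀ j n, (N n).map (x j n) ≤ N (n + 1)) :
    ∃ n1, ∀ n, n1 ≤ n → N (n + 1) ≤ ⨆ j, (N n).map (x j n) := by
  classical
  haveI := isMulCommutative_Sx hc
  haveI hft : Algebra.FiniteType B (Sx M x) := ⟨(Subalgebra.fg_top _).2 (by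
    have h1 : Set.range (X M x) = ((Finset.univ.image (X M x) : Finset _) : Set _) := by simp
    change (Algebra.adjoin B (Set.range (X M x))).FG
    rw [h1]
    exact Subalgebra.fg_adjoin_finset _)⟩
  haveI : IsNoetherianRing (Sx M x) := Algebra.FiniteType.isNoetherianRing B (Sx M x)
  -- finiteness of the total module
  have hs : ∀ i, ∃ s : Finset (M i), Submodule.span B (s : Set (M i)) = ⊤ := fun i =>
    (hfin i).fg_top
  choose s hs using hs
  let gens : Set (⨁ n, M n) := ⋃ i ∈ Finset.range (n0 + 1), DirectSum.lof B ℕ M i '' (s i : Set (M i))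
  have hgens : gens.Finite :=
    Set.Finite.biUnion (Finset.finite_toSet _) fun i _ => (Finset.finite_toSet (s i)).image _
  have hG0 : Submodule.span (Sx M x) gens = ⊤ := by
    refine eq_top_of_lof_mem _ n0 hgen fun i hi m => ?_
    have hm : m ∈ Submodule.span B (s i : Set (M i)) := by rw [hs i]; trivial
    induction hm using Submodule.span_induction with
    | mem m hm =>
      exact Submodule.subset_span (Set.mem_biUnion (Finset.mem_range.2 (by omega)) ⟨m, hm, rfl⟩)
    | zero => rw [map_zero]; exact Submodule.zero_mem _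
    | add m m' _ _ h h' => rw [map_add]; exact Submodule.add_mem _ h h'
    | smul b m _ h =>
      rw [map_smul, ← algebraMap_smul' (M := M) (x := x)]
      exact Submodule.smul_mem _ _ h
  haveI : Module.Finite (Sx M x) (⨁ n, M n) := ⟨hG0 ▸ Submodule.fg_span hgens⟩
  haveI : IsNoetherian (Sx M x) (⨁ n, M n) :=
    isNoetherian_of_isNoetherianRing_of_finite (Sx M x) (⨁ n, M n)
  -- the chain
  let D : ℕ →o Submodule (Sx M x) (⨁ n, M n) :=
    ⟨fun m => Submodule.span (Sx M x)
      (⋃ i ∈ Finset.range (m + 1), DirectSum.lof B ℕ M i '' (N i : Set (M i))), by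
      intro m m' hmm'
      apply Submodule.span_mono
      apply Set.biUnion_subset_biUnion_left
      intro i hi
      exact Finset.mem_coe.2 (Finset.mem_range.2 (lt_of_lt_of_le (Finset.mem_range.1 hi) (by omega)))⟩
  obtain ⟨m0, hm0⟩ := monotone_stabilizes_iff_noetherian.2 inferInstance D
  have hD : D m0 ≤ ofStable (Wtot x N m0) (Wtot_stable N hN m0) := by
    apply Submodule.span_le.2
    intro t ht
    obtain ⟨i, hi, ht⟩ := Set.mem_iUnion₂.1 ht
    obtain ⟨y, hy, rfl⟩ := ht
    change DirectSum.lof B ℕ M i y ∈ Wtot x N m0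
    rw [mem_Wtot]
    intro n
    by_cases hn : i = n
    · subst hn
      rw [DirectSum.component.lof_self, Wn_eq_of_le N m0 i (by have := Finset.mem_range.1 hi; omega)]
      exact hy
    · rw [DirectSum.component.of, dif_neg hn]
      exact Submodule.zero_mem _
  have hNW : ∀ n, N n ≤ Wn x N m0 n := by
    intro n y hy
    have h1 : DirectSum.lof B ℕ M n y ∈ D (max n m0) :=
      Submodule.subset_span (Set.mem_biUnion (Finset.mem_range.2 (by omega : n < max n m0 + 1))
        ⟨y, hy, rfl⟩)
    rw [← hm0 (max n m0) (le_max_right _ _)] at h1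
    have h2 := (mem_Wtot N m0 _).1 (hD h1) n
    rwa [DirectSum.component.lof_self] at h2
  have hWN : ∀ n, Wn x N m0 n = N n := fun n => le_antisymm (Wn_le N hN m0 n) (hNW n)
  refine ⟨m0, fun n hn => ?_⟩
  have h3 : Wn x N m0 (n + 1) = ⨆ j, (Wn x N m0 n).map (x j n) := by
    conv_lhs => unfold Wn
    rw [if_neg (by omega)]
  rw [← hWN (n + 1), h3, hWN n]

end main

end Groth.Agent.Lib.Helper17.GrAlg
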