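import Groth.Agent.Lib.Helper17.GrVan
import Groth.Agent.Lib.Helper23.Formal.ProIso
import Groth.Agent.Lib.lead.FormalA
import Mathlib

/-!
# The graded system of kernels of a formal system (helper17)

For a system `G` of `O_X`-modules which is formal for an ideal `I = (a_1, …, a_r)` of the base ring
(`G n` killed by `I^(n+1)`, `G n = G (n+1) / I^(n+1)`), the kernels `K n = ker (G (n+1) ⟶ G n)` form
a graded system with operators induced by multiplication by the `a_j`, generated in degree `0`.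
-/

set_option autoImplicit false
set_option backward.isDefEq.respectTransparency.types false
universe u
open CategoryTheory CategoryTheory.Limits AlgebraicGeometry Opposite TopologicalSpace

namespace Groth.Agent.Lib.Helper17.GrFormal

attribute [local instance] Abelian.hasFiniteBiproducts

open Groth.Agent.Lib.Helper23.FQuot Groth.Agent.Lib.Lead.FormalA Groth.Agent.Lib.Helper17.Graded

variable {A : Type u} [CommRing A] {X : Scheme.{u}} [X.Over (Spec (CommRingCat.of A))]

/-! ## algebra -/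

theorem exists_sum_mul_of_mem_mul {r : ℕ} (a : Fin r → A) (J : Ideal A) (b : A)
    (hb : b ∈ J * Ideal.span (Set.range a)) :
    ∃ c : Fin r → A, (∀ j, c j ∈ J) ∧ b = ∑ j, c j * a j := by
  induction hb using Submodule.mul_induction_on' with
  | mem_mul_mem c hc e he =>
    obtain ⟨t, rfl⟩ := Ideal.mem_span_range_iff_exists_fun.1 he
    refine ⟨fun j => c * t j, fun j => Ideal.mul_mem_right _ _ hc, ?_⟩
    rw [Finset.mul_sum]
    exact Finset.sum_congr rfl fun j _ => (mul_assoc _ _ _).symm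
  | add b _ b' _ hb hb' =>
    obtain ⟨c, hc, rfl⟩ := hb
    obtain ⟨c', hc', rfl⟩ := hb'
    refine ⟨c + c', fun j => Ideal.add_mem _ (hc j) (hc' j), ?_⟩
    rw [← Finset.sum_add_distrib]
    exact Finset.sum_congr rfl fun j _ => (add_mul _ _ _).symm

/-! ## additivity of multiplication maps -/

theorem smulMod_add (M : X.Modules) (b c : A) :
    Formal.smulMod A M (b + c) = Formal.smulMod A M b + Formal.smulMod A M c := by
  rw [← KLin.smul_id, ← KLin.smul_id, ← KLin.smul_id, add_smul]

theorem smulMod_sum (M : X.Modules) {ι : Type*} (s : Finset ι) (c : ι → A) :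
    Formal.smulMod A M (∑ j ∈ s, c j) = ∑ j ∈ s, Formal.smulMod A M (c j) := by
  rw [← KLin.smul_id, Finset.sum_smul]
  exact Finset.sum_congr rfl fun j _ => KLin.smul_id M (c j)

/-! ## the kernel of a quotient map is the image of the multiplication maps -/

theorem epi_kernel_lift_smulFamily {J : Ideal A} {M N : X.Modules} (f : M ⟶ N) (hf : IsQuot J f) :
    Epi (kernel.lift f (Formal.smulFamily J M) ((smulFamily_comp_eq_zero_iff J f).2 hf.zero)) := by
  haveI := hf.epi
  have h0 : Formal.smulFamily J M ≫ f = 0 := (smulFamily_comp_eq_zero_iff J f).2 hf.zero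
  let S : ShortComplex X.Modules := ShortComplex.mk (Formal.smulFamily J M) f h0
  have hS : S.Exact := by
    apply ShortComplex.exact_of_g_is_cokernel
    exact CokernelCofork.IsColimit.ofπ' f h0 (fun k hk =>
      ⟨Classical.choose (hf.fac k ((smulFamily_comp_eq_zero_iff J k).1 hk)),
        Classical.choose_spec (hf.fac k ((smulFamily_comp_eq_zero_iff J k).1 hk))⟩)
  exact S.exact_iff_epi_kernel_lift.1 hS

/-- a morphism out of the kernel of a quotient map vanishes if it vanishes on the images of the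
multiplication maps -/
theorem eq_zero_of_kernel_lift_smulMod_comp {J : Ideal A} {M N T : X.Modules} (f : M ⟶ N)
    (hf : IsQuot J f) (g : kernel f ⟶ T)
    (hg : ∀ (b : A) (hb : b ∈ J), kernel.lift f (Formal.smulMod A M b) (hf.zero b hb) ≫ g = 0) :
    g = 0 := by
  haveI := epi_kernel_lift_smulFamily f hf
  refine (cancel_epi (kernel.lift f (Formal.smulFamily J M)
    ((smulFamily_comp_eq_zero_iff J f).2 hf.zero))).1 ?_
  rw [comp_zero]
  apply Sigma.hom_ext
  intro b
  rw [comp_zero, ← Category.assoc]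
  have h1 : Sigma.ι (fun _ : J => M) b ≫ kernel.lift f (Formal.smulFamily J M)
      ((smulFamily_comp_eq_zero_iff J f).2 hf.zero) =
      kernel.lift f (Formal.smulMod A M b.1) (hf.zero b.1 b.2) := by
    rw [← cancel_mono (kernel.ι f), Category.assoc, kernel.lift_ι, kernel.lift_ι, ι_smulFamily]
  rw [h1]
  exact hg b.1 b.2


/-! ## the operators -/

section ops

variable {I : Ideal A} {G : ℕᵒᵖ ⥤ X.Modules} (hG : IsFormalSys I G) {r : ℕ} (a : Fin r → A)
  (ha : ∀ j, a j ∈ I)

/-- the transition map `G (n+1) ⟶ G n` -/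
abbrev tr (G : ℕᵒᵖ ⥤ X.Modules) (n : ℕ) : G.obj (op (n + 1)) ⟶ G.obj (op n) :=
  G.map (homOfLE (Nat.le_succ n)).op

include hG ha in
theorem exists_abar (j : Fin r) (n : ℕ) : ∃ f : G.obj (op n) ⟶ G.obj (op (n + 1)),
    tr G n ≫ f = Formal.smulMod A (G.obj (op (n + 1))) (a j) := by
  refine (hG.2 n).fac _ fun b hb => ?_
  rw [← smulMod_mul]
  exact hG.1 (n + 1) _ (by rw [pow_succ]; exact Ideal.mul_mem_mul hb (ha j))

/-- multiplication by `a j`, lifted to a map `G n ⟶ G (n+1)` -/
noncomputable def abar (j : Fin r) (n : ℕ) : G.obj (op n) ⟶ G.obj (op (n + 1)) :=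
  Classical.choose (exists_abar hG a ha j n)

theorem tr_abar (j : Fin r) (n : ℕ) :
    tr G n ≫ abar hG a ha j n = Formal.smulMod A (G.obj (op (n + 1))) (a j) :=
  Classical.choose_spec (exists_abar hG a ha j n)

theorem abar_tr (j : Fin r) (n : ℕ) :
    abar hG a ha j n ≫ tr G n = Formal.smulMod A (G.obj (op n)) (a j) := by
  haveI := (hG.2 n).epi
  rw [← cancel_epi (tr G n), ← Category.assoc, tr_abar, smulMod_naturality]

theorem abar_comm (i j : Fin r) (n : ℕ) :
    abar hG a ha i n ≫ abar hG a ha j (n + 1) = abar hG a ha j n ≫ abar hG a ha i (n + 1) := by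
  haveI := (hG.2 n).epi
  haveI := (hG.2 (n + 1)).epi
  have key : ∀ i j : Fin r, abar hG a ha j (n + 1) ≫ Formal.smulMod A (G.obj (op (n + 1 + 1))) (a i) =
      abar hG a ha i (n + 1) ≫ Formal.smulMod A (G.obj (op (n + 1 + 1))) (a j) := by
    intro i j
    rw [← cancel_epi (tr G (n + 1)), ← Category.assoc, tr_abar, ← Category.assoc, tr_abar,
      ← smulMod_mul, ← smulMod_mul, mul_comm]
  rw [← cancel_epi (tr G n), ← Category.assoc, tr_abar, ← Category.assoc, tr_abar,
    smulMod_naturality, smulMod_naturality]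
  exact key i j

theorem ι_abar_tr (j : Fin r) (n : ℕ) :
    (kernel.ι (tr G n) ≫ abar hG a ha j (n + 1)) ≫ tr G (n + 1) = 0 := by
  rw [Category.assoc, abar_tr, ← tr_abar hG a ha j n, ← Category.assoc, kernel.condition, zero_comp]

/-- the operators on the kernels -/
noncomputable def kx (j : Fin r) (n : ℕ) : kernel (tr G n) ⟶ kernel (tr G (n + 1)) :=
  kernel.lift (tr G (n + 1)) (kernel.ι (tr G n) ≫ abar hG a ha j (n + 1)) (ι_abar_tr hG a ha j n)

theorem kx_ι (j : Fin r) (n : ℕ) :
    kx hG a ha j n ≫ kernel.ι (tr G (n + 1)) = kernel.ι (tr G n) ≫ abar hG a ha j (n + 1) :=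
  kernel.lift_ι _ _ _

theorem kx_comm (i j : Fin r) (n : ℕ) :
    kx hG a ha i n ≫ kx hG a ha j (n + 1) = kx hG a ha j n ≫ kx hG a ha i (n + 1) := by
  rw [← cancel_mono (kernel.ι (tr G (n + 1 + 1))), Category.assoc, Category.assoc, kx_ι, kx_ι,
    ← Category.assoc, ← Category.assoc, kx_ι, kx_ι, Category.assoc, Category.assoc, abar_comm]

/-- the graded system of kernels of the transition maps -/
noncomputable def Ksys : GrSys X r where
  K n := kernel (tr G n)
  x j n := kx hG a ha j n
  comm i j n := kx_comm hG a ha i j n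

include hG in
theorem smulMod_tr_tr {n : ℕ} (c : A) (hc : c ∈ I ^ (n + 1)) :
    (Formal.smulMod A (G.obj (op (n + 1 + 1))) c ≫ tr G (n + 1)) ≫ tr G n = 0 := by
  rw [Category.assoc, smulMod_naturality, hG.1 n c hc, comp_zero]

/-- multiplication by `c ∈ I^(n+1)` maps `G (n+2)` into the kernel `K n ⊆ G (n+1)` -/
noncomputable def ell {n : ℕ} (c : A) (hc : c ∈ I ^ (n + 1)) :
    G.obj (op (n + 1 + 1)) ⟶ kernel (tr G n) :=
  kernel.lift (tr G n) (Formal.smulMod A (G.obj (op (n + 1 + 1))) c ≫ tr G (n + 1))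
    (smulMod_tr_tr hG c hc)

theorem ell_kx {n : ℕ} (c : A) (hc : c ∈ I ^ (n + 1)) (j : Fin r) :
    ell hG c hc ≫ kx hG a ha j n =
      kernel.lift (tr G (n + 1)) (Formal.smulMod A (G.obj (op (n + 1 + 1))) (c * a j))
        ((hG.2 (n + 1)).zero _ (by rw [pow_succ]; exact Ideal.mul_mem_mul hc (ha j))) := by
  rw [← cancel_mono (kernel.ι (tr G (n + 1))), Category.assoc, kx_ι, kernel.lift_ι]
  unfold ell
  rw [← Category.assoc, kernel.lift_ι, Category.assoc, tr_abar, ← smulMod_mul]

include ha in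
theorem eq_zero_of_kx_comp (hspan : Ideal.span (Set.range a) = I) (n : ℕ) {T : X.Modules}
    (g : kernel (tr G (n + 1)) ⟶ T) (hx : ∀ j, kx hG a ha j n ≫ g = 0) : g = 0 := by
  refine eq_zero_of_kernel_lift_smulMod_comp (tr G (n + 1)) (hG.2 (n + 1)) g fun b hb => ?_
  have hb' : b ∈ I ^ (n + 1) * Ideal.span (Set.range a) := by rw [hspan, ← pow_succ]; exact hb
  obtain ⟨c, hc, rfl⟩ := exists_sum_mul_of_mem_mul a (I ^ (n + 1)) b hb'
  have h1 : kernel.lift (tr G (n + 1)) (Formal.smulMod A (G.obj (op (n + 1 + 1))) (∑ j, c j * a j))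
      ((hG.2 (n + 1)).zero _ hb) = ∑ j, ell hG (c j) (hc j) ≫ kx hG a ha j n := by
    rw [← cancel_mono (kernel.ι (tr G (n + 1))), kernel.lift_ι, Preadditive.sum_comp, smulMod_sum]
    refine Finset.sum_congr rfl fun j _ => ?_
    rw [ell_kx, kernel.lift_ι]
  rw [h1, Preadditive.sum_comp]
  refine Finset.sum_eq_zero fun j _ => ?_
  rw [Category.assoc, hx, comp_zero]

include ha in
theorem epi_gen_Ksys (hspan : Ideal.span (Set.range a) = I) (n : ℕ) :
    Epi ((Ksys hG a ha).gen n) := by
  apply Preadditive.epi_of_cancel_zero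
  intro T g hg
  refine eq_zero_of_kx_comp hG a ha hspan n g fun j => ?_
  have h1 := congrArg (fun t => biproduct.ι (fun _ : Fin r => (Ksys hG a ha).K n) j ≫ t) hg
  simp only [comp_zero] at h1
  rw [← Category.assoc, GrSys.ι_gen] at h1
  exact h1

theorem isFG_Ksys [IsLocallyNoetherian X] (hcoh : ∀ n, Coh.IsCoh (G.obj (op n)))
    (hspan : Ideal.span (Set.range a) = I) : (Ksys hG a ha).IsFG := by
  haveI : ∀ n, (G.obj (op n)).IsQuasicoherent := fun n => (hcoh n).1
  haveI : ∀ n, SheafOfModules.IsFiniteType.{u} (R := X.ringCatSheaf) (G.obj (op n)) := fun n => (hcoh n).2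
  exact ⟨fun n => ⟨Groth.Agent.Lib.Helper17.CohKer.isQuasicoherent_kernel (tr G n),
    Groth.Agent.Lib.Helper17.CohKer.isFiniteType_kernel (tr G n)⟩, 0,
    fun n _ => epi_gen_Ksys hG a ha hspan n⟩

end ops

/-- **uniform vanishing for the kernels of a coherent formal module** on a scheme proper over a
Noetherian ring with an ample invertible module. -/
theorem uniform_vanishing (A : Type u) [CommRing A] [IsNoetherianRing A] (I : Ideal A)
    (X : Scheme.{u}) [X.Over (Spec (CommRingCat.of A))] [IsProper (X ↘ Spec (CommRingCat.of A))]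
    (L : X.Modules) (hL : CohB1.IsAmple L) (G : ℕᵒᵖ ⥤ X.Modules) (hG : Formal.IsCohFormal I G) :
    ∃ d₀ : ℕ, ∀ d : ℕ, d₀ ≤ d → ∀ n p : ℕ, 0 < p →
      Subsingleton (Coh.HH X (CohB1.tensorMod (kernel (G.map (homOfLE (Nat.le_succ n)).op))
        (CohB1.tensorPow L d)) p) := by
  haveI : IsLocallyNoetherian X :=
    LocallyOfFiniteType.isLocallyNoetherian (X ↘ Spec (CommRingCat.of A))
  haveI : CompactSpace X := by
    have := (quasiCompact_iff_compactSpace (X ↘ Spec (CommRingCat.of A))).1 inferInstance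
    exact this
  haveI : IsNoetherian X := ⟨⟩
  obtain ⟨r, a, hspan⟩ := Submodule.fg_iff_exists_fin_generating_family.1
    (IsNoetherian.noetherian I : I.FG)
  have hspan' : Ideal.span (Set.range a) = I := hspan
  have ha : ∀ j, a j ∈ I := fun j => hspan' ▸ Ideal.subset_span ⟨j, rfl⟩
  have hGs := isFormalSys_of_isCohFormal hG
  have hFG := isFG_Ksys hGs a ha hG.1 hspan'
  have hS : ∀ M : X.Modules, Coh.IsCoh M → Groth.Agent.Lib.Helper4.VanClass.Van L M :=
    fun M hM => Groth.Agent.Lib.Helper4.AmpleSerre.vanishing_of_isAmple A X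
      (X ↘ Spec (CommRingCat.of A)) L hL M hM
  obtain ⟨d₀, hd₀⟩ := uvan_of_isFG hL.1 hS r (Ksys hGs a ha) hFG
  exact ⟨d₀, fun d hd n p hp => hd₀ d hd n p hp⟩

end Groth.Agent.Lib.Helper17.GrFormal
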