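import Groth.Agent.Lib.Helper17.GrAlg
import Groth.Agent.Lib.Helper4.VanClass
import Groth.Agent.Lib.Helper23.Formal.QuotSections
import Groth.Agent.Lib.Helper28.ModIsoCover
import Groth.Agent.Lib.Helper28.ModExact
import Groth.Agent.Lib.Helper17.CohKer
import Mathlib

/-!
# Graded systems of coherent modules with commuting shift operators (helper17)

A `GrSys X r` is a sequence `K n` of `O_X`-modules with `r` commuting operators `x j n : K n ⟶ K (n+1)`
(a graded module over a polynomial ring in `r` variables, in the category of `O_X`-modules). It is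
finitely generated (`IsFG`) if all `K n` are coherent and `⊕_j K n ⟶ K (n+1)` is an epimorphism
for large `n`.

Main results: a subsystem of a finitely generated system on a Noetherian scheme is finitely
generated (`isFG_of_mono`, Hilbert's basis theorem on the affine opens).
-/

set_option autoImplicit false
set_option backward.isDefEq.respectTransparency.types false
universe u
open CategoryTheory CategoryTheory.Limits AlgebraicGeometry Opposite TopologicalSpace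

namespace Groth.Agent.Lib.Helper17.Graded

attribute [local instance] Abelian.hasFiniteBiproducts

open Groth.Agent.Lib.Helper28.QCohLoc

variable {X : Scheme.{u}} {r : ℕ}

/-- a graded system with `r` commuting shift operators -/
structure GrSys (X : Scheme.{u}) (r : ℕ) where
  /-- the graded pieces -/
  K : ℕ → X.Modules
  /-- the shift operators -/
  x : Fin r → ∀ n, K n ⟶ K (n + 1)
  comm : ∀ i j n, x i n ≫ x j (n + 1) = x j n ≫ x i (n + 1)

namespace GrSys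

/-- the generation map `⊕_j K n ⟶ K (n+1)` -/
noncomputable def gen (𝒦 : GrSys X r) (n : ℕ) : (⨁ fun _ : Fin r => 𝒦.K n) ⟶ 𝒦.K (n + 1) :=
  biproduct.desc fun j => 𝒦.x j n

/-- finitely generated graded systems of coherent modules -/
structure IsFG (𝒦 : GrSys X r) : Prop where
  coh : ∀ n, Coh.IsCoh (𝒦.K n)
  gen : ∃ n0, ∀ n, n0 ≤ n → Epi (𝒦.gen n)

/-- morphisms of graded systems -/
structure Hom (𝒩 𝒦 : GrSys X r) where
  /-- the components -/
  f : ∀ n, 𝒩.K n ⟶ 𝒦.K n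
  comm : ∀ j n, 𝒩.x j n ≫ f (n + 1) = f n ≫ 𝒦.x j n

end GrSys

/-! ## sections -/

/-- application to sections as a linear map -/
noncomputable def appL {M N : X.Modules} (φ : M ⟶ N) (U : X.Opens) : Γ(M, U) →ₗ[Γ(X, U)] Γ(N, U) where
  toFun := φ.app U
  map_add' := map_add _
  map_smul' r m := Scheme.Modules.Hom.app_smul φ r m

theorem appL_apply {M N : X.Modules} (φ : M ⟶ N) (U : X.Opens) (m : Γ(M, U)) : appL φ U m = φ.app U m := rfl

/-- evaluation of morphisms at a section -/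
noncomputable def evalHom {M N : X.Modules} (U : X.Opens) (v : Γ(M, U)) : (M ⟶ N) →+ Γ(N, U) where
  toFun f := f.app U v
  map_zero' := rfl
  map_add' _ _ := rfl

theorem sum_app {M N : X.Modules} {ι : Type*} (s : Finset ι) (φ : ι → (M ⟶ N)) (U : X.Opens) (v : Γ(M, U)) :
    (∑ j ∈ s, φ j).app U v = ∑ j ∈ s, (φ j).app U v :=
  map_sum (evalHom (N := N) U v) _ _

theorem comp_app' {M N P : X.Modules} (φ : M ⟶ N) (ψ : N ⟶ P) (U : X.Opens) (v : Γ(M, U)) :
    (φ ≫ ψ).app U v = ψ.app U (φ.app U v) := rfl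

namespace GrSys

theorem gen_eq_sum (𝒦 : GrSys X r) (n : ℕ) :
    𝒦.gen n = ∑ j, biproduct.π (fun _ : Fin r => 𝒦.K n) j ≫ 𝒦.x j n := by
  unfold gen
  rw [← Category.id_comp (biproduct.desc fun j => 𝒦.x j n), ← biproduct.total, Preadditive.sum_comp]
  refine Finset.sum_congr rfl fun j _ => ?_
  rw [Category.assoc, biproduct.ι_desc]

theorem gen_app (𝒦 : GrSys X r) (n : ℕ) (U : X.Opens) (v : Γ(⨁ fun _ : Fin r => 𝒦.K n, U)) :
    (𝒦.gen n).app U v = ∑ j, (𝒦.x j n).app U ((biproduct.π (fun _ : Fin r => 𝒦.K n) j).app U v) := by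
  rw [gen_eq_sum, sum_app]
  rfl

theorem ι_gen (𝒦 : GrSys X r) (n : ℕ) (j : Fin r) :
    biproduct.ι (fun _ : Fin r => 𝒦.K n) j ≫ 𝒦.gen n = 𝒦.x j n := biproduct.ι_desc _ j

/-- the generation map hits sums of images of the shift operators -/
theorem gen_app_sum (𝒦 : GrSys X r) (n : ℕ) (U : X.Opens) (z : Fin r → Γ(𝒦.K n, U)) :
    (𝒦.gen n).app U (∑ j, (biproduct.ι (fun _ : Fin r => 𝒦.K n) j).app U (z j)) =
      ∑ j, (𝒦.x j n).app U (z j) := by
  rw [map_sum]
  refine Finset.sum_congr rfl fun j _ => ?_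
  rw [← comp_app', ι_gen]

/-- if the generation map is an epimorphism then sections over affine opens are sums of shifts -/
theorem exists_sum_of_epi_gen (𝒦 : GrSys X r) (n : ℕ) [Epi (𝒦.gen n)] [(𝒦.K n).IsQuasicoherent]
    [(𝒦.K (n + 1)).IsQuasicoherent] {U : X.Opens} (hU : IsAffineOpen U) (y : Γ(𝒦.K (n + 1), U)) :
    ∃ z : Fin r → Γ(𝒦.K n, U), y = ∑ j, (𝒦.x j n).app U (z j) := by
  haveI : (⨁ fun _ : Fin r => 𝒦.K n).IsQuasicoherent :=
    Groth.Agent.Lib.Helper23.FQuot.isQuasicoherent_pow (𝒦.K n) r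
  obtain ⟨v, hv⟩ := Groth.Agent.Lib.Helper23.Tower.surj_sections_of_epi (𝒦.gen n) hU y
  have hv' : (𝒦.gen n).app U v = y := hv
  exact ⟨fun j => (biproduct.π (fun _ : Fin r => 𝒦.K n) j).app U v, by rw [← hv', gen_app]⟩

end GrSys


/-! ## subsystems of finitely generated systems -/

theorem exists_finset_affine_cover (X : Scheme.{u}) [CompactSpace X] :
    ∃ s : Finset X.affineOpens, ∀ x : X, ∃ U ∈ s, x ∈ U.1 := by
  have hcov : (Set.univ : Set X) ⊆ ⋃ U : X.affineOpens, (U.1 : Set X) := by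
    intro x _
    obtain ⟨U, hU, hxU, -⟩ := (Opens.isBasis_iff_nbhd.1 X.isBasis_affineOpens)
      (show x ∈ (⊤ : X.Opens) from trivial)
    exact Set.mem_iUnion.2 ⟨⟨U, hU⟩, hxU⟩
  obtain ⟨s, hs⟩ := isCompact_univ.elim_finite_subcover (fun U : X.affineOpens => (U.1 : Set X))
    (fun U => U.1.2) hcov
  refine ⟨s, fun x => ?_⟩
  obtain ⟨U, hU, hx⟩ := Set.mem_iUnion₂.1 (hs (Set.mem_univ x))
  exact ⟨U, hU, hx⟩

namespace GrSys

/-- local form of stability on an affine open -/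
theorem exists_stable_of_isAffineOpen [IsLocallyNoetherian X] {𝒩 𝒦 : GrSys X r} (ι : GrSys.Hom 𝒩 𝒦)
    (hι : ∀ n, Mono (ι.f n)) (h𝒦 : 𝒦.IsFG) {U : X.Opens} (hU : IsAffineOpen U) :
    ∃ n1, ∀ n, n1 ≤ n → Function.Surjective ((𝒩.gen n).app U) := by
  haveI : IsNoetherianRing Γ(X, U) := IsLocallyNoetherian.component_noetherian ⟨U, hU⟩
  obtain ⟨n0, hn0⟩ := h𝒦.gen
  haveI : ∀ n, (𝒦.K n).IsQuasicoherent := fun n => (h𝒦.coh n).1
  haveI : ∀ n, SheafOfModules.IsFiniteType.{u} (R := X.ringCatSheaf) (𝒦.K n) := fun n => (h𝒦.coh n).2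
  have hc : ∀ i j n (m : Γ(𝒦.K n, U)), appL (𝒦.x i (n + 1)) U (appL (𝒦.x j n) U m) =
      appL (𝒦.x j (n + 1)) U (appL (𝒦.x i n) U m) := by
    intro i j n m
    change (𝒦.x j n ≫ 𝒦.x i (n + 1)).app U m = (𝒦.x i n ≫ 𝒦.x j (n + 1)).app U m
    rw [𝒦.comm]
  have hfin : ∀ n, Module.Finite Γ(X, U) Γ(𝒦.K n, U) := fun n =>
    Groth.Agent.Lib.Helper28.FinType.finite_of_isAffineOpen (𝒦.K n) hU
  have hgen : ∀ n, n0 ≤ n → ∀ y : Γ(𝒦.K (n + 1), U), y ∈ ⨆ j, LinearMap.range (appL (𝒦.x j n) U) := by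
    intro n hn y
    haveI := hn0 n hn
    obtain ⟨z, rfl⟩ := exists_sum_of_epi_gen 𝒦 n hU y
    exact Submodule.sum_mem _ fun j _ => Submodule.mem_iSup_of_mem j ⟨z j, rfl⟩
  have hN : ∀ j n, (LinearMap.range (appL (ι.f n) U)).map (appL (𝒦.x j n) U) ≤
      LinearMap.range (appL (ι.f (n + 1)) U) := by
    rintro j n _ ⟨_, ⟨w, rfl⟩, rfl⟩
    refine ⟨(𝒩.x j n).app U w, ?_⟩
    change (𝒩.x j n ≫ ι.f (n + 1)).app U w = (ι.f n ≫ 𝒦.x j n).app U w
    rw [ι.comm]
  obtain ⟨n1, hn1⟩ := Groth.Agent.Lib.Helper17.GrAlg.exists_stable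
    (M := fun n => Γ(𝒦.K n, U)) (x := fun j n => appL (𝒦.x j n) U) hc hfin n0 hgen
    (fun n => LinearMap.range (appL (ι.f n) U)) hN
  refine ⟨n1, fun n hn y' => ?_⟩
  have h1 : appL (ι.f (n + 1)) U y' ∈
      ⨆ j, (LinearMap.range (appL (ι.f n) U)).map (appL (𝒦.x j n) U) := hn1 n hn ⟨y', rfl⟩
  have h2 : ∀ t, t ∈ ⨆ j, (LinearMap.range (appL (ι.f n) U)).map (appL (𝒦.x j n) U) →
      ∃ z : Fin r → Γ(𝒩.K n, U), t = ∑ j, (𝒦.x j n).app U ((ι.f n).app U (z j)) := by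
    classical
    intro t ht
    induction ht using Submodule.iSup_induction' with
    | mem j t ht =>
      obtain ⟨_, ⟨w, rfl⟩, rfl⟩ := ht
      refine ⟨Pi.single j w, ?_⟩
      rw [Finset.sum_eq_single j]
      · rw [Pi.single_eq_same]; rfl
      · intro k _ hk
        rw [Pi.single_eq_of_ne hk, map_zero, map_zero]
      · intro h; exact absurd (Finset.mem_univ j) h
    | zero => exact ⟨0, by simp⟩
    | add t t' _ _ ht ht' =>
      obtain ⟨z, rfl⟩ := ht
      obtain ⟨z', rfl⟩ := ht'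
      refine ⟨z + z', ?_⟩
      rw [← Finset.sum_add_distrib]
      refine Finset.sum_congr rfl fun j _ => ?_
      rw [Pi.add_apply, map_add, map_add]
  obtain ⟨z, hz⟩ := h2 _ h1
  refine ⟨∑ j, (biproduct.ι (fun _ : Fin r => 𝒩.K n) j).app U (z j), ?_⟩
  rw [gen_app_sum]
  apply Groth.Agent.Lib.Helper28.QCohLoc.injective_of_mono (ι.f (n + 1)) (hι (n + 1)) U
  rw [map_sum]
  refine Eq.trans ?_ hz.symm
  refine Finset.sum_congr rfl fun j _ => ?_
  change (𝒩.x j n ≫ ι.f (n + 1)).app U (z j) = (ι.f n ≫ 𝒦.x j n).app U (z j)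
  rw [ι.comm]

/-- **a subsystem of a finitely generated system on a Noetherian scheme is finitely generated** -/
theorem isFG_of_mono [IsNoetherian X] {𝒩 𝒦 : GrSys X r} (ι : GrSys.Hom 𝒩 𝒦)
    (hι : ∀ n, Mono (ι.f n)) (h𝒦 : 𝒦.IsFG) (hq : ∀ n, (𝒩.K n).IsQuasicoherent) : 𝒩.IsFG := by
  classical
  haveI : IsLocallyNoetherian X := inferInstance
  haveI : ∀ n, (𝒦.K n).IsQuasicoherent := fun n => (h𝒦.coh n).1
  haveI : ∀ n, SheafOfModules.IsFiniteType.{u} (R := X.ringCatSheaf) (𝒦.K n) := fun n => (h𝒦.coh n).2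
  refine ⟨fun n => ⟨hq n, ?_⟩, ?_⟩
  · haveI := hι n
    haveI := hq n
    exact Groth.Agent.Lib.Helper17.CohKer.isFiniteType_of_mono (ι.f n)
  · obtain ⟨s, hs⟩ := exists_finset_affine_cover X
    have h1 := fun U : X.affineOpens => exists_stable_of_isAffineOpen ι hι h𝒦 U.2
    choose n1 hn1 using h1
    refine ⟨s.sup n1, fun n hn => ?_⟩
    haveI := hq (n + 1)
    refine epi_of_affine_cover (𝒩.gen n) (fun U : {U // U ∈ s} => U.1.1) (fun U => U.1.2)
      (fun x => ?_) (fun U => isLocOn_of_isQuasicoherent _ U.1.2) (fun U => ?_)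
    · obtain ⟨U, hU, hx⟩ := hs x
      exact ⟨⟨U, hU⟩, hx⟩
    · exact hn1 U.1 n ((Finset.le_sup U.2).trans hn)


/-! ## constructions -/

/-- the shifted system -/
def shift (𝒦 : GrSys X r) : GrSys X r where
  K n := 𝒦.K (n + 1)
  x j n := 𝒦.x j (n + 1)
  comm i j n := 𝒦.comm i j (n + 1)

/-- forget the last operator -/
def dropLast (𝒦 : GrSys X (r + 1)) : GrSys X r where
  K := 𝒦.K
  x j n := 𝒦.x j.castSucc n
  comm i j n := 𝒦.comm _ _ n

/-- the last operator as a morphism to the shifted system -/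
def yHom (𝒦 : GrSys X (r + 1)) : Hom 𝒦 𝒦.shift where
  f n := 𝒦.x (Fin.last r) n
  comm j n := 𝒦.comm j (Fin.last r) n

/-- the kernel system of a morphism -/
noncomputable def ker {𝒦 𝒦' : GrSys X r} (φ : Hom 𝒦 𝒦') : GrSys X r where
  K n := kernel (φ.f n)
  x j n := kernel.map (φ.f n) (φ.f (n + 1)) (𝒦.x j n) (𝒦'.x j n) (φ.comm j n).symm
  comm i j n := by
    rw [← cancel_mono (kernel.ι (φ.f (n + 1 + 1)))]
    simp only [Category.assoc, kernel.lift_ι, kernel.lift_ι_assoc]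
    rw [𝒦.comm]

/-- the inclusion of the kernel system -/
noncomputable def kerι {𝒦 𝒦' : GrSys X r} (φ : Hom 𝒦 𝒦') : Hom (ker φ) 𝒦 where
  f n := kernel.ι (φ.f n)
  comm j n := kernel.lift_ι _ _ _

/-- the cokernel system of a morphism -/
noncomputable def coker {𝒦 𝒦' : GrSys X r} (φ : Hom 𝒦 𝒦') : GrSys X r where
  K n := cokernel (φ.f n)
  x j n := cokernel.map (φ.f n) (φ.f (n + 1)) (𝒦.x j n) (𝒦'.x j n) (φ.comm j n).symm
  comm i j n := by
    rw [← cancel_epi (cokernel.π (φ.f n))]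
    simp only [cokernel.π_desc_assoc, Category.assoc, cokernel.π_desc]
    rw [← Category.assoc, 𝒦'.comm, Category.assoc]

/-- the projection to the cokernel system -/
noncomputable def cokerπ {𝒦 𝒦' : GrSys X r} (φ : Hom 𝒦 𝒦') : Hom 𝒦' (coker φ) where
  f n := cokernel.π (φ.f n)
  comm j n := (cokernel.π_desc _ _ _).symm

theorem ker_x_ι {𝒦 𝒦' : GrSys X r} (φ : Hom 𝒦 𝒦') (j : Fin r) (n : ℕ) :
    (ker φ).x j n ≫ kernel.ι (φ.f (n + 1)) = kernel.ι (φ.f n) ≫ 𝒦.x j n := kernel.lift_ι _ _ _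

theorem π_coker_x {𝒦 𝒦' : GrSys X r} (φ : Hom 𝒦 𝒦') (j : Fin r) (n : ℕ) :
    cokernel.π (φ.f n) ≫ (coker φ).x j n = 𝒦'.x j n ≫ cokernel.π (φ.f (n + 1)) :=
  cokernel.π_desc _ _ _

theorem ker_yHom_last (𝒦 : GrSys X (r + 1)) (n : ℕ) : (ker 𝒦.yHom).x (Fin.last r) n = 0 := by
  refine (cancel_mono (kernel.ι (𝒦.yHom.f (n + 1)))).1 ?_
  exact (ker_x_ι 𝒦.yHom (Fin.last r) n).trans
    ((kernel.condition (𝒦.yHom.f n)).trans zero_comp.symm)

theorem coker_yHom_last (𝒦 : GrSys X (r + 1)) (n : ℕ) : (coker 𝒦.yHom).x (Fin.last r) n = 0 := by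
  refine (cancel_epi (cokernel.π (𝒦.yHom.f n))).1 ?_
  exact (π_coker_x 𝒦.yHom (Fin.last r) n).trans
    ((cokernel.condition (𝒦.yHom.f (n + 1))).trans comp_zero.symm)

theorem isFG_shift {𝒦 : GrSys X r} (h : 𝒦.IsFG) : 𝒦.shift.IsFG := by
  obtain ⟨n0, hn0⟩ := h.gen
  exact ⟨fun n => h.coh (n + 1), n0, fun n hn => hn0 (n + 1) (by omega)⟩

/-- a quotient of a finitely generated system is finitely generated -/
theorem isFG_of_epi {𝒦 𝒞 : GrSys X r} (π : Hom 𝒦 𝒞) (hπ : ∀ n, Epi (π.f n)) (h𝒦 : 𝒦.IsFG)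
    (hq : ∀ n, (𝒞.K n).IsQuasicoherent) : 𝒞.IsFG := by
  haveI : ∀ n, SheafOfModules.IsFiniteType.{u} (R := X.ringCatSheaf) (𝒦.K n) := fun n => (h𝒦.coh n).2
  refine ⟨fun n => ⟨hq n, ?_⟩, ?_⟩
  · haveI := hπ n
    exact Groth.Agent.Lib.Helper17.CohKer.isFiniteType_of_epi (π.f n)
  · obtain ⟨n0, hn0⟩ := h𝒦.gen
    refine ⟨n0, fun n hn => ?_⟩
    haveI := hn0 n hn
    haveI := hπ (n + 1)
    have h1 : 𝒦.gen n ≫ π.f (n + 1) = biproduct.map (fun _ : Fin r => π.f n) ≫ 𝒞.gen n := by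
      apply biproduct.hom_ext'
      intro j
      rw [← Category.assoc, ι_gen, ← Category.assoc, biproduct.ι_map, Category.assoc, ι_gen]
      exact π.comm j n
    apply Preadditive.epi_of_cancel_zero
    intro T g hg
    have h2 : 𝒦.gen n ≫ (π.f (n + 1) ≫ g) = 0 := by
      rw [← Category.assoc, h1, Category.assoc, hg, comp_zero]
    exact (cancel_epi (π.f (n + 1))).1 (((cancel_epi (𝒦.gen n)).1 (h2.trans comp_zero.symm)).trans
      comp_zero.symm)

/-- a finitely generated system whose last operator vanishes is finitely generated over the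
remaining operators -/
theorem isFG_dropLast {𝒦 : GrSys X (r + 1)} (h : 𝒦.IsFG) (h0 : ∀ n, 𝒦.x (Fin.last r) n = 0) :
    𝒦.dropLast.IsFG := by
  obtain ⟨n0, hn0⟩ := h.gen
  refine ⟨h.coh, n0, fun n hn => ?_⟩
  haveI := hn0 n hn
  apply Preadditive.epi_of_cancel_zero
  intro T g hg
  have h1 : 𝒦.gen n ≫ g = 0 := by
    apply biproduct.hom_ext'
    intro j
    rw [← Category.assoc, ι_gen, comp_zero]
    induction j using Fin.lastCases with
    | last => rw [h0, zero_comp]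
    | cast j =>
      have := congrArg (fun t => biproduct.ι (fun _ : Fin r => 𝒦.dropLast.K n) j ≫ t) hg
      simp only [comp_zero] at this
      rw [← Category.assoc, ι_gen] at this
      exact this
  exact (cancel_epi (𝒦.gen n)).1 (h1.trans comp_zero.symm)

end GrSys

end Groth.Agent.Lib.Helper17.Graded
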