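import Groth.Agent.Lib.Helper17.H0NegA
import Groth.Agent.Lib.Helper17.ClosedPt
import Groth.Agent.Lib.Helper28.AmpleFinite
import Groth.Agent.Lib.Helper28.AmpleIso
import Groth.Agent.Lib.Helper6.K0Inv
import Groth.Agent.Lib.Helper4.ProperFinal
import Groth.Agent.S1576
import Groth.Prelude.Def_Canon
import Groth.Prelude.Def_ClSub2
import Mathlib
set_option backward.isDefEq.respectTransparency.types false
set_option autoImplicit false

/-!
# Vanishing of `H⁰(X, F ⊗ L^{-n})` for `n ≫ 0` when `F` has no closed associated point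
-/

universe u
open CategoryTheory CategoryTheory.Limits AlgebraicGeometry Opposite TopologicalSpace
noncomputable section

namespace Groth.Agent.Lib.Helper17.H0Neg

open Groth.Agent.Lib.Helper28 Groth.Agent.Lib.Helper28.QCohLoc Groth.Agent.Lib.Helper28.TensorGen
  Groth.Agent.Lib.Helper28.GenLocus Groth.Agent.Lib.Helper17.TwHom Groth.Agent.Lib.Helper29.QCohStalk

/-- a function on `ℕ`, non-increasing along the progressions of difference `m` and vanishing wherever such a
progression is constant, is eventually zero -/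
theorem exists_eventually_zero (m : ℕ) (hm : 0 < m) (d : ℕ → ℕ) (hA : ∀ n j, d (n + m * j) ≤ d n)
    (hB : ∀ n, (∀ j, d (n + m * j) = d n) → d n = 0) : ∃ n₀, ∀ n, n₀ ≤ n → d n = 0 := by
  have h1 : ∀ v r, d r = v → ∃ i, d (r + m * i) = 0 := by
    intro v
    induction v using Nat.strong_induction_on with
    | _ v ih =>
      intro r hr
      by_cases hc : ∀ j, d (r + m * j) = d r
      · exact ⟨0, by rw [Nat.mul_zero, Nat.add_zero]; exact hB r hc⟩
      · simp only [not_forall] at hc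
        obtain ⟨j, hj⟩ := hc
        have hlt : d (r + m * j) < v := by
          rw [← hr]
          exact lt_of_le_of_ne (hA r j) hj
        obtain ⟨i, hi⟩ := ih _ hlt (r + m * j) rfl
        refine ⟨j + i, ?_⟩
        rw [Nat.mul_add, ← Nat.add_assoc]
        exact hi
  choose i₀ hi₀ using fun r => h1 (d r) r rfl
  refine ⟨(Finset.range m).sup (fun r => r + m * i₀ r), fun n hn => ?_⟩
  have hr : n % m ∈ Finset.range m := Finset.mem_range.2 (Nat.mod_lt n hm)
  have h2 : n % m + m * i₀ (n % m) ≤ n :=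
    le_trans (Finset.le_sup (f := fun r => r + m * i₀ r) hr) hn
  have h3 : n % m + m * (n / m) = n := Nat.mod_add_div n m
  have h4 : i₀ (n % m) ≤ n / m := by
    by_contra hlt
    push Not at hlt
    have : m * (n / m) < m * i₀ (n % m) := Nat.mul_lt_mul_of_pos_left hlt hm
    omega
  obtain ⟨j, hj⟩ := Nat.exists_eq_add_of_le h4
  have h5 : n = (n % m + m * i₀ (n % m)) + m * j := by
    rw [Nat.add_assoc, ← Nat.mul_add, ← hj, h3]
  have h6 := hA (n % m + m * i₀ (n % m)) j
  rw [← h5, hi₀ (n % m)] at h6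
  exact Nat.le_zero.1 h6

variable {X : Scheme.{u}}

/-- `H⁰` is the group of global sections -/
def E (P : X.Modules) : Coh.HH X P 0 ≃+ Γ(P, ⊤) := Sheaf.H.equiv₀ (Coh.toAb P) Limits.isTerminalTop

theorem E_nat (k : Type u) [Field k] [X.Over (Spec (CommRingCat.of k))] {P Q : X.Modules} (φ : P ⟶ Q)
    (x : Coh.HH X P 0) : φ.app ⊤ (E P x) = E Q (Canon.HHlin k φ 0 x) :=
  Sheaf.H.equiv₀_naturality Limits.isTerminalTop ((SheafOfModules.toSheaf X.ringCatSheaf).map φ) x

theorem main (k : Type u) [Field k] (X : Scheme.{u}) [X.Over (Spec (CommRingCat.of k))]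
    [IsProper (X ↘ (Spec (CommRingCat.of k)))]
    (L : X.Modules) (hL : CohB1.IsAmple L) (M : X.Modules) (hM : ClSub.IsInverseOf L M)
    (F : X.Modules) (hF : Coh.IsCoh F) (hass : ∀ x : X, IsClosed ({x} : Set X) → ¬ Curv2.IsAssPoint F x) :
    ∃ n₀ : ℕ, ∀ n : ℕ, n₀ ≤ n →
      Subsingleton (Coh.HH X (CohB1.tensorMod F (CohB1.tensorPow M n)) 0) := by
  obtain ⟨ε⟩ := hM
  have hLinv := hL.1
  haveI : CompactSpace X := hL.2.1
  have hMinv := Groth.Agent.Lib.Helper6.K0Inv.isInvertible_of_tensor_iso L M hLinv ε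
  haveI : IsLocallyNoetherian X :=
    LocallyOfFiniteType.isLocallyNoetherian (X ↘ Spec (CommRingCat.of k))
  haveI : F.IsQuasicoherent := hF.1
  haveI : SheafOfModules.IsFiniteType.{u} (R := X.ringCatSheaf) F := hF.2
  have hZfin : {x : X | Curv2.IsAssPoint F x}.Finite := by
    have h := Groth.Agent.S1576.result X F hF ⊤ isCompact_univ
    exact h.subset (fun x hx => ⟨trivial, hx⟩)
  obtain ⟨n', s, hZs, -, hsaff⟩ := exists_affine_genLocus_of_finite hL _ hZfin ⊤ (fun _ _ => trivial)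
  obtain ⟨ψ, -⟩ := exists_tensorPow_tensorMod_iso hLinv hMinv (n' + 1)
  obtain ⟨υ⟩ := AmpleUnit.nonempty_tensorPow_unit_iso X (n' + 1)
  let e : CohB1.tensorMod (CohB1.tensorPow L (n' + 1)) (CohB1.tensorPow M (n' + 1)) ≅ Coh.structureModule X :=
    ψ.symm ≪≫ AmpleIso.tensorPowIso ε (n' + 1) ≪≫ υ
  have hG : Good F M (n' + 1) (SForm.sform (n' + 1) e s) (CohB1.genLocus _ s) :=
    ⟨SForm.isForm_sform (n' + 1) e s,
      fun W g hg y hy => SForm.mem_genLocus_iff (n' + 1) e s hLinv hg y hy,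
      fun y hy => hZs ((isAssPoint_iff_isWeakAssPoint F y).2 hy)⟩
  have hcoh : ∀ n, Coh.IsCoh (Pn F M n) := fun n =>
    ⟨(isTwist_Pn F M n).isQuasicoherent hMinv, (isTwist_Pn F M n).isFiniteType hMinv⟩
  haveI hfin : ∀ n, Module.Finite k (Coh.HH X (Pn F M n) 0) := fun n =>
    Groth.Agent.Lib.Helper4.ProperFinal.finite_HH k X _ (hcoh n) 0
  -- injectivity of the multiplication maps on `H⁰`
  have hinj : ∀ (n j : ℕ) (μ : Pn F M (n + (n' + 1) * j) ⟶ Pn F M n),
      (∀ (W : X.Opens) (g : Γ(M, W)), IsGen M W g → ∀ x : Γ(F, W),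
        μ.app W (Θn F M (n + (n' + 1) * j) W g x) =
          Θn F M n W g ((SForm.sform (n' + 1) e s W g ^ j • x : Γ(F, W)))) →
      Function.Injective (Canon.HHlin k μ 0) := by
    intro n j μ hμ
    rw [injective_iff_map_eq_zero]
    intro x hx
    have h1 := E_nat k μ x
    rw [hx, map_zero] at h1
    have h2 := eq_zero_of_mu_app_eq_zero hMinv hG n j μ hμ _ h1
    exact (E _).map_eq_zero_iff.1 h2
  have hA : ∀ n j, Module.finrank k (Coh.HH X (Pn F M (n + (n' + 1) * j)) 0) ≤
      Module.finrank k (Coh.HH X (Pn F M n) 0) := by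
    intro n j
    obtain ⟨μ, hμ⟩ := exists_mu (F := F) hMinv hG.form n j
    exact LinearMap.finrank_le_finrank_of_injective (hinj n j μ hμ)
  have hB : ∀ n, (∀ j, Module.finrank k (Coh.HH X (Pn F M (n + (n' + 1) * j)) 0) =
      Module.finrank k (Coh.HH X (Pn F M n) 0)) → Module.finrank k (Coh.HH X (Pn F M n) 0) = 0 := by
    intro n hn
    by_contra hd
    have hnt : Nontrivial (Coh.HH X (Pn F M n) 0) := by
      by_contra hnt
      rw [not_nontrivial_iff_subsingleton] at hnt
      exact hd (Module.finrank_zero_of_subsingleton)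
    obtain ⟨τ, hτ⟩ := exists_ne (0 : Coh.HH X (Pn F M n) 0)
    have htne : E (Pn F M n) τ ≠ 0 := fun h => hτ ((E _).map_eq_zero_iff.1 h)
    have hdiv : Divisible F M (n' + 1) (SForm.sform (n' + 1) e s) n (E (Pn F M n) τ) := by
      intro j
      obtain ⟨μ, hμ⟩ := exists_mu (F := F) hMinv hG.form n j
      have hsurj := (LinearMap.injective_iff_surjective_of_finrank_eq_finrank (hn j)).1 (hinj n j μ hμ)
      obtain ⟨τj, hτj⟩ := hsurj τ
      exact ⟨μ, E _ τj, hμ, by rw [E_nat k, hτj]⟩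
    obtain ⟨y, hyw, hycl⟩ := hdiv.exists_assPoint hMinv hG htne
    have hyc := Groth.Agent.Lib.Helper17.ClosedPt.isClosed_singleton_of_closure_subset_affine
      (X ↘ Spec (CommRingCat.of k)) hsaff y hycl
    exact hass y hyc ((isAssPoint_iff_isWeakAssPoint F y).2 hyw)
  obtain ⟨n₀, hn₀⟩ := exists_eventually_zero (n' + 1) (Nat.succ_pos n')
    (fun n => Module.finrank k (Coh.HH X (Pn F M n) 0)) hA hB
  refine ⟨n₀, fun n hn => ?_⟩
  have h0 := hn₀ n hn
  exact Module.finrank_zero_iff.1 h0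

end Groth.Agent.Lib.Helper17.H0Neg
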