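import Groth.Agent.Lib.Helper17.SqZeroC
import Groth.Agent.Lib.Helper6.CohTopPush
import Groth.Prelude.Def_UnitsSh
import Mathlib
set_option backward.isDefEq.respectTransparency.types false
set_option autoImplicit false
set_option linter.style.haveILetI false
set_option linter.unusedSectionVars false

/-!
# The units exact sequence of a square-zero closed immersion
`0 ⟶ I ⟶ O_Y^× ⟶ t_* O_Z^× ⟶ 0`
-/

universe u
open CategoryTheory CategoryTheory.Limits AlgebraicGeometry Opposite TopologicalSpace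

noncomputable section
namespace Groth.Agent.Lib.Helper17.USES

open Groth.Agent.Lib.Helper28.QCohLoc

variable {Y Z : Scheme.{u}} (t : Z ⟶ Y)

/-- the ideal of `t` as a module -/
abbrev II : Y.Modules := kernel (ClSub.unitToPush t)

/-- its inclusion -/
abbrev ιI : II t ⟶ Coh.structureModule Y := kernel.ι (ClSub.unitToPush t)

theorem app_ιI (W : Y.Opens) (x : Γ(II t, W)) : (t.app W).hom ((ιI t).app W x) = 0 := by
  have := congrArg (fun φ => Scheme.Modules.Hom.app φ W x) (kernel.condition (ClSub.unitToPush t))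
  exact this

theorem exists_ιI_eq (W : Y.Opens) (c : Γ(Y, W)) (hc : (t.app W).hom c = 0) :
    ∃ x : Γ(II t, W), (ιI t).app W x = c :=
  Groth.Agent.Lib.Helper28.AmpleH1.exists_app_eq_of_exact (kernel.ι (ClSub.unitToPush t))
    (ClSub.unitToPush t) (kernel.condition _) (ShortComplex.kernelSequence_exact _) W c hc

theorem ιI_injective (W : Y.Opens) : Function.Injective ((ιI t).app W) :=
  injective_of_mono (kernel.ι (ClSub.unitToPush t)) inferInstance W

/-- the square-zero hypothesis, on affine opens -/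
def SqZ : Prop := ∀ (U : Y.affineOpens) (r s : Γ(Y, U.1)),
  (t.app U.1).hom r = 0 → (t.app U.1).hom s = 0 → r * s = 0

variable {t}

theorem SqZ.mul_eq_zero (h : SqZ t) (U : Y.Opens) (r s : Γ(Y, U))
    (hr : (t.app U).hom r = 0) (hs : (t.app U).hom s = 0) : r * s = 0 := by
  have hloc : ∀ pt : U, ∃ (V : Y.Opens) (hV : V ≤ U), pt.1 ∈ V ∧ resO hV (r * s) = resO hV 0 := by
    intro pt
    obtain ⟨_, ⟨V, hVa, rfl⟩, hptV, hVU⟩ := Y.isBasis_affineOpens.exists_subset_of_mem_open pt.2 U.2
    have hVU' : V ≤ U := hVU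
    refine ⟨V, hVU', hptV, ?_⟩
    change resO hVU' (r * s) = resO hVU' (0 : Γ(Y, U))
    unfold resO
    rw [map_mul, map_zero]
    refine h ⟨V, hVa⟩ _ _ ?_ ?_
    · have := app_resO t hVU' r
      refine this.trans ?_
      rw [hr]; exact map_zero _
    · have := app_resO t hVU' s
      refine this.trans ?_
      rw [hs]; exact map_zero _
  choose V hV hpt heq using hloc
  exact eq_of_locally_eq (Coh.structureModule Y) V U hV (fun x hx => Opens.mem_iSup.2 ⟨⟨x, hx⟩, hpt _⟩)
    (show Γ(Coh.structureModule Y, U) from r * s) (show Γ(Coh.structureModule Y, U) from 0) heq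


/-- the unit `1 + r` for `r² = 0` -/
def onePlus {R : Type*} [CommRing R] (r : R) (h : r * r = 0) : Rˣ :=
  ⟨1 + r, 1 - r, by linear_combination (-1 : R) * h, by linear_combination (-1 : R) * h⟩

@[simp] theorem onePlus_val {R : Type*} [CommRing R] (r : R) (h : r * r = 0) :
    (onePlus r h : R) = 1 + r := rfl

/-- sections of the structure module are functions -/
def fnS (Y : Scheme.{u}) (U : Y.Opens) : Γ(Coh.structureModule Y, U) →+ Γ(Y, U) where
  toFun x := x
  map_zero' := rfl
  map_add' _ _ := rfl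

/-- the inclusion of the ideal on sections, with values in functions -/
def ιf (t : Z ⟶ Y) (U : Y.Opens) : Γ(II t, U) →+ Γ(Y, U) :=
  (fnS Y U).comp ((ιI t).app U).hom

theorem t_ιf (U : Y.Opens) (x : Γ(II t, U)) : (t.app U).hom (ιf t U x) = 0 := app_ιI t U x

theorem exists_ιf_eq (U : Y.Opens) (c : Γ(Y, U)) (hc : (t.app U).hom c = 0) :
    ∃ x : Γ(II t, U), ιf t U x = c := exists_ιI_eq t U c hc

theorem ιf_injective (U : Y.Opens) : Function.Injective (ιf t U) := ιI_injective t U

theorem ιf_res {U V : Y.Opens} (hVU : V ≤ U) (x : Γ(II t, U)) :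
    ιf t V (res (II t) hVU x) = resO hVU (ιf t U x) := app_res (ιI t) hVU x

theorem SqZ.sq (h : SqZ t) (U : Y.Opens) (x : Γ(II t, U)) : ιf t U x * ιf t U x = 0 :=
  h.mul_eq_zero U _ _ (t_ιf U x) (t_ιf U x)

/-- `f ↦ 1 + f` on sections -/
def expApp (h : SqZ t) (U : (Opens Y)ᵒᵖ) :
    (Coh.toAb (II t)).obj.obj U ⟶ (UnitsSh.unitsAb Y).obj.obj U :=
  AddCommGrpCat.ofHom
    { toFun := fun x => UnitsSh.sectOfUnit (O := Y.sheaf.obj) (U := U)
        (onePlus (ιf t U.unop x) (h.sq U.unop x))
      map_zero' := by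
        apply Units.ext
        change (1 : Γ(Y, U.unop)) + ιf t U.unop 0 = 1
        rw [map_zero, add_zero]
      map_add' := fun x y => by
        apply Units.ext
        change (1 : Γ(Y, U.unop)) + ιf t U.unop (x + y) =
          (1 + ιf t U.unop x) * (1 + ιf t U.unop y)
        have hadd : ιf t U.unop (x + y) = ιf t U.unop x + ιf t U.unop y := map_add (ιf t U.unop) x y
        have hxy := h.mul_eq_zero U.unop _ _ (t_ιf U.unop x) (t_ιf U.unop y)
        linear_combination hadd + (-1 : Γ(Y, U.unop)) * hxy }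


theorem expApp_val (h : SqZ t) (U : (Opens Y)ᵒᵖ) (x : (Coh.toAb (II t)).obj.obj U) :
    Units.val (UnitsSh.unitOfSect (O := Y.sheaf.obj) (U := U) ((expApp h U).hom x)) =
      (1 + ιf t U.unop x : Γ(Y, U.unop)) := rfl

/-- the exponential map `I ⟶ O^×`, `f ↦ 1 + f` -/
def expHom (h : SqZ t) : Coh.toAb (II t) ⟶ UnitsSh.unitsAb Y :=
  ⟨{ app := expApp h
     naturality := fun U V i => by
      ext x
      apply Units.ext
      change (1 : Γ(Y, V.unop)) + ιf t V.unop ((II t).presheaf.map i x) =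
        (Y.presheaf.map i).hom (1 + ιf t U.unop x)
      rw [map_add, map_one]
      congr 1
      exact ιf_res (t := t) (leOfHom i.unop) x }⟩


theorem expHom_comap (h : SqZ t) : expHom h ≫ UnitsSh.comap t = 0 := by
  apply Sheaf.hom_ext
  ext U x
  apply Units.ext
  change (t.app U.unop).hom (1 + ιf t U.unop x) = 1
  rw [map_add, map_one, t_ιf, add_zero]

/-- a monomorphism of abelian sheaves is injective on sections -/
theorem injective_app_of_mono {X : TopCat.{u}} {F G : CohTop.Ab X} (φ : F ⟶ G) [Mono φ]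
    (V : (Opens X)ᵒᵖ) : Function.Injective (φ.hom.app V) := by
  have h1 : Mono φ.hom := (Sheaf.Hom.mono_iff_presheaf_mono _ _ φ).1 inferInstance
  have h2 : Mono (φ.hom.app V) := (NatTrans.mono_iff_mono_app φ.hom).1 h1 V
  exact (AddCommGrpCat.mono_iff_injective _).1 h2

theorem mono_of_injective_app {X : TopCat.{u}} {F G : CohTop.Ab X} (φ : F ⟶ G)
    (h : ∀ V : (Opens X)ᵒᵖ, Function.Injective (φ.hom.app V)) : Mono φ := by
  refine (Sheaf.Hom.mono_iff_presheaf_mono _ _ φ).2 ?_
  refine (NatTrans.mono_iff_mono_app φ.hom).2 fun V => ?_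
  exact (AddCommGrpCat.mono_iff_injective _).2 (h V)

instance mono_expHom (h : SqZ t) : Mono (expHom h) := by
  refine mono_of_injective_app _ fun V x y hxy => ?_
  have h1 := congrArg (fun s => Units.val (UnitsSh.unitOfSect (O := Y.sheaf.obj) (U := V) s)) hxy
  have h2 : (1 + ιf t V.unop x : Γ(Y, V.unop)) = 1 + ιf t V.unop y := h1
  exact ιf_injective V.unop (add_left_cancel h2)


theorem epi_comap [IsClosedImmersion t] (h : SqZ t) : Epi (UnitsSh.comap t) := by
  refine (TopCat.Sheaf.isLocallySurjective_iff_epi _).1 ?_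
  rw [TopCat.Presheaf.isLocallySurjective_iff]
  intro U v x hx
  obtain ⟨_, ⟨V, hVa, rfl⟩, hxV, hVU⟩ := Y.isBasis_affineOpens.exists_subset_of_mem_open hx U.2
  refine ⟨V, hVU, ?_, hxV⟩
  generalize TopCat.Presheaf.restrictOpen v V hVU = w
  let w' : (Γ(Z, t ⁻¹ᵁ V))ˣ :=
    UnitsSh.unitOfSect (O := (t.base _* Z.presheaf)) (U := op V) w
  have hsurj : Function.Surjective (t.app V).hom := t.app_surjective V hVa
  obtain ⟨r, hr⟩ := hsurj w'.val
  have hu : IsUnit r := Groth.Agent.Lib.Helper17.SqZero.isUnit_of_isUnit_map (t.app V).hom hsurj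
    (fun a b ha hb => h ⟨V, hVa⟩ a b ha hb) r (by rw [hr]; exact w'.isUnit)
  refine ⟨UnitsSh.sectOfUnit (O := Y.sheaf.obj) (U := op V) hu.unit, ?_⟩
  apply Units.ext
  exact hr


/-- **the units sequence of a square-zero closed immersion is short exact** -/
theorem shortExact [IsClosedImmersion t] (h : SqZ t) :
    (ShortComplex.mk (expHom h) (UnitsSh.comap t) (expHom_comap h)).ShortExact := by
  haveI := epi_comap h
  refine ShortComplex.ShortExact.mk' ?_ (mono_expHom h) (epi_comap h)
  rw [ShortComplex.exact_iff_epi_kernel_lift]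
  refine Groth.Agent.Lib.Helper6.CohTopPush.epi_of_sections_surjective _ fun V z => ?_
  let u := (kernel.ι (UnitsSh.comap t)).hom.app (op V) z
  have hu : (UnitsSh.comap t).hom.app (op V) u = 0 := by
    have := congrArg (fun φ => φ.hom.app (op V) z) (kernel.condition (UnitsSh.comap t))
    exact this
  let u' : (Γ(Y, V))ˣ := UnitsSh.unitOfSect (O := Y.sheaf.obj) (U := op V) u
  have h1 : (t.app V).hom (u'.val - 1) = 0 := by
    have := congrArg (fun s => Units.val
      (UnitsSh.unitOfSect (O := (t.base _* Z.presheaf)) (U := op V) s)) hu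
    rw [map_sub, map_one, sub_eq_zero]
    exact this
  obtain ⟨x, hx⟩ := exists_ιf_eq V _ h1
  refine ⟨x, ?_⟩
  apply injective_app_of_mono (kernel.ι (UnitsSh.comap t)) (op V)
  have h2 : (kernel.lift _ (expHom h) (expHom_comap h)) ≫ kernel.ι (UnitsSh.comap t) = expHom h :=
    kernel.lift_ι _ _ _
  have h3 := congrArg (fun φ => φ.hom.app (op V) x) h2
  refine h3.trans ?_
  apply Units.ext
  change 1 + ιf t V x = u'.val
  rw [hx]
  ring

end Groth.Agent.Lib.Helper17.USES
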