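import Groth.Agent.Lib.Helper6.SheafCoh
import Groth.Agent.Lib.Helper6.CohTopGodement
import Groth.Agent.Lib.Helper17.USES
import Mathlib
set_option backward.isDefEq.respectTransparency.types false
set_option autoImplicit false
set_option linter.style.haveILetI false
set_option linter.unusedSectionVars false

/-!
# Degree-one cohomology classes and Čech cocycles, via the Godement embedding

For an abelian sheaf `G` on a topological space `X`, `God G` is the sheaf of all families of germs,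
`ιG : G ⟶ God G` the canonical monomorphism, `QG G` its cokernel.  A cocycle on an open cover
*represents* a class in `H¹(X, G)` (`Rep`).  Main result: `exists_lift_cocycle` (lifting of
cocycles along an epimorphism whose kernel has no `H²`).
-/

universe u
open CategoryTheory CategoryTheory.Limits Opposite TopologicalSpace Abelian

noncomputable section
namespace Groth.Agent.Lib.Helper17.H1Coc

open Groth.Agent.Lib.Helper6

variable {X : TopCat.{u}}

/-- restriction of sections -/
def rs (G : CohTop.Ab X) {U V : Opens X} (h : V ≤ U) : G.obj.obj (op U) →+ G.obj.obj (op V) :=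
  (G.obj.map (homOfLE h).op).hom

theorem germ_rs (G : CohTop.Ab X) {U V : Opens X} (h : V ≤ U) (x : X) (hx : x ∈ V)
    (s : G.obj.obj (op U)) :
    TopCat.Presheaf.germ G.obj V x hx (rs G h s) = TopCat.Presheaf.germ G.obj U x (h hx) s :=
  TopCat.Presheaf.germ_res_apply G.obj (homOfLE h) x hx s

theorem rs_naturality {G G' : CohTop.Ab X} (ψ : G ⟶ G') {U V : Opens X} (h : V ≤ U)
    (s : G.obj.obj (op U)) : ψ.hom.app (op V) (rs G h s) = rs G' h (ψ.hom.app (op U) s) := by
  have := ψ.hom.naturality (homOfLE h).op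
  exact congrArg (fun φ => φ.hom s) this

theorem germ_map {G G' : CohTop.Ab X} (ψ : G ⟶ G') (U : Opens X) (x : X) (hx : x ∈ U)
    (s : G.obj.obj (op U)) :
    (TopCat.Presheaf.stalkFunctor AddCommGrpCat.{u} x).map ψ.hom
      (TopCat.Presheaf.germ G.obj U x hx s) =
    TopCat.Presheaf.germ G'.obj U x hx (ψ.hom.app (op U) s) :=
  TopCat.Presheaf.stalkFunctor_map_germ_apply U x hx ψ.hom s

section Godement

variable (G : CohTop.Ab X)

/-- the presheaf `U ↦ ∏_{x ∈ U} G_x` -/
def GodPre : (Opens X)ᵒᵖ ⥤ AddCommGrpCat.{u} where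
  obj U := AddCommGrpCat.of (∀ x : U.unop, (CohTop.stalk G (x.1 : X) : AddCommGrpCat.{u}))
  map {U V} i := AddCommGrpCat.ofHom
    { toFun := fun g x => g ⟨x.1, i.unop.le x.2⟩
      map_zero' := rfl
      map_add' := fun _ _ => rfl }

theorem GodPre_isSheaf : TopCat.Presheaf.IsSheaf (GodPre G) := by
  rw [TopCat.Presheaf.isSheaf_iff_isSheaf_comp (forget AddCommGrpCat.{u})]
  exact TopCat.Presheaf.toTypes_isSheaf X
    (fun x => (CohTop.stalk G (x : X) : AddCommGrpCat.{u}))

/-- the Godement sheaf of `G` -/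
def God : CohTop.Ab X := ⟨GodPre G, GodPre_isSheaf G⟩

/-- sections of the Godement sheaf are families of germs -/
def God.fam {U : Opens X} (s : (God G).obj.obj (op U)) :
    ∀ x : U, (CohTop.stalk G (x.1 : X) : AddCommGrpCat.{u}) := s

def God.mk {U : Opens X} (s : ∀ x : U, (CohTop.stalk G (x.1 : X) : AddCommGrpCat.{u})) :
    (God G).obj.obj (op U) := s

@[simp] theorem God.fam_mk {U : Opens X}
    (s : ∀ x : U, (CohTop.stalk G (x.1 : X) : AddCommGrpCat.{u})) : God.fam G (God.mk G s) = s := rfl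

theorem God.ext {U : Opens X} {s t : (God G).obj.obj (op U)}
    (h : ∀ x : U, God.fam G s x = God.fam G t x) : s = t := funext h

theorem God.fam_rs {U V : Opens X} (h : V ≤ U) (s : (God G).obj.obj (op U)) (x : V) :
    God.fam G (rs (God G) h s) x = God.fam G s ⟨x.1, h x.2⟩ := rfl

theorem God.fam_add {U : Opens X} (s t : (God G).obj.obj (op U)) (x : U) :
    God.fam G (s + t) x = God.fam G s x + God.fam G t x := rfl

theorem God.fam_sub {U : Opens X} (s t : (God G).obj.obj (op U)) (x : U) :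
    God.fam G (s - t) x = God.fam G s x - God.fam G t x := rfl

theorem God.fam_zero {U : Opens X} (x : U) : God.fam G (0 : (God G).obj.obj (op U)) x = 0 := rfl

instance : TopCat.Sheaf.IsFlasque (God G) where
  epi {U V} i := by
    rw [AddCommGrpCat.epi_iff_surjective]
    intro s
    classical
    let t : ∀ x : U.unop, (CohTop.stalk G (x.1 : X) : AddCommGrpCat.{u}) := fun x =>
      if h : x.1 ∈ V.unop then God.fam G (U := V.unop) s ⟨x.1, h⟩ else 0
    refine ⟨God.mk G (U := U.unop) t, ?_⟩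
    apply God.ext
    intro x
    have h1 : t ⟨x.1, i.unop.le x.2⟩ = God.fam G (U := V.unop) s x := dif_pos x.2
    exact h1

/-- the germ map `G ⟶ God G` -/
def ιG : G ⟶ God G where
  hom :=
    { app := fun U => AddCommGrpCat.ofHom
        { toFun := fun s x => (TopCat.Presheaf.germ G.obj U.unop (x.1 : X) x.2) s
          map_zero' := by
            funext x
            exact map_zero (TopCat.Presheaf.germ G.obj U.unop (x.1 : X) x.2).hom
          map_add' := fun a b => by
            funext x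
            exact map_add (TopCat.Presheaf.germ G.obj U.unop (x.1 : X) x.2).hom a b }
      naturality := fun U V i => by
        ext s
        funext x
        exact TopCat.Presheaf.germ_res_apply' G.obj i (x.1 : X) x.2 s }

theorem fam_ιG {U : Opens X} (s : G.obj.obj (op U)) (x : U) :
    God.fam G ((ιG G).hom.app (op U) s) x = TopCat.Presheaf.germ G.obj U x.1 x.2 s := rfl

instance : Mono (ιG G) := by
  apply USES.mono_of_injective_app
  intro U s t hst
  apply TopCat.Presheaf.section_ext G U.unop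
  intro x hx
  exact congrFun hst ⟨x, hx⟩

end Godement


section Functorial

variable {G G' : CohTop.Ab X} (ψ : G ⟶ G')

/-- functoriality of the Godement sheaf -/
def GodMap : God G ⟶ God G' where
  hom :=
    { app := fun U => AddCommGrpCat.ofHom
        { toFun := fun s x =>
            (TopCat.Presheaf.stalkFunctor AddCommGrpCat.{u} (x.1 : X)).map ψ.hom (God.fam G s x)
          map_zero' := by
            funext x
            exact map_zero ((TopCat.Presheaf.stalkFunctor AddCommGrpCat.{u} (x.1 : X)).map ψ.hom).hom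
          map_add' := fun a b => by
            funext x
            exact map_add ((TopCat.Presheaf.stalkFunctor AddCommGrpCat.{u} (x.1 : X)).map ψ.hom).hom
              _ _ }
      naturality := fun U V i => by
        ext s
        rfl }

theorem fam_GodMap {U : Opens X} (s : (God G).obj.obj (op U)) (x : U) :
    God.fam G' ((GodMap ψ).hom.app (op U) s) x =
      (TopCat.Presheaf.stalkFunctor AddCommGrpCat.{u} (x.1 : X)).map ψ.hom (God.fam G s x) := rfl

@[reassoc]
theorem ιG_GodMap : ιG G ≫ GodMap ψ = ψ ≫ ιG G' := by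
  apply Sheaf.hom_ext
  ext U s
  apply God.ext
  intro x
  exact germ_map ψ U.unop x.1 x.2 s

end Functorial

section Quot

variable (G : CohTop.Ab X)

/-- the quotient `God G / G` -/
def QG : CohTop.Ab X := cokernel (ιG G)

def πG : God G ⟶ QG G := cokernel.π (ιG G)

instance : Epi (πG G) := by unfold πG; exact coequalizer.π_epi

theorem ιG_πG : ιG G ≫ πG G = 0 := cokernel.condition _

/-- the Godement short exact sequence -/
abbrev SG : ShortComplex (CohTop.Ab X) := ShortComplex.mk (ιG G) (πG G) (ιG_πG G)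

theorem SG_shortExact : (SG G).ShortExact :=
  { exact := ShortComplex.exact_cokernel (ιG G)
    mono_f := (inferInstance : Mono (ιG G))
    epi_g := (inferInstance : Epi (πG G)) }

variable {G} in
/-- functoriality of the quotient -/
def QMap {G' : CohTop.Ab X} (ψ : G ⟶ G') : QG G ⟶ QG G' :=
  cokernel.map (ιG G) (ιG G') ψ (GodMap ψ) (ιG_GodMap ψ)

variable {G} in
@[reassoc]
theorem πG_QMap {G' : CohTop.Ab X} (ψ : G ⟶ G') : πG G ≫ QMap ψ = GodMap ψ ≫ πG G' :=
  cokernel.π_desc _ _ _

variable {G} in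
/-- the morphism of Godement sequences induced by `ψ` -/
def SMap {G' : CohTop.Ab X} (ψ : G ⟶ G') : SG G ⟶ SG G' where
  τ₁ := ψ
  τ₂ := GodMap ψ
  τ₃ := QMap ψ
  comm₁₂ := (ιG_GodMap ψ).symm
  comm₂₃ := (πG_QMap ψ).symm

end Quot

section Sections

/-- sections of a short exact sequence: exactness in the middle -/
theorem exists_of_g_eq_zero (S : ShortComplex (CohTop.Ab X)) (hS : S.ShortExact) (U : Opens X)
    (s : S.X₂.obj.obj (op U)) (hs : S.g.hom.app (op U) s = 0) :
    ∃ t : S.X₁.obj.obj (op U), S.f.hom.app (op U) t = s := by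
  haveI := hS.mono_f
  let F : CohTop.Ab X ⥤ AddCommGrpCat.{u} :=
    sheafToPresheaf (Opens.grothendieckTopology X) AddCommGrpCat.{u} ⋙ (evaluation _ _).obj (op U)
  have hex : (S.map F).Exact := hS.exact.map_of_mono_of_preservesKernel F inferInstance inferInstance
  rw [ShortComplex.ab_exact_iff] at hex
  exact hex s hs

theorem exists_local_lift (S : ShortComplex (CohTop.Ab X)) (hS : S.ShortExact) (U : Opens X)
    (s : S.X₃.obj.obj (op U)) (x : X) (hx : x ∈ U) :
    ∃ (V : Opens X) (hV : V ≤ U) (_ : x ∈ V) (t : S.X₂.obj.obj (op V)),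
      S.g.hom.app (op V) t = rs S.X₃ hV s := by
  have h1 := (TopCat.Sheaf.isLocallySurjective_iff_epi S.g).2 hS.epi_g
  rw [TopCat.Presheaf.isLocallySurjective_iff] at h1
  obtain ⟨V, hV, ⟨t, ht⟩, hxV⟩ := h1 U s x hx
  exact ⟨V, hV, hxV, t, ht⟩

end Sections


section Delta

variable (G : CohTop.Ab X)

/-- the top open is terminal -/
def hTop : IsTerminal (⊤ : Opens X) := isTerminalTop

/-- the connecting map `Q(G)(X) → H¹(X, G)` of the Godement sequence -/
def δG : (QG G).obj.obj (op ⊤) →+ Sheaf.H G 1 :=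
  AddMonoidHom.mk' (fun q => ((Sheaf.H.equiv₀ (QG G) hTop).symm q).comp (SG_shortExact G).extClass
    (zero_add 1)) (fun a b => by rw [map_add]; exact Ext.add_comp _ _ _ _)

theorem δG_apply (q : (QG G).obj.obj (op ⊤)) :
    δG G q = ((Sheaf.H.equiv₀ (QG G) hTop).symm q).comp (SG_shortExact G).extClass (zero_add 1) :=
  rfl

/-- every class comes from the quotient -/
theorem δG_surjective : Function.Surjective (δG G) := by
  intro c
  have hc : c.comp (Ext.mk₀ (SG G).f) (add_zero 1) = 0 :=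
    SheafCoh.flasque_H_eq_zero (God G) 0 _
  obtain ⟨x₃, hx₃⟩ := Ext.covariant_sequence_exact₁ _ (SG_shortExact G) c hc rfl
  refine ⟨Sheaf.H.equiv₀ (QG G) hTop x₃, ?_⟩
  rw [δG_apply, AddEquiv.symm_apply_apply]
  exact hx₃

/-- the kernel of the connecting map -/
theorem exists_of_δG_eq (q q' : (QG G).obj.obj (op ⊤)) (h : δG G q = δG G q') :
    ∃ t : (God G).obj.obj (op ⊤), (πG G).hom.app (op ⊤) t = q - q' := by
  have h0 : δG G (q - q') = 0 := by rw [map_sub, h, sub_self]
  rw [δG_apply] at h0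
  obtain ⟨x₂, hx₂⟩ := Ext.covariant_sequence_exact₃ _ (SG_shortExact G) _ rfl h0
  refine ⟨Sheaf.H.equiv₀ (God G) hTop x₂, ?_⟩
  have h1 := Sheaf.H.equiv₀_naturality hTop (πG G) x₂
  rw [h1]
  have h2 : Sheaf.H.map (πG G) 0 x₂ = (Sheaf.H.equiv₀ (QG G) hTop).symm (q - q') := hx₂
  rw [h2, AddEquiv.apply_symm_apply]

variable {G} in
/-- naturality of the connecting map -/
theorem δG_naturality {G' : CohTop.Ab X} (ψ : G ⟶ G') (q : (QG G).obj.obj (op ⊤)) :
    δG G' ((QMap ψ).hom.app (op ⊤) q) = Sheaf.H.map ψ 1 (δG G q) := by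
  have h1 := ShortComplex.ShortExact.extClass_naturality (SG_shortExact G) (SG_shortExact G')
    (SMap ψ)
  rw [δG_apply, δG_apply, ← Sheaf.H.equiv₀_symm_naturality hTop (QMap ψ) q, Sheaf.H.map_apply,
    Sheaf.H.map_apply, Ext.comp_assoc_of_second_deg_zero, Ext.comp_assoc_of_third_deg_zero]
  congr 1
  exact h1.symm

end Delta


section Cocycles

variable (G : CohTop.Ab X) {ι : Type u} (U : ι → Opens X)

/-- germs -/
abbrev gm (V : Opens X) (x : X) (hx : x ∈ V) (s : G.obj.obj (op V)) :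
    (CohTop.stalk G x : AddCommGrpCat.{u}) :=
  TopCat.Presheaf.germ G.obj V x hx s

theorem gm_add (V : Opens X) (x : X) (hx : x ∈ V) (s t : G.obj.obj (op V)) :
    gm G V x hx (s + t) = gm G V x hx s + gm G V x hx t :=
  map_add (TopCat.Presheaf.germ G.obj V x hx).hom s t

theorem gm_sub (V : Opens X) (x : X) (hx : x ∈ V) (s t : G.obj.obj (op V)) :
    gm G V x hx (s - t) = gm G V x hx s - gm G V x hx t :=
  map_sub (TopCat.Presheaf.germ G.obj V x hx).hom s t

theorem gm_zero (V : Opens X) (x : X) (hx : x ∈ V) : gm G V x hx 0 = 0 :=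
  map_zero (TopCat.Presheaf.germ G.obj V x hx).hom

theorem gm_rs {V W : Opens X} (h : W ≤ V) (x : X) (hx : x ∈ W) (s : G.obj.obj (op V)) :
    gm G W x hx (rs G h s) = gm G V x (h hx) s := germ_rs G h x hx s

theorem eq_of_gm_eq {V : Opens X} (s t : G.obj.obj (op V))
    (h : ∀ (x : X) (hx : x ∈ V), gm G V x hx s = gm G V x hx t) : s = t :=
  TopCat.Presheaf.section_ext G V s t h

/-- a 1-cochain on the cover `U` -/
def Coch : Type u := ∀ a b : ι, G.obj.obj (op (U a ⊓ U b))

variable {G U}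

/-- the cocycle condition, on germs -/
def IsCoc (g : Coch G U) : Prop :=
  ∀ (a b c : ι) (x : X) (ha : x ∈ U a) (hb : x ∈ U b) (hc : x ∈ U c),
    gm G (U a ⊓ U b) x ⟨ha, hb⟩ (g a b) + gm G (U b ⊓ U c) x ⟨hb, hc⟩ (g b c) = gm G (U a ⊓ U c) x ⟨ha, hc⟩ (g a c)

/-- the cochain `g` represents the class `c ∈ H¹(X, G)` -/
def Rep (g : Coch G U) (c : Sheaf.H G 1) : Prop :=
  ∃ (j : ∀ a, (God G).obj.obj (op (U a))) (q : (QG G).obj.obj (op ⊤)),
    (∀ (a b : ι) (x : X) (ha : x ∈ U a) (hb : x ∈ U b),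
      God.fam G (j a) ⟨x, ha⟩ - God.fam G (j b) ⟨x, hb⟩ = gm G (U a ⊓ U b) x ⟨ha, hb⟩ (g a b)) ∧
    (∀ a, (πG G).hom.app (op (U a)) (j a) = rs (QG G) le_top q) ∧ δG G q = c

/-- **every cocycle represents a class** -/
theorem exists_rep (hcov : ∀ x : X, ∃ a, x ∈ U a) (g : Coch G U) (hg : IsCoc g) :
    ∃ c, Rep g c := by
  choose c₀ hc₀ using hcov
  let j : ∀ a, (God G).obj.obj (op (U a)) := fun a =>
    God.mk G (fun x : U a => gm G (U a ⊓ U (c₀ x.1)) x.1 ⟨x.2, hc₀ x.1⟩ (g a (c₀ x.1)))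
  have hj : ∀ (a b : ι) (x : X) (ha : x ∈ U a) (hb : x ∈ U b),
      God.fam G (j a) ⟨x, ha⟩ - God.fam G (j b) ⟨x, hb⟩ = gm G (U a ⊓ U b) x ⟨ha, hb⟩ (g a b) := by
    intro a b x ha hb
    have := hg a b (c₀ x) x ha hb (hc₀ x)
    change gm G (U a ⊓ U (c₀ x)) x ⟨ha, hc₀ x⟩ (g a (c₀ x)) - gm G (U b ⊓ U (c₀ x)) x ⟨hb, hc₀ x⟩ (g b (c₀ x)) = _
    rw [← this]
    abel
  let sf : ∀ a, (QG G).obj.obj (op (U a)) := fun a => (πG G).hom.app (op (U a)) (j a)
  have hcompat : TopCat.Presheaf.IsCompatible (QG G).obj U sf := by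
    intro a b
    have h1 : rs (God G) (inf_le_left : U a ⊓ U b ≤ U a) (j a) -
        rs (God G) (inf_le_right : U a ⊓ U b ≤ U b) (j b) =
        (ιG G).hom.app (op (U a ⊓ U b)) (g a b) := by
      apply God.ext
      intro x
      rw [God.fam_sub, God.fam_rs, God.fam_rs, fam_ιG]
      exact hj a b x.1 x.2.1 x.2.2
    have h2 : (πG G).hom.app (op (U a ⊓ U b)) ((ιG G).hom.app (op (U a ⊓ U b)) (g a b)) = 0 := by
      have := congrArg (fun φ => φ.hom.app (op (U a ⊓ U b)) (g a b)) (ιG_πG G)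
      exact this
    have h3 := congrArg ((πG G).hom.app (op (U a ⊓ U b))) h1
    rw [h2, map_sub, sub_eq_zero, rs_naturality, rs_naturality] at h3
    exact h3
  obtain ⟨q, hq, -⟩ := TopCat.Sheaf.existsUnique_gluing' (QG G) U ⊤ (fun a => homOfLE le_top)
    (fun x _ => by
      obtain ⟨a, ha⟩ : ∃ a, x ∈ U a := ⟨c₀ x, hc₀ x⟩
      exact Opens.mem_iSup.2 ⟨a, ha⟩) sf hcompat
  exact ⟨δG G q, j, q, hj, fun a => (hq a).symm, rfl⟩


/-- **every class is represented by a cocycle on a refinement of any given cover** -/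
theorem exists_rep_refinement (c : Sheaf.H G 1) {κ : Type u} (W : κ → Opens X)
    (hcov : ∀ x : X, ∃ a, x ∈ W a) :
    ∃ (V : X → Opens X) (r : X → κ) (_ : ∀ y, V y ≤ W (r y)) (_ : ∀ y, y ∈ V y)
      (g : Coch G V), IsCoc g ∧ Rep g c := by
  obtain ⟨q, hq⟩ := δG_surjective G c
  choose r hr using hcov
  have hloc : ∀ y : X, ∃ (V : Opens X) (_ : V ≤ W (r y)) (_ : y ∈ V) (t : (God G).obj.obj (op V)),
      (πG G).hom.app (op V) t = rs (QG G) le_top q := by
    intro y
    obtain ⟨V', hV', hyV', t, ht⟩ := exists_local_lift (SG G) (SG_shortExact G) ⊤ q y trivial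
    refine ⟨V' ⊓ W (r y), inf_le_right, ⟨hyV', hr y⟩, rs (God G) inf_le_left t, ?_⟩
    rw [rs_naturality]
    have ht' : (πG G).hom.app (op V') t = rs (QG G) hV' q := ht
    rw [ht']
    change ((QG G).obj.map _ ≫ (QG G).obj.map _).hom q = _
    rw [← (QG G).obj.map_comp]
    rfl
  choose V hVW hyV j hj using hloc
  have hker : ∀ y z : X, ∃ t : G.obj.obj (op (V y ⊓ V z)), (ιG G).hom.app (op (V y ⊓ V z)) t =
      rs (God G) (inf_le_left : V y ⊓ V z ≤ V y) (j y) -
        rs (God G) (inf_le_right : V y ⊓ V z ≤ V z) (j z) := by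
    intro y z
    apply exists_of_g_eq_zero (SG G) (SG_shortExact G)
    change (πG G).hom.app (op (V y ⊓ V z)) _ = 0
    rw [map_sub, rs_naturality, rs_naturality, hj y, hj z, sub_eq_zero]
    change ((QG G).obj.map _ ≫ (QG G).obj.map _).hom q = ((QG G).obj.map _ ≫ (QG G).obj.map _).hom q
    rw [← (QG G).obj.map_comp, ← (QG G).obj.map_comp]
    rfl
  choose g hg using hker
  have hrep : ∀ (a b : X) (x : X) (ha : x ∈ V a) (hb : x ∈ V b),
      God.fam G (j a) ⟨x, ha⟩ - God.fam G (j b) ⟨x, hb⟩ = gm G (V a ⊓ V b) x ⟨ha, hb⟩ (g a b) := by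
    intro a b x ha hb
    have := congrArg (fun s => God.fam G (U := V a ⊓ V b) s ⟨x, ⟨ha, hb⟩⟩) (hg a b)
    exact this.symm
  refine ⟨V, r, hVW, hyV, g, ?_, j, q, hrep, hj, hq⟩
  intro a b c' x ha hb hc
  rw [← hrep a b x ha hb, ← hrep b c' x hb hc, ← hrep a c' x ha hc]
  abel



end Cocycles

end Groth.Agent.Lib.Helper17.H1Coc
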