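import Groth.Agent.Lib.Helper17.H1Coc
import Mathlib
set_option backward.isDefEq.respectTransparency.types false
set_option autoImplicit false
set_option linter.style.haveILetI false
set_option linter.unusedSectionVars false

/-!
# Čech cocycles and `H¹`, part 2: coboundaries, functoriality, lifting along an epimorphism
-/

universe u
open CategoryTheory CategoryTheory.Limits Opposite TopologicalSpace Abelian

noncomputable section
namespace Groth.Agent.Lib.Helper17.H1Coc

open Groth.Agent.Lib.Helper6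

variable {X : TopCat.{u}}

section Cocycles

variable {G : CohTop.Ab X} {ι : Type u} {U : ι → Opens X}

/-- **two cochains representing the same class are cohomologous** -/
theorem exists_coboundary_of_rep {g g' : Coch G U} {c : Sheaf.H G 1} (h : Rep g c) (h' : Rep g' c) :
    ∃ b : ∀ a, G.obj.obj (op (U a)), ∀ (a a' : ι) (x : X) (ha : x ∈ U a) (ha' : x ∈ U a'),
      gm G (U a ⊓ U a') x ⟨ha, ha'⟩ (g a a') - gm G (U a ⊓ U a') x ⟨ha, ha'⟩ (g' a a') =
        gm G (U a) x ha (b a) - gm G (U a') x ha' (b a') := by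
  obtain ⟨j, q, hj, hπ, hδ⟩ := h
  obtain ⟨j', q', hj', hπ', hδ'⟩ := h'
  obtain ⟨t, ht⟩ := exists_of_δG_eq G q q' (hδ.trans hδ'.symm)
  have hker : ∀ a, ∃ b : G.obj.obj (op (U a)), (ιG G).hom.app (op (U a)) b =
      j a - j' a - rs (God G) le_top t := by
    intro a
    apply exists_of_g_eq_zero (SG G) (SG_shortExact G)
    change (πG G).hom.app (op (U a)) _ = 0
    rw [map_sub, map_sub, hπ a, hπ' a, rs_naturality, ht, map_sub, sub_self]
  choose b hb using hker
  refine ⟨b, fun a a' x ha ha' => ?_⟩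
  have h1 := congrArg (fun s => God.fam G (U := U a) s ⟨x, ha⟩) (hb a)
  have h2 := congrArg (fun s => God.fam G (U := U a') s ⟨x, ha'⟩) (hb a')
  simp only [fam_ιG, God.fam_sub, God.fam_rs] at h1 h2
  have h1' : gm G (U a) x ha (b a) = _ := h1
  have h2' : gm G (U a') x ha' (b a') = _ := h2
  rw [h1', h2', ← hj a a' x ha ha', ← hj' a a' x ha ha']
  abel

/-- **functoriality of representing cochains** -/
theorem Rep.map {G' : CohTop.Ab X} (ψ : G ⟶ G') {g : Coch G U} {c : Sheaf.H G 1} (h : Rep g c) :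
    Rep (G := G') (U := U) (fun a b => ψ.hom.app (op (U a ⊓ U b)) (g a b)) (Sheaf.H.map ψ 1 c) := by
  obtain ⟨j, q, hj, hπ, hδ⟩ := h
  refine ⟨fun a => (GodMap ψ).hom.app (op (U a)) (j a), (QMap ψ).hom.app (op ⊤) q, ?_, ?_, ?_⟩
  · intro a b x ha hb
    rw [fam_GodMap, fam_GodMap]
    change (TopCat.Presheaf.stalkFunctor AddCommGrpCat.{u} x).map ψ.hom (God.fam G (j a) ⟨x, ha⟩) -
      (TopCat.Presheaf.stalkFunctor AddCommGrpCat.{u} x).map ψ.hom (God.fam G (j b) ⟨x, hb⟩) = _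
    rw [← map_sub]
    exact (congrArg (ConcreteCategory.hom ((TopCat.Presheaf.stalkFunctor AddCommGrpCat.{u} x).map ψ.hom))
      (hj a b x ha hb)).trans (germ_map ψ (U a ⊓ U b) x ⟨ha, hb⟩ (g a b))
  · intro a
    have h1 := congrArg (fun φ => φ.hom.app (op (U a)) (j a)) (πG_QMap ψ)
    have h2 : (πG G').hom.app (op (U a)) ((GodMap ψ).hom.app (op (U a)) (j a)) =
        (QMap ψ).hom.app (op (U a)) ((πG G).hom.app (op (U a)) (j a)) := h1.symm
    rw [h2, hπ a, rs_naturality]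
  · rw [δG_naturality, hδ]

/-- **restriction of representing cochains to a refinement** -/
theorem Rep.refine {κ : Type u} (V : κ → Opens X) (r : κ → ι) (hV : ∀ k, V k ≤ U (r k))
    {g : Coch G U} {c : Sheaf.H G 1} (h : Rep g c) :
    Rep (G := G) (U := V)
      (fun k l => rs G (inf_le_inf (hV k) (hV l)) (g (r k) (r l))) c := by
  obtain ⟨j, q, hj, hπ, hδ⟩ := h
  refine ⟨fun k => rs (God G) (hV k) (j (r k)), q, ?_, ?_, hδ⟩
  · intro k l x hk hl
    rw [God.fam_rs, God.fam_rs, gm_rs]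
    exact hj (r k) (r l) x (hV k hk) (hV l hl)
  · intro k
    rw [rs_naturality, hπ (r k)]
    change ((QG G).obj.map _ ≫ (QG G).obj.map _).hom q = _
    rw [← (QG G).obj.map_comp]
    rfl

end Cocycles

section Lift

/-- **lifting of cocycles along an epimorphism whose kernel has no `H²`** -/
theorem exists_lift_cocycle (S : ShortComplex (CohTop.Ab X)) (hS : S.ShortExact)
    (h2 : Subsingleton (Sheaf.H S.X₁ 2)) {ι : Type u} (W : ι → Opens X)
    (hcov : ∀ x : X, ∃ a, x ∈ W a) (η : Coch S.X₃ W) (hη : IsCoc η) :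
    ∃ (V : X → Opens X) (r : X → ι) (hV : ∀ y, V y ≤ W (r y)) (_ : ∀ y, y ∈ V y)
      (g : Coch S.X₂ V) (_ : IsCoc g) (b : ∀ y, S.X₃.obj.obj (op (V y))),
      ∀ (y z : X) (x : X) (hy : x ∈ V y) (hz : x ∈ V z),
        gm S.X₃ (V y ⊓ V z) x ⟨hy, hz⟩ (S.g.hom.app (op (V y ⊓ V z)) (g y z)) =
          gm S.X₃ (W (r y) ⊓ W (r z)) x ⟨hV y hy, hV z hz⟩ (η (r y) (r z)) +
            gm S.X₃ (V y) x hy (b y) - gm S.X₃ (V z) x hz (b z) := by
  obtain ⟨c', hc'⟩ := exists_rep hcov η hη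
  obtain ⟨c, hc⟩ := Ext.covariant_sequence_exact₃ _ hS c' rfl (h2.elim _ _)
  obtain ⟨V, r, hV, hyV, g, hg, hrep⟩ := exists_rep_refinement c W hcov
  have h1 := hrep.map S.g
  have hc2 : Sheaf.H.map S.g 1 c = c' := hc
  rw [hc2] at h1
  have h3 := hc'.refine V r hV
  obtain ⟨b, hb⟩ := exists_coboundary_of_rep h1 h3
  refine ⟨V, r, hV, hyV, g, hg, b, fun y z x hy hz => ?_⟩
  have := hb y z x hy hz
  rw [gm_rs] at this
  rw [sub_eq_iff_eq_add] at this
  rw [this]
  abel

end Lift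

end Groth.Agent.Lib.Helper17.H1Coc
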