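import Groth.Agent.Lib.Helper17.H1Coc2
import Mathlib
set_option backward.isDefEq.respectTransparency.types false
set_option autoImplicit false
set_option linter.style.haveILetI false
set_option linter.unusedSectionVars false

/-!
# Čech cocycles and `H¹`, part 3: the class of a cocycle is unique; additivity; coboundaries
-/

universe u
open CategoryTheory CategoryTheory.Limits Opposite TopologicalSpace Abelian

noncomputable section
namespace Groth.Agent.Lib.Helper17.H1Coc

open Groth.Agent.Lib.Helper6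

variable {X : TopCat.{u}}

section Delta

variable (G : CohTop.Ab X)

/-- the connecting map kills the image of `God G` -/
theorem δG_πG (t : (God G).obj.obj (op ⊤)) : δG G ((πG G).hom.app (op ⊤) t) = 0 := by
  rw [δG_apply, ← Sheaf.H.equiv₀_symm_naturality hTop (πG G) t, Sheaf.H.map_apply,
    Ext.comp_assoc_of_second_deg_zero]
  have h := (SG_shortExact G).comp_extClass
  have h' : (Ext.mk₀ (πG G)).comp (SG_shortExact G).extClass (zero_add 1) = 0 := h
  rw [h', Ext.comp_zero]

end Delta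

section Cocycles

variable {G : CohTop.Ab X} {ι : Type u} {U : ι → Opens X}

theorem Rep.zero : Rep (G := G) (U := U) (fun _ _ => 0) 0 := by
  refine ⟨fun _ => 0, 0, ?_, ?_, map_zero _⟩
  · intro a b x ha hb
    rw [God.fam_zero, God.fam_zero, sub_zero, gm_zero]
  · intro a
    rw [map_zero, map_zero]

theorem Rep.add {g g' : Coch G U} {c c' : Sheaf.H G 1} (h : Rep g c) (h' : Rep g' c') :
    Rep (G := G) (U := U) (fun a b => g a b + g' a b) (c + c') := by
  obtain ⟨j, q, hj, hπ, hδ⟩ := h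
  obtain ⟨j', q', hj', hπ', hδ'⟩ := h'
  refine ⟨fun a => j a + j' a, q + q', ?_, ?_, ?_⟩
  · intro a b x ha hb
    rw [God.fam_add, God.fam_add, gm_add, ← hj a b x ha hb, ← hj' a b x ha hb]
    abel
  · intro a
    rw [map_add, map_add, hπ a, hπ' a]
  · rw [map_add, hδ, hδ']

theorem Rep.nsmul {g : Coch G U} {c : Sheaf.H G 1} (h : Rep g c) (n : ℕ) :
    Rep (G := G) (U := U) (fun a b => n • g a b) (n • c) := by
  induction n with
  | zero =>
    have e : (fun a b => 0 • g a b : Coch G U) = fun _ _ => 0 := by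
      funext a b; exact zero_smul _ _
    rw [e, zero_smul]
    exact Rep.zero
  | succ n ih =>
    have e : (fun a b => (n + 1) • g a b : Coch G U) = fun a b => n • g a b + g a b := by
      funext a b; exact succ_nsmul _ _
    rw [e, succ_nsmul]
    exact ih.add h

/-- changing a representing cochain by a coboundary -/
theorem Rep.of_coboundary {g g' : Coch G U} {c : Sheaf.H G 1} (h : Rep g c)
    (b : ∀ a, G.obj.obj (op (U a)))
    (hb : ∀ (a a' : ι) (x : X) (ha : x ∈ U a) (ha' : x ∈ U a'),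
      gm G (U a ⊓ U a') x ⟨ha, ha'⟩ (g' a a') =
        gm G (U a ⊓ U a') x ⟨ha, ha'⟩ (g a a') + gm G (U a) x ha (b a) - gm G (U a') x ha' (b a')) :
    Rep g' c := by
  obtain ⟨j, q, hj, hπ, hδ⟩ := h
  refine ⟨fun a => j a + (ιG G).hom.app (op (U a)) (b a), q, ?_, ?_, hδ⟩
  · intro a a' x ha ha'
    rw [God.fam_add, God.fam_add, fam_ιG, fam_ιG, hb a a' x ha ha', ← hj a a' x ha ha']
    change _ = _ + gm G (U a) x ha (b a) - gm G (U a') x ha' (b a')
    abel
  · intro a
    rw [map_add, hπ a]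
    have h2 : (πG G).hom.app (op (U a)) ((ιG G).hom.app (op (U a)) (b a)) = 0 :=
      congrArg (fun φ => φ.hom.app (op (U a)) (b a)) (ιG_πG G)
    rw [h2, add_zero]

/-- **the class represented by a cochain on a cover is unique** -/
theorem Rep.unique (hcov : ∀ x : X, ∃ a, x ∈ U a) {g : Coch G U} {c c' : Sheaf.H G 1}
    (h : Rep g c) (h' : Rep g c') : c = c' := by
  obtain ⟨j, q, hj, hπ, hδ⟩ := h
  obtain ⟨j', q', hj', hπ', hδ'⟩ := h'
  choose c₀ hc₀ using hcov
  have hagree : ∀ (a b : ι) (x : X) (ha : x ∈ U a) (hb : x ∈ U b),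
      God.fam G (j a - j' a) ⟨x, ha⟩ = God.fam G (j b - j' b) ⟨x, hb⟩ := by
    intro a b x ha hb
    rw [God.fam_sub, God.fam_sub]
    have h1 := hj a b x ha hb
    have h2 := hj' a b x ha hb
    have h3 : God.fam G (j a) ⟨x, ha⟩ - God.fam G (j b) ⟨x, hb⟩ =
        God.fam G (j' a) ⟨x, ha⟩ - God.fam G (j' b) ⟨x, hb⟩ := h1.trans h2.symm
    rw [sub_eq_sub_iff_add_eq_add] at h3 ⊢
    rw [h3]
    exact add_comm _ _
  let t : (God G).obj.obj (op ⊤) :=
    God.mk G (U := ⊤) (fun x => God.fam G (j (c₀ x.1) - j' (c₀ x.1)) ⟨x.1, hc₀ x.1⟩)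
  have ht : ∀ a, rs (God G) le_top t = j a - j' a := by
    intro a
    apply God.ext
    intro x
    rw [God.fam_rs]
    exact hagree (c₀ x.1) a x.1 (hc₀ x.1) x.2
  have hq : (πG G).hom.app (op ⊤) t = q - q' := by
    apply eq_of_gm_eq
    intro x hx
    have h1 : gm (QG G) ⊤ x hx ((πG G).hom.app (op ⊤) t) =
        gm (QG G) (U (c₀ x)) x (hc₀ x) (rs (QG G) le_top ((πG G).hom.app (op ⊤) t)) :=
      (gm_rs (QG G) le_top x (hc₀ x) _).symm
    have h2 : gm (QG G) ⊤ x hx (q - q') =
        gm (QG G) (U (c₀ x)) x (hc₀ x) (rs (QG G) le_top (q - q')) :=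
      (gm_rs (QG G) le_top x (hc₀ x) _).symm
    rw [h1, h2, ← rs_naturality, ht (c₀ x), map_sub, map_sub, hπ, hπ']
  have h0 : δG G (q - q') = 0 := by rw [← hq]; exact δG_πG G t
  rw [map_sub, sub_eq_zero] at h0
  rw [← hδ, ← hδ', h0]

/-- a cochain representing `0` is a coboundary -/
theorem Rep.exists_coboundary_of_zero {g : Coch G U} (h : Rep g 0) :
    ∃ b : ∀ a, G.obj.obj (op (U a)), ∀ (a a' : ι) (x : X) (ha : x ∈ U a) (ha' : x ∈ U a'),
      gm G (U a ⊓ U a') x ⟨ha, ha'⟩ (g a a') = gm G (U a) x ha (b a) - gm G (U a') x ha' (b a') := by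
  obtain ⟨b, hb⟩ := exists_coboundary_of_rep h (Rep.zero (G := G) (U := U))
  refine ⟨b, fun a a' x ha ha' => ?_⟩
  have := hb a a' x ha ha'
  rw [gm_zero, sub_zero] at this
  exact this

end Cocycles

end Groth.Agent.Lib.Helper17.H1Coc
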