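import Groth.Agent.Lib.Helper17.NormFLF
import Mathlib
set_option backward.isDefEq.respectTransparency.types false
set_option autoImplicit false
universe u
open CategoryTheory CategoryTheory.Limits AlgebraicGeometry Opposite TopologicalSpace

/-!
# Helper17 — NormFLFD: a finite locally free morphism all of whose ranks divide `D ≥ 1` has a norm of
degree `D` (on an open where the rank is `r`, it is the `D / r`-th power of the usual norm).
-/

namespace Groth.Agent.Lib.Helper17.NormFLFD

open Groth.Agent.Lib.Helper17.NormGlue Groth.Agent.Lib.Helper17.NormFLF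

variable {X Y : Scheme.{u}} (π : X ⟶ Y)

attribute [local instance] Groth.Agent.Lib.Helper17.NormFLF.algApp

theorem finrank_eq' [IsFinite π] [Flat π] {W : Y.Opens} (hW : Good π W) (y : Y) (hy : y ∈ W) :
    Module.finrank Γ(Y, W) Γ(X, π ⁻¹ᵁ W) = π.finrank y := by
  haveI := hW.2
  have h1 := Groth.Agent.Lib.Helper18.CycPull.finrank_eq_rankAtStalk π hW.1 (hW.1.primeIdealOf ⟨y, hy⟩)
  have h2 := congrFun (Module.rankAtStalk_eq_finrank_of_free (R := Γ(Y, W)) (M := Γ(X, π ⁻¹ᵁ W)))
    (hW.1.primeIdealOf ⟨y, hy⟩)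
  rw [h2] at h1
  rw [hW.1.fromSpec_primeIdealOf ⟨y, hy⟩] at h1
  rw [h1]
  simp

theorem subsingleton_of_empty {W : Y.Opens} (hne : ¬ ∃ y, y ∈ W) : Subsingleton Γ(Y, W) := by
  have hbot : W = ⊥ := by
    ext y
    simp only [Opens.coe_bot, Set.mem_empty_iff_false, iff_false]
    exact fun hy => hne ⟨y, hy⟩
  rw [hbot]; infer_instance

/-- the local norm of degree `D` -/
noncomputable def nrmD (D : ℕ) (W : Y.Opens) : Γ(X, π ⁻¹ᵁ W) →* Γ(Y, W) :=
  (powMonoidHom (D / Module.finrank Γ(Y, W) Γ(X, π ⁻¹ᵁ W))).comp (Algebra.norm Γ(Y, W))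

theorem nrmD_apply (D : ℕ) (W : Y.Opens) (t : Γ(X, π ⁻¹ᵁ W)) :
    nrmD π D W t = (Algebra.norm Γ(Y, W) t) ^ (D / Module.finrank Γ(Y, W) Γ(X, π ⁻¹ᵁ W)) := rfl

/-- the local norm data -/
noncomputable def localNormData [IsFinite π] [Flat π] [LocallyOfFinitePresentation π] (D : ℕ)
    (hD : 1 ≤ D) (hdvd : ∀ y, π.finrank y ∣ D) : LocalNormData π D where
  good := {W | Good π W}
  aff W hW := hW.1
  basic W hW f := good_basicOpen π f hW
  cov y := exists_good π y
  nrm W _ := nrmD π D W
  compat W hW f t := by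
    by_cases hne : ∃ y, y ∈ Y.basicOpen f
    · obtain ⟨y, hy⟩ := hne
      rw [nrmD_apply, nrmD_apply, norm_basicOpen π f hW t, map_pow,
        finrank_eq' π (good_basicOpen π f hW) y hy, finrank_eq' π hW y (Y.basicOpen_le f hy)]
    · haveI := subsingleton_of_empty hne
      exact Subsingleton.elim _ _
  nrm_app W hW g := by
    by_cases hne : ∃ y, y ∈ W
    · obtain ⟨y, hy⟩ := hne
      haveI := hW.2
      rw [nrmD_apply, ← algebraMap_eq, Algebra.norm_algebraMap, ← pow_mul, finrank_eq' π hW y hy,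
        Nat.mul_div_cancel' (hdvd y)]
    · haveI := subsingleton_of_empty hne
      exact Subsingleton.elim _ _
  nrm_mem W hW t x hx ht := by
    rw [nrmD_apply, map_pow]
    refine Ideal.pow_mem_of_mem _ (norm_mem π hW t x hx ht) _ ?_
    rw [finrank_eq' π hW (π.base x) hx]
    have h1 := hdvd (π.base x)
    have h2 : 0 < π.finrank (π.base x) := Nat.pos_of_dvd_of_pos h1 hD
    exact Nat.div_pos (Nat.le_of_dvd hD h1) h2

/-- **a finite locally free morphism all of whose ranks divide `D ≥ 1` has a norm of degree `D`** -/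
theorem hasNorm [IsFinite π] [Flat π] [LocallyOfFinitePresentation π] (D : ℕ)
    (hD : 1 ≤ D) (hdvd : ∀ y, π.finrank y ∣ D) : Nrm.HasNorm π D :=
  ⟨(localNormData π D hD hdvd).toNormOfDegree hD⟩

/-- **a finite locally free surjective morphism onto a quasi-compact scheme has a norm** -/
theorem exists_hasNorm [IsFinite π] [Flat π] [LocallyOfFinitePresentation π] [Surjective π]
    [CompactSpace Y] : ∃ D, Nrm.HasNorm π D := by
  have hfin : (Set.range π.finrank).Finite := (Scheme.Hom.isLocallyConstant_finrank π).range_finite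
  have hpos : ∀ y, 1 ≤ π.finrank y := (Scheme.Hom.one_le_finrank_iff_surjective π).2 inferInstance
  refine ⟨∏ r ∈ hfin.toFinset, r, hasNorm π _ ?_ ?_⟩
  · apply Nat.one_le_iff_ne_zero.2
    rw [Finset.prod_ne_zero_iff]
    intro r hr
    obtain ⟨y, rfl⟩ := hfin.mem_toFinset.1 hr
    exact Nat.one_le_iff_ne_zero.1 (hpos y)
  · intro y
    exact Finset.dvd_prod_of_mem _ (hfin.mem_toFinset.2 ⟨y, rfl⟩)

end Groth.Agent.Lib.Helper17.NormFLFD
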