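import Groth.Agent.Lib.Helper17.AffineVanish
import Groth.Agent.Lib.Helper17.HCompare
import Mathlib
set_option backward.isDefEq.respectTransparency.types false
set_option autoImplicit false
universe u

namespace Groth.Agent.Lib.Helper17.MV
open CategoryTheory CategoryTheory.Limits Opposite Abelian TopologicalSpace AlgebraicGeometry

/-- Mayer–Vietoris vanishing: if `H^{n}(A ⊓ B) = 0`, `H^{n+1}(A) = 0`, `H^{n+1}(B) = 0`
then `H^{n+1}(A ⊔ B) = 0`. -/
theorem subsingleton_HU_sup {X : TopCat.{u}} (F : CohTop.Ab X) (A B : Opens X) (n₀ : ℕ)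
    (h1 : Subsingleton (CohTop.HU F n₀ (A ⊓ B)))
    (h2 : Subsingleton (CohTop.HU F (n₀ + 1) A)) (h3 : Subsingleton (CohTop.HU F (n₀ + 1) B)) :
    Subsingleton (CohTop.HU F (n₀ + 1) (A ⊔ B)) := by
  let S := Opens.mayerVietorisSquare A B
  have hex := S.sequence_exact F n₀ (n₀ + 1) rfl
  have h := hex.exact 2 (by omega)
  rw [ShortComplex.ab_exact_iff] at h
  have key : ∀ z : (Sheaf.H'.{u} F (n₀ + 1) S.X₄ : AddCommGrpCat.{u}), z = 0 := by
    intro z
    obtain ⟨w, hw⟩ := h z (by
      change S.toBiprod F (n₀ + 1) z = 0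
      refine (S.toBiprod_apply F z).trans ?_
      have e1 : (F.cohomologyPresheaf (n₀ + 1)).map S.f₂₄.op z = 0 := h2.elim _ _
      have e2 : (F.cohomologyPresheaf (n₀ + 1)).map S.f₃₄.op z = 0 := h3.elim _ _
      rw [e1, e2]
      exact map_zero _)
    have hw0 : w = 0 := h1.elim _ _
    rw [← hw, hw0]
    exact map_zero _
  exact ⟨fun x y => (key x).trans (key y).symm⟩

theorem iSup_fin_succ' {α : Type*} [CompleteLattice α] {t : ℕ} (U : Fin (t + 1) → α) :
    ⨆ i, U i = U 0 ⊔ ⨆ j : Fin t, U j.succ := by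
  apply le_antisymm
  · refine iSup_le fun i => ?_
    refine Fin.cases le_sup_left (fun j => ?_) i
    exact le_sup_of_le_right (le_iSup (fun j : Fin t => U j.succ) j)
  · exact sup_le (le_iSup U 0) (iSup_le fun j => le_iSup U j.succ)

open Groth.Agent.Lib.Helper17.AffineVanish in
/-- if intersections of affine opens are affine, a union of `t+1` affine opens has no
quasi-coherent cohomology in degrees `≥ t+1`. -/
theorem subsingleton_HU_iSup (X : Scheme.{u})
    (hd : ∀ V W : X.Opens, IsAffineOpen V → IsAffineOpen W → IsAffineOpen (V ⊓ W))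
    (M : X.Modules) [M.IsQuasicoherent] :
    ∀ (t : ℕ) (U : Fin (t + 1) → X.Opens) (_ : ∀ i, IsAffineOpen (U i)) (n : ℕ) (_ : t + 1 ≤ n),
      Subsingleton (CohTop.HU (X := X.toTopCat) ((SheafOfModules.toSheaf.{u} X.ringCatSheaf).obj M) n (⨆ i, U i)) := by
  intro t
  induction t with
  | zero =>
    intro U hU n hn
    obtain ⟨p, rfl⟩ : ∃ p, n = p + 1 := ⟨n - 1, by omega⟩
    have e : ⨆ i, U i = U 0 := by
      apply le_antisymm
      · refine iSup_le fun i => ?_
        rw [show i = 0 from Fin.ext (by omega)]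
      · exact le_iSup U 0
    rw [e]
    exact subsingleton_HU_of_isAffineOpen M (hU 0) p
  | succ t ih =>
    intro U hU n hn
    obtain ⟨p, rfl⟩ : ∃ p, n = p + 1 := ⟨n - 1, by omega⟩
    rw [iSup_fin_succ' U]
    apply subsingleton_HU_sup
    · rw [inf_iSup_eq]
      exact ih (fun j => U 0 ⊓ U j.succ) (fun j => hd _ _ (hU 0) (hU j.succ)) p (by omega)
    · exact subsingleton_HU_of_isAffineOpen M (hU 0) p
    · exact ih (fun j => U j.succ) (fun j => hU j.succ) (p + 1) (by omega)

/-- sections of an abelian sheaf over `⊥` vanish, hence `H^0(⊥, F) = 0`. -/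
theorem subsingleton_HU_zero_bot {X : TopCat.{u}} (F : CohTop.Ab X) :
    Subsingleton (CohTop.HU F 0 ⊥) := by
  have e0 := Groth.Agent.Lib.Helper6.SheafCoh.H'equiv₀ (Opens.grothendieckTopology X) F (⊥ : Opens X)
  suffices h : Subsingleton (F.obj.obj (op (⊥ : Opens X))) from e0.toEquiv.subsingleton
  have hT := TopCat.Sheaf.isTerminalOfEmpty F
  have hZ : IsZero (F.obj.obj (op (⊥ : Opens X))) :=
    (isZero_zero _).of_iso (hT.uniqueUpToIso HasZeroObject.zeroIsTerminal)
  exact AddCommGrpCat.subsingleton_of_isZero hZ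

/-- **vanishing above the number of affines** (for `HU … ⊤`). -/
theorem subsingleton_HU_top (X : Scheme.{u}) (t : ℕ) (U : Fin t → X.Opens)
    (hU : ∀ i, IsAffineOpen (U i)) (hcov : ⨆ i, U i = ⊤)
    (hd : ∀ V W : X.Opens, IsAffineOpen V → IsAffineOpen W → IsAffineOpen (V ⊓ W))
    (M : X.Modules) [M.IsQuasicoherent] (n : ℕ) (hn : t ≤ n) :
    Subsingleton (CohTop.HU (X := X.toTopCat) ((SheafOfModules.toSheaf.{u} X.ringCatSheaf).obj M) n ⊤) := by
  cases t with
  | zero =>
    have hbot : (⊤ : X.Opens) = ⊥ := by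
      rw [← hcov]
      exact iSup_of_empty U
    cases n with
    | zero =>
      rw [hbot]
      exact subsingleton_HU_zero_bot _
    | succ p =>
      rw [hbot]
      exact Groth.Agent.Lib.Helper17.AffineVanish.subsingleton_HU_of_isAffineOpen M (isAffineOpen_bot X) p
  | succ t =>
    rw [← hcov]
    exact subsingleton_HU_iSup X hd M t U hU n hn

end Groth.Agent.Lib.Helper17.MV
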