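import Groth.Agent.Lib.Helper17.P1Pic
import Groth.Agent.Lib.Helper17.NormFLFD
import Groth.Agent.Lib.Helper2.IntNum6
import Groth.Agent.Lib.Helper2.Bridge4
import Groth.Agent.Lib.Helper8.AffPush
import Groth.Agent.Lib.Helper8.GGCoh
import Groth.Agent.Lib.Helper29.FreeIso6
import Groth.Agent.Lib.lead.ChevB
import Groth.Agent.Lib.Helper24.WeilExt.Local
import Groth.Agent.Lib.Helper28.AmpleUnit
import Groth.Agent.Lib.Helper6.K0Inv
import Groth.Agent.S1536
import Groth.Agent.Lib.Helper28.InvQC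
import Groth.Agent.Lib.Helper17.GrVan
import Mathlib

set_option backward.isDefEq.respectTransparency.types false
set_option autoImplicit false
set_option linter.style.haveILetI false
set_option linter.unusedSectionVars false
universe u
open CategoryTheory CategoryTheory.Limits AlgebraicGeometry Opposite TopologicalSpace
noncomputable section

namespace Groth.Agent.Lib.Helper17.HypEll

open Groth.Agent.Lib.Helper28 Groth.Agent.Lib.Helper28.QCohLoc Groth.Agent.Lib.Helper17.NormFLF

section Push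

variable {X Y : Scheme.{u}} (π : X ⟶ Y)

attribute [local instance] Groth.Agent.Lib.Helper17.NormFLF.algApp

/-- the two module structures on `Γ(X, π⁻¹W)` agree -/
theorem smul_eq (W : Y.Opens) (r : Γ(Y, W)) (s : Γ(X, π ⁻¹ᵁ W)) :
    (r • (show Γ((Scheme.Modules.pushforward π).obj (Coh.structureModule X), W) from s) :
      Γ((Scheme.Modules.pushforward π).obj (Coh.structureModule X), W)) =
    (show Γ((Scheme.Modules.pushforward π).obj (Coh.structureModule X), W) from
      (r • s : Γ(X, π ⁻¹ᵁ W))) := by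
  have h1 : (r • s : Γ(X, π ⁻¹ᵁ W)) = algebraMap Γ(Y, W) Γ(X, π ⁻¹ᵁ W) r * s := Algebra.smul_def r s
  rw [h1, algebraMap_eq]
  rfl

/-- **the direct image of the structure sheaf under a finite flat finitely presented morphism of constant rank `d`
is finite locally free of rank `d`** -/
theorem isFinLocFreeOfRank_pushforward [IsFinite π] [Flat π] [LocallyOfFinitePresentation π] (d : ℕ)
    (hd : ∀ y, π.finrank y = d) :
    FlatMod.IsFinLocFreeOfRank d ((Scheme.Modules.pushforward π).obj (Coh.structureModule X)) := by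
  intro y
  obtain ⟨W, hW, hyW⟩ := exists_good π y
  haveI := hW.2
  haveI : Module.Finite Γ(Y, W) Γ(X, π ⁻¹ᵁ W) := finite_app π hW.1
  have hfr := finrank_eq π hW hd y hyW
  haveI : Nonempty W := ⟨⟨y, hyW⟩⟩
  haveI : Nontrivial Γ(Y, W) := Scheme.component_nontrivial Y W
  let b : Module.Basis (Fin d) Γ(Y, W) Γ(X, π ⁻¹ᵁ W) := Module.finBasisOfFinrankEq _ _ hfr
  let E := (Scheme.Modules.pushforward π).obj (Coh.structureModule X)
  haveI : E.IsQuasicoherent := isQuasicoherent_pushforward π _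
  let τ : Fin d → Γ(E, W) := fun j => b j
  have hsum : ∀ c : Fin d → Γ(Y, W), (∑ j, c j • τ j : Γ(E, W)) =
      (show Γ(E, W) from (∑ j, c j • b j : Γ(X, π ⁻¹ᵁ W))) := by
    intro c
    have : ∀ j, (c j • τ j : Γ(E, W)) = (show Γ(E, W) from (c j • b j : Γ(X, π ⁻¹ᵁ W))) :=
      fun j => smul_eq π W (c j) (b j)
    simp only [this]
    rfl
  have hli : LinearIndependent Γ(Y, W) τ := by
    rw [Fintype.linearIndependent_iff]
    intro c hc
    rw [hsum] at hc
    exact Fintype.linearIndependent_iff.1 b.linearIndependent c hc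
  have hspan : Submodule.span Γ(Y, W) (Set.range τ) = ⊤ := by
    rw [eq_top_iff]
    intro x _
    rw [Submodule.mem_span_range_iff_exists_fun]
    refine ⟨fun j => b.repr x j, ?_⟩
    rw [hsum]
    exact b.sum_repr x
  have hB := Groth.Agent.Lib.Helper29.FreeIso.isBasisOn_of_basis E hW.1
    (isLocOn_of_isQuasicoherent E hW.1) τ hli hspan
  exact ⟨W, hyW, hB.nonempty_iso⟩

end Push


section Euler

open Groth.Agent.Lib.Helper8.EulerK

variable (k : Type u) [Field k] (X : Scheme.{u}) [X.Over (Spec (CommRingCat.of k))]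
  [IsProper (X ↘ Spec (CommRingCat.of k))]

/-- the Euler characteristic of a finite coproduct -/
theorem euler_sigma : ∀ (r : ℕ) (M : Fin r → X.Modules), (∀ j, Coh.IsCoh (M j)) →
    Curv2.euler k X (∐ M) = ∑ j, Curv2.euler k X (M j)
  | 0, M, _ => by
    have hz : IsZero (∐ M) := by
      rw [IsZero.iff_id_eq_zero]
      apply Sigma.hom_ext
      intro j
      exact Fin.elim0 j
    rw [Finset.univ_eq_empty, Finset.sum_empty]
    rw [euler_eq_sum k X (∐ M) 0 (fun p _ =>
      Groth.Agent.Lib.Helper17.Graded.subsingleton_HH_of_isZero _ hz p)]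
    simp
  | r + 1, M, hM => by
    obtain ⟨e⟩ := Groth.Agent.Lib.Helper2.Horr4.nonempty_sigma_cons_iso M
    have hcoh : Coh.IsCoh (∐ M) := Groth.Agent.Lib.Helper6.DevPow.isCoh_sigma_fin _ M hM
    have hcoh' : Coh.IsCoh (∐ fun i : Fin r => M i.succ) :=
      Groth.Agent.Lib.Helper6.DevPow.isCoh_sigma_fin _ _ (fun i => hM i.succ)
    have hcoh2 : Coh.IsCoh (M 0 ⊞ ∐ fun i : Fin r => M i.succ) :=
      Groth.Agent.Lib.Helper6.DevCore.isCoh_of_iso e.symm hcoh
    let S : ShortComplex X.Modules :=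
      ShortComplex.mk (biprod.inl : M 0 ⟶ M 0 ⊞ ∐ fun i : Fin r => M i.succ) biprod.snd
        biprod.inl_snd
    have hS : S.ShortExact := (ShortComplex.Splitting.ofHasBinaryBiproduct _ _).shortExact
    have h1 := euler_add k X S hS (hM 0) hcoh2 hcoh'
    have h2 := euler_sigma r (fun i => M i.succ) (fun i => hM i.succ)
    rw [← euler_congr k e, Fin.sum_univ_succ, ← h2]
    exact h1

end Euler


section Main

open Groth.Agent.Lib.Helper8.EulerK Groth.Agent.Lib.Helper2.GSplit5

variable (k : Type u) [Field k]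

theorem g_of_nonneg (m : ℤ) (hm : 0 ≤ m) : (g 1 k m : ℤ) = m + 1 := by
  have h := Groth.Agent.Lib.Helper2.ProjCoh11.euler k 1 one_pos m
  have h1 := Groth.Agent.Lib.Helper2.ProjCoh11.finrank_eq_zero k 1 m 1 (fun h => by omega)
    (fun h => by have := h.2; omega)
  rw [Finset.sum_range_succ, Finset.sum_range_one, h1] at h
  simp only [pow_zero, one_mul, Nat.cast_zero, mul_zero, add_zero, Ring.choose_one_right] at h
  unfold g
  rw [h]
  push_cast
  ring

theorem g_of_neg (m : ℤ) (hm : m < 0) : g 1 k m = 0 := g_neg le_rfl m hm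

variable (C : Scheme.{u}) [C.Over (Spec (CommRingCat.of k))]
  (f : C ⟶ CohB1.ProjSpace 1 k) (hf : f ≫ CohB1.ProjSpace.toSpec 1 k = C ↘ Spec (CommRingCat.of k))
  [IsFinite f]

include hf in
theorem finrank_H0_pullback_twist {r : ℕ} (a : Fin r → ℤ)
    (e : (Scheme.Modules.pushforward f).obj (Coh.structureModule C) ≅
      ∐ fun j => Twist.twistProjSpace 1 k (a j)) (t : ℤ) :
    Module.finrank k (Coh.HH C ((Scheme.Modules.pullback f).obj (Twist.twistProjSpace 1 k t)) 0) =
      ∑ j, g 1 k (a j + t) := by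
  have hL := Groth.Agent.Lib.Helper17.P1Pic.isInvertible_twist k t
  obtain ⟨ru⟩ := Groth.Agent.Lib.Helper28.AmpleUnit.nonempty_tensor_unit_iso
    ((Scheme.Modules.pullback f).obj (Twist.twistProjSpace 1 k t))
  let u : CohB1.tensorMod (Coh.structureModule C)
      ((Scheme.Modules.pullback f).obj (Twist.twistProjSpace 1 k t)) ≅
      (Scheme.Modules.pullback f).obj (Twist.twistProjSpace 1 k t) :=
    Groth.Agent.Lib.Helper6.K0Inv.braidIso _ _ ≪≫ ru
  have h1 := hh_congr k u 0
  haveI : (Twist.twistProjSpace 1 k t).IsQuasicoherent :=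
    Groth.Agent.Lib.Helper28.InvQC.isQuasicoherent_of_isInvertible _ hL
  haveI : ((Scheme.Modules.pullback f).obj (Twist.twistProjSpace 1 k t)).IsQuasicoherent := inferInstance
  have hq : (CohB1.tensorMod (Coh.structureModule C)
      ((Scheme.Modules.pullback f).obj (Twist.twistProjSpace 1 k t))).IsQuasicoherent :=
    (SheafOfModules.isQuasicoherent C.ringCatSheaf).prop_of_iso u.symm inferInstance
  have h2 := Groth.Agent.Lib.Helper8.AffPush.finrank_push k f hf _ hq 0
  obtain ⟨pr⟩ := Groth.Agent.Lib.Helper2.Bridge4.exists_projection_iso f (Coh.structureModule C)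
    (Twist.twistProjSpace 1 k t) hL
  have h3 := hh_congr k pr 0
  have h4 := hh_congr k (PicGrp.tensorModIso e (Iso.refl (Twist.twistProjSpace 1 k t))) 0
  have h5 := finrank_W_sigma (n := 1) (k := k) a t
  unfold hh at h1 h3 h4
  rw [← h1, ← h2, ← h3, h4, h5]

theorem g_cases (m : ℤ) : (0 ≤ m ∧ (g 1 k m : ℤ) = m + 1) ∨ (m < 0 ∧ (g 1 k m : ℤ) = 0) := by
  by_cases h : 0 ≤ m
  · exact Or.inl ⟨h, g_of_nonneg k m h⟩
  · exact Or.inr ⟨by omega, by rw [g_of_neg k m (by omega)]; rfl⟩

theorem geometricallyReduced_of_smooth {X : Scheme.{u}} (p : X ⟶ Spec (CommRingCat.of k)) [Smooth p] :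
    GeometricallyReduced p := by
  refine ⟨fun K _ y Z fst snd hpb => ?_⟩
  haveI : Smooth snd := MorphismProperty.of_isPullback hpb.flip.flip (inferInstance : Smooth p)
  exact Groth.Agent.Lib.Helper24.WeilExt.isReduced_of_smooth (R := K) snd

include hf in
theorem finrank_H0_tensorPow [IsProper (C ↘ Spec (CommRingCat.of k))] [Smooth (C ↘ Spec (CommRingCat.of k))]
    [GeometricallyConnected (C ↘ Spec (CommRingCat.of k))] (hC : topologicalKrullDim C = 1)
    (g₀ : ℕ) (hg : Curv2.genus k C = g₀) [Flat f]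
    (hrk : ∀ y : ↥(CohB1.ProjSpace 1 k), Scheme.Hom.finrank f y = 2) (r : ℕ) (hr : r + 1 ≤ g₀) :
    Module.finrank k (Coh.HH C (CohB1.tensorPow
      ((Scheme.Modules.pullback f).obj (Twist.twistProjSpace 1 k 1)) r) 0) = r + 1 := by
  haveI hP : IsProper (CohB1.ProjSpace.toSpec 1 k) := Groth.Agent.Lib.Helper28.ProjSpaceBasic.isProper_toSpec 1 k
  haveI hP' : IsProper (CohB1.ProjSpace 1 k ↘ Spec (CommRingCat.of k)) := hP
  haveI : IsLocallyNoetherian (CohB1.ProjSpace 1 k) :=
    LocallyOfFiniteType.isLocallyNoetherian (CohB1.ProjSpace.toSpec 1 k)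
  haveI : LocallyOfFinitePresentation f := Groth.Agent.Lib.lead.ChevB.lfp_of_lft_of_isLocallyNoetherian f
  have hE := isFinLocFreeOfRank_pushforward f 2 hrk
  obtain ⟨a, ⟨e⟩⟩ := exists_iso_sigma_of_locFree (n := 1) (k := k) le_rfl _ hE
    (fun t i h1 h2 => absurd h2 (by omega))
  -- H⁰(O_C)
  haveI := geometricallyReduced_of_smooth k (C ↘ Spec (CommRingCat.of k))
  have hH0 := Groth.Agent.S1536.result k C
  obtain ⟨z0⟩ := Groth.Agent.Lib.Helper28.TwistCov.nonempty_twist_zero_iso (CohB1.polyGrading 1 k)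
    (Groth.Agent.Lib.Helper28.VeryAmpleImm.projSpace_cover 1 k)
  have z0' : Twist.twistProjSpace 1 k 0 ≅ Coh.structureModule (CohB1.ProjSpace 1 k) := z0
  have e0 : (Scheme.Modules.pullback f).obj (Twist.twistProjSpace 1 k 0) ≅ Coh.structureModule C :=
    (Scheme.Modules.pullback f).mapIso z0' ≪≫ Groth.Agent.Lib.Helper16.RS.pullbackUnitIso f
  have h0 := finrank_H0_pullback_twist k C f hf a e 0
  have h0' := hh_congr k e0 0
  unfold hh at h0'
  rw [h0', hH0, Fin.sum_univ_two, add_zero, add_zero] at h0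
  -- Euler characteristic
  haveI : IsNoetherian C := Groth.Agent.Lib.Helper8.CurveRR.isNoetherian k C
  have hχC : Curv2.euler k C (Coh.structureModule C) = 1 - (g₀ : ℤ) := by
    rw [euler_eq_sum k C (Coh.structureModule C) 2 (fun p hp => by
      obtain ⟨q, rfl⟩ : ∃ q, p = q + 2 := ⟨p - 2, by omega⟩
      exact Groth.Agent.Lib.Helper8.GGCoh.subsingleton_HH_add_two (le_of_eq hC) _ q)]
    rw [Finset.sum_range_succ, Finset.sum_range_one, hH0]
    have : Module.finrank k (Coh.HH C (Coh.structureModule C) 1) = g₀ := hg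
    rw [this]
    simp
    ring
  have hpush := Groth.Agent.Lib.Helper8.AffPush.euler_push k f hf (Coh.structureModule C) inferInstance
  have hsig := euler_sigma k (CohB1.ProjSpace 1 k) 2 (fun j => Twist.twistProjSpace 1 k (a j))
    (fun j => Groth.Agent.Lib.Helper6.K0Op.isCoh_of_isInvertible _
      (Groth.Agent.Lib.Helper17.P1Pic.isInvertible_twist k (a j)))
  rw [← euler_congr k e, hpush, hχC, Fin.sum_univ_two,
    Groth.Agent.Lib.Helper17.P1Pic.euler_twist, Groth.Agent.Lib.Helper17.P1Pic.euler_twist] at hsig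
  -- the target
  obtain ⟨er⟩ := Groth.Agent.Lib.Helper2.IntNum6.nonempty_pullback_twist_iso_tensorPow k 1 f r
  have hr' := hh_congr k er 0
  unfold hh at hr'
  rw [← hr', finrank_H0_pullback_twist k C f hf a e (r : ℤ), Fin.sum_univ_two]
  rcases g_cases k (a 0) with ⟨p1, q1⟩ | ⟨p1, q1⟩ <;> rcases g_cases k (a 1) with ⟨p2, q2⟩ | ⟨p2, q2⟩ <;>
  rcases g_cases k (a 0 + r) with ⟨p3, q3⟩ | ⟨p3, q3⟩ <;>
  rcases g_cases k (a 1 + r) with ⟨p4, q4⟩ | ⟨p4, q4⟩ <;> omega

end Main

end Groth.Agent.Lib.Helper17.HypEll
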