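import Groth.Agent.Lib.Helper28.FinType
import Groth.Agent.Lib.Helper28.SecPow
import Groth.Prelude.Def_BlowUp2
import Mathlib

/-!
# The ideal sheaf attached to a quasi-coherent module mapping to the structure sheaf
-/

set_option autoImplicit false
set_option backward.isDefEq.respectTransparency.types false
universe u
open CategoryTheory CategoryTheory.Limits AlgebraicGeometry Opposite TopologicalSpace
noncomputable section
namespace Groth.Agent.Lib.Helper17.IdealOfSub

open Groth.Agent.Lib.Helper28 Groth.Agent.Lib.Helper28.QCohLoc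

variable {X : Scheme.{u}} (G : X.Modules) (j : G ⟶ Coh.structureModule X)

/-- the value of `j` on a section, as a function -/
def val {U : X.Opens} (g : Γ(G, U)) : Γ(X, U) := j.app U g

theorem val_add {U : X.Opens} (g g' : Γ(G, U)) : val G j (g + g') = val G j g + val G j g' :=
  map_add (j.app U).hom g g'

theorem val_zero {U : X.Opens} : val G j (0 : Γ(G, U)) = 0 := map_zero (j.app U).hom

theorem val_smul {U : X.Opens} (c : Γ(X, U)) (g : Γ(G, U)) : val G j (c • g) = c * val G j g :=
  Scheme.Modules.Hom.app_smul j c g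

theorem val_res {U V : X.Opens} (h : V ≤ U) (g : Γ(G, U)) : val G j (res G h g) = resO h (val G j g) :=
  app_res j h g

/-- the ideal of the functions over `U` in the image of `j` -/
def rangeIdeal (U : X.Opens) : Ideal Γ(X, U) where
  carrier := {a | ∃ g : Γ(G, U), val G j g = a}
  add_mem' := by
    rintro _ _ ⟨g, rfl⟩ ⟨g', rfl⟩
    exact ⟨g + g', val_add G j g g'⟩
  zero_mem' := ⟨0, val_zero G j⟩
  smul_mem' := by
    rintro c _ ⟨g, rfl⟩
    exact ⟨c • g, val_smul G j c g⟩

theorem mem_rangeIdeal {U : X.Opens} (a : Γ(X, U)) : a ∈ rangeIdeal G j U ↔ ∃ g : Γ(G, U), val G j g = a :=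
  Iff.rfl

variable [G.IsQuasicoherent]

/-- **the ideal sheaf of the image of a quasi-coherent module in the structure sheaf** -/
def idealOfSub : X.IdealSheafData where
  ideal U := rangeIdeal G j U.1
  map_ideal_basicOpen U f := by
    apply le_antisymm
    · rw [Ideal.map_le_iff_le_comap]
      rintro a ⟨g, rfl⟩
      exact ⟨res G (X.basicOpen_le f) g, val_res G j _ g⟩
    · rintro a ⟨g₀, rfl⟩
      obtain ⟨g', hg'⟩ : ∃ g' : Γ(G, X.basicOpen f), g' = g₀ := ⟨g₀, rfl⟩
      obtain ⟨n, g, hng⟩ := exists_pow_smul_eq_res G U.2 f g'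
      have h1 : resO (X.basicOpen_le f) (f ^ n) * val G j g' = resO (X.basicOpen_le f) (val G j g) := by
        rw [← val_smul, ← val_res]
        exact congrArg (val G j) hng
      have hu : IsUnit (resO (X.basicOpen_le f) (f ^ n)) := by
        rw [resO_pow]
        exact (X.toRingedSpace.isUnit_res_basicOpen f).pow n
      obtain ⟨u, hu'⟩ := hu
      have h2 : val G j g' = (↑u⁻¹ : Γ(X, X.basicOpen f)) * resO (X.basicOpen_le f) (val G j g) := by
        rw [← h1, ← hu', ← mul_assoc, Units.inv_mul, one_mul]
      have h3 : val G j g' ∈ Ideal.map (X.presheaf.map (homOfLE (X.basicOpen_le f)).op).hom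
          (rangeIdeal G j U.1) := by
        rw [h2]
        exact Ideal.mul_mem_left _ _ (Ideal.mem_map_of_mem _ ⟨g, rfl⟩)
      rw [hg'] at h3
      exact h3

theorem mem_idealOfSub_iff (U : X.affineOpens) (a : Γ(X, U.1)) :
    a ∈ (idealOfSub G j).ideal U ↔ ∃ g : Γ(G, U.1), val G j g = a := Iff.rfl

/-- the ideal sheaf of a module of finite type is of finite type -/
theorem isFiniteTypeIdeal_idealOfSub [SheafOfModules.IsFiniteType.{u} (R := X.ringCatSheaf) G] :
    BlowUp.IsFiniteTypeIdeal (idealOfSub G j) := by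
  classical
  intro U
  haveI := FinType.finite_of_isAffineOpen G U.2
  obtain ⟨s, hs⟩ := (Module.finite_def.1 (inferInstance : Module.Finite Γ(X, U.1) Γ(G, U.1)))
  refine ⟨s.image (val G j), ?_⟩
  apply le_antisymm
  · rw [Ideal.span_le]
    intro a ha
    rw [Finset.coe_image] at ha
    obtain ⟨g, _, rfl⟩ := ha
    exact ⟨g, rfl⟩
  · rintro a ⟨g, rfl⟩
    have hg : g ∈ Submodule.span Γ(X, U.1) (s : Set Γ(G, U.1)) := by rw [hs]; trivial
    induction hg using Submodule.span_induction with
    | mem g hg => exact Ideal.subset_span (by rw [Finset.coe_image]; exact ⟨g, hg, rfl⟩)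
    | zero => rw [val_zero]; exact Ideal.zero_mem _
    | add g g' _ _ ih ih' => rw [val_add]; exact Ideal.add_mem _ ih ih'
    | smul c g _ ih => rw [val_smul]; exact Ideal.mul_mem_left _ _ ih

/-- a point with an affine neighbourhood on which `1` is in the image is outside the support -/
theorem not_mem_support_of_one_mem (x : X) (U : X.affineOpens) (hxU : x ∈ U.1)
    (h : ∃ g : Γ(G, U.1), val G j g = 1) : x ∉ (idealOfSub G j).support := by
  intro hx
  rw [Scheme.IdealSheafData.mem_support_iff_of_mem hxU] at hx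
  have h1 : (idealOfSub G j).ideal U = ⊤ := (Ideal.eq_top_iff_one _).2 h
  rw [h1] at hx
  simp at hx
  exact hx hxU

/-- if the image of `j` lies in the vanishing ideal of a closed set, the closed set lies in the support -/
theorem le_support_of_le (Z : Closeds X)
    (h : ∀ (U : X.affineOpens) (g : Γ(G, U.1)), val G j g ∈ (Scheme.IdealSheafData.vanishingIdeal Z).ideal U) :
    Z ≤ (idealOfSub G j).support := by
  rw [Scheme.IdealSheafData.le_support_iff_le_vanishingIdeal]
  intro U a ha
  obtain ⟨g, rfl⟩ := ha
  exact h U g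

end Groth.Agent.Lib.Helper17.IdealOfSub
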