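import Groth.Agent.Lib.Helper28.QCohGlobal
import Mathlib
set_option backward.isDefEq.respectTransparency.types false
set_option autoImplicit false
set_option linter.style.haveILetI false
set_option linter.unusedSectionVars false

/-!
# Indicator functions of clopen subsets of a scheme
-/

universe u
open CategoryTheory CategoryTheory.Limits AlgebraicGeometry Opposite TopologicalSpace

noncomputable section
namespace Groth.Agent.Lib.Helper17.Indicator

open Groth.Agent.Lib.Helper28.QCohLoc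

variable {Z : Scheme.{u}} {s : Set Z} (hs : IsClopen s)

/-- the open subset `s` -/
def Sop : Z.Opens := ⟨s, hs.2⟩
/-- the open complement -/
def Cop : Z.Opens := ⟨sᶜ, hs.1.isOpen_compl⟩

theorem existsUnique_ind (W : Z.Opens) :
    ∃! a : Γ(Z, W), resO (inf_le_left : W ⊓ Sop hs ≤ W) a = 1 ∧
      resO (inf_le_left : W ⊓ Cop hs ≤ W) a = 0 := by
  let V : Bool → Z.Opens := fun b => if b = true then W ⊓ Sop hs else W ⊓ Cop hs
  have hV : ∀ b, V b ≤ W := by intro b; cases b <;> exact inf_le_left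
  let sf : ∀ b : Bool, Γ(Z, V b) := fun b => if b = true then 1 else 0
  have hdisj : ∀ i j : Bool, i ≠ j → V i ⊓ V j = ⊥ := by
    intro i j hij
    ext x
    simp only [Opens.coe_inf, Set.mem_inter_iff, SetLike.mem_coe, Opens.coe_bot,
      Set.mem_empty_iff_false, iff_false, not_and]
    cases i <;> cases j <;> simp_all [V, Sop, Cop]
  have ic : TopCat.Presheaf.IsCompatible Z.presheaf V sf := by
    intro i j
    by_cases hij : i = j
    · subst hij
      rfl
    · haveI : Subsingleton Γ(Z, V i ⊓ V j) := by rw [hdisj i j hij]; infer_instance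
      exact Subsingleton.elim _ _
  have hcover : W ≤ iSup V := by
    intro x hx
    rw [Opens.mem_iSup]
    by_cases hxs : x ∈ s
    · exact ⟨true, hx, hxs⟩
    · exact ⟨false, hx, hxs⟩
  obtain ⟨e, he, huniq⟩ := Z.sheaf.existsUnique_gluing' V W (fun i => homOfLE (hV i)) hcover sf ic
  refine ⟨e, ⟨he true, he false⟩, ?_⟩
  rintro y ⟨h1, h0⟩
  apply huniq
  intro i
  cases i
  · exact h0
  · exact h1

/-- the indicator function of `s` over `W` -/
def ind (W : Z.Opens) : Γ(Z, W) := (existsUnique_ind hs W).choose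

theorem ind_S (W : Z.Opens) : resO (inf_le_left : W ⊓ Sop hs ≤ W) (ind hs W) = 1 :=
  (existsUnique_ind hs W).choose_spec.1.1

theorem ind_C (W : Z.Opens) : resO (inf_le_left : W ⊓ Cop hs ≤ W) (ind hs W) = 0 :=
  (existsUnique_ind hs W).choose_spec.1.2

theorem ind_unique (W : Z.Opens) (a : Γ(Z, W))
    (h1 : resO (inf_le_left : W ⊓ Sop hs ≤ W) a = 1)
    (h0 : resO (inf_le_left : W ⊓ Cop hs ≤ W) a = 0) : a = ind hs W :=
  (existsUnique_ind hs W).choose_spec.2 a ⟨h1, h0⟩

theorem ind_mul_self (W : Z.Opens) : ind hs W * ind hs W = ind hs W := by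
  apply ind_unique
  · change resO _ (_ * _) = 1
    unfold resO
    rw [map_mul]
    change resO _ _ * resO _ _ = 1
    rw [ind_S, mul_one]
  · unfold resO
    rw [map_mul]
    change resO _ _ * resO _ _ = 0
    rw [ind_C, mul_zero]

theorem ind_res {W W' : Z.Opens} (h : W' ≤ W) : resO h (ind hs W) = ind hs W' := by
  apply ind_unique
  · rw [resO_resO]
    have h1 : W' ⊓ Sop hs ≤ W ⊓ Sop hs := inf_le_inf_right _ h
    have : resO (inf_le_left.trans h : W' ⊓ Sop hs ≤ W) (ind hs W) =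
        resO h1 (resO inf_le_left (ind hs W)) := (resO_resO _ _ _).symm
    rw [this, ind_S]
    exact map_one _
  · rw [resO_resO]
    have h1 : W' ⊓ Cop hs ≤ W ⊓ Cop hs := inf_le_inf_right _ h
    have : resO (inf_le_left.trans h : W' ⊓ Cop hs ≤ W) (ind hs W) =
        resO h1 (resO inf_le_left (ind hs W)) := (resO_resO _ _ _).symm
    rw [this, ind_C]
    exact map_zero _

theorem eq_empty_of_ind_eq_zero (h : ind hs (⊤ : Z.Opens) = 0) : s = ∅ := by
  by_contra hne
  obtain ⟨x, hx⟩ := Set.nonempty_iff_ne_empty.2 hne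
  have h1 := ind_S hs ⊤
  rw [h] at h1
  haveI : Nonempty ↥(⊤ ⊓ Sop hs : Z.Opens) := ⟨⟨x, trivial, hx⟩⟩
  haveI : Nontrivial Γ(Z, ⊤ ⊓ Sop hs) := inferInstance
  have : (0 : Γ(Z, ⊤ ⊓ Sop hs)) = 1 := by rw [← h1]; exact (map_zero _).symm
  exact zero_ne_one this

theorem eq_univ_of_ind_eq_one (h : ind hs (⊤ : Z.Opens) = 1) : s = Set.univ := by
  by_contra hne
  obtain ⟨x, hx⟩ := (Set.ne_univ_iff_exists_notMem s).mp hne
  have h1 := ind_C hs ⊤
  rw [h] at h1
  haveI : Nonempty ↥(⊤ ⊓ Cop hs : Z.Opens) := ⟨⟨x, trivial, hx⟩⟩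
  haveI : Nontrivial Γ(Z, ⊤ ⊓ Cop hs) := inferInstance
  have : (1 : Γ(Z, ⊤ ⊓ Cop hs)) = 0 := by rw [← h1]; exact (map_one _).symm
  exact one_ne_zero this

/-- naturality of indicator functions -/
theorem app_ind {Z' : Scheme.{u}} (g : Z' ⟶ Z) (W : Z.Opens) :
    (g.app W).hom (ind hs W) = ind (hs.preimage g.continuous) (g ⁻¹ᵁ W) := by
  apply ind_unique
  · have hle : g ⁻¹ᵁ W ⊓ Sop (hs.preimage g.continuous) ≤ g ⁻¹ᵁ (W ⊓ Sop hs) := le_of_eq rfl
    have hnat := congrArg (fun φ => φ.hom (ind hs W)) (g.naturality (homOfLE (inf_le_left : W ⊓ Sop hs ≤ W)).op)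
    change (g.app (W ⊓ Sop hs)).hom (resO inf_le_left (ind hs W)) = _ at hnat
    rw [ind_S, map_one] at hnat
    exact hnat.symm
  · have hnat := congrArg (fun φ => φ.hom (ind hs W)) (g.naturality (homOfLE (inf_le_left : W ⊓ Cop hs ≤ W)).op)
    change (g.app (W ⊓ Cop hs)).hom (resO inf_le_left (ind hs W)) = _ at hnat
    rw [ind_C, map_zero] at hnat
    exact hnat.symm

end Groth.Agent.Lib.Helper17.Indicator
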