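import Groth.Prelude.Def_RelSpec
import Groth.Agent.Lib.Helper17.FTExt3
import Groth.Agent.Lib.Helper17.Serre2
import Mathlib
set_option backward.isDefEq.respectTransparency.types false
set_option autoImplicit false
universe u

namespace Groth.Agent.Lib.Helper17.QCAlgGen
open CategoryTheory CategoryTheory.Limits Opposite TopologicalSpace AlgebraicGeometry
open Groth.Agent.Lib.Helper28.QCohLoc Groth.Agent.Lib.Helper28.TensorGen
open Groth.Agent.Lib.Helper17.FTExt

variable {X : Scheme.{u}} (B : RelSpec.QCAlg X)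

/-- restriction of sections of the algebra, as a ring homomorphism -/
noncomputable abbrev resB {U V : X.Opens} (h : V ≤ U) : B.presheaf.obj (op U) →+* B.presheaf.obj (op V) :=
  (B.presheaf.map (homOfLE h).op).hom

/-- the structure map on sections -/
noncomputable abbrev strB (U : X.Opens) : Γ(X, U) →+* B.presheaf.obj (op U) :=
  (B.str.app (op U)).hom

theorem strB_resO {U V : X.Opens} (h : V ≤ U) (r : Γ(X, U)) :
    strB B V (resO h r) = resB B h (strB B U r) := by
  have := congrArg (fun ψ => ψ.hom r) (B.str.naturality (homOfLE h).op)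
  exact this

theorem toModule_smul (U : X.Opens) (r : Γ(X, U)) (m : Γ(B.toModule, U)) :
    (r • m : Γ(B.toModule, U)) = (show Γ(B.toModule, U) from strB B U r * (show B.presheaf.obj (op U) from m)) :=
  rfl

theorem toModule_res {U V : X.Opens} (h : V ≤ U) (m : Γ(B.toModule, U)) :
    res B.toModule h m = (show Γ(B.toModule, V) from resB B h (show B.presheaf.obj (op U) from m)) := rfl

theorem isLocOn_toModule {U : X.Opens} (hU : IsAffineOpen U) : IsLocOn B.toModule U := by
  refine ⟨fun r y => ?_, fun r x hx => ?_⟩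
  · letI := (B.presheaf.map (homOfLE (X.basicOpen_le r)).op).hom.toAlgebra
    haveI : IsLocalization.Away ((B.str.app (op U)).hom r) (B.presheaf.obj (op (X.basicOpen r))) :=
      B.isQC U hU r
    obtain ⟨n, a, ha⟩ := IsLocalization.Away.surj ((B.str.app (op U)).hom r)
      (show B.presheaf.obj (op (X.basicOpen r)) from y)
    refine ⟨n, (show Γ(B.toModule, U) from a), ?_⟩
    rw [toModule_res, toModule_smul, map_pow, strB_resO]
    have ha' : (show B.presheaf.obj (op (X.basicOpen r)) from y) * (resB B (X.basicOpen_le r) (strB B U r)) ^ n =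
        resB B (X.basicOpen_le r) a := ha
    rw [mul_comm] at ha'
    exact ha'
  · letI := (B.presheaf.map (homOfLE (X.basicOpen_le r)).op).hom.toAlgebra
    haveI : IsLocalization.Away ((B.str.app (op U)).hom r) (B.presheaf.obj (op (X.basicOpen r))) :=
      B.isQC U hU r
    have hx' : algebraMap (B.presheaf.obj (op U)) (B.presheaf.obj (op (X.basicOpen r)))
        (show B.presheaf.obj (op U) from x) = 0 := hx
    obtain ⟨⟨_, n, rfl⟩, hm⟩ := (IsLocalization.map_eq_zero_iff
      (Submonoid.powers ((B.str.app (op U)).hom r)) (B.presheaf.obj (op (X.basicOpen r))) _).1 hx'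
    refine ⟨n, ?_⟩
    rw [toModule_smul, map_pow]
    exact hm

instance isQuasicoherent_toModule : B.toModule.IsQuasicoherent :=
  isQuasicoherent_of_forall_isLocOn _ fun U => isLocOn_toModule B U.2


section gen
variable {B}
variable {E : X.Modules} (j : E ⟶ B.toModule)

/-- image of a section of `E` in the ring `B(U)` -/
noncomputable abbrev jB (U : X.Opens) (e : Γ(E, U)) : B.presheaf.obj (op U) := j.app U e

/-- the generating set over `U` -/
def genSet (U : X.Opens) : Set (B.presheaf.obj (op U)) :=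
  Set.range (strB B U) ∪ Set.range (jB j U)

/-- `E` generates `B` over `U` -/
def Gen (U : X.Opens) : Prop := Subring.closure (genSet j U) = ⊤

theorem jB_res {U V : X.Opens} (h : V ≤ U) (e : Γ(E, U)) :
    jB j V (res E h e) = resB B h (jB j U e) := app_res j h e

theorem jB_smul (U : X.Opens) (r : Γ(X, U)) (e : Γ(E, U)) :
    jB j U (r • e) = strB B U r * jB j U e := by
  have := Scheme.Modules.Hom.app_smul j (U := U) r e
  exact this

theorem strB_mem (U : X.Opens) (r : Γ(X, U)) : strB B U r ∈ Subring.closure (genSet j U) :=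
  Subring.subset_closure (Or.inl ⟨r, rfl⟩)

theorem jB_mem (U : X.Opens) (e : Γ(E, U)) : jB j U e ∈ Subring.closure (genSet j U) :=
  Subring.subset_closure (Or.inr ⟨e, rfl⟩)

theorem resB_mem_closure {U V : X.Opens} (h : V ≤ U) (a : B.presheaf.obj (op U))
    (ha : a ∈ Subring.closure (genSet j U)) :
    resB B h a ∈ Subring.closure (genSet j V) := by
  have : Subring.closure (genSet j U) ≤ (Subring.closure (genSet j V)).comap (resB B h) := by
    rw [Subring.closure_le]
    rintro x (⟨r, rfl⟩ | ⟨e, rfl⟩)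
    · exact Subring.subset_closure (Or.inl ⟨resO h r, strB_resO B h r⟩)
    · exact Subring.subset_closure (Or.inr ⟨res E h e, jB_res j h e⟩)
  exact this ha

theorem gen_basicOpen {U : X.Opens} (hU : IsAffineOpen U) (r : Γ(X, U)) (h : Gen j U) :
    Gen j (X.basicOpen r) := by
  rw [Gen, eq_top_iff]
  intro y _
  obtain ⟨n, a, ha⟩ := (isLocOn_toModule B hU).surj r (show Γ(B.toModule, X.basicOpen r) from y)
  have ha' : strB B _ (resO (X.basicOpen_le r) r) ^ n * y = resB B (X.basicOpen_le r) a := by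
    rw [← map_pow]
    exact ha
  have h1 : resB B (X.basicOpen_le r) a ∈ Subring.closure (genSet j (X.basicOpen r)) :=
    resB_mem_closure j _ a (by rw [h]; trivial)
  obtain ⟨u, hu⟩ := isUnit_ur r
  have hu' : resO (X.basicOpen_le r) r = (u : Γ(X, X.basicOpen r)) := hu.symm
  have h2 : y = strB B _ ((u⁻¹ : (Γ(X, X.basicOpen r))ˣ) : Γ(X, X.basicOpen r)) ^ n *
      resB B (X.basicOpen_le r) a := by
    rw [← ha', ← mul_assoc, ← mul_pow, ← map_mul, hu', Units.inv_mul, map_one, one_pow, one_mul]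
  rw [h2]
  exact Subring.mul_mem _ (Subring.pow_mem _ (strB_mem j _ _) n) h1

theorem exists_pow_mul_eq_resB_mem [E.IsQuasicoherent] {U : X.Opens} (hU : IsAffineOpen U)
    (r : Γ(X, U)) (z : B.presheaf.obj (op (X.basicOpen r)))
    (hz : z ∈ Subring.closure (genSet j (X.basicOpen r))) :
    ∃ (N : ℕ) (a : B.presheaf.obj (op U)), a ∈ Subring.closure (genSet j U) ∧
      resB B (X.basicOpen_le r) a = strB B _ (resO (X.basicOpen_le r) r) ^ N * z := by
  induction hz using Subring.closure_induction with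
  | mem x hx =>
    rcases hx with ⟨x, rfl⟩ | ⟨e, rfl⟩
    · letI := (X.presheaf.map (homOfLE (X.basicOpen_le r)).op).hom.toAlgebra
      haveI : IsLocalization.Away r Γ(X, X.basicOpen r) := hU.isLocalization_basicOpen r
      obtain ⟨n, x', hx'⟩ := IsLocalization.Away.surj r x
      have hx'' : x * resO (X.basicOpen_le r) r ^ n = resO (X.basicOpen_le r) x' := hx'
      refine ⟨n, strB B U x', strB_mem j U x', ?_⟩
      rw [← strB_resO, ← hx'', map_mul, map_pow, mul_comm]
    · obtain ⟨n, e', he'⟩ := (isLocOn_of_isQuasicoherent E hU).surj r e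
      refine ⟨n, jB j U e', jB_mem j U e', ?_⟩
      rw [← jB_res, ← he', jB_smul, map_pow]
  | zero => exact ⟨0, 0, Subring.zero_mem _, by simp⟩
  | one => exact ⟨0, 1, Subring.one_mem _, by simp⟩
  | add x y _ _ hx hy =>
    obtain ⟨N₁, a₁, h₁, e₁⟩ := hx
    obtain ⟨N₂, a₂, h₂, e₂⟩ := hy
    refine ⟨N₁ + N₂, strB B U r ^ N₂ * a₁ + strB B U r ^ N₁ * a₂,
      Subring.add_mem _ (Subring.mul_mem _ (Subring.pow_mem _ (strB_mem j U r) _) h₁)
        (Subring.mul_mem _ (Subring.pow_mem _ (strB_mem j U r) _) h₂), ?_⟩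
    rw [map_add, map_mul, map_mul, e₁, e₂, map_pow, map_pow, ← strB_resO]
    ring
  | neg x _ hx =>
    obtain ⟨N₁, a₁, h₁, e₁⟩ := hx
    exact ⟨N₁, -a₁, Subring.neg_mem _ h₁, by rw [map_neg, e₁, mul_neg]⟩
  | mul x y _ _ hx hy =>
    obtain ⟨N₁, a₁, h₁, e₁⟩ := hx
    obtain ⟨N₂, a₂, h₂, e₂⟩ := hy
    refine ⟨N₁ + N₂, a₁ * a₂, Subring.mul_mem _ h₁ h₂, ?_⟩
    rw [map_mul, e₁, e₂]
    ring

/-- the subring generated over `U`, as a submodule. -/
def genSub (U : X.Opens) : Submodule Γ(X, U) Γ(B.toModule, U) where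
  carrier := {m | (show B.presheaf.obj (op U) from m) ∈ Subring.closure (genSet j U)}
  add_mem' := fun ha hb => (Subring.closure (genSet j U)).add_mem ha hb
  zero_mem' := (Subring.closure (genSet j U)).zero_mem
  smul_mem' := fun r _ hm => (Subring.closure (genSet j U)).mul_mem (strB_mem j U r) hm

theorem gen_of_span [E.IsQuasicoherent] {U : X.Opens} (hU : IsAffineOpen U) (s : Set Γ(X, U))
    (hs : Ideal.span s = ⊤) (h : ∀ r ∈ s, Gen j (X.basicOpen r)) : Gen j U := by
  rw [Gen, eq_top_iff]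
  intro y _
  have : (show Γ(B.toModule, U) from y) ∈ genSub j U := by
    refine Submodule.mem_of_span_eq_top_of_smul_pow_mem (genSub j U) s hs _ ?_
    intro r
    obtain ⟨N, a, ha, e⟩ := exists_pow_mul_eq_resB_mem j hU r.1 (resB B (X.basicOpen_le r.1) y)
      (by rw [h r.1 r.2]; trivial)
    have h0 : res B.toModule (X.basicOpen_le r.1)
        (show Γ(B.toModule, U) from (a - strB B U r.1 ^ N * y)) = 0 := by
      change resB B (X.basicOpen_le r.1) (a - strB B U r.1 ^ N * y) = 0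
      rw [map_sub, map_mul, map_pow, e, ← strB_resO, sub_self]
    obtain ⟨M, hM⟩ := (isLocOn_toModule B hU).inj r.1 _ h0
    have hM' : strB B U r.1 ^ M * (a - strB B U r.1 ^ N * y) = 0 := by
      rw [← map_pow]
      exact hM
    refine ⟨M + N, ?_⟩
    change strB B U (r.1 ^ (M + N)) * y ∈ Subring.closure (genSet j U)
    have h3 : strB B U (r.1 ^ (M + N)) * y = strB B U r.1 ^ M * a := by
      rw [mul_sub, sub_eq_zero] at hM'
      rw [hM', map_pow, pow_add, mul_assoc]
    rw [h3]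
    exact Subring.mul_mem _ (Subring.pow_mem _ (strB_mem j U r.1) _) ha
  exact this

theorem gen_of_cover [E.IsQuasicoherent] (𝒰 : Set X.Opens) (h𝒰 : ∀ U ∈ 𝒰, IsAffineOpen U)
    (hcov : ∀ x : X, ∃ U ∈ 𝒰, x ∈ U) (h : ∀ U ∈ 𝒰, Gen j U) {V : X.Opens} (hV : IsAffineOpen V) :
    Gen j V := by
  refine gen_of_span j hV {f | Gen j (X.basicOpen f)} ?_ (fun r hr => hr)
  rw [← IsAffineOpen.self_le_iSup_basicOpen_iff hV]
  intro x hx
  obtain ⟨U, hU𝒰, hxU⟩ := hcov x
  obtain ⟨f, g, hfg, hxf⟩ := exists_basicOpen_le_affine_inter hV (h𝒰 U hU𝒰) x ⟨hx, hxU⟩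
  have hf : Gen j (X.basicOpen f) := by
    rw [hfg]
    exact gen_basicOpen j (h𝒰 U hU𝒰) g (h U hU𝒰)
  exact Opens.mem_iSup.2 ⟨⟨f, hf⟩, hxf⟩

theorem gen_mono {E' : X.Modules} (j' : E' ⟶ B.toModule) (U : X.Opens)
    (hle : Set.range (jB j U) ⊆ Set.range (jB j' U)) (h : Gen j U) : Gen j' U := by
  rw [Gen, eq_top_iff, ← h]
  refine Subring.closure_mono ?_
  exact Set.union_subset_union_right _ hle

end gen


section sub
open Groth.Agent.Lib.Helper17.CohKer Groth.Agent.Lib.Helper17.FinTypeConv Groth.Agent.Lib.Helper28.FinType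
open Groth.Agent.Lib.Helper17.Serre

theorem isFiniteType_freeMod (Y : Scheme.{u}) (J : Type u) [Finite J] :
    SheafOfModules.IsFiniteType.{u} (R := Y.ringCatSheaf) (freeMod Y J) := by
  haveI : (SheafOfModules.free.generatingSections (R := Y.ringCatSheaf) J).IsFiniteType :=
    ⟨inferInstanceAs (Finite J)⟩
  let q : SheafOfModules.LocalGeneratorsData.{u} (freeMod Y J) :=
    (SheafOfModules.free.generatingSections (R := Y.ringCatSheaf) J).localGeneratorsData
  have hq : q.IsFiniteType := by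
    refine @SheafOfModules.LocalGeneratorsData.IsFiniteType.mk _ _ _ _ _ _ _ q (fun x => ?_)
    exact inferInstanceAs (((SheafOfModules.free.generatingSections (R := Y.ringCatSheaf) J).map
      (SheafOfModules.pushforward (𝟙 (Y.ringCatSheaf.over x))) (Iso.refl _))).IsFiniteType
  constructor
  exact ⟨q, hq⟩

/-- the submodule generated by a finite family of global sections -/
theorem exists_sub_of_family {Y : Scheme.{u}} (A : Y.Modules) [A.IsQuasicoherent] (J : Type u) [Finite J]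
    (n : J → Γ(A, ⊤)) :
    ∃ (G : Y.Modules) (i : G ⟶ A), Mono i ∧ G.IsQuasicoherent ∧
      SheafOfModules.IsFiniteType.{u} (R := Y.ringCatSheaf) G ∧ ∀ k : J, ∃ g : Γ(G, ⊤), i.app ⊤ g = n k := by
  let n' : J → A.val.obj (op ⊤) := n
  haveI := isFiniteType_freeMod Y J
  haveI : (cokernel (fam A n')).IsQuasicoherent := isQuasicoherent_cokernel (fam A n')
  refine ⟨Abelian.image (fam A n'), Abelian.image.ι (fam A n'), inferInstance,
    isQuasicoherent_kernel _, isFiniteType_of_epi (Abelian.factorThruImage (fam A n')), ?_⟩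
  intro k
  obtain ⟨e, he⟩ := exists_fromFreeFamily_app_eq A n' ⊤ k
  refine ⟨(Abelian.factorThruImage (fam A n')).app ⊤ e, ?_⟩
  have h2 : (Abelian.image.ι (fam A n')).app ⊤ ((Abelian.factorThruImage (fam A n')).app ⊤ e) =
      (fam A n').app ⊤ e := by
    have := congrArg (fun ψ : (freeMod Y J ⟶ A) => ψ.app ⊤ e) (Abelian.image.fac (fam A n'))
    exact this
  rw [h2, he]
  exact res_self A (n k)

/-- on a qcqs scheme: a quasi-coherent submodule of finite type through a finite family of sections over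
an affine open. -/
theorem exists_sub_through [CompactSpace X] [QuasiSeparatedSpace X] (F : X.Modules) [F.IsQuasicoherent]
    {U : X.Opens} (hU : IsAffineOpen U) (J : Type u) [Finite J] (n : J → Γ(F, U)) :
    ∃ (G' : X.Modules) (i' : G' ⟶ F), Mono i' ∧ G'.IsQuasicoherent ∧
      SheafOfModules.IsFiniteType.{u} (R := X.ringCatSheaf) G' ∧
      ∀ k : J, ∃ g : Γ(G', U), i'.app U g = n k := by
  have e0 : U.ι ''ᵁ ⊤ = U := by
    rw [Scheme.Hom.image_top_eq_opensRange, Scheme.Opens.opensRange_ι]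
  haveI : (F.restrict U.ι).IsQuasicoherent := inferInstance
  let n' : J → Γ(F.restrict U.ι, ⊤) := fun k => res F e0.le (n k)
  obtain ⟨G, i, hi, hGq, hGft, hg⟩ := exists_sub_of_family (F.restrict U.ι) J n'
  haveI := hi
  haveI := hGq
  haveI := hGft
  obtain ⟨G', i', e, hm, hq, hft, he⟩ := exists_extension_qcqs U hU.isCompact F G i
  refine ⟨G', i', hm, hq, hft, ?_⟩
  intro k
  obtain ⟨g₀, hg₀⟩ := hg k
  let g₁ : Γ(G', U.ι ''ᵁ ⊤) := e.inv.app ⊤ g₀
  have h1 : i'.app (U.ι ''ᵁ ⊤) g₁ = res F e0.le (n k) := by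
    have h2 : ((Scheme.Modules.restrictFunctor U.ι).map i').app ⊤ (e.inv.app ⊤ g₀) =
        (e.hom ≫ i).app ⊤ (e.inv.app ⊤ g₀) := by rw [he]
    have h3 : (e.hom ≫ i).app ⊤ (e.inv.app ⊤ g₀) = i.app ⊤ g₀ := by
      have := congrArg (fun ψ : (G ⟶ F.restrict U.ι) => ψ.app ⊤ g₀) (e.inv_hom_id_assoc i)
      exact this
    exact h2.trans (h3.trans hg₀)
  refine ⟨res G' e0.ge g₁, ?_⟩
  rw [app_res, h1, res_res]
  exact res_self F (n k)

/-- the map on sections over `U`, as a linear map -/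
noncomputable def appL {M N : X.Modules} (φ : M ⟶ N) (U : X.Opens) : Γ(M, U) →ₗ[Γ(X, U)] Γ(N, U) where
  toFun := φ.app U
  map_add' := map_add _
  map_smul' := Scheme.Modules.Hom.app_smul φ

theorem finite_biprod (A C : X.Modules) (U : X.Opens) [Module.Finite Γ(X, U) Γ(A, U)]
    [Module.Finite Γ(X, U) Γ(C, U)] : Module.Finite Γ(X, U) Γ(A ⊞ C, U) := by
  let φ : Γ(A, U) × Γ(C, U) →ₗ[Γ(X, U)] Γ(A ⊞ C, U) :=
    LinearMap.coprod (appL (biprod.inl : A ⟶ A ⊞ C) U) (appL (biprod.inr : C ⟶ A ⊞ C) U)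
  refine Module.Finite.of_surjective φ ?_
  intro t
  refine ⟨((biprod.fst : A ⊞ C ⟶ A).app U t, (biprod.snd : A ⊞ C ⟶ C).app U t), ?_⟩
  exact (biprod_total_app A C U t).symm

theorem isFiniteType_biprod (A C : X.Modules) [A.IsQuasicoherent] [C.IsQuasicoherent]
    [SheafOfModules.IsFiniteType.{u} (R := X.ringCatSheaf) A]
    [SheafOfModules.IsFiniteType.{u} (R := X.ringCatSheaf) C] :
    SheafOfModules.IsFiniteType.{u} (R := X.ringCatSheaf) (A ⊞ C) := by
  refine isFiniteType_of_forall_finite_sections (A ⊞ C) fun U => ?_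
  haveI := finite_of_isAffineOpen A U.2
  haveI := finite_of_isAffineOpen C U.2
  exact finite_biprod A C U.1

/-- the sum of two quasi-coherent submodules of finite type. -/
theorem exists_sum (F : X.Modules) [F.IsQuasicoherent] {E₁ E₂ : X.Modules} (j₁ : E₁ ⟶ F) (j₂ : E₂ ⟶ F)
    [E₁.IsQuasicoherent] [E₂.IsQuasicoherent]
    [SheafOfModules.IsFiniteType.{u} (R := X.ringCatSheaf) E₁]
    [SheafOfModules.IsFiniteType.{u} (R := X.ringCatSheaf) E₂] :
    ∃ (E : X.Modules) (j : E ⟶ F), Mono j ∧ E.IsQuasicoherent ∧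
      SheafOfModules.IsFiniteType.{u} (R := X.ringCatSheaf) E ∧
      (∀ (V : X.Opens) (e : Γ(E₁, V)), ∃ e' : Γ(E, V), j.app V e' = j₁.app V e) ∧
      (∀ (V : X.Opens) (e : Γ(E₂, V)), ∃ e' : Γ(E, V), j.app V e' = j₂.app V e) := by
  let f : E₁ ⊞ E₂ ⟶ F := biprod.desc j₁ j₂
  have hft : SheafOfModules.IsFiniteType.{u} (R := X.ringCatSheaf) (E₁ ⊞ E₂) := isFiniteType_biprod E₁ E₂
  haveI : (cokernel f).IsQuasicoherent := isQuasicoherent_cokernel f
  have hfac : ∀ (V : X.Opens) (t : Γ(E₁ ⊞ E₂, V)),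
      (Abelian.image.ι f).app V ((Abelian.factorThruImage f).app V t) = f.app V t := fun V t =>
    congrArg (fun ψ : (E₁ ⊞ E₂ ⟶ F) => ψ.app V t) (Abelian.image.fac f)
  refine ⟨Abelian.image f, Abelian.image.ι f, inferInstance, isQuasicoherent_kernel _,
    @isFiniteType_of_epi _ _ _ (Abelian.factorThruImage f) _ hft, ?_, ?_⟩
  · intro V e
    refine ⟨(Abelian.factorThruImage f).app V ((biprod.inl : E₁ ⟶ E₁ ⊞ E₂).app V e), ?_⟩
    rw [hfac]
    exact congrArg (fun ψ : (E₁ ⟶ F) => ψ.app V e) (biprod.inl_desc j₁ j₂)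
  · intro V e
    refine ⟨(Abelian.factorThruImage f).app V ((biprod.inr : E₂ ⟶ E₁ ⊞ E₂).app V e), ?_⟩
    rw [hfac]
    exact congrArg (fun ψ : (E₂ ⟶ F) => ψ.app V e) (biprod.inr_desc j₁ j₂)

end sub


section main

theorem closure_eq_top_of_finiteType (U : X.Opens) (h : (B.str.app (op U)).hom.FiniteType) :
    ∃ s : Finset (B.presheaf.obj (op U)),
      Subring.closure (Set.range (strB B U) ∪ (s : Set (B.presheaf.obj (op U)))) = ⊤ := by
  letI := (B.str.app (op U)).hom.toAlgebra
  obtain ⟨s, hs⟩ := (h : Algebra.FiniteType Γ(X, U) (B.presheaf.obj (op U))).out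
  refine ⟨s, ?_⟩
  have h1 := Algebra.adjoin_eq_ring_closure (R := Γ(X, U)) (s : Set (B.presheaf.obj (op U)))
  rw [hs] at h1
  exact h1.symm.trans Algebra.top_toSubring

/-- **A quasi-coherent algebra of finite type on a qcqs scheme is generated by a quasi-coherent
submodule of finite type.** -/
theorem exists_gen [CompactSpace X] [QuasiSeparatedSpace X]
    (hB : ∀ U : X.affineOpens, (B.str.app (op (U : X.Opens))).hom.FiniteType) :
    ∃ (E : X.Modules) (j : E ⟶ B.toModule), Mono j ∧ E.IsQuasicoherent ∧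
      SheafOfModules.IsFiniteType.{u} (R := X.ringCatSheaf) E ∧ ∀ U : X.affineOpens, Gen j U.1 := by
  obtain ⟨s, hs, e⟩ := (isCompact_iff_finite_and_eq_biUnion_affineOpens (U := (⊤ : X.Opens))).1
    isCompact_univ
  have key : ∀ t : Finset X.affineOpens, ∃ (E : X.Modules) (j : E ⟶ B.toModule), Mono j ∧
      E.IsQuasicoherent ∧ SheafOfModules.IsFiniteType.{u} (R := X.ringCatSheaf) E ∧
      ∀ U ∈ t, Gen j U.1 := by
    intro t
    classical
    induction t using Finset.induction_on with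
    | empty =>
      obtain ⟨G, i, hi, hq, hft, -⟩ := exists_sub_of_family B.toModule PEmpty.{u+1} (fun k => k.elim)
      exact ⟨G, i, hi, hq, hft, fun U hU => absurd hU (Finset.notMem_empty _)⟩
    | insert U t hUt ih =>
      obtain ⟨E₁, j₁, hm₁, hq₁, hft₁, hg₁⟩ := ih
      obtain ⟨σ, hσ⟩ := closure_eq_top_of_finiteType B U.1 (hB U)
      obtain ⟨E₂, j₂, hm₂, hq₂, hft₂, hg₂⟩ := exists_sub_through B.toModule U.2 (↥σ)
        (fun k => (show Γ(B.toModule, U.1) from k.1))
      haveI := hq₁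
      haveI := hq₂
      haveI := hft₁
      haveI := hft₂
      obtain ⟨E, j, hm, hq, hft, h1, h2⟩ := exists_sum B.toModule j₁ j₂
      refine ⟨E, j, hm, hq, hft, ?_⟩
      intro V hV
      rcases Finset.mem_insert.1 hV with rfl | hV
      · rw [Gen, eq_top_iff, ← hσ]
        refine Subring.closure_mono (Set.union_subset_union_right _ ?_)
        intro x hx
        obtain ⟨g, hg⟩ := hg₂ ⟨x, hx⟩
        obtain ⟨e', he'⟩ := h2 V.1 g
        exact ⟨e', he'.trans hg⟩
      · refine gen_mono j₁ j V.1 ?_ (hg₁ V hV)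
        rintro _ ⟨e, rfl⟩
        obtain ⟨e', he'⟩ := h1 V.1 e
        exact ⟨e', he'⟩
  obtain ⟨E, j, hm, hq, hft, hg⟩ := key hs.toFinset
  haveI := hq
  refine ⟨E, j, hm, hq, hft, fun V => ?_⟩
  refine gen_of_cover j {U | ∃ W ∈ s, U = W.1} ?_ ?_ ?_ V.2
  · rintro _ ⟨W, -, rfl⟩
    exact W.2
  · intro x
    have hx : x ∈ (⊤ : X.Opens) := trivial
    rw [e] at hx
    obtain ⟨W, hW⟩ := Opens.mem_iSup.1 hx
    obtain ⟨hWs, hxW⟩ := Opens.mem_iSup.1 hW
    exact ⟨W.1, ⟨W, hWs, rfl⟩, hxW⟩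
  · rintro _ ⟨W, hW, rfl⟩
    exact hg W (hs.mem_toFinset.2 hW)

end main

end Groth.Agent.Lib.Helper17.QCAlgGen
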