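import Groth.Agent.Lib.Helper17.InvDescAlg
import Groth.Agent.Lib.Helper17.Frame
import Groth.Agent.Lib.Helper28.GrTwistGenVal
import Groth.Agent.Lib.Helper28.RelTwistVal
import Groth.Agent.Lib.Helper28.ProjUPGeom
import Groth.Agent.S4409
import Mathlib

/-!
# Descent of the triviality of an invertible module along `f` with `f_* O_X = O_Y`
-/

set_option backward.isDefEq.respectTransparency.types false
set_option autoImplicit false
universe u
open CategoryTheory CategoryTheory.Limits AlgebraicGeometry Opposite TopologicalSpace TensorProduct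
noncomputable section

namespace Groth.Agent.Lib.Helper17.InvDesc

open Groth.Agent.Lib.Helper28 Groth.Agent.Lib.Helper28.QCohLoc Groth.Agent.Lib.Helper28.GenLocus
open Groth.Agent.Lib.Helper28.PullbackInv Groth.Agent.Lib.Helper28.GrTwistGenVal Groth.Agent.Lib.Helper28.RelTwistVal
open Groth.Agent.Lib.Helper17.FlatMV Groth.Agent.Lib.Helper17.FlatBC Groth.Agent.Lib.Helper17.PullbackBC
open Groth.Agent.Lib.Helper17.InvDescAlg

variable {X Y X' Y' : Scheme.{u}} (f : X ⟶ Y) (g : Y' ⟶ Y) (g' : X' ⟶ X) (f' : X' ⟶ Y')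
  (h : IsPullback g' f' f g)

include h in
/-- `O_{Y'} → f'_* O_{X'}` is bijective over affine opens lying over affine opens (flat base change of
`O_Y = f_* O_X`) -/
theorem bijective_app_of_flat [QuasiCompact f] [QuasiSeparated f] [Flat g]
    (hf : ∀ V : Y.Opens, Function.Bijective (f.app V)) {W : Y.Opens} (hW : IsAffineOpen W)
    {W' : Y'.Opens} (hW' : IsAffineOpen W') (e : W' ≤ g ⁻¹ᵁ W) : Function.Bijective (f'.app W') := by
  have hVc : IsCompact ((f ⁻¹ᵁ W : X.Opens) : Set X) := QuasiCompact.isCompact_preimage (f := f) _ W.2 hW.isCompact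
  have hqs : IsQuasiSeparated ((f ⁻¹ᵁ W : X.Opens) : Set X) := f.isQuasiSeparated_preimage hW.isQuasiSeparated
  have heq : f' ⁻¹ᵁ W' = g' ⁻¹ᵁ (f ⁻¹ᵁ W) ⊓ f' ⁻¹ᵁ W' := (pr_preimage_eq f g g' f' h e).symm
  haveI hiso := isIso_pushoutSection_of_isQuasiSeparated_of_flat_right h e (le_refl (f ⁻¹ᵁ W)) heq hW hW' hVc hqs
  haveI : IsIso (f.appLE W (f ⁻¹ᵁ W) le_rfl) := by
    rw [← Scheme.Hom.app_eq_appLE]
    exact (ConcreteCategory.isIso_iff_bijective _).2 (hf W)
  have h1 : pushout.inr (f.appLE W (f ⁻¹ᵁ W) le_rfl) (g.appLE W W' e) ≫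
      pushoutSection h e (le_refl (f ⁻¹ᵁ W)) heq = f'.app W' := by
    rw [pushout.inr_desc, Scheme.Hom.app_eq_appLE]
  have h2 : IsIso (f'.app W') := by
    rw [← h1]
    infer_instance
  exact ConcreteCategory.bijective_of_isIso (f'.app W')


section LinComp

variable {A A' : Type u} [CommRing A] [CommRing A'] (φ : A →+* A')
  {N T T₂ : Type u} [AddCommGroup N] [Module A N] [AddCommGroup T] [Module A' T] [AddCommGroup T₂] [Module A' T₂]

theorem linBij_comp {c : N →+ T} (hc : LinBij φ c) (u : T →+ T₂) (hu : ∀ (a' : A') (t : T), u (a' • t) = a' • u t)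
    (hub : Function.Bijective u) : LinBij φ (u.comp c) := by
  letI := φ.toAlgebra
  obtain ⟨hc', hb⟩ := hc
  have hc'' : ∀ (a : A) (n : N), (u.comp c) (a • n) = algebraMap A A' a • (u.comp c) n := by
    intro a n
    rw [AddMonoidHom.comp_apply, hc', hu, AddMonoidHom.comp_apply]
  refine ⟨hc'', ?_⟩
  have hfun : ⇑(lin (u.comp c) hc'') = u ∘ lin c hc' := by
    funext z
    induction z using TensorProduct.induction_on with
    | zero => simp
    | add x y hx hy => rw [map_add, hx, hy, Function.comp_apply, Function.comp_apply, Function.comp_apply, map_add,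
        map_add]
    | tmul a' n => rw [Function.comp_apply, lin_tmul, lin_tmul, hu, AddMonoidHom.comp_apply]
  rw [hfun]
  exact hub.comp hb

end LinComp

section Tau

variable [QuasiCompact f] [QuasiSeparated f] [Flat g] (hf : ∀ V : Y.Opens, Function.Bijective (f.app V))
  (L : X.Modules) [L.IsQuasicoherent] (ε : (Scheme.Modules.pullback g').obj L ≅ Coh.structureModule X')
  {W : Y.Opens} (hW : IsAffineOpen W) {W' : Y'.Opens} (hW' : IsAffineOpen W') (e : W' ≤ g ⁻¹ᵁ W)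

/-- the inverse of `f'^♯` over `W'` -/
def fInv : Γ(X', f' ⁻¹ᵁ W') ≃+* Γ(Y', W') :=
  (RingEquiv.ofBijective (f'.app W').hom (bijective_app_of_flat f g g' f' h hf hW hW' e)).symm

theorem fInv_app (a' : Γ(Y', W')) : fInv f g g' f' h hf hW hW' e ((f'.app W').hom a') = a' :=
  (RingEquiv.ofBijective (f'.app W').hom (bijective_app_of_flat f g g' f' h hf hW hW' e)).symm_apply_apply a'

theorem app_fInv (c : Γ(X', f' ⁻¹ᵁ W')) : (f'.app W').hom (fInv f g g' f' h hf hW hW' e c) = c :=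
  (RingEquiv.ofBijective (f'.app W').hom (bijective_app_of_flat f g g' f' h hf hW hW' e)).apply_symm_apply c

/-- the trivialised inverse image of a section of `L` over `f⁻¹ W`, as a function on `f'⁻¹ W'` -/
def sigma (n : Γ(L, f ⁻¹ᵁ W)) : Γ(X', f' ⁻¹ᵁ W') :=
  ε.hom.app (f' ⁻¹ᵁ W') (res _ (le_preimage' f g g' f' h e) (pbs g' L (f ⁻¹ᵁ W) n))

/-- the semilinear map `L(f⁻¹W) → Γ(Y', W')` -/
def tau : SecOver f W L (f ⁻¹ᵁ W) le_rfl →+ Γ(Y', W') :=
  AddMonoidHom.mk' (fun n => fInv f g g' f' h hf hW hW' e (sigma f g g' f' h L ε e n)) (fun a b => by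
    unfold sigma
    have h1 : pbs g' L (f ⁻¹ᵁ W) ((show Γ(L, f ⁻¹ᵁ W) from a) + (show Γ(L, f ⁻¹ᵁ W) from b)) =
        pbs g' L (f ⁻¹ᵁ W) a + pbs g' L (f ⁻¹ᵁ W) b := pbs_add g' L _ _ _
    change fInv f g g' f' h hf hW hW' e (ε.hom.app (f' ⁻¹ᵁ W') (res _ (le_preimage' f g g' f' h e)
      (pbs g' L (f ⁻¹ᵁ W) ((show Γ(L, f ⁻¹ᵁ W) from a) + (show Γ(L, f ⁻¹ᵁ W) from b))))) = _
    rw [h1, res_add, map_add]
    exact map_add (fInv f g g' f' h hf hW hW' e) _ _)

theorem tau_apply (n : SecOver f W L (f ⁻¹ᵁ W) le_rfl) :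
    tau f g g' f' h hf L ε hW hW' e n = fInv f g g' f' h hf hW hW' e (sigma f g g' f' h L ε e n) := rfl

theorem app_tau (n : SecOver f W L (f ⁻¹ᵁ W) le_rfl) :
    (f'.app W').hom (tau f g g' f' h hf L ε hW hW' e n) = sigma f g g' f' h L ε e n := by
  rw [tau_apply, app_fInv]

include h in
theorem linBij_tau : LinBij (g.appLE W W' e).hom (tau f g g' f' h hf L ε hW hW' e) := by
  have hflat : (g.appLE W W' e).hom.Flat := Flat.flat_appLE g hW hW' e
  have hVc : IsCompact ((f ⁻¹ᵁ W : X.Opens) : Set X) := QuasiCompact.isCompact_preimage (f := f) _ W.2 hW.isCompact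
  have h₂ := linBij_of_isCompact f g g' f' h e L hW hW' hflat (f ⁻¹ᵁ W) hVc le_rfl
  have heq := pr_preimage_eq f g g' f' h e
  let M' := (Scheme.Modules.pullback g').obj L
  let u : SecOver f' W' M' (pr g' f' W' (f ⁻¹ᵁ W)) (pr_le_right g' f' _) →+ Γ(Y', W') :=
    AddMonoidHom.mk' (fun t => fInv f g g' f' h hf hW hW' e (ε.hom.app (f' ⁻¹ᵁ W') (res M' heq.ge t)))
      (fun a b => by
        change fInv f g g' f' h hf hW hW' e (ε.hom.app (f' ⁻¹ᵁ W')
          (res M' heq.ge ((show Γ(M', pr g' f' W' (f ⁻¹ᵁ W)) from a) + (show Γ(M', pr g' f' W' (f ⁻¹ᵁ W)) from b)))) = _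
        rw [res_add, map_add]
        exact map_add (fInv f g g' f' h hf hW hW' e) _ _)
  have hcomp : tau f g g' f' h hf L ε hW hW' e = u.comp (cU f g' f' (W' := W') L (f ⁻¹ᵁ W) le_rfl) := by
    ext n
    show fInv f g g' f' h hf hW hW' e (ε.hom.app (f' ⁻¹ᵁ W') (res M' (le_preimage' f g g' f' h e)
      (pbs g' L (f ⁻¹ᵁ W) n))) = fInv f g g' f' h hf hW hW' e (ε.hom.app (f' ⁻¹ᵁ W') (res M' heq.ge
      (res M' (pr_le_left g' f' _) (pbs g' L (f ⁻¹ᵁ W) n))))
    rw [res_res]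
  rw [hcomp]
  refine linBij_comp _ h₂ u ?_ ?_
  · intro a' t
    show fInv f g g' f' h hf hW hW' e (ε.hom.app (f' ⁻¹ᵁ W') (res M' heq.ge
      (((f'.appLE W' (pr g' f' W' (f ⁻¹ᵁ W)) (pr_le_right g' f' _)).hom a' •
        (show Γ(M', pr g' f' W' (f ⁻¹ᵁ W)) from t) : Γ(M', pr g' f' W' (f ⁻¹ᵁ W)))))) =
      a' * fInv f g g' f' h hf hW hW' e (ε.hom.app (f' ⁻¹ᵁ W') (res M' heq.ge t))
    rw [res_smul, Scheme.Modules.Hom.app_smul]
    have h1 : resO heq.ge ((f'.appLE W' (pr g' f' W' (f ⁻¹ᵁ W)) (pr_le_right g' f' _)).hom a') =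
        (f'.app W').hom a' := by
      have := Scheme.Hom.appLE_map f' (pr_le_right g' f' (f ⁻¹ᵁ W) : pr g' f' W' (f ⁻¹ᵁ W) ≤ f' ⁻¹ᵁ W')
        (homOfLE heq.ge).op
      have h2 := congrArg (fun ψ => ψ.hom a') this
      refine h2.trans ?_
      rw [Scheme.Hom.app_eq_appLE]
    rw [h1]
    show fInv f g g' f' h hf hW hW' e ((f'.app W').hom a' * _) = _
    rw [map_mul, fInv_app]
  · have hb1 : Function.Bijective (fun t : SecOver f' W' M' (pr g' f' W' (f ⁻¹ᵁ W)) (pr_le_right g' f' _) =>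
        res M' heq.ge t) := by
      refine ⟨fun a b hab => ?_, fun t => ⟨res M' heq.le t, ?_⟩⟩
      · have := congrArg (res M' heq.le) hab
        change res M' heq.le (res M' heq.ge a) = res M' heq.le (res M' heq.ge b) at this
        rw [res_res, res_res, res_self, res_self] at this
        exact this
      · change res M' heq.ge (res M' heq.le t) = t
        rw [res_res, res_self]
    have hb2 : Function.Bijective (ε.hom.app (f' ⁻¹ᵁ W')) := app_bijective_of_isIso ε.hom _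
    have hb3 : Function.Bijective (fInv f g g' f' h hf hW hW' e) := (fInv f g g' f' h hf hW hW' e).bijective
    exact hb3.comp (hb2.comp hb1)

end Tau


section Local

variable [QuasiCompact f] [QuasiSeparated f] [Flat g] [Surjective g] [QuasiCompact g]
  (hf : ∀ V : Y.Opens, Function.Bijective (f.app V))
  (L : X.Modules) [L.IsQuasicoherent] (ε : (Scheme.Modules.pullback g').obj L ≅ Coh.structureModule X')

/-- the trivialised inverse image of a section of `L` over `f⁻¹ D` -/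
def usec (D : Y.Opens) (x : Γ(L, f ⁻¹ᵁ D)) : Γ(X', g' ⁻¹ᵁ (f ⁻¹ᵁ D)) :=
  ε.hom.app (g' ⁻¹ᵁ (f ⁻¹ᵁ D)) (pbs g' L (f ⁻¹ᵁ D) x)

theorem usec_res {D D' : Y.Opens} (hD : D' ≤ D) (x : Γ(L, f ⁻¹ᵁ D)) :
    usec f g' L ε D' (res L (f.preimage_mono hD) x) =
      resO (g'.preimage_mono (f.preimage_mono hD)) (usec f g' L ε D x) := by
  unfold usec
  rw [pbs_res]
  exact app_res ε.hom (g'.preimage_mono (f.preimage_mono hD)) _

include h in
theorem resO_usec_eq_sigma {W : Y.Opens} {W' : Y'.Opens} (e : W' ≤ g ⁻¹ᵁ W) (x : Γ(L, f ⁻¹ᵁ W)) (O' : X'.Opens)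
    (h1 : O' ≤ g' ⁻¹ᵁ (f ⁻¹ᵁ W)) (h2 : O' ≤ f' ⁻¹ᵁ W') :
    resO h1 (usec f g' L ε W x) = resO h2 (sigma f g g' f' h L ε e x) := by
  unfold usec sigma
  have e1 := app_res ε.hom h1 (pbs g' L (f ⁻¹ᵁ W) x)
  have e2 := app_res ε.hom h2 (res _ (le_preimage' f g g' f' h e) (pbs g' L (f ⁻¹ᵁ W) x))
  rw [res_res] at e2
  exact e1.symm.trans e2

include h hf in
/-- **local generators**: every point of `Y` has an open neighbourhood `D` with a section of `L` over `f⁻¹ D` whose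
trivialised inverse image is a unit -/
theorem exists_isUnit_usec (y : Y) : ∃ (D : Y.Opens) (x : Γ(L, f ⁻¹ᵁ D)), y ∈ D ∧ IsUnit (usec f g' L ε D x) := by
  obtain ⟨W, hW, hyW, -⟩ := Opens.isBasis_iff_nbhd.mp Y.isBasis_affineOpens (show y ∈ (⊤ : Y.Opens) from trivial)
  have hc : IsCompact ((g ⁻¹ᵁ W : Y'.Opens) : Set Y') :=
    QuasiCompact.isCompact_preimage (f := g) _ W.2 hW.isCompact
  obtain ⟨I, hI, hIeq⟩ := isCompact_iff_finite_and_eq_biUnion_affineOpens.mp hc
  haveI : Fintype I := hI.fintype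
  have hle : ∀ i : I, (i.1 : Y'.Opens) ≤ g ⁻¹ᵁ W := fun i => by
    rw [hIeq]
    exact le_iSup₂ (f := fun (j : Y'.affineOpens) (_ : j ∈ I) => (j : Y'.Opens)) i.1 i.2
  have hcov : ∀ z' : Y', z' ∈ g ⁻¹ᵁ W → ∃ i : I, z' ∈ (i.1 : Y'.Opens) := by
    intro z' hz'
    rw [hIeq] at hz'
    obtain ⟨j, hj⟩ := Opens.mem_iSup.1 hz'
    obtain ⟨hjI, hz'j⟩ := Opens.mem_iSup.1 hj
    exact ⟨⟨j, hjI⟩, hz'j⟩
  obtain ⟨y', rfl⟩ := g.surjective y
  obtain ⟨i₀, hy'i⟩ := hcov y' hyW
  let q := RingHom.ker (Y'.evaluation i₀.1.1 y' hy'i).hom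
  haveI : q.IsPrime := RingHom.ker_isPrime _
  obtain ⟨x, a, haq, hdvd⟩ := exists_dvd (P := SecOver f W L (f ⁻¹ᵁ W) le_rfl) (fun i : I => Γ(Y', i.1.1))
    (fun i => (g.appLE W i.1.1 (hle i)).hom)
    (fun i => tau f g g' f' h hf L ε hW i.1.2 (hle i))
    (fun i => linBij_tau f g g' f' h hf L ε hW i.1.2 (hle i)) i₀ (Flat.flat_appLE g hW i₀.1.2 _) q
  have hDW : Y.basicOpen a ≤ W := Y.basicOpen_le a
  refine ⟨Y.basicOpen a, res L (f.preimage_mono hDW) x, ?_, ?_⟩
  · -- the point lies in `D`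
    have h1 : (Y'.evaluation i₀.1.1 y' hy'i).hom ((g.appLE W i₀.1.1 (hle i₀)).hom a) ≠ 0 := fun h0 =>
      haq ((RingHom.mem_ker).2 h0)
    have h2 := (Scheme.evaluation_ne_zero_iff_mem_basicOpen Y' y' hy'i _).1 h1
    rw [Scheme.basicOpen_appLE] at h2
    exact h2.2
  · -- the unit
    rw [usec_res f g' L ε hDW]
    have hOW : g' ⁻¹ᵁ (f ⁻¹ᵁ (Y.basicOpen a)) ≤ g' ⁻¹ᵁ (f ⁻¹ᵁ W) := g'.preimage_mono (f.preimage_mono hDW)
    refine isUnit_resO_of_le_basicOpen (usec f g' L ε W x) ?_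
    intro x'₀ hx'₀
    have hfx : f' x'₀ ∈ g ⁻¹ᵁ W := by
      have h1 : g (f' x'₀) = f (g' x'₀) := by
        have := congrArg (fun k => k.base x'₀) h.w
        exact this.symm
      show g (f' x'₀) ∈ W
      rw [h1]
      exact hDW hx'₀
    obtain ⟨i, hi⟩ := hcov _ hfx
    let O' : X'.Opens := f' ⁻¹ᵁ (i.1 : Y'.Opens) ⊓ g' ⁻¹ᵁ (f ⁻¹ᵁ (Y.basicOpen a))
    have hx'O' : x'₀ ∈ O' := ⟨hi, hx'₀⟩
    have hO'1 : O' ≤ g' ⁻¹ᵁ (f ⁻¹ᵁ W) := inf_le_right.trans hOW
    have hO'2 : O' ≤ f' ⁻¹ᵁ (i.1 : Y'.Opens) := inf_le_left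
    refine le_basicOpen_of_isUnit_resO (usec f g' L ε W x) hO'1 ?_ hx'O'
    rw [resO_usec_eq_sigma f g g' f' h L ε (hle i) x O' hO'1 hO'2]
    obtain ⟨b, hb⟩ := hdvd i
    have h3 : (f'.app (i.1 : Y'.Opens)).hom ((g.appLE W i.1.1 (hle i)).hom a) =
        sigma f g g' f' h L ε (hle i) x * (f'.app (i.1 : Y'.Opens)).hom b := by
      rw [hb, map_mul, app_tau]
    have h4 : (f'.app (i.1 : Y'.Opens)).hom ((g.appLE W i.1.1 (hle i)).hom a) =
        (g'.appLE (f ⁻¹ᵁ W) (f' ⁻¹ᵁ (i.1 : Y'.Opens)) (le_preimage' f g g' f' h (hle i))).hom ((f.app W).hom a) := by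
      have := appLE_comm f g g' f' h (hle i) (f ⁻¹ᵁ W) le_rfl (f' ⁻¹ᵁ (i.1 : Y'.Opens)) le_rfl
        (le_preimage' f g g' f' h (hle i))
      rw [← Scheme.Hom.app_eq_appLE, ← Scheme.Hom.app_eq_appLE] at this
      exact (congrArg (fun ψ => ψ.hom a) this).symm
    have h5 : O' ≤ X'.basicOpen ((g'.appLE (f ⁻¹ᵁ W) (f' ⁻¹ᵁ (i.1 : Y'.Opens))
        (le_preimage' f g g' f' h (hle i))).hom ((f.app W).hom a)) := by
      rw [Scheme.basicOpen_appLE, ← Scheme.preimage_basicOpen]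
    have h6 := isUnit_resO_of_le_basicOpen _ h5
    have h7 : resO (h5.trans (X'.basicOpen_le _)) ((g'.appLE (f ⁻¹ᵁ W) (f' ⁻¹ᵁ (i.1 : Y'.Opens))
        (le_preimage' f g g' f' h (hle i))).hom ((f.app W).hom a)) =
        resO hO'2 (sigma f g g' f' h L ε (hle i) x) * resO hO'2 ((f'.app (i.1 : Y'.Opens)).hom b) := by
      have h8 : ∀ (c d : Γ(X', f' ⁻¹ᵁ (i.1 : Y'.Opens))) (k1 k2 : O' ≤ f' ⁻¹ᵁ (i.1 : Y'.Opens)), c = d →
          resO k1 c = resO k2 d := by
        intro c d k1 k2 hcd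
        subst hcd
        rfl
      exact (h8 _ _ _ hO'2 (h4.symm.trans h3)).trans (map_mul _ _ _)
    rw [h7] at h6
    exact isUnit_of_mul_isUnit_left h6

end Local


section Gen

variable [Surjective g'] (L : X.Modules) (hL : PicF.IsInvertible L)
  (ε : (Scheme.Modules.pullback g').obj L ≅ Coh.structureModule X')

omit h in
theorem resO_refl {Z : Scheme.{u}} {U : Z.Opens} (c : Γ(Z, U)) : resO (le_refl U) c = c := by
  unfold resO
  have : (homOfLE (le_refl U)).op = 𝟙 (op U) := rfl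
  rw [this, Z.presheaf.map_id]
  rfl

include hL in
/-- a section whose trivialised inverse image is a unit is a generator -/
theorem isGen_of_isUnit_usec (D : Y.Opens) (x : Γ(L, f ⁻¹ᵁ D)) (hu : IsUnit (usec f g' L ε D x)) :
    IsGen L (f ⁻¹ᵁ D) x := by
  refine isGen_of_bijective_on_basis L (f ⁻¹ᵁ D) x (fun Q => ∃ l : Γ(L, Q), IsGen L Q l) ?_ ?_
  · intro V p hpV _
    obtain ⟨U, gU, hpU, hgU⟩ := exists_isGen L hL p
    exact ⟨U ⊓ V, ⟨res L inf_le_left gU, hgU.res inf_le_left⟩, ⟨hpU, hpV⟩, inf_le_right⟩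
  · rintro Q hQ ⟨l, hl⟩
    set r := hl.coef le_rfl (res L hQ x) with hr
    have hrl : (r • l : Γ(L, Q)) = res L hQ x := by
      have := hl.coef_smul le_rfl (res L hQ x)
      rw [res_self] at this
      exact this
    -- `r` is a unit
    have hunit : IsUnit r := by
      have hsuff : Q ≤ X.basicOpen r := by
        intro p hp
        obtain ⟨p', rfl⟩ := g'.surjective p
        have h1 : IsUnit (g'.app Q r) := by
          have e1 : pbs g' L Q (res L hQ x) = ((g'.app Q).hom r • pbs g' L Q l :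
              Γ((Scheme.Modules.pullback g').obj L, g' ⁻¹ᵁ Q)) := by
            rw [← hrl, pbs_smul]
          have e2 := congrArg (ε.hom.app (g' ⁻¹ᵁ Q)) e1
          rw [Scheme.Modules.Hom.app_smul, pbs_res, app_res] at e2
          have e3 : resO (g'.preimage_mono hQ) (usec f g' L ε D x) =
              (g'.app Q).hom r * (show Γ(X', g' ⁻¹ᵁ Q) from ε.hom.app (g' ⁻¹ᵁ Q) (pbs g' L Q l)) := e2
          have e4 : IsUnit (resO (g'.preimage_mono hQ) (usec f g' L ε D x)) := hu.map _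
          rw [e3] at e4
          exact isUnit_of_mul_isUnit_left e4
        have h2 : g' ⁻¹ᵁ Q ≤ X'.basicOpen ((g'.app Q).hom r) := by
          refine le_basicOpen_of_isUnit_resO _ le_rfl ?_
          rw [resO_refl]
          exact h1
        have h3 := h2 hp
        rw [← Scheme.preimage_basicOpen] at h3
        exact h3
      have := isUnit_resO_of_le_basicOpen r hsuff
      rw [resO_refl] at this
      exact this
    have hfun : (fun c : Γ(X, Q) => (c • res L hQ x : Γ(L, Q))) =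
        (fun c : Γ(X, Q) => (c • res L le_rfl l : Γ(L, Q))) ∘ (fun c : Γ(X, Q) => c * r) := by
      funext c
      rw [Function.comp_apply, res_self, ← hrl, mul_smul]
    rw [hfun]
    refine (hl Q le_rfl).comp ?_
    obtain ⟨ru, hru⟩ := hunit
    rw [← hru]
    exact (Units.mulRight_bijective ru)

end Gen


section Push

variable (L : X.Modules)

omit h in
/-- a generator of `L` over `f⁻¹ D` is a generator of `f_* L` over `D`, if `O_Y = f_* O_X` -/
theorem isGen_pushforward (hf : ∀ V : Y.Opens, Function.Bijective (f.app V)) (D : Y.Opens) (x : Γ(L, f ⁻¹ᵁ D))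
    (hx : IsGen L (f ⁻¹ᵁ D) x) :
    IsGen ((Scheme.Modules.pushforward f).obj L) D (show Γ((Scheme.Modules.pushforward f).obj L, D) from x) := by
  intro W hW
  have hfun : (fun c : Γ(Y, W) => (c • res ((Scheme.Modules.pushforward f).obj L) hW
      (show Γ((Scheme.Modules.pushforward f).obj L, D) from x) : Γ((Scheme.Modules.pushforward f).obj L, W))) =
      (fun c' : Γ(X, f ⁻¹ᵁ W) => (c' • res L (f.preimage_mono hW) x : Γ(L, f ⁻¹ᵁ W))) ∘ (f.app W).hom := by
    funext c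
    rfl
  rw [hfun]
  exact (hx (f ⁻¹ᵁ W) (f.preimage_mono hW)).comp (hf W)

omit h in
/-- the counit is bijective over the opens where `L` and `f_* L` have a common generator -/
theorem counit_bijective (D : Y.Opens) (x : Γ(L, f ⁻¹ᵁ D)) (hx : IsGen L (f ⁻¹ᵁ D) x)
    (hx' : IsGen ((Scheme.Modules.pushforward f).obj L) D (show Γ((Scheme.Modules.pushforward f).obj L, D) from x))
    (Q : X.Opens) (hQ : Q ≤ f ⁻¹ᵁ D) :
    Function.Bijective (((Scheme.Modules.pullbackPushforwardAdjunction f).counit.app L).app Q) := by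
  let cu : (Scheme.Modules.pullback f).obj ((Scheme.Modules.pushforward f).obj L) ⟶ L :=
    (Scheme.Modules.pullbackPushforwardAdjunction f).counit.app L
  show Function.Bijective (cu.app Q)
  have h1 := isGen_pbs (f := f) hx' Q hQ
  have h2 := hx Q hQ
  have e0 : cu.app (f ⁻¹ᵁ D) (pbs f ((Scheme.Modules.pushforward f).obj L) D x) = x :=
    Groth.Agent.S4409.counit_pbs f L D x
  have e1 : cu.app Q (res _ hQ (pbs f ((Scheme.Modules.pushforward f).obj L) D x)) = res L hQ x := by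
    rw [app_res cu hQ, e0]
  have hfun : (fun c : Γ(X, Q) => (c • res L hQ x : Γ(L, Q))) = (cu.app Q) ∘
      (fun c : Γ(X, Q) => (c • res _ hQ (pbs f ((Scheme.Modules.pushforward f).obj L) D x) :
        Γ((Scheme.Modules.pullback f).obj ((Scheme.Modules.pushforward f).obj L), Q))) := by
    funext c
    rw [Function.comp_apply, Scheme.Modules.Hom.app_smul, e1]
  rw [hfun] at h2
  exact (Function.Bijective.of_comp_iff _ h1).1 h2

end Push

section Final

variable [QuasiCompact f] [QuasiSeparated f] [Flat g] [Surjective g] [QuasiCompact g]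
  (hf : ∀ V : Y.Opens, Function.Bijective (f.app V))
  (L : X.Modules) (hL : PicF.IsInvertible L) (ε : (Scheme.Modules.pullback g').obj L ≅ Coh.structureModule X')

include h hf hL in
theorem exists_common_gen (ε : (Scheme.Modules.pullback g').obj L ≅ Coh.structureModule X') (y : Y) :
    ∃ (D : Y.Opens) (x : Γ(L, f ⁻¹ᵁ D)), y ∈ D ∧ IsGen L (f ⁻¹ᵁ D) x ∧
      IsGen ((Scheme.Modules.pushforward f).obj L) D (show Γ((Scheme.Modules.pushforward f).obj L, D) from x) := by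
  haveI : L.IsQuasicoherent := Groth.Agent.Lib.Helper28.InvQC.isQuasicoherent_of_isInvertible L hL
  haveI : Surjective g' := MorphismProperty.of_isPullback (P := @Surjective) h.flip inferInstance
  obtain ⟨D, x, hyD, hu⟩ := exists_isUnit_usec f g g' f' h hf L ε y
  have hx := isGen_of_isUnit_usec f g' L hL ε D x hu
  exact ⟨D, x, hyD, hx, isGen_pushforward f L hf D x hx⟩

include h hf hL in
/-- `f_* L` is invertible -/
theorem isInvertible_pushforward (ε : (Scheme.Modules.pullback g').obj L ≅ Coh.structureModule X') :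
    PicF.IsInvertible ((Scheme.Modules.pushforward f).obj L) := by
  intro y
  obtain ⟨D, x, hyD, -, hx'⟩ := exists_common_gen f g g' f' h hf L hL ε y
  exact ⟨D, hyD, nonempty_restrict_iso_of_isGen _ D _ hx'⟩

include h hf hL in
/-- the counit `f^* f_* L ⟶ L` is an isomorphism -/
theorem isIso_counit (ε : (Scheme.Modules.pullback g').obj L ≅ Coh.structureModule X') :
    IsIso ((Scheme.Modules.pullbackPushforwardAdjunction f).counit.app L) := by
  refine Groth.Agent.Lib.Helper28.TensorIso.isIso_of_bijective_on_basis _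
    (fun Q => ∃ (D : Y.Opens) (x : Γ(L, f ⁻¹ᵁ D)), Q ≤ f ⁻¹ᵁ D ∧ IsGen L (f ⁻¹ᵁ D) x ∧
      IsGen ((Scheme.Modules.pushforward f).obj L) D (show Γ((Scheme.Modules.pushforward f).obj L, D) from x)) ?_ ?_
  · intro U p hpU
    obtain ⟨D, x, hyD, hx, hx'⟩ := exists_common_gen f g g' f' h hf L hL ε (f p)
    exact ⟨U ⊓ f ⁻¹ᵁ D, ⟨D, x, inf_le_right, hx, hx'⟩, ⟨hpU, hyD⟩, inf_le_left⟩
  · rintro Q ⟨D, x, hQ, hx, hx'⟩
    exact counit_bijective f L D x hx hx' Q hQ

end Final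

end Groth.Agent.Lib.Helper17.InvDesc
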