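import Groth.Agent.Lib.Helper17.FlatBC
import Mathlib

/-!
# Algebra for the descent of a local generator along a flat family of algebras
-/

set_option autoImplicit false
universe u
open TensorProduct

namespace Groth.Agent.Lib.Helper17.InvDescAlg

open Groth.Agent.Lib.Helper17.FlatMV Groth.Agent.Lib.Helper17.FlatBC

section Flat

variable {A : Type u} [CommRing A] {P : Type u} [AddCommGroup P] [Module A P]
  {B : Type u} [CommRing B] [Algebra A B]

/-- the ideal `(N : z)` -/
def colonIdeal (N : Submodule A P) (z : P) : Ideal A :=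
  LinearMap.ker (LinearMap.toSpanSingleton A (P ⧸ N) (N.mkQ z))

theorem mem_colonIdeal (N : Submodule A P) (z : P) (s : A) : s ∈ colonIdeal N z ↔ s • z ∈ N := by
  unfold colonIdeal
  rw [LinearMap.mem_ker, LinearMap.toSpanSingleton_apply, ← map_smul, Submodule.mkQ_apply,
    Submodule.Quotient.mk_eq_zero]

/-- **flatness**: if `b ⊗ z` comes from `B ⊗ N`, then `b ∈ (N : z) B` -/
theorem mem_map_colonIdeal [Module.Flat A B] (N : Submodule A P) (z : P) (b : B)
    (h : b ⊗ₜ[A] z ∈ LinearMap.range (N.subtype.lTensor B)) :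
    b ∈ Ideal.map (algebraMap A B) (colonIdeal N z) := by
  set ψ : A →ₗ[A] P ⧸ N := LinearMap.toSpanSingleton A (P ⧸ N) (N.mkQ z) with hψ
  have hex : Function.Exact (LinearMap.ker ψ).subtype ψ := LinearMap.exact_subtype_ker_map ψ
  have hex' := Module.Flat.lTensor_exact B hex
  have h0 : (ψ.lTensor B) (b ⊗ₜ[A] (1 : A)) = 0 := by
    obtain ⟨w, hw⟩ := h
    have h1 : (ψ.lTensor B) (b ⊗ₜ[A] (1 : A)) = (N.mkQ.lTensor B) (b ⊗ₜ[A] z) := by
      rw [LinearMap.lTensor_tmul, LinearMap.lTensor_tmul, hψ, LinearMap.toSpanSingleton_apply, one_smul]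
    rw [h1, ← hw, ← LinearMap.comp_apply, ← LinearMap.lTensor_comp]
    have : N.mkQ.comp N.subtype = 0 := by
      ext n
      simp
    rw [this, LinearMap.lTensor_zero, LinearMap.zero_apply]
  obtain ⟨w', hw'⟩ := (hex' _).1 h0
  -- multiplication map
  have key : ∀ w : B ⊗[A] (LinearMap.ker ψ),
      (TensorProduct.rid A B) (((LinearMap.ker ψ).subtype.lTensor B) w) ∈
        Ideal.map (algebraMap A B) (colonIdeal N z) := by
    intro w
    induction w using TensorProduct.induction_on with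
    | zero => simp
    | add x y hx hy => rw [map_add, map_add]; exact Ideal.add_mem _ hx hy
    | tmul b' s =>
      rw [LinearMap.lTensor_tmul, TensorProduct.rid_tmul, Submodule.subtype_apply, Algebra.smul_def]
      exact Ideal.mul_mem_right _ _ (Ideal.mem_map_of_mem _ s.2)
  have := key w'
  rw [hw', TensorProduct.rid_tmul, one_smul] at this
  exact this

end Flat


section Main

variable {A : Type u} [CommRing A] {P : Type u} [AddCommGroup P] [Module A P]

section One

variable {B : Type u} [CommRing B] (φ : A →+* B) (τ : P →+ B)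

/-- divisibility bookkeeping for an element of `B ⊗ P` -/
theorem exists_finset_dvd (hτ : LinBij φ τ) :
    letI := φ.toAlgebra
    ∀ w : B ⊗[A] P, ∃ S : Finset P, ∀ (a : A) (x : P), (∀ z ∈ S, a • z ∈ Submodule.span A {x}) →
      τ x ∣ φ a * lin τ hτ.1 w := by
  letI := φ.toAlgebra
  obtain ⟨hc, -⟩ := hτ
  intro w
  classical
  induction w using TensorProduct.induction_on with
  | zero => exact ⟨∅, fun a x _ => by rw [map_zero, mul_zero]; exact dvd_zero _⟩
  | add w₁ w₂ h₁ h₂ =>
    obtain ⟨S₁, hS₁⟩ := h₁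
    obtain ⟨S₂, hS₂⟩ := h₂
    refine ⟨S₁ ∪ S₂, fun a x hx => ?_⟩
    rw [map_add, mul_add]
    exact dvd_add (hS₁ a x fun z hz => hx z (Finset.mem_union_left _ hz))
      (hS₂ a x fun z hz => hx z (Finset.mem_union_right _ hz))
  | tmul b z =>
    refine ⟨{z}, fun a x hx => ?_⟩
    obtain ⟨s, hs⟩ := Submodule.mem_span_singleton.1 (hx z (Finset.mem_singleton_self z))
    rw [lin_tmul, smul_eq_mul]
    have h1 : φ a * (b * τ z) = b * τ (a • z) := by
      rw [hc]
      show φ a * (b * τ z) = b * (φ a • τ z)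
      rw [smul_eq_mul]
      ring
    rw [h1, ← hs, hc]
    show τ x ∣ b * (φ s • τ x)
    rw [smul_eq_mul]
    exact Dvd.intro_left (b * φ s) (by ring)

/-- some `τ x` avoids a given prime -/
theorem exists_notMem (hτ : LinBij φ τ) (q : Ideal B) [hq : q.IsPrime] : ∃ x : P, τ x ∉ q := by
  letI := φ.toAlgebra
  obtain ⟨hc, hb⟩ := hτ
  by_contra hcon
  push_neg at hcon
  have key : ∀ w : B ⊗[A] P, lin τ hc w ∈ q := by
    intro w
    induction w using TensorProduct.induction_on with
    | zero => rw [map_zero]; exact q.zero_mem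
    | add w₁ w₂ h₁ h₂ => rw [map_add]; exact q.add_mem h₁ h₂
    | tmul b z => rw [lin_tmul, smul_eq_mul]; exact q.mul_mem_left _ (hcon z)
  obtain ⟨w, hw⟩ := hb.2 1
  exact hq.ne_top ((Ideal.eq_top_iff_one q).2 (hw ▸ key w))

/-- **local generation descends pointwise**: if `τ x ∉ q` then every `z` is a multiple of `x` after inverting some
`s` with `φ s ∉ q` -/
theorem exists_smul_mem_span (hflat : φ.Flat) (hτ : LinBij φ τ) (q : Ideal B) [hq : q.IsPrime] (x z : P)
    (hx : τ x ∉ q) : ∃ s : A, φ s ∉ q ∧ s • z ∈ Submodule.span A {x} := by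
  letI := φ.toAlgebra
  haveI : Module.Flat A B := hflat
  obtain ⟨hc, hb⟩ := hτ
  have h1 : (τ x) ⊗ₜ[A] z = (τ z) ⊗ₜ[A] x := by
    apply hb.1
    rw [lin_tmul, lin_tmul, smul_eq_mul, smul_eq_mul, mul_comm]
  have h2 : (τ x) ⊗ₜ[A] z ∈ LinearMap.range ((Submodule.span A {x}).subtype.lTensor B) := by
    rw [h1]
    exact ⟨(τ z) ⊗ₜ[A] ⟨x, Submodule.mem_span_singleton_self x⟩, by rw [LinearMap.lTensor_tmul]; rfl⟩
  have h3 := mem_map_colonIdeal (Submodule.span A {x}) z (τ x) h2
  by_contra hcon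
  push_neg at hcon
  have h4 : Ideal.map (algebraMap A B) (colonIdeal (Submodule.span A {x}) z) ≤ q := by
    rw [Ideal.map_le_iff_le_comap]
    intro s hs
    rw [Ideal.mem_comap]
    by_contra hsq
    exact hcon s hsq ((mem_colonIdeal _ _ _).1 hs)
  exact hx (h4 h3)

end One

/-- **the descent of a local generator**: given finitely many semilinear maps `τ i : P → B i` whose linearizations
are bijective, with `B i₀` flat, and a prime `q` of `B i₀`, there are `x ∈ P` and `a ∈ A` with `φ i₀ a ∉ q` such that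
`τ i x` divides `φ i a` for all `i`. -/
theorem exists_dvd {ι : Type*} [Fintype ι] (B : ι → Type u) [∀ i, CommRing (B i)] (φ : ∀ i, A →+* B i)
    (τ : ∀ i, P →+ B i) (hτ : ∀ i, LinBij (φ i) (τ i)) (i₀ : ι) (hflat : (φ i₀).Flat)
    (q : Ideal (B i₀)) [hq : q.IsPrime] :
    ∃ (x : P) (a : A), φ i₀ a ∉ q ∧ ∀ i, τ i x ∣ φ i a := by
  classical
  obtain ⟨x, hx⟩ := exists_notMem (φ i₀) (τ i₀) (hτ i₀) q
  -- the finite sets
  have h1 : ∀ i, ∃ S : Finset P, ∀ (a : A) (x : P), (∀ z ∈ S, a • z ∈ Submodule.span A {x}) →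
      τ i x ∣ φ i a := by
    intro i
    letI := (φ i).toAlgebra
    obtain ⟨w, hw⟩ := (hτ i).2.2 1
    obtain ⟨S, hS⟩ := exists_finset_dvd (φ i) (τ i) (hτ i) w
    refine ⟨S, fun a x hx => ?_⟩
    have := hS a x hx
    rwa [hw, mul_one] at this
  choose S hS using h1
  let T : Finset P := Finset.univ.biUnion S
  have h2 : ∀ z : P, ∃ s : A, φ i₀ s ∉ q ∧ s • z ∈ Submodule.span A {x} := fun z =>
    exists_smul_mem_span (φ i₀) (τ i₀) hflat (hτ i₀) q x z hx
  choose s hs1 hs2 using h2
  refine ⟨x, ∏ z ∈ T, s z, ?_, fun i => hS i _ x fun z hz => ?_⟩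
  · rw [map_prod]
    intro hmem
    obtain ⟨z, -, hz⟩ := (Ideal.IsPrime.prod_mem_iff).1 hmem
    exact hs1 z hz
  · have hzT : z ∈ T := Finset.mem_biUnion.2 ⟨i, Finset.mem_univ i, hz⟩
    rw [← Finset.mul_prod_erase T s hzT, mul_comm, mul_smul]
    exact Submodule.smul_mem _ _ (hs2 z)

end Main

end Groth.Agent.Lib.Helper17.InvDescAlg
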