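import Groth.Agent.Lib.Helper17.CounitStalk
import Groth.Agent.Lib.Helper17.IdealOfSub
import Groth.Agent.Lib.Helper28.AmpleH1B
import Mathlib

/-!
# Sections of an invertible module with prescribed non-vanishing locus from generating sections of `G ⊗ N`
-/

set_option autoImplicit false
set_option backward.isDefEq.respectTransparency.types false
universe w u
open CategoryTheory CategoryTheory.Limits AlgebraicGeometry Opposite TopologicalSpace
noncomputable section
namespace Groth.Agent.Lib.Helper17.KeyOver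

open Groth.Agent.Lib.Helper16.Stk Groth.Agent.Lib.Helper28 Groth.Agent.Lib.Helper28.QCohLoc
  Groth.Agent.Lib.Helper28.GenLocus Groth.Agent.Lib.Helper28.TensorGen Groth.Agent.Lib.Helper28.AmpleH1
  Groth.Agent.Lib.Helper17.GGStalk Groth.Agent.Lib.Helper17.CounitStalk Groth.Agent.Lib.Helper17.IdealOfSub

variable {X : Scheme.{u}}

theorem exists_section_over (N : X.Modules) (hN : PicF.IsInvertible N) (G : X.Modules)
    (i : G ⟶ Coh.structureModule X) (W U : X.Opens) (hUW : U ≤ W) (x : X) (hxU : x ∈ U)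
    (y₁ : Γ(G, U)) (hy₁ : val G i y₁ = 1)
    (hvan : ∀ z ∈ W, z ∉ U → ∀ (V : X.Opens) (y : Γ(G, V)), z ∉ X.basicOpen (val G i y))
    {J : Type w} (σ : J → Γ(CohB1.tensorMod G N, W))
    (hspan : Submodule.span (X.presheaf.stalk x)
      (Set.range fun j : J => germAt (CohB1.tensorMod G N) x W (hUW hxU) (σ j)) = ⊤) :
    ∃ s : Γ(N, W), (∃ (W₀ : X.Opens) (h₀ : W₀ ≤ W), x ∈ W₀ ∧ IsGen N W₀ (res N h₀ s)) ∧
      ∀ (W₁ : X.Opens) (h₁ : W₁ ≤ W), IsGen N W₁ (res N h₁ s) → W₁ ≤ U := by
  obtain ⟨μ, hμ⟩ : ∃ μ : CohB1.tensorMod G N ⟶ N, μ = mulMap i N := ⟨_, rfl⟩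
  have hμapp : ∀ (W' : X.Opens) (y : Γ(G, W')) (l : Γ(N, W')),
      μ.app W' (tmulSec G N y l) = (val G i y • l : Γ(N, W')) := by
    intro W' y l; rw [hμ]; exact mulMap_app_tmulSec i N y l
  have hxW : x ∈ W := hUW hxU
  let s : J → Γ(N, W) := fun j => μ.app W (σ j)
  have hspanN : Submodule.span (X.presheaf.stalk x)
      (Set.range fun j : J => germAt N x W hxW (s j)) = ⊤ := by
    rw [eq_top_iff]
    intro b _
    obtain ⟨V, hxV, l, rfl⟩ := exists_germAt N x b
    let m : Γ(CohB1.tensorMod G N, V ⊓ U) := tmulSec G N (res G inf_le_right y₁) (res N inf_le_left l)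
    have hm : μ.app (V ⊓ U) m = res N inf_le_left l := by
      show μ.app (V ⊓ U) (tmulSec G N (res G inf_le_right y₁) (res N inf_le_left l)) = _
      rw [hμapp, val_res, hy₁]
      have : resO (inf_le_right : V ⊓ U ≤ U) (1 : Γ(X, U)) = 1 := map_one _
      rw [this, one_smul]
    have hmem : germAt _ x (V ⊓ U) ⟨hxV, hxU⟩ m ∈ Submodule.span (X.presheaf.stalk x)
        (Set.range fun j : J => germAt (CohB1.tensorMod G N) x W hxW (σ j)) := by
      rw [hspan]; trivial
    have h2 := Submodule.apply_mem_span_image_of_mem_span ((stk x).map μ).hom hmem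
    rw [stk_map_germAt, hm, germAt_res] at h2
    refine Submodule.span_mono ?_ h2
    rintro _ ⟨_, ⟨j, rfl⟩, rfl⟩
    exact ⟨j, (stk_map_germAt μ x W hxW (σ j)).symm⟩
  -- a generator near `x`
  obtain ⟨U', g', hxU', hg'⟩ := exists_isGen N hN x
  have hV₀W : U' ⊓ U ≤ W := inf_le_right.trans hUW
  have hg₀ : IsGen N (U' ⊓ U) (res N inf_le_left g') := hg'.res inf_le_left
  obtain ⟨V, hV, hxV, hmem⟩ := exists_res_mem_span_over N s x hxW hV₀W ⟨hxU', hxU⟩ (res N inf_le_left g')
    (by rw [hspanN]; trivial)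
  obtain ⟨g, hgdef⟩ : ∃ g : Γ(N, V), g = res N hV (res N inf_le_left g') := ⟨_, rfl⟩
  have hgV : IsGen N V g := by rw [hgdef]; exact hg₀.res hV
  rw [← hgdef] at hmem
  have hVW : V ≤ W := hV.trans hV₀W
  -- some `s j` has a unit coefficient at `x`
  have hex : ∃ j : J, x ∈ X.basicOpen (hgV.coef le_rfl (res N hVW (s j))) := by
    by_contra hcon
    rw [not_exists] at hcon
    have key : ∀ m ∈ Submodule.span Γ(X, V) (Set.range fun j : J => res N hVW (s j)),
        ∃ c : Γ(X, V), m = (c • g : Γ(N, V)) ∧ x ∉ X.basicOpen c := by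
      intro m hm
      induction hm using Submodule.span_induction with
      | mem m hm =>
        obtain ⟨j, rfl⟩ := hm
        refine ⟨hgV.coef le_rfl (res N hVW (s j)), ?_, hcon j⟩
        have := hgV.coef_smul le_rfl (res N hVW (s j))
        rw [res_self] at this
        exact this.symm
      | zero =>
        refine ⟨0, (zero_smul _ _).symm, ?_⟩
        rw [Scheme.basicOpen_zero]
        exact fun h => h
      | add m m' _ _ ih ih' =>
        obtain ⟨c, rfl, hc⟩ := ih
        obtain ⟨c', rfl, hc'⟩ := ih'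
        refine ⟨c + c', (add_smul _ _ _).symm, fun h => ?_⟩
        rw [Scheme.mem_basicOpen _ _ _ hxV] at h hc hc'
        rw [map_add] at h
        rcases IsLocalRing.isUnit_or_isUnit_of_isUnit_add h with h | h
        · exact hc h
        · exact hc' h
      | smul a m _ ih =>
        obtain ⟨c, rfl, hc⟩ := ih
        refine ⟨a * c, (mul_smul _ _ _).symm, fun h => ?_⟩
        rw [Scheme.basicOpen_mul] at h
        exact hc h.2
    obtain ⟨c, hc, hxc⟩ := key _ hmem
    have h1 : c = 1 := by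
      apply (hgV V le_rfl).1
      show (c • res N le_rfl g : Γ(N, V)) = ((1 : Γ(X, V)) • res N le_rfl g : Γ(N, V))
      rw [res_self, one_smul]
      exact hc.symm
    rw [h1, Scheme.basicOpen_one] at hxc
    exact hxc hxV
  obtain ⟨j, hj⟩ := hex
  obtain ⟨r, hrdef⟩ : ∃ r : Γ(X, V), r = hgV.coef le_rfl (res N hVW (s j)) := ⟨_, rfl⟩
  rw [← hrdef] at hj
  have hr : res N hVW (s j) = (r • g : Γ(N, V)) := by
    have := hgV.coef_smul le_rfl (res N hVW (s j))
    rw [res_self, ← hrdef] at this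
    exact this.symm
  refine ⟨s j, ⟨X.basicOpen r, (X.basicOpen_le r).trans hVW, hj, ?_⟩, ?_⟩
  · have h1 : res N ((X.basicOpen_le r).trans hVW) (s j) =
        (resO (X.basicOpen_le r) r • res N (X.basicOpen_le r) g : Γ(N, X.basicOpen r)) := by
      have h2 := congrArg (res N (X.basicOpen_le r)) hr
      rw [res_res, res_smul] at h2
      exact h2
    rw [h1]
    exact CounitGen.isGen_smul_of_isUnit (hgV.res _) _ (X.toRingedSpace.isUnit_res_basicOpen r)
  · intro W₁ h₁ hgen z hz
    by_contra hzU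
    obtain ⟨V', γ', hzV', hγ'⟩ := exists_isGen N hN z
    have hle : V' ⊓ W₁ ≤ W := inf_le_right.trans h₁
    have hγ'' : IsGen N (V' ⊓ W₁) (res N inf_le_left γ') := hγ'.res inf_le_left
    obtain ⟨y, hy⟩ := (tmulSec_right_bijective G N hγ'').2 (res _ hle (σ j))
    have hy' : tmulSec G N y (res N inf_le_left γ') = res _ hle (σ j) := hy
    have hs1 : res N hle (s j) = (val G i y • res N inf_le_left γ' : Γ(N, V' ⊓ W₁)) := by
      show res N hle (μ.app W (σ j)) = _
      rw [← app_res, ← hy', hμapp]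
    have hgen' : IsGen N (V' ⊓ W₁) (res N hle (s j)) := by
      have := hgen.res (inf_le_right : V' ⊓ W₁ ≤ W₁)
      rwa [res_res] at this
    -- `val y` is a unit
    obtain ⟨c, hc⟩ := (hgen' (V' ⊓ W₁) le_rfl).2 (res N inf_le_left γ')
    have hc' : (c • res N le_rfl (res N hle (s j)) : Γ(N, V' ⊓ W₁)) = res N inf_le_left γ' := hc
    rw [res_self, hs1, ← mul_smul] at hc'
    have h1 : c * val G i y = 1 := by
      apply (hγ'' (V' ⊓ W₁) le_rfl).1
      show ((c * val G i y) • res N le_rfl (res N inf_le_left γ') : Γ(N, V' ⊓ W₁)) =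
        ((1 : Γ(X, V' ⊓ W₁)) • res N le_rfl (res N inf_le_left γ') : Γ(N, V' ⊓ W₁))
      rw [res_self, one_smul]
      exact hc'
    have hu : IsUnit (val G i y) := .of_mul_eq_one_right _ h1
    have hzb : z ∈ X.basicOpen (val G i y) := by
      rw [Scheme.basicOpen_of_isUnit _ hu]
      exact ⟨hzV', hz⟩
    exact hvan z (h₁ hz) hzU _ y hzb

end Groth.Agent.Lib.Helper17.KeyOver
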