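import Groth.Agent.Lib.Helper17.NDiv
import Mathlib
set_option backward.isDefEq.respectTransparency.types false
set_option autoImplicit false
set_option linter.style.haveILetI false
set_option linter.unusedSectionVars false

/-!
# The long exact cohomology sequence of a short exact sequence of abelian sheaves, elementwise
-/

universe u
open CategoryTheory CategoryTheory.Limits Opposite TopologicalSpace Abelian

noncomputable section
namespace Groth.Agent.Lib.Helper17.LES

variable {T : TopCat.{u}} {S : ShortComplex (CohTop.Ab T)} (hS : S.ShortExact)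

/-- the connecting homomorphism -/
def dH (n : ℕ) : Sheaf.H S.X₃ n →+ Sheaf.H S.X₁ (n + 1) :=
  hS.extClass.postcomp _ rfl

theorem dH_apply (n : ℕ) (x : Sheaf.H S.X₃ n) : dH hS n x = x.comp hS.extClass rfl := rfl

include hS in
theorem map_g_map_f (n : ℕ) (x : Sheaf.H S.X₁ n) : Sheaf.H.map S.g n (Sheaf.H.map S.f n x) = 0 := by
  rw [← Sheaf.H.map_comp_apply, S.zero]
  exact NDiv.H_map_zero' n x

theorem dH_map_g (n : ℕ) (x : Sheaf.H S.X₂ n) : dH hS n (Sheaf.H.map S.g n x) = 0 := by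
  rw [dH_apply, Sheaf.H.map_apply, Ext.comp_assoc_of_second_deg_zero]
  have h' : (Ext.mk₀ S.g).comp hS.extClass (zero_add 1) = 0 := hS.comp_extClass
  rw [h', Ext.comp_zero]

theorem map_f_dH (n : ℕ) (x : Sheaf.H S.X₃ n) : Sheaf.H.map S.f (n + 1) (dH hS n x) = 0 := by
  rw [dH_apply, Sheaf.H.map_apply, Ext.comp_assoc_of_third_deg_zero]
  have h' : hS.extClass.comp (Ext.mk₀ S.f) (add_zero 1) = 0 := hS.extClass_comp
  rw [h', Ext.comp_zero]

include hS in
theorem exact_f_g (n : ℕ) (x : Sheaf.H S.X₂ n) (hx : Sheaf.H.map S.g n x = 0) :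
    ∃ y : Sheaf.H S.X₁ n, Sheaf.H.map S.f n y = x :=
  Ext.covariant_sequence_exact₂ _ hS x hx

theorem exact_g_d (n : ℕ) (x : Sheaf.H S.X₃ n) (hx : dH hS n x = 0) :
    ∃ y : Sheaf.H S.X₂ n, Sheaf.H.map S.g n y = x :=
  Ext.covariant_sequence_exact₃ _ hS x rfl hx

theorem exact_d_f (n : ℕ) (x : Sheaf.H S.X₁ (n + 1)) (hx : Sheaf.H.map S.f (n + 1) x = 0) :
    ∃ y : Sheaf.H S.X₃ n, dH hS n y = x :=
  Ext.covariant_sequence_exact₁ _ hS x hx rfl

include hS in
theorem injective_map_f_zero : Function.Injective (Sheaf.H.map S.f 0) := by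
  haveI := hS.mono_f
  exact Ext.postcomp_mk₀_injective_of_mono _ S.f

end Groth.Agent.Lib.Helper17.LES
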