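import Groth.Agent.Lib.Helper17.LNormMod
import Groth.Agent.Lib.Helper28.AmpleFinite
import Groth.Agent.Lib.Helper28.AmpleFamily
import Groth.Agent.Lib.Helper28.AmplePow
import Groth.Agent.Lib.Helper28.AmpleIso
import Mathlib
set_option backward.isDefEq.respectTransparency.types false
set_option autoImplicit false
universe u
open CategoryTheory CategoryTheory.Limits AlgebraicGeometry Opposite TopologicalSpace

/-!
# Helper17 — LNormAmple: the norm of an ample invertible module along a finite morphism with a (degree-free)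
weak norm is ample

`π : X ⟶ Y` finite with a norm, `M` ample invertible on `X`, `N` invertible on `Y` whose transition functions
(with respect to generators over a cover of `Y`) are the norms of those of `M`: then `N` is ample.
-/

namespace Groth.Agent.Lib.Helper17.LNormAmple

open Groth.Agent.Lib.Helper28 Groth.Agent.Lib.Helper28.QCohLoc Groth.Agent.Lib.Helper28.GenLocus
open Groth.Agent.Lib.Helper28.PullbackInv
open Groth.Agent.Lib.Helper17 Groth.Agent.Lib.Helper17.LNormMod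
open Groth.Agent.Lib.Helper17.WNormMod (gg coef_rel coef_res_ell gg_mul isUnit_gg)

variable {X Y : Scheme.{u}} {π : X ⟶ Y}

section Pow

variable {ι : Type u} (V : ι → Y.Opens) (M : X.Modules) (ℓ : ∀ i, Γ(M, π ⁻¹ᵁ V i))
  (hℓ : ∀ i, IsGen M (π ⁻¹ᵁ V i) (ℓ i))

/-- the transition functions of a tensor power are the powers of the transition functions -/
theorem gg_pow (k : ℕ) (i j : ι) :
    gg V (CohB1.tensorPow M k) (fun i => gpow M (ℓ i) k) (fun i => isGen_gpow (hℓ i) k) i j =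
      (gg V M ℓ hℓ i j) ^ k := by
  unfold gg
  apply (isGen_gpow (hℓ j) k).coef_eq
  rw [gpow_res, gpow_res, ← gpow_smul]
  congr 1
  exact (hℓ j).coef_smul _ _

/-- the norm of the `k`-th tensor power is the `k`-th tensor power of the norm -/
theorem exists_NN_pow_iso (Nm : LNorm π) (hcov : ∀ y : Y, ∃ i, y ∈ V i) (k : ℕ) :
    Nonempty (NN Nm V (CohB1.tensorPow M k) (fun i => gpow M (ℓ i) k) (fun i => isGen_gpow (hℓ i) k) ≅
      CohB1.tensorPow (NN Nm V M ℓ hℓ) k) := by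
  have hcoc : ∀ i j : ι, ∃ u : Γ(Y, V i ⊓ V j),
      res (NN Nm V (CohB1.tensorPow M k) (fun i => gpow M (ℓ i) k) (fun i => isGen_gpow (hℓ i) k)) inf_le_left
          (CocycleMod.gen V _ (eta_cocycle Nm V (CohB1.tensorPow M k) (fun i => gpow M (ℓ i) k)
            (fun i => isGen_gpow (hℓ i) k)) i) =
        (u • res (NN Nm V (CohB1.tensorPow M k) (fun i => gpow M (ℓ i) k) (fun i => isGen_gpow (hℓ i) k))
          inf_le_right (CocycleMod.gen V _ (eta_cocycle Nm V (CohB1.tensorPow M k) (fun i => gpow M (ℓ i) k)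
            (fun i => isGen_gpow (hℓ i) k)) j) :
          Γ(NN Nm V (CohB1.tensorPow M k) (fun i => gpow M (ℓ i) k) (fun i => isGen_gpow (hℓ i) k), V i ⊓ V j)) ∧
      res (CohB1.tensorPow (NN Nm V M ℓ hℓ) k) inf_le_left
          (gpow (NN Nm V M ℓ hℓ) (CocycleMod.gen V _ (eta_cocycle Nm V M ℓ hℓ) i) k) =
        (u • res (CohB1.tensorPow (NN Nm V M ℓ hℓ) k) inf_le_right
          (gpow (NN Nm V M ℓ hℓ) (CocycleMod.gen V _ (eta_cocycle Nm V M ℓ hℓ) j) k) :
          Γ(CohB1.tensorPow (NN Nm V M ℓ hℓ) k, V i ⊓ V j)) := by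
    intro i j
    refine ⟨eta Nm V (CohB1.tensorPow M k) (fun i => gpow M (ℓ i) k) (fun i => isGen_gpow (hℓ i) k) i j,
      CocycleMod.gen_rel V _ _ i j, ?_⟩
    rw [gpow_res, gpow_res, CocycleMod.gen_rel V _ (eta_cocycle Nm V M ℓ hℓ) i j, gpow_smul]
    congr 1
    unfold eta
    rw [gg_pow, map_pow]
  obtain ⟨ψ, -⟩ := exists_iso_of_cocycle_gen V
    (fun i => CocycleMod.gen V _ (eta_cocycle Nm V (CohB1.tensorPow M k) (fun i => gpow M (ℓ i) k)
      (fun i => isGen_gpow (hℓ i) k)) i)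
    (fun i => gpow (NN Nm V M ℓ hℓ) (CocycleMod.gen V _ (eta_cocycle Nm V M ℓ hℓ) i) k)
    (fun i => CocycleMod.isGen_gen V _ _ (isUnit_eta Nm V (CohB1.tensorPow M k) (fun i => gpow M (ℓ i) k)
      (fun i => isGen_gpow (hℓ i) k)) i)
    (fun i => isGen_gpow (CocycleMod.isGen_gen V _ (eta_cocycle Nm V M ℓ hℓ) (isUnit_eta Nm V M ℓ hℓ) i) k)
    hcov hcoc
  exact ⟨ψ⟩

end Pow

section Main

variable {ι : Type u} (V : ι → Y.Opens) (M : X.Modules) (ℓ : ∀ i, Γ(M, π ⁻¹ᵁ V i))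
  (hℓ : ∀ i, IsGen M (π ⁻¹ᵁ V i) (ℓ i))

/-- **the norm module of an ample invertible module is ample** -/
theorem isAmple_NN [IsFinite π] (Nm : LNorm π) (hcov : ∀ y : Y, ∃ i, y ∈ V i)
    (hample : CohB1.IsAmple M) : CohB1.IsAmple (NN Nm V M ℓ hℓ) := by
  classical
  have hsurj : Function.Surjective π := by
    intro y
    have h1 : y ∈ Y.basicOpen (Nm.norm ⊤ 1) := by
      rw [map_one, Scheme.basicOpen_of_isUnit _ isUnit_one]
      trivial
    obtain ⟨x, hx, -⟩ := Nm.norm_mem ⊤ 1 y h1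
    exact ⟨x, hx⟩
  have hMinv := hample.1
  have hNinv : PicF.IsInvertible (NN Nm V M ℓ hℓ) := isInvertible_NN Nm V M ℓ hℓ hcov
  haveI : CompactSpace X := hample.2.1
  haveI : CompactSpace Y := by
    constructor
    have h := (isCompact_univ (X := X)).image π.continuous
    rwa [Set.image_univ, hsurj.range_eq] at h
  have h1 : ∀ y : Y, ∃ (Vy : Y.Opens) (n : ℕ)
      (s : Coh.structureModule X ⟶ CohB1.tensorPow M (n + 1)),
      IsAffineOpen Vy ∧ π ⁻¹' {y} ⊆ CohB1.genLocus _ s ∧ (CohB1.genLocus _ s : Set X) ⊆ π ⁻¹ᵁ Vy := by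
    intro y
    obtain ⟨_, ⟨Vy, hVy, rfl⟩, hyVy, -⟩ :=
      Y.isBasis_affineOpens.exists_subset_of_mem_open (Set.mem_univ y) isOpen_univ
    obtain ⟨n, s, hs1, hs2, -⟩ := exists_affine_genLocus_of_finite hample (π ⁻¹' {y})
      (π.finite_preimage_singleton y) (π ⁻¹ᵁ Vy) (by
        intro x hx
        change π.base x ∈ Vy
        rw [show π.base x = y from hx]
        exact hyVy)
    exact ⟨Vy, n, s, hVy, hs1, hs2⟩
  choose Vy n s hVy hs1 hs2 using h1
  have hcl : ∀ y : Y, IsClosed (π '' ((CohB1.genLocus _ (s y) : Set X)ᶜ)) :=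
    fun y => π.isClosedMap _ (CohB1.genLocus _ (s y)).isOpen.isClosed_compl
  let O : Y → Set Y := fun y => (π '' ((CohB1.genLocus _ (s y) : Set X)ᶜ))ᶜ
  have hO : ∀ y, IsOpen (O y) := fun y => (hcl y).isOpen_compl
  have hyO : ∀ y, y ∈ O y := by
    rintro y ⟨x, hx, hxy⟩
    exact hx (hs1 y hxy)
  have hOfib : ∀ y y', y' ∈ O y → π ⁻¹' {y'} ⊆ CohB1.genLocus _ (s y) := by
    intro y y' hy' x hx
    by_contra hnot
    exact hy' ⟨x, hnot, hx⟩
  obtain ⟨T, -, hT⟩ := isCompact_univ.elim_nhds_subcover O (fun y _ => (hO y).mem_nhds (hyO y))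
  let k : ℕ := ∏ y ∈ T, (n y + 1)
  have hk : ∀ y ∈ T, (n y + 1) ∣ k := fun y hy => Finset.dvd_prod_of_mem _ hy
  have hkpos : 0 < k := Finset.prod_pos (fun y _ => Nat.succ_pos _)
  have h2 : ∀ y ∈ T, ∃ s' : Coh.structureModule X ⟶ CohB1.tensorPow M k,
      CohB1.genLocus _ s' = CohB1.genLocus _ (s y) := by
    intro y hy
    have hm : k = (n y + 1) * (k / (n y + 1)) := (Nat.mul_div_cancel' (hk y hy)).symm
    have hmpos : 0 < k / (n y + 1) := Nat.div_pos (Nat.le_of_dvd hkpos (hk y hy)) (Nat.succ_pos _)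
    obtain ⟨ψ, -⟩ := exists_tensorPow_tensorPow_iso hMinv (n y + 1) (k / (n y + 1)) k hm
    refine ⟨spow (s y) (k / (n y + 1)) ≫ ψ.hom, ?_⟩
    rw [AmpleUnit.genLocus_comp_iso _ ψ, genLocus_spow (isInvertible_tensorPow hMinv _) (s y) _ hmpos]
  obtain ⟨ψk⟩ := exists_NN_pow_iso V M ℓ hℓ Nm hcov k
  have hP : PicF.IsInvertible (CohB1.tensorPow (NN Nm V M ℓ hℓ) k) := isInvertible_tensorPow hNinv k
  have hPample : CohB1.IsAmple (CohB1.tensorPow (NN Nm V M ℓ hℓ) k) := by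
    refine ⟨hP, inferInstance, fun y' => ?_⟩
    obtain ⟨y, hyT, hy'⟩ : ∃ y ∈ T, y' ∈ O y := by
      have := hT (Set.mem_univ y')
      simpa using this
    obtain ⟨s', hs'⟩ := h2 y hyT
    obtain ⟨t₀, ht1, ht2⟩ := normModule_spec Nm V (CohB1.tensorPow M k) (fun i => gpow M (ℓ i) k)
      (fun i => isGen_gpow (hℓ i) k) hcov s'
    have hy't : y' ∈ CohB1.genLocus _ (t₀ ≫ ψk.hom) := by
      rw [AmpleUnit.genLocus_comp_iso]
      exact ht1 y' (by rw [hs']; exact hOfib y y' hy')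
    have hle : CohB1.genLocus _ (t₀ ≫ ψk.hom) ≤ Vy y := by
      intro z hz
      rw [AmpleUnit.genLocus_comp_iso] at hz
      obtain ⟨x, rfl, hx⟩ := ht2 z hz
      rw [hs'] at hx
      exact hs2 y hx
    have haff : IsAffineOpen (CohB1.genLocus _ (t₀ ≫ ψk.hom)) := by
      have := isAffineOpen_genLocus_inf hP (t₀ ≫ ψk.hom) (hVy y)
      rwa [inf_eq_left.2 hle] at this
    obtain ⟨τ, hτ⟩ := AmpleFamily.exists_tensorPow_one_section (t₀ ≫ ψk.hom)
    exact ⟨0, τ, by rw [hτ]; exact hy't, by rw [hτ]; exact haff⟩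
  exact isAmple_of_isAmple_tensorPow hNinv k hkpos hPample

/-- **an invertible module whose transition functions are the norms of those of an ample module is ample** -/
theorem isAmple_of_normRel [IsFinite π] (Nm : LNorm π) (hcov : ∀ y : Y, ∃ i, y ∈ V i)
    (hample : CohB1.IsAmple M) (N : Y.Modules) (e : ∀ i, Γ(N, V i)) (he : ∀ i, IsGen N (V i) (e i))
    (hrel : ∀ i j, res N (inf_le_left : V i ⊓ V j ≤ V i) (e i) =
      (Nm.norm (V i ⊓ V j) (gg V M ℓ hℓ i j) • res N (inf_le_right : V i ⊓ V j ≤ V j) (e j) :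
        Γ(N, V i ⊓ V j))) : CohB1.IsAmple N := by
  have hcoc : ∀ i j : ι, ∃ u : Γ(Y, V i ⊓ V j),
      res (NN Nm V M ℓ hℓ) inf_le_left (CocycleMod.gen V _ (eta_cocycle Nm V M ℓ hℓ) i) =
        (u • res (NN Nm V M ℓ hℓ) inf_le_right (CocycleMod.gen V _ (eta_cocycle Nm V M ℓ hℓ) j) :
          Γ(NN Nm V M ℓ hℓ, V i ⊓ V j)) ∧
      res N inf_le_left (e i) = (u • res N inf_le_right (e j) : Γ(N, V i ⊓ V j)) :=
    fun i j => ⟨eta Nm V M ℓ hℓ i j, CocycleMod.gen_rel V _ (eta_cocycle Nm V M ℓ hℓ) i j, hrel i j⟩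
  obtain ⟨ψ, -⟩ := exists_iso_of_cocycle_gen V
    (fun i => CocycleMod.gen V _ (eta_cocycle Nm V M ℓ hℓ) i) e
    (fun i => CocycleMod.isGen_gen V _ (eta_cocycle Nm V M ℓ hℓ) (isUnit_eta Nm V M ℓ hℓ) i) he hcov hcoc
  exact AmpleIso.isAmple_of_iso ψ (isAmple_NN V M ℓ hℓ Nm hcov hample)

end Main

end Groth.Agent.Lib.Helper17.LNormAmple
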