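import Groth.Agent.Lib.Helper17.NormGlue
import Groth.Agent.Lib.Helper18.Cyc.FiniteFlatDeg
import Groth.Prelude.Def_Mor2
import Mathlib
set_option backward.isDefEq.respectTransparency.types false
set_option autoImplicit false
universe u
open CategoryTheory CategoryTheory.Limits AlgebraicGeometry Opposite TopologicalSpace

/-!
# Helper17 — NormFLF: the norm of a finite locally free morphism of constant degree
-/

namespace Groth.Agent.Lib.Helper17.NormFLF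

open Groth.Agent.Lib.Helper17.NormGlue

/-- ring-level: the norm of `t` is a multiple of `t` (Cayley–Hamilton) -/
theorem algebraMap_norm_mem_span {R S : Type*} [CommRing R] [CommRing S] [Algebra R S]
    [Module.Finite R S] [Module.Free R S] (t : S) :
    algebraMap R S (Algebra.norm R t) ∈ Ideal.span {t} := by
  have h := Algebra.aeval_self_charpoly_lmul (R := R) t
  set χ := (Algebra.lmul R S t).charpoly with hχ
  have h1 : χ = χ.divX * Polynomial.X + Polynomial.C (χ.coeff 0) := (Polynomial.divX_mul_X_add χ).symm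
  rw [h1] at h
  simp only [map_add, map_mul, Polynomial.aeval_X, Polynomial.aeval_C] at h
  have h2 : algebraMap R S (χ.coeff 0) = - (Polynomial.aeval t χ.divX * t) := by
    rw [eq_neg_iff_add_eq_zero, add_comm]; exact h
  have h3 : Algebra.norm R t = (-1) ^ Module.finrank R S * χ.coeff 0 := by
    rw [Algebra.norm_apply, LinearMap.det_eq_sign_charpoly_coeff]
  rw [h3, map_mul, h2]
  rw [Ideal.mem_span_singleton']
  exact ⟨algebraMap R S ((-1) ^ Module.finrank R S) * -(Polynomial.aeval t χ.divX), by ring⟩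

attribute [local instance] RingHomInvPair.of_ringEquiv in
/-- freeness of a localized module does not depend on the models of the localizations -/
theorem free_localized_iff {R M : Type*} [CommRing R] [AddCommGroup M] [Module R M] (S : Submonoid R)
    (Rₛ Mₛ : Type*) [CommRing Rₛ] [Algebra R Rₛ] [IsLocalization S Rₛ]
    [AddCommGroup Mₛ] [Module R Mₛ] (g : M →ₗ[R] Mₛ) [IsLocalizedModule S g]
    [Module Rₛ Mₛ] [IsScalarTower R Rₛ Mₛ] :
    Module.Free (Localization S) (LocalizedModule S M) ↔ Module.Free Rₛ Mₛ := by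
  set e := (IsLocalization.algEquiv S (Localization S) Rₛ).toRingEquiv
  apply Module.Free.iff_of_equiv (σ := e)
  refine { __ := IsLocalizedModule.iso S g, map_smul' := ?_ }
  intro r x
  obtain ⟨r, s, rfl⟩ := IsLocalization.exists_mk'_eq S r
  apply ((Module.End.isUnit_iff _).mp (IsLocalizedModule.map_units g s)).1
  simp [e, ← map_smul, ← smul_assoc]

variable {X Y : Scheme.{u}} (π : X ⟶ Y)

/-- the algebra structure of `Γ(X, π⁻¹W)` over `Γ(Y, W)` -/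
noncomputable abbrev algApp (W : Y.Opens) : Algebra Γ(Y, W) Γ(X, π ⁻¹ᵁ W) :=
  (π.appLE W (π ⁻¹ᵁ W) le_rfl).hom.toAlgebra

attribute [local instance] algApp

theorem algebraMap_eq (W : Y.Opens) (g : Γ(Y, W)) :
    algebraMap Γ(Y, W) Γ(X, π ⁻¹ᵁ W) g = π.app W g := by
  rw [Scheme.Hom.app_eq_appLE]; rfl

/-- good opens: affine with free sections -/
def Good (W : Y.Opens) : Prop := IsAffineOpen W ∧ Module.Free Γ(Y, W) Γ(X, π ⁻¹ᵁ W)

section basic

variable [IsAffineHom π] {W : Y.Opens} (f : Γ(Y, W))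

/-- the localization package for passing to a basic open -/
theorem basic_package (hW : IsAffineOpen W) :
    letI : Algebra Γ(Y, W) Γ(Y, Y.basicOpen f) :=
      (Y.presheaf.map (homOfLE (Y.basicOpen_le f)).op).hom.toAlgebra
    letI : Algebra Γ(X, π ⁻¹ᵁ W) Γ(X, π ⁻¹ᵁ (Y.basicOpen f)) :=
      (X.presheaf.map (homOfLE (π.preimage_mono (Y.basicOpen_le f))).op).hom.toAlgebra
    letI : Algebra Γ(Y, W) Γ(X, π ⁻¹ᵁ (Y.basicOpen f)) :=
      ((algebraMap Γ(Y, Y.basicOpen f) Γ(X, π ⁻¹ᵁ (Y.basicOpen f))).comp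
        (algebraMap Γ(Y, W) Γ(Y, Y.basicOpen f))).toAlgebra
    IsScalarTower Γ(Y, W) Γ(Y, Y.basicOpen f) Γ(X, π ⁻¹ᵁ (Y.basicOpen f)) ∧
    IsScalarTower Γ(Y, W) Γ(X, π ⁻¹ᵁ W) Γ(X, π ⁻¹ᵁ (Y.basicOpen f)) ∧
    IsLocalization (Submonoid.powers f) Γ(Y, Y.basicOpen f) ∧
    IsLocalization (Algebra.algebraMapSubmonoid Γ(X, π ⁻¹ᵁ W) (Submonoid.powers f))
      Γ(X, π ⁻¹ᵁ (Y.basicOpen f)) := by
  letI : Algebra Γ(Y, W) Γ(Y, Y.basicOpen f) :=
    (Y.presheaf.map (homOfLE (Y.basicOpen_le f)).op).hom.toAlgebra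
  letI : Algebra Γ(X, π ⁻¹ᵁ W) Γ(X, π ⁻¹ᵁ (Y.basicOpen f)) :=
    (X.presheaf.map (homOfLE (π.preimage_mono (Y.basicOpen_le f))).op).hom.toAlgebra
  letI : Algebra Γ(Y, W) Γ(X, π ⁻¹ᵁ (Y.basicOpen f)) :=
    ((algebraMap Γ(Y, Y.basicOpen f) Γ(X, π ⁻¹ᵁ (Y.basicOpen f))).comp
      (algebraMap Γ(Y, W) Γ(Y, Y.basicOpen f))).toAlgebra
  refine ⟨IsScalarTower.of_algebraMap_eq (fun _ => rfl), ?_, hW.isLocalization_basicOpen f, ?_⟩
  · refine IsScalarTower.of_algebraMap_eq (fun x => ?_)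
    change (π.appLE (Y.basicOpen f) (π ⁻¹ᵁ (Y.basicOpen f)) le_rfl).hom
        ((Y.presheaf.map (homOfLE (Y.basicOpen_le f)).op).hom x) =
      (X.presheaf.map (homOfLE (π.preimage_mono (Y.basicOpen_le f))).op).hom
        ((π.appLE W (π ⁻¹ᵁ W) le_rfl).hom x)
    rw [← CommRingCat.comp_apply, ← CommRingCat.comp_apply, Scheme.Hom.map_appLE,
      Scheme.Hom.appLE_map]
  · have h1 : Algebra.algebraMapSubmonoid Γ(X, π ⁻¹ᵁ W) (Submonoid.powers f) =
        Submonoid.powers ((π.appLE W (π ⁻¹ᵁ W) le_rfl).hom f) := Submonoid.map_powers _ f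
    rw [h1]
    have hV : IsAffineOpen (π ⁻¹ᵁ W) := hW.preimage π
    have e : π ⁻¹ᵁ (Y.basicOpen f) = X.basicOpen ((π.appLE W (π ⁻¹ᵁ W) le_rfl).hom f) := by
      rw [Scheme.preimage_basicOpen, Scheme.Hom.app_eq_appLE]
    exact hV.isLocalization_of_eq_basicOpen _ (homOfLE (π.preimage_mono (Y.basicOpen_le f))) e

theorem finite_app [IsFinite π] (hW : IsAffineOpen W) : Module.Finite Γ(Y, W) Γ(X, π ⁻¹ᵁ W) := by
  have h := π.finite_app W hW
  rw [Scheme.Hom.app_eq_appLE] at h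
  exact h

theorem good_basicOpen [IsFinite π] (hW : Good π W) : Good π (Y.basicOpen f) := by
  refine ⟨hW.1.basicOpen f, ?_⟩
  obtain ⟨h1, h2, h3, h4⟩ := basic_package π f hW.1
  letI : Algebra Γ(Y, W) Γ(Y, Y.basicOpen f) :=
    (Y.presheaf.map (homOfLE (Y.basicOpen_le f)).op).hom.toAlgebra
  letI : Algebra Γ(X, π ⁻¹ᵁ W) Γ(X, π ⁻¹ᵁ (Y.basicOpen f)) :=
    (X.presheaf.map (homOfLE (π.preimage_mono (Y.basicOpen_le f))).op).hom.toAlgebra
  letI : Algebra Γ(Y, W) Γ(X, π ⁻¹ᵁ (Y.basicOpen f)) :=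
    ((algebraMap Γ(Y, Y.basicOpen f) Γ(X, π ⁻¹ᵁ (Y.basicOpen f))).comp
      (algebraMap Γ(Y, W) Γ(Y, Y.basicOpen f))).toAlgebra
  haveI := h1; haveI := h2; haveI := h3; haveI := h4
  haveI := hW.2
  exact Module.Free.of_basis ((Module.Free.chooseBasis Γ(Y, W) Γ(X, π ⁻¹ᵁ W)).localizationLocalization
    Γ(Y, Y.basicOpen f) (Submonoid.powers f) Γ(X, π ⁻¹ᵁ (Y.basicOpen f)))

theorem norm_basicOpen [IsFinite π] (hW : Good π W) (t : Γ(X, π ⁻¹ᵁ W)) :
    Algebra.norm Γ(Y, Y.basicOpen f) (resPre π (Y.basicOpen_le f) t) =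
      Y.presheaf.map (homOfLE (Y.basicOpen_le f)).op (Algebra.norm Γ(Y, W) t) := by
  obtain ⟨h1, h2, h3, h4⟩ := basic_package π f hW.1
  letI : Algebra Γ(Y, W) Γ(Y, Y.basicOpen f) :=
    (Y.presheaf.map (homOfLE (Y.basicOpen_le f)).op).hom.toAlgebra
  letI : Algebra Γ(X, π ⁻¹ᵁ W) Γ(X, π ⁻¹ᵁ (Y.basicOpen f)) :=
    (X.presheaf.map (homOfLE (π.preimage_mono (Y.basicOpen_le f))).op).hom.toAlgebra
  letI : Algebra Γ(Y, W) Γ(X, π ⁻¹ᵁ (Y.basicOpen f)) :=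
    ((algebraMap Γ(Y, Y.basicOpen f) Γ(X, π ⁻¹ᵁ (Y.basicOpen f))).comp
      (algebraMap Γ(Y, W) Γ(Y, Y.basicOpen f))).toAlgebra
  haveI := h1; haveI := h2; haveI := h3; haveI := h4
  haveI := hW.2
  haveI := finite_app π hW.1
  exact Algebra.norm_localization Γ(Y, W) (Submonoid.powers f) (Rₘ := Γ(Y, Y.basicOpen f))
    (Sₘ := Γ(X, π ⁻¹ᵁ (Y.basicOpen f))) t

end basic

theorem mem_basicOpen_iff {W : Y.Opens} (hW : IsAffineOpen W) (y : Y) (hy : y ∈ W) (g : Γ(Y, W)) :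
    y ∈ Y.basicOpen g ↔ g ∉ (hW.primeIdealOf ⟨y, hy⟩).asIdeal := by
  have hp : hW.fromSpec (hW.primeIdealOf ⟨y, hy⟩) = y := hW.fromSpec_primeIdealOf ⟨y, hy⟩
  conv_lhs => rw [← hp]
  change hW.primeIdealOf ⟨y, hy⟩ ∈ hW.fromSpec ⁻¹ᵁ Y.basicOpen g ↔ _
  rw [hW.fromSpec_preimage_basicOpen]
  rfl

theorem exists_good [IsFinite π] [Flat π] [LocallyOfFinitePresentation π] (y : Y) :
    ∃ W, Good π W ∧ y ∈ W := by
  obtain ⟨_, ⟨W₀, hW₀, rfl⟩, hyW₀, -⟩ :=
    Y.isBasis_affineOpens.exists_subset_of_mem_open (Set.mem_univ y) isOpen_univ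
  have hV : IsAffineOpen (π ⁻¹ᵁ W₀) := hW₀.preimage π
  haveI : Module.Finite Γ(Y, W₀) Γ(X, π ⁻¹ᵁ W₀) := finite_app π hW₀
  haveI : Module.Flat Γ(Y, W₀) Γ(X, π ⁻¹ᵁ W₀) := π.flat_appLE hW₀ hV le_rfl
  haveI : Algebra.FinitePresentation Γ(Y, W₀) Γ(X, π ⁻¹ᵁ W₀) :=
    π.finitePresentation_appLE hW₀ hV le_rfl
  haveI : Module.FinitePresentation Γ(Y, W₀) Γ(X, π ⁻¹ᵁ W₀) :=
    Module.FinitePresentation.of_finite_of_finitePresentation ..
  let p := hW₀.primeIdealOf ⟨y, hyW₀⟩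
  haveI : Module.Free (Localization.AtPrime p.asIdeal)
      (LocalizedModule p.asIdeal.primeCompl Γ(X, π ⁻¹ᵁ W₀)) := Module.free_of_flat_of_isLocalRing
  obtain ⟨r, hr, hfree, -⟩ := Module.FinitePresentation.exists_free_localizedModule_powers
    p.asIdeal.primeCompl (LocalizedModule.mkLinearMap p.asIdeal.primeCompl Γ(X, π ⁻¹ᵁ W₀))
    (Localization.AtPrime p.asIdeal)
  refine ⟨Y.basicOpen r, ⟨hW₀.basicOpen r, ?_⟩, (mem_basicOpen_iff hW₀ y hyW₀ r).2 hr⟩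
  obtain ⟨h1, h2, h3, h4⟩ := basic_package π r hW₀
  letI : Algebra Γ(Y, W₀) Γ(Y, Y.basicOpen r) :=
    (Y.presheaf.map (homOfLE (Y.basicOpen_le r)).op).hom.toAlgebra
  letI : Algebra Γ(X, π ⁻¹ᵁ W₀) Γ(X, π ⁻¹ᵁ (Y.basicOpen r)) :=
    (X.presheaf.map (homOfLE (π.preimage_mono (Y.basicOpen_le r))).op).hom.toAlgebra
  letI : Algebra Γ(Y, W₀) Γ(X, π ⁻¹ᵁ (Y.basicOpen r)) :=
    ((algebraMap Γ(Y, Y.basicOpen r) Γ(X, π ⁻¹ᵁ (Y.basicOpen r))).comp
      (algebraMap Γ(Y, W₀) Γ(Y, Y.basicOpen r))).toAlgebra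
  haveI := h1; haveI := h2; haveI := h3; haveI := h4
  haveI : IsLocalizedModule (Submonoid.powers r)
      (IsScalarTower.toAlgHom Γ(Y, W₀) Γ(X, π ⁻¹ᵁ W₀) Γ(X, π ⁻¹ᵁ (Y.basicOpen r))).toLinearMap :=
    isLocalizedModule_iff_isLocalization.mpr h4
  exact (free_localized_iff (Submonoid.powers r) Γ(Y, Y.basicOpen r) Γ(X, π ⁻¹ᵁ (Y.basicOpen r))
    (IsScalarTower.toAlgHom Γ(Y, W₀) Γ(X, π ⁻¹ᵁ W₀) Γ(X, π ⁻¹ᵁ (Y.basicOpen r))).toLinearMap).1 hfree

theorem finrank_eq [IsFinite π] [Flat π] {W : Y.Opens} (hW : Good π W) {d : ℕ}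
    (hd : ∀ y, π.finrank y = d) (y : Y) (hy : y ∈ W) :
    Module.finrank Γ(Y, W) Γ(X, π ⁻¹ᵁ W) = d := by
  haveI := hW.2
  have h1 := Groth.Agent.Lib.Helper18.CycPull.finrank_eq_rankAtStalk π hW.1 (hW.1.primeIdealOf ⟨y, hy⟩)
  rw [hd] at h1
  have h2 := congrFun (Module.rankAtStalk_eq_finrank_of_free (R := Γ(Y, W)) (M := Γ(X, π ⁻¹ᵁ W)))
    (hW.1.primeIdealOf ⟨y, hy⟩)
  rw [h2] at h1
  exact h1.symm

theorem norm_app [IsFinite π] [Flat π] {W : Y.Opens} (hW : Good π W) {d : ℕ}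
    (hd : ∀ y, π.finrank y = d) (g : Γ(Y, W)) :
    Algebra.norm Γ(Y, W) (π.app W g) = g ^ d := by
  haveI := hW.2
  by_cases hne : ∃ y, y ∈ W
  · obtain ⟨y, hy⟩ := hne
    rw [← algebraMap_eq, Algebra.norm_algebraMap, finrank_eq π hW hd y hy]
  · have hbot : W = ⊥ := by
      ext y
      simp only [Opens.coe_bot, Set.mem_empty_iff_false, iff_false]
      exact fun hy => hne ⟨y, hy⟩
    have : Subsingleton Γ(Y, W) := by
      rw [hbot]; infer_instance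
    exact Subsingleton.elim _ _

theorem norm_mem [IsFinite π] {W : Y.Opens} (hW : Good π W) (t : Γ(X, π ⁻¹ᵁ W)) (x : X)
    (hx : π.base x ∈ W)
    (ht : X.presheaf.germ (π ⁻¹ᵁ W) x hx t ∈ IsLocalRing.maximalIdeal (X.presheaf.stalk x)) :
    Y.presheaf.germ W (π.base x) hx (Algebra.norm Γ(Y, W) t) ∈
      IsLocalRing.maximalIdeal (Y.presheaf.stalk (π.base x)) := by
  haveI := hW.2
  haveI := finite_app π hW.1
  by_contra hnot
  rw [IsLocalRing.notMem_maximalIdeal] at hnot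
  obtain ⟨c, hc⟩ := Ideal.mem_span_singleton'.1 (algebraMap_norm_mem_span (R := Γ(Y, W)) t)
  have h1 : IsUnit (X.presheaf.germ (π ⁻¹ᵁ W) x hx (π.app W (Algebra.norm Γ(Y, W) t))) := by
    rw [← Scheme.Hom.germ_stalkMap_apply]
    exact hnot.map _
  rw [← algebraMap_eq, ← hc, map_mul] at h1
  exact (IsLocalRing.mem_maximalIdeal _).1 ht (isUnit_of_mul_isUnit_right h1)

/-- the local norm data of a finite locally free morphism of constant degree -/
noncomputable def localNormData [IsFinite π] [Flat π] [LocallyOfFinitePresentation π] (d : ℕ)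
    (hd : ∀ y, π.finrank y = d) : LocalNormData π d where
  good := {W | Good π W}
  aff W hW := hW.1
  basic W hW f := good_basicOpen π f hW
  cov y := exists_good π y
  nrm W _ := Algebra.norm Γ(Y, W)
  compat W hW f t := norm_basicOpen π f hW t
  nrm_app W hW g := norm_app π hW hd g
  nrm_mem W hW t x hx ht := norm_mem π hW t x hx ht

/-- **a finite locally free morphism of constant degree `d ≥ 1` has a norm of degree `d`** -/
theorem hasNorm (d : ℕ) (hd : 1 ≤ d) (hπ : Mor2.IsFinLocFreeOfDeg d π) : Nrm.HasNorm π d := by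
  obtain ⟨⟨h1, h2, h3⟩, h4⟩ := hπ
  exact ⟨(localNormData π d h4).toNormOfDegree hd⟩

end Groth.Agent.Lib.Helper17.NormFLF
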