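import Groth.Prelude.Def_Fitting
import Mathlib
set_option backward.isDefEq.respectTransparency.types false
set_option autoImplicit false
universe u
open CategoryTheory CategoryTheory.Limits AlgebraicGeometry Opposite TopologicalSpace

/-!
# Helper17 — NormGlue: gluing a section of the structure sheaf from a recipe on a basis of "good"
affine opens which is compatible with passing to basic opens.
-/

namespace Groth.Agent.Lib.Helper17.NormGlue

variable {Y : Scheme.{u}}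

/-- two sections over `U` agreeing on a family of opens covering `U` are equal -/
theorem eq_of_forall_mem {U : Y.Opens} (s t : Γ(Y, U))
    (h : ∀ y ∈ U, ∃ (W : Y.Opens) (hW : W ≤ U), y ∈ W ∧
      Y.presheaf.map (homOfLE hW).op s = Y.presheaf.map (homOfLE hW).op t) : s = t := by
  choose W hW hy he using h
  refine Y.sheaf.eq_of_locally_eq' (fun y : U => W y.1 y.2) U (fun y => homOfLE (hW y.1 y.2)) ?_ s t
    (fun y => he y.1 y.2)
  intro y hyU
  exact Opens.mem_iSup.2 ⟨⟨y, hyU⟩, hy y hyU⟩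

/-- the structure attached to a "good basis recipe" -/
structure Recipe (U : Y.Opens) where
  G : Set Y.Opens
  aff : ∀ W ∈ G, IsAffineOpen W
  le : ∀ W ∈ G, W ≤ U
  basic : ∀ W ∈ G, ∀ f : Γ(Y, W), Y.basicOpen f ∈ G
  cov : ∀ y ∈ U, ∃ W ∈ G, y ∈ W
  σ : ∀ W : Y.Opens, W ∈ G → Γ(Y, W)
  compat : ∀ W (hW : W ∈ G) (f : Γ(Y, W)),
    σ (Y.basicOpen f) (basic W hW f) = Y.presheaf.map (homOfLE (Y.basicOpen_le f)).op (σ W hW)

namespace Recipe

variable {U : Y.Opens} (R : Recipe U)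

theorem σ_congr {D D' : Y.Opens} (h : D = D') (hD : D ∈ R.G) (hD' : D' ∈ R.G) :
    Y.presheaf.map (eqToHom h.symm).op (R.σ D hD) = R.σ D' hD' := by
  subst h
  simp

theorem compatible (W W' : Y.Opens) (hW : W ∈ R.G) (hW' : W' ∈ R.G) :
    Y.presheaf.map (homOfLE (inf_le_left : W ⊓ W' ≤ W)).op (R.σ W hW) =
      Y.presheaf.map (homOfLE (inf_le_right : W ⊓ W' ≤ W')).op (R.σ W' hW') := by
  apply eq_of_forall_mem
  intro y hy
  obtain ⟨f, g, hfg, hyf⟩ := exists_basicOpen_le_affine_inter (R.aff W hW) (R.aff W' hW') y hy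
  have hle : Y.basicOpen f ≤ W ⊓ W' := le_inf (Y.basicOpen_le f) (hfg ▸ Y.basicOpen_le g)
  refine ⟨Y.basicOpen f, hle, hyf, ?_⟩
  have key : ∀ {A B : Y.Opens} (p q : op A ⟶ op B) (x : Γ(Y, A)),
      Y.presheaf.map p x = Y.presheaf.map q x := by
    intro A B p q x; rw [Subsingleton.elim p q]
  have h1 := R.compat W hW f
  have h2 := R.compat W' hW' g
  have h3 := R.σ_congr hfg (R.basic W hW f) (R.basic W' hW' g)
  rw [h1, h2] at h3
  have h4 := congrArg (Y.presheaf.map (eqToHom hfg).op) h3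
  simp only [← CommRingCat.comp_apply, ← Y.presheaf.map_comp] at h4 ⊢
  rw [key _ ((homOfLE (Y.basicOpen_le f)).op ≫ (eqToHom hfg.symm).op ≫ (eqToHom hfg).op) (R.σ W hW),
    key _ ((homOfLE (Y.basicOpen_le g)).op ≫ (eqToHom hfg).op) (R.σ W' hW')]
  simpa using h4

/-- **gluing** -/
theorem existsUnique : ∃! s : Γ(Y, U), ∀ W (hW : W ∈ R.G),
    Y.presheaf.map (homOfLE (R.le W hW)).op s = R.σ W hW := by
  have h := Y.sheaf.existsUnique_gluing' (fun W : R.G => W.1) U (fun W => homOfLE (R.le W.1 W.2))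
    (by
      intro y hy
      obtain ⟨W, hW, hyW⟩ := R.cov y hy
      exact Opens.mem_iSup.2 ⟨⟨W, hW⟩, hyW⟩)
    (fun W => R.σ W.1 W.2)
    (by
      intro W W'
      exact R.compatible W.1 W'.1 W.2 W'.2)
  obtain ⟨s, hs, hu⟩ := h
  refine ⟨s, fun W hW => hs ⟨W, hW⟩, fun s' hs' => hu s' (fun W => hs' W.1 W.2)⟩

/-- the glued section -/
noncomputable def glue : Γ(Y, U) := R.existsUnique.choose

theorem glue_res (W : Y.Opens) (hW : W ∈ R.G) :
    Y.presheaf.map (homOfLE (R.le W hW)).op R.glue = R.σ W hW :=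
  R.existsUnique.choose_spec.1 W hW

theorem eq_glue (s : Γ(Y, U))
    (hs : ∀ W (hW : W ∈ R.G), Y.presheaf.map (homOfLE (R.le W hW)).op s = R.σ W hW) : s = R.glue :=
  R.existsUnique.choose_spec.2 s hs

end Recipe

end Groth.Agent.Lib.Helper17.NormGlue

namespace Groth.Agent.Lib.Helper17.NormGlue

variable {X Y : Scheme.{u}}

/-- restriction of a section over `π⁻¹U` to `π⁻¹W` -/
noncomputable abbrev resPre (π : X ⟶ Y) {U W : Y.Opens} (h : W ≤ U) (t : Γ(X, π ⁻¹ᵁ U)) : Γ(X, π ⁻¹ᵁ W) :=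
  X.presheaf.map (homOfLE (π.preimage_mono h)).op t

theorem resPre_resPre (π : X ⟶ Y) {U V W : Y.Opens} (h : V ≤ U) (h' : W ≤ V) (t : Γ(X, π ⁻¹ᵁ U)) :
    resPre π h' (resPre π h t) = resPre π (h'.trans h) t := by
  unfold resPre
  rw [← CommRingCat.comp_apply, ← X.presheaf.map_comp]
  rfl

/-- local norm data on a basis of good affine opens -/
structure LocalNormData (π : X ⟶ Y) (d : ℕ) where
  good : Set Y.Opens
  aff : ∀ W ∈ good, IsAffineOpen W
  basic : ∀ W ∈ good, ∀ f : Γ(Y, W), Y.basicOpen f ∈ good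
  cov : ∀ y : Y, ∃ W ∈ good, y ∈ W
  nrm : ∀ W : Y.Opens, W ∈ good → (Γ(X, π ⁻¹ᵁ W) →* Γ(Y, W))
  compat : ∀ W (hW : W ∈ good) (f : Γ(Y, W)) (t : Γ(X, π ⁻¹ᵁ W)),
    nrm (Y.basicOpen f) (basic W hW f) (resPre π (Y.basicOpen_le f) t) =
      Y.presheaf.map (homOfLE (Y.basicOpen_le f)).op (nrm W hW t)
  nrm_app : ∀ W (hW : W ∈ good) (g : Γ(Y, W)), nrm W hW (π.app W g) = g ^ d
  nrm_mem : ∀ W (hW : W ∈ good) (t : Γ(X, π ⁻¹ᵁ W)) (x : X) (hx : π.base x ∈ W),
    X.presheaf.germ (π ⁻¹ᵁ W) x hx t ∈ IsLocalRing.maximalIdeal (X.presheaf.stalk x) →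
      Y.presheaf.germ W (π.base x) hx (nrm W hW t) ∈ IsLocalRing.maximalIdeal (Y.presheaf.stalk (π.base x))

namespace LocalNormData

variable {π : X ⟶ Y} {d : ℕ} (D : LocalNormData π d)

theorem cov' (U : Y.Opens) (y : Y) (hy : y ∈ U) : ∃ W ∈ D.good, W ≤ U ∧ y ∈ W := by
  obtain ⟨W, hW, hyW⟩ := D.cov y
  obtain ⟨f, hf, hyf⟩ := (D.aff W hW).exists_basicOpen_le (V := U ⊓ W) ⟨y, ⟨hy, hyW⟩⟩ hyW
  exact ⟨Y.basicOpen f, D.basic W hW f, hf.trans inf_le_left, hyf⟩

/-- the recipe for a section `t` over `π⁻¹U` -/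
noncomputable def recipe (U : Y.Opens) (t : Γ(X, π ⁻¹ᵁ U)) : Recipe U where
  G := {W | W ∈ D.good ∧ W ≤ U}
  aff W hW := D.aff W hW.1
  le W hW := hW.2
  basic W hW f := ⟨D.basic W hW.1 f, (Y.basicOpen_le f).trans hW.2⟩
  cov y hy := by
    obtain ⟨W, hW, hWU, hyW⟩ := D.cov' U y hy
    exact ⟨W, ⟨hW, hWU⟩, hyW⟩
  σ W hW := D.nrm W hW.1 (resPre π hW.2 t)
  compat W hW f := by
    rw [← D.compat W hW.1 f, resPre_resPre]

/-- the glued norm -/
noncomputable def normFun (U : Y.Opens) (t : Γ(X, π ⁻¹ᵁ U)) : Γ(Y, U) := (D.recipe U t).glue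

theorem normFun_res (U : Y.Opens) (t : Γ(X, π ⁻¹ᵁ U)) (W : Y.Opens) (hW : W ∈ D.good) (hWU : W ≤ U) :
    Y.presheaf.map (homOfLE hWU).op (D.normFun U t) = D.nrm W hW (resPre π hWU t) :=
  (D.recipe U t).glue_res W ⟨hW, hWU⟩

theorem eq_normFun (U : Y.Opens) (t : Γ(X, π ⁻¹ᵁ U)) (s : Γ(Y, U))
    (hs : ∀ W (hW : W ∈ D.good) (hWU : W ≤ U),
      Y.presheaf.map (homOfLE hWU).op s = D.nrm W hW (resPre π hWU t)) : s = D.normFun U t :=
  (D.recipe U t).eq_glue s (fun W hW => hs W hW.1 hW.2)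

/-- the glued norm as a monoid homomorphism -/
noncomputable def normHom (U : Y.Opens) : Γ(X, π ⁻¹ᵁ U) →* Γ(Y, U) where
  toFun := D.normFun U
  map_one' := by
    symm
    apply D.eq_normFun
    intro W hW hWU
    rw [map_one]
    unfold resPre
    rw [map_one, map_one]
  map_mul' a b := by
    symm
    apply D.eq_normFun
    intro W hW hWU
    rw [map_mul, D.normFun_res U a W hW hWU, D.normFun_res U b W hW hWU]
    unfold resPre
    rw [map_mul, map_mul]

/-- **the norm of degree `d` glued from local data** -/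
noncomputable def toNormOfDegree (hd : 1 ≤ d) : Nrm.NormOfDegree π d where
  one_le := hd
  norm := D.normHom
  norm_res {U V} i s := by
    change Y.presheaf.map i.op (D.normFun U s) = D.normFun V _
    apply D.eq_normFun
    intro W hW hWV
    rw [← CommRingCat.comp_apply, ← Y.presheaf.map_comp]
    have h1 := D.normFun_res U s W hW (hWV.trans i.le)
    have h2 : (i.op ≫ (homOfLE hWV).op) = (homOfLE (hWV.trans i.le)).op := rfl
    rw [h2, h1]
    congr 1
    unfold resPre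
    rw [← CommRingCat.comp_apply, ← X.presheaf.map_comp]
    rfl
  norm_app U g := by
    change D.normFun U _ = _
    symm
    apply D.eq_normFun
    intro W hW hWU
    rw [map_pow, ← D.nrm_app W hW]
    congr 1
    have h := ConcreteCategory.congr_hom (π.naturality (homOfLE hWU).op) g
    exact h
  norm_mem U s x hx hs := by
    obtain ⟨W, hW, hWU, hxW⟩ := D.cov' U (π.base x) hx
    have h1 := D.nrm_mem W hW (resPre π hWU s) x hxW (by
      unfold resPre
      rw [X.presheaf.germ_res_apply]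
      exact hs)
    rw [← D.normFun_res U s W hW hWU, Y.presheaf.germ_res_apply] at h1
    exact h1

end LocalNormData

end Groth.Agent.Lib.Helper17.NormGlue
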