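import Groth.Agent.Lib.Helper17.WNormDef
import Groth.Agent.Lib.Helper17.NormGlue
import Groth.Agent.Lib.Helper17.NormFLF
import Mathlib
set_option backward.isDefEq.respectTransparency.types false
set_option autoImplicit false
universe u
open CategoryTheory CategoryTheory.Limits AlgebraicGeometry Opposite TopologicalSpace

/-!
# Helper17 — LNormDef: a degree-free weak norm for a morphism `π : X ⟶ Y`

The data of `WNorm` without the degree: a multiplicative map on sections over inverse images, compatible with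
restriction, such that a function whose norm is invertible at `y` is invertible at some point over `y`.
A finite surjective morphism `π` such that `Y` is covered by affine opens `W` with `Γ(X, π⁻¹W)` free over `Γ(Y, W)`
has one (the determinant norm, glued).
-/

namespace Groth.Agent.Lib.Helper17

variable {X Y : Scheme.{u}}

/-- a degree-free weak norm -/
structure LNorm (π : X ⟶ Y) where
  norm : ∀ U : Y.Opens, Γ(X, π ⁻¹ᵁ U) →* Γ(Y, U)
  norm_res : ∀ {U V : Y.Opens} (i : V ⟶ U) (s : Γ(X, π ⁻¹ᵁ U)),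
    Y.presheaf.map i.op (norm U s) = norm V (X.presheaf.map ((Opens.map π.base).map i).op s)
  norm_mem : ∀ (U : Y.Opens) (s : Γ(X, π ⁻¹ᵁ U)) (y : Y), y ∈ Y.basicOpen (norm U s) →
    ∃ x : X, π.base x = y ∧ x ∈ X.basicOpen s

/-- a weak norm of degree `d` is a degree-free weak norm -/
def WNorm.toLNorm {π : X ⟶ Y} {d : ℕ} (Nm : WNorm π d) : LNorm π where
  norm := Nm.norm
  norm_res := Nm.norm_res
  norm_mem := Nm.norm_mem

namespace LNormGlue

open NormGlue NormFLF

attribute [local instance] Groth.Agent.Lib.Helper17.NormFLF.algApp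

variable (π : X ⟶ Y) [IsFinite π] (hcov : ∀ y : Y, ∃ W, Good π W ∧ y ∈ W)

theorem cov' (hcov : ∀ y : Y, ∃ W, Good π W ∧ y ∈ W) (U : Y.Opens) (y : Y) (hy : y ∈ U) :
    ∃ W, Good π W ∧ W ≤ U ∧ y ∈ W := by
  obtain ⟨W, hW, hyW⟩ := hcov y
  obtain ⟨f, hf, hyf⟩ := hW.1.exists_basicOpen_le (V := U ⊓ W) ⟨y, ⟨hy, hyW⟩⟩ hyW
  exact ⟨Y.basicOpen f, good_basicOpen π f hW, hf.trans inf_le_left, hyf⟩

/-- the recipe for a section `t` over `π⁻¹U` -/
noncomputable def recipe (hcov : ∀ y : Y, ∃ W, Good π W ∧ y ∈ W) (U : Y.Opens) (t : Γ(X, π ⁻¹ᵁ U)) :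
    Recipe U where
  G := {W | Good π W ∧ W ≤ U}
  aff W hW := hW.1.1
  le W hW := hW.2
  basic W hW f := ⟨good_basicOpen π f hW.1, (Y.basicOpen_le f).trans hW.2⟩
  cov y hy := by
    obtain ⟨W, hW, hWU, hyW⟩ := cov' π hcov U y hy
    exact ⟨W, ⟨hW, hWU⟩, hyW⟩
  σ W hW := Algebra.norm Γ(Y, W) (resPre π hW.2 t)
  compat W hW f := by
    rw [← norm_basicOpen π f hW.1, resPre_resPre]

/-- the glued norm -/
noncomputable def normFun (U : Y.Opens) (t : Γ(X, π ⁻¹ᵁ U)) : Γ(Y, U) := (recipe π hcov U t).glue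

theorem normFun_res (U : Y.Opens) (t : Γ(X, π ⁻¹ᵁ U)) (W : Y.Opens) (hW : Good π W) (hWU : W ≤ U) :
    Y.presheaf.map (homOfLE hWU).op (normFun π hcov U t) = Algebra.norm Γ(Y, W) (resPre π hWU t) :=
  (recipe π hcov U t).glue_res W ⟨hW, hWU⟩

theorem eq_normFun (U : Y.Opens) (t : Γ(X, π ⁻¹ᵁ U)) (s : Γ(Y, U))
    (hs : ∀ W (_ : Good π W) (hWU : W ≤ U),
      Y.presheaf.map (homOfLE hWU).op s = Algebra.norm Γ(Y, W) (resPre π hWU t)) : s = normFun π hcov U t :=
  (recipe π hcov U t).eq_glue s (fun W hW => hs W hW.1 hW.2)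

/-- the glued norm as a monoid homomorphism -/
noncomputable def normHom (U : Y.Opens) : Γ(X, π ⁻¹ᵁ U) →* Γ(Y, U) where
  toFun := normFun π hcov U
  map_one' := by
    symm
    apply eq_normFun
    intro W hW hWU
    rw [map_one]
    unfold resPre
    rw [map_one, map_one]
  map_mul' a b := by
    symm
    apply eq_normFun
    intro W hW hWU
    rw [map_mul, normFun_res π hcov U a W hW hWU, normFun_res π hcov U b W hW hWU]
    unfold resPre
    rw [map_mul, map_mul]

/-- **the degree-free norm of a finite surjective morphism, locally free over the target** -/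
noncomputable def lnorm (hsurj : Function.Surjective π.base) : LNorm π where
  norm := normHom π hcov
  norm_res {U V} i s := by
    change Y.presheaf.map i.op (normFun π hcov U s) = normFun π hcov V _
    apply eq_normFun
    intro W hW hWV
    rw [← CommRingCat.comp_apply, ← Y.presheaf.map_comp]
    have h1 := normFun_res π hcov U s W hW (hWV.trans i.le)
    have h2 : (i.op ≫ (homOfLE hWV).op) = (homOfLE (hWV.trans i.le)).op := rfl
    rw [h2, h1]
    congr 1
    unfold resPre
    rw [← CommRingCat.comp_apply, ← X.presheaf.map_comp]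
    rfl
  norm_mem U s y hy := by
    obtain ⟨x, rfl⟩ := hsurj y
    refine ⟨x, rfl, ?_⟩
    have hx : π.base x ∈ U := Y.basicOpen_le _ hy
    by_contra hxs
    have h1 : X.presheaf.germ (π ⁻¹ᵁ U) x hx s ∈ IsLocalRing.maximalIdeal (X.presheaf.stalk x) := by
      rw [IsLocalRing.mem_maximalIdeal, mem_nonunits_iff]
      intro hu
      exact hxs ((Scheme.mem_basicOpen _ s x hx).2 hu)
    obtain ⟨W, hW, hWU, hxW⟩ := cov' π hcov U (π.base x) hx
    have h2 := NormFLF.norm_mem π hW (resPre π hWU s) x hxW (by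
      unfold resPre
      rw [X.presheaf.germ_res_apply]
      exact h1)
    rw [← normFun_res π hcov U s W hW hWU, Y.presheaf.germ_res_apply] at h2
    rw [IsLocalRing.mem_maximalIdeal, mem_nonunits_iff] at h2
    exact h2 ((Scheme.mem_basicOpen _ _ _ hx).1 hy)

end LNormGlue

end Groth.Agent.Lib.Helper17
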