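import Groth.Prelude.Def_Fitting
import Groth.Agent.Lib.Helper17.WNormDef
import Groth.Agent.Lib.Helper17.CocycleMod
import Groth.Agent.Lib.Helper17.FiniteBirPic
import Groth.Agent.Lib.Helper28.SecPow
import Mathlib
set_option backward.isDefEq.respectTransparency.types false
set_option autoImplicit false
universe u
open CategoryTheory CategoryTheory.Limits AlgebraicGeometry Opposite TopologicalSpace

/-!
# Helper17 — WNormMod: the norm of an invertible module along a finite morphism with a weak norm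
(copy of `NormMod` for `WNorm`)

For `π : X ⟶ Y` finite with a norm `Nm` and an invertible `O_X`-module `M` we build an invertible
`O_Y`-module `N` (by norming the transition functions of `M` with respect to a cover of `Y` over whose
inverse images `M` is trivial) such that every global section `s` of `M` has a norm `t`, a global section
of `N`, with `π⁻¹(Y_t) ⊆ X_s` and `y ∈ Y_t` whenever `π⁻¹(y) ⊆ X_s`.
-/

noncomputable section
namespace Groth.Agent.Lib.Helper17.WNormMod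

open Groth.Agent.Lib.Helper28 Groth.Agent.Lib.Helper28.QCohLoc Groth.Agent.Lib.Helper28.GenLocus
open Groth.Agent.Lib.Helper17

variable {X Y : Scheme.{u}} {π : X ⟶ Y} {d : ℕ} (Nm : WNorm π d)

theorem norm_resO {U U' : Y.Opens} (h : U' ≤ U) (a : Γ(X, π ⁻¹ᵁ U)) :
    resO h (Nm.norm U a) = Nm.norm U' (resO (π.preimage_mono h) a) := Nm.norm_res (homOfLE h) a

/-- if `a` is invertible along the whole fibre over `y`, its norm is invertible at `y` -/
theorem mem_basicOpen_norm [IsFinite π] (U : Y.Opens) (a : Γ(X, π ⁻¹ᵁ U)) (y : Y) (hy : y ∈ U)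
    (h : π ⁻¹' {y} ⊆ X.basicOpen a) : y ∈ Y.basicOpen (Nm.norm U a) := by
  let Z : Set X := (X.basicOpen a : Set X)ᶜ
  have hZ : IsClosed Z := (X.basicOpen a).isOpen.isClosed_compl
  have hπZ : IsClosed (π '' Z) := π.isClosedMap _ hZ
  let U' : Y.Opens := U ⊓ ⟨(π '' Z)ᶜ, hπZ.isOpen_compl⟩
  have hyU' : y ∈ U' := by
    refine ⟨hy, ?_⟩
    rintro ⟨x, hxZ, hxy⟩
    exact hxZ (h hxy)
  have hU'U : U' ≤ U := inf_le_left
  have hle : π ⁻¹ᵁ U' ≤ X.basicOpen a := by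
    intro x hx
    by_contra hxs
    exact hx.2 ⟨x, hxs, rfl⟩
  have hunit : IsUnit (resO (π.preimage_mono hU'U) a) := isUnit_resO_of_le_basicOpen a hle
  have hu2 : IsUnit (resO hU'U (Nm.norm U a)) := by
    rw [norm_resO]
    exact hunit.map (Nm.norm U')
  exact le_basicOpen_of_isUnit_resO _ hU'U hu2 hyU'

section Cover

variable {ι : Type u} (V : ι → Y.Opens) (M : X.Modules) (ℓ : ∀ i, Γ(M, π ⁻¹ᵁ V i))
  (hℓ : ∀ i, IsGen M (π ⁻¹ᵁ V i) (ℓ i))

/-- the transition functions of `M` -/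
def gg (i j : ι) : Γ(X, π ⁻¹ᵁ (V i ⊓ V j)) :=
  (hℓ j).coef (π.preimage_mono inf_le_right) (res M (π.preimage_mono inf_le_left) (ℓ i))

theorem coef_rel (i j : ι) (W : Y.Opens) (hWi : W ≤ V i) (hWj : W ≤ V j) (x : Γ(M, π ⁻¹ᵁ W)) :
    (hℓ j).coef (π.preimage_mono hWj) x =
      (hℓ i).coef (π.preimage_mono hWi) x * resO (π.preimage_mono (le_inf hWi hWj)) (gg V M ℓ hℓ i j) := by
  apply (hℓ j).coef_eq
  have h1 : res M (π.preimage_mono (inf_le_left : V i ⊓ V j ≤ V i)) (ℓ i) =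
      (gg V M ℓ hℓ i j • res M (π.preimage_mono (inf_le_right : V i ⊓ V j ≤ V j)) (ℓ j) :
        Γ(M, π ⁻¹ᵁ (V i ⊓ V j))) := ((hℓ j).coef_smul _ _).symm
  have h2 := congrArg (res M (π.preimage_mono (le_inf hWi hWj))) h1
  rw [res_res, res_smul, res_res] at h2
  rw [mul_smul, ← h2, (hℓ i).coef_smul]

theorem coef_res_ell (i j : ι) (W : Y.Opens) (hWi : W ≤ V i) (hWj : W ≤ V j) :
    (hℓ j).coef (π.preimage_mono hWj) (res M (π.preimage_mono hWi) (ℓ i)) =
      resO (π.preimage_mono (le_inf hWi hWj)) (gg V M ℓ hℓ i j) := by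
  rw [coef_rel V M ℓ hℓ i j W hWi hWj, (hℓ i).coef_res_self, one_mul]

theorem gg_mul (i j k : ι) (W : Y.Opens) (hWi : W ≤ V i) (hWj : W ≤ V j) (hWk : W ≤ V k) :
    resO (π.preimage_mono (le_inf hWi hWk)) (gg V M ℓ hℓ i k) =
      resO (π.preimage_mono (le_inf hWi hWj)) (gg V M ℓ hℓ i j) *
        resO (π.preimage_mono (le_inf hWj hWk)) (gg V M ℓ hℓ j k) := by
  rw [← coef_res_ell V M ℓ hℓ i k W hWi hWk, coef_rel V M ℓ hℓ j k W hWj hWk,
    coef_res_ell V M ℓ hℓ i j W hWi hWj]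

theorem isUnit_gg (i j : ι) : IsUnit (gg V M ℓ hℓ i j) := by
  have h := gg_mul V M ℓ hℓ i j i (V i ⊓ V j) inf_le_left inf_le_right inf_le_left
  have h1 : resO (π.preimage_mono (le_inf (inf_le_left : V i ⊓ V j ≤ V i) inf_le_left))
      (gg V M ℓ hℓ i i) = 1 := by
    rw [← coef_res_ell V M ℓ hℓ i i (V i ⊓ V j) inf_le_left inf_le_left, (hℓ i).coef_res_self]
  rw [h1] at h
  have h2 : resO (π.preimage_mono (le_inf (inf_le_left : V i ⊓ V j ≤ V i) inf_le_right))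
      (gg V M ℓ hℓ i j) = gg V M ℓ hℓ i j := by
    exact res_self (Coh.structureModule X) _
  rw [h2] at h
  exact IsUnit.of_mul_eq_one _ h.symm

/-- the normed cocycle -/
def eta (i j : ι) : Γ(Y, V i ⊓ V j) := Nm.norm (V i ⊓ V j) (gg V M ℓ hℓ i j)

theorem isUnit_eta (i j : ι) : IsUnit (eta Nm V M ℓ hℓ i j) := (isUnit_gg V M ℓ hℓ i j).map _

theorem eta_cocycle (i j k : ι) :
    resO (inf_le_inf_right (V k) inf_le_left : V i ⊓ V j ⊓ V k ≤ V i ⊓ V k) (eta Nm V M ℓ hℓ i k) =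
      resO (inf_le_left : V i ⊓ V j ⊓ V k ≤ V i ⊓ V j) (eta Nm V M ℓ hℓ i j) *
        resO (inf_le_inf_right (V k) inf_le_right : V i ⊓ V j ⊓ V k ≤ V j ⊓ V k) (eta Nm V M ℓ hℓ j k) := by
  unfold eta
  rw [norm_resO, norm_resO, norm_resO, ← map_mul]
  congr 1
  exact gg_mul V M ℓ hℓ i j k (V i ⊓ V j ⊓ V k) (inf_le_left.trans inf_le_left)
    (inf_le_left.trans inf_le_right) inf_le_right

/-- the norm module -/
abbrev NN : Y.Modules := CocycleMod.L V (eta Nm V M ℓ hℓ)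

theorem isInvertible_NN (hcov : ∀ y : Y, ∃ i, y ∈ V i) : PicF.IsInvertible (NN Nm V M ℓ hℓ) :=
  isInvertible_of_isGen _ (fun y => by
    obtain ⟨i, hi⟩ := hcov y
    exact ⟨V i, CocycleMod.gen V _ (eta_cocycle Nm V M ℓ hℓ) i, hi,
      CocycleMod.isGen_gen V _ (eta_cocycle Nm V M ℓ hℓ) (isUnit_eta Nm V M ℓ hℓ) i⟩)

/-- coefficients of a global section of `M` -/
def aa (σ : Γ(M, ⊤)) (i : ι) : Γ(X, π ⁻¹ᵁ (⊤ ⊓ V i)) :=
  (hℓ i).coef (π.preimage_mono inf_le_right) (res M (le_top : π ⁻¹ᵁ (⊤ ⊓ V i) ≤ ⊤) σ)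

/-- the family of norms of the coefficients -/
def tt (σ : Γ(M, ⊤)) : CocycleMod.Amb V (⊤ : Y.Opens) := fun i => Nm.norm (⊤ ⊓ V i) (aa V M ℓ hℓ σ i)

theorem isSec_tt (σ : Γ(M, ⊤)) : CocycleMod.IsSec V (eta Nm V M ℓ hℓ) ⊤ (tt Nm V M ℓ hℓ σ) := by
  intro i j
  unfold tt eta
  rw [norm_resO, norm_resO, norm_resO, ← map_mul]
  congr 1
  unfold aa
  rw [← (hℓ j).coef_res, ← (hℓ i).coef_res, res_res, res_res]
  exact coef_rel V M ℓ hℓ i j (⊤ ⊓ (V i ⊓ V j)) (inf_le_right.trans inf_le_left)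
    (inf_le_right.trans inf_le_right) _

/-- the norm of a global section, as a global section of the norm module -/
def normSec (σ : Γ(M, ⊤)) : Γ(NN Nm V M ℓ hℓ, ⊤) :=
  CocycleMod.ofSect V _ ⟨tt Nm V M ℓ hℓ σ, isSec_tt Nm V M ℓ hℓ σ⟩

/-- the coefficient of the norm section with respect to the generator over `V i` -/
theorem res_normSec (σ : Γ(M, ⊤)) (i : ι) :
    res (NN Nm V M ℓ hℓ) (le_top : V i ≤ ⊤) (normSec Nm V M ℓ hℓ σ) =
      (Nm.norm (V i) ((hℓ i).coef le_rfl (res M (le_top : π ⁻¹ᵁ (V i) ≤ ⊤) σ)) •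
        CocycleMod.gen V _ (eta_cocycle Nm V M ℓ hℓ) i : Γ(NN Nm V M ℓ hℓ, V i)) := by
  apply CocycleMod.toSect_injective
  refine Subtype.ext (funext fun k => ?_)
  rw [CocycleMod.toSect_smul_apply, CocycleMod.toSect_res_apply, CocycleMod.toSect_gen_apply]
  change resO _ (tt Nm V M ℓ hℓ σ k) = _
  unfold tt eta
  rw [norm_resO, norm_resO, ← map_mul]
  congr 1
  unfold aa
  rw [← (hℓ k).coef_res, ← (hℓ i).coef_res, res_res, res_res]
  have h := coef_rel V M ℓ hℓ i k (V i ⊓ V k) inf_le_left inf_le_right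
    (res M (le_top : π ⁻¹ᵁ (V i ⊓ V k) ≤ ⊤) σ)
  have h2 : resO (π.preimage_mono (le_inf (inf_le_left : V i ⊓ V k ≤ V i) inf_le_right))
      (gg V M ℓ hℓ i k) = gg V M ℓ hℓ i k := res_self (Coh.structureModule X) _
  rw [h2] at h
  exact h

end Cover

end Groth.Agent.Lib.Helper17.WNormMod
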