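import Groth.Agent.Lib.Helper17.LNormDef
import Groth.Agent.Lib.Helper28.GenLocus
import Mathlib
set_option backward.isDefEq.respectTransparency.types false
set_option autoImplicit false
universe u
open CategoryTheory CategoryTheory.Limits AlgebraicGeometry Opposite TopologicalSpace

/-!
# Helper17 — LNormRestrict: the restriction of a degree-free weak norm of `π : X ⟶ Y` to an open `U` of `Y`,
a degree-free weak norm of `π ∣_ U : π⁻¹U ⟶ U`
-/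

noncomputable section
namespace Groth.Agent.Lib.Helper17.LNormRestrict

open Groth.Agent.Lib.Helper28 Groth.Agent.Lib.Helper28.QCohLoc Groth.Agent.Lib.Helper28.GenLocus
open Groth.Agent.Lib.Helper17

variable {X Y : Scheme.{u}} {π : X ⟶ Y} (Nm : LNorm π) (U : Y.Opens)

theorem preimage_image_le (W : (↑U : Scheme.{u}).Opens) :
    π ⁻¹ᵁ (U.ι ''ᵁ W) ≤ (π ⁻¹ᵁ U).ι ''ᵁ ((π ∣_ U) ⁻¹ᵁ W) :=
  le_of_eq (image_morphismRestrict_preimage π U W).symm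

theorem image_preimage_le' (W : (↑U : Scheme.{u}).Opens) :
    (π ⁻¹ᵁ U).ι ''ᵁ ((π ∣_ U) ⁻¹ᵁ W) ≤ π ⁻¹ᵁ (U.ι ''ᵁ W) :=
  le_of_eq (image_morphismRestrict_preimage π U W)

/-- a section over `(π ∣_ U)⁻¹ W`, as a section of `X` over `π⁻¹ (W)` -/
def up (W : (↑U : Scheme.{u}).Opens) (s : Γ(((π ⁻¹ᵁ U : X.Opens) : Scheme.{u}), (π ∣_ U) ⁻¹ᵁ W)) :
    Γ(X, π ⁻¹ᵁ (U.ι ''ᵁ W)) :=
  resO (preimage_image_le U W) (show Γ(X, (π ⁻¹ᵁ U).ι ''ᵁ ((π ∣_ U) ⁻¹ᵁ W)) from s)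

theorem up_one (W : (↑U : Scheme.{u}).Opens) : up (π := π) U W 1 = 1 := map_one _

theorem up_mul (W : (↑U : Scheme.{u}).Opens) (s t : Γ(((π ⁻¹ᵁ U : X.Opens) : Scheme.{u}), (π ∣_ U) ⁻¹ᵁ W)) :
    up U W (s * t) = up U W s * up U W t := map_mul _ _ _

/-- the restricted norm -/
def normU (W : (↑U : Scheme.{u}).Opens) :
    Γ(((π ⁻¹ᵁ U : X.Opens) : Scheme.{u}), (π ∣_ U) ⁻¹ᵁ W) →* Γ((↑U : Scheme.{u}), W) where
  toFun s := (show Γ((↑U : Scheme.{u}), W) from Nm.norm (U.ι ''ᵁ W) (up U W s))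
  map_one' := by
    show Nm.norm (U.ι ''ᵁ W) (up U W 1) = 1
    rw [up_one, map_one]
  map_mul' s t := by
    show Nm.norm (U.ι ''ᵁ W) (up U W (s * t)) = Nm.norm (U.ι ''ᵁ W) (up U W s) * Nm.norm (U.ι ''ᵁ W) (up U W t)
    rw [up_mul, map_mul]

theorem normU_apply (W : (↑U : Scheme.{u}).Opens)
    (s : Γ(((π ⁻¹ᵁ U : X.Opens) : Scheme.{u}), (π ∣_ U) ⁻¹ᵁ W)) :
    (show Γ(Y, U.ι ''ᵁ W) from normU Nm U W s) = Nm.norm (U.ι ''ᵁ W) (up U W s) := rfl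

/-- **the restriction of a norm to an open subscheme of the target** -/
def restrict : LNorm (π ∣_ U) where
  norm := normU Nm U
  norm_res {W W'} i s := by
    show Y.presheaf.map (U.ι.opensFunctor.map i).op (Nm.norm (U.ι ''ᵁ W) (up U W s)) =
      Nm.norm (U.ι ''ᵁ W') (up U W' _)
    rw [Nm.norm_res]
    congr 1
    unfold up resO
    show (X.presheaf.map _) ((X.presheaf.map _) s) = (X.presheaf.map _) ((X.presheaf.map _) s)
    rw [← CommRingCat.comp_apply, ← X.presheaf.map_comp, ← CommRingCat.comp_apply, ← X.presheaf.map_comp]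
    rfl
  norm_mem W s y hy := by
    let y' : ↥U := y
    have hy' : (y'.1 : Y) ∈ Y.basicOpen (Nm.norm (U.ι ''ᵁ W) (up U W s)) :=
      (Scheme.Opens.mem_basicOpen_toScheme (x := y')).1 hy
    obtain ⟨x₀, hx₀y, hx₀⟩ := Nm.norm_mem (U.ι ''ᵁ W) (up U W s) y'.1 hy'
    have hx₀U : x₀ ∈ π ⁻¹ᵁ U := by
      show π.base x₀ ∈ U
      rw [hx₀y]
      exact y'.2
    let x' : ↥(π ⁻¹ᵁ U) := ⟨x₀, hx₀U⟩
    refine ⟨x', ?_, ?_⟩
    · apply Subtype.ext
      rw [morphismRestrict_base_coe]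
      exact hx₀y
    · refine (Scheme.Opens.mem_basicOpen_toScheme (x := x')).2 ?_
      unfold up resO at hx₀
      have h1 := X.basicOpen_res (show Γ(X, (π ⁻¹ᵁ U).ι ''ᵁ ((π ∣_ U) ⁻¹ᵁ W)) from s)
        (homOfLE (preimage_image_le U W)).op
      rw [h1] at hx₀
      exact hx₀.2

end Groth.Agent.Lib.Helper17.LNormRestrict
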