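import Groth.Agent.Lib.Helper17.LNormAmple
import Groth.Agent.Lib.Helper17.LNormRestrict
import Groth.Agent.Lib.Helper28.RestrictGen
import Groth.Agent.Lib.Helper29.FreeIso2
import Mathlib
set_option backward.isDefEq.respectTransparency.types false
set_option autoImplicit false
universe u
open CategoryTheory CategoryTheory.Limits AlgebraicGeometry Opposite TopologicalSpace

/-!
# Helper17 — LNormRel: the norm module of `M` is ample over every open `U` of the target over whose inverse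
image `M` is ample
-/

noncomputable section
namespace Groth.Agent.Lib.Helper17.LNormRel

open Groth.Agent.Lib.Helper28 Groth.Agent.Lib.Helper28.QCohLoc Groth.Agent.Lib.Helper28.GenLocus
open Groth.Agent.Lib.Helper17 Groth.Agent.Lib.Helper17.LNormMod
open Groth.Agent.Lib.Helper17.WNormMod (gg coef_rel coef_res_ell gg_mul isUnit_gg)
open Groth.Agent.Lib.Helper29.FreeIso (restrict_smul_eq res_restrict_eq)

variable {X Y : Scheme.{u}} {π : X ⟶ Y}

variable {ι : Type u} (V : ι → Y.Opens) (M : X.Modules) (ℓ : ∀ i, Γ(M, π ⁻¹ᵁ V i))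
  (hℓ : ∀ i, IsGen M (π ⁻¹ᵁ V i) (ℓ i)) (U : Y.Opens)

/-- the restricted cover -/
abbrev V' (i : ι) : (↑U : Scheme.{u}).Opens := U.ι ⁻¹ᵁ V i

variable (π) in
theorem le1 (i : ι) : (π ⁻¹ᵁ U).ι ''ᵁ ((π ∣_ U) ⁻¹ᵁ (V' V U i)) ≤ π ⁻¹ᵁ V i := by
  rw [image_morphismRestrict_preimage]
  exact π.preimage_mono (U.ι.image_preimage_le (V i))

/-- the restricted generators -/
def ℓ' (i : ι) : Γ(M.restrict (π ⁻¹ᵁ U).ι, (π ∣_ U) ⁻¹ᵁ (V' V U i)) :=
  (show Γ(M.restrict (π ⁻¹ᵁ U).ι, (π ∣_ U) ⁻¹ᵁ (V' V U i)) from res M (le1 π V U i) (ℓ i))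

include hℓ in
theorem hℓ' (i : ι) : IsGen (M.restrict (π ⁻¹ᵁ U).ι) ((π ∣_ U) ⁻¹ᵁ (V' V U i)) (ℓ' V M ℓ U i) :=
  isGen_restrict_of_isGen M (π ⁻¹ᵁ U) _ ((hℓ i).res (le1 π V U i))

variable (π) in
theorem le2 (i j : ι) : (π ⁻¹ᵁ U).ι ''ᵁ ((π ∣_ U) ⁻¹ᵁ (V' V U i ⊓ V' V U j)) ≤ π ⁻¹ᵁ (V i ⊓ V j) := by
  rw [image_morphismRestrict_preimage]
  refine π.preimage_mono ?_
  refine le_inf ?_ ?_
  · exact (U.ι.image_mono inf_le_left).trans (U.ι.image_preimage_le (V i))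
  · exact (U.ι.image_mono inf_le_right).trans (U.ι.image_preimage_le (V j))

/-- the restricted transition functions -/
def c' (i j : ι) : Γ(X, (π ⁻¹ᵁ U).ι ''ᵁ ((π ∣_ U) ⁻¹ᵁ (V' V U i ⊓ V' V U j))) :=
  resO (le2 π V U i j) (gg V M ℓ hℓ i j)

/-- the transition functions of the restricted module are the restrictions of the transition functions -/
theorem gg' (i j : ι) :
    gg (V' V U) (M.restrict (π ⁻¹ᵁ U).ι) (ℓ' V M ℓ U) (hℓ' V M ℓ hℓ U) i j =
      (show Γ(((π ⁻¹ᵁ U : X.Opens) : Scheme.{u}), (π ∣_ U) ⁻¹ᵁ (V' V U i ⊓ V' V U j)) from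
        c' V M ℓ hℓ U i j) := by
  unfold gg
  apply (hℓ' V M ℓ hℓ U j).coef_eq
  rw [restrict_smul_eq, res_restrict_eq, res_restrict_eq]
  unfold ℓ'
  show (c' V M ℓ hℓ U i j • res M _ (res M _ (ℓ j)) : Γ(M, _)) = res M _ (res M _ (ℓ i))
  unfold c'
  rw [res_res, res_res]
  have h1 : res M (π.preimage_mono (inf_le_left : V i ⊓ V j ≤ V i)) (ℓ i) =
      (gg V M ℓ hℓ i j • res M (π.preimage_mono (inf_le_right : V i ⊓ V j ≤ V j)) (ℓ j) :
        Γ(M, π ⁻¹ᵁ (V i ⊓ V j))) := ((hℓ j).coef_smul _ _).symm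
  have h2 := congrArg (res M (le2 π V U i j)) h1
  rw [res_res, res_smul, res_res] at h2
  exact h2.symm

theorem le3 (i j : ι) : U.ι ''ᵁ (V' V U i ⊓ V' V U j) ≤ V i ⊓ V j :=
  le_inf ((U.ι.image_mono inf_le_left).trans (U.ι.image_preimage_le (V i)))
    ((U.ι.image_mono inf_le_right).trans (U.ι.image_preimage_le (V j)))

/-- **the norm module of `M` is ample over every open `U` over whose inverse image `M` is ample** -/
theorem isAmple_restrict_NN [IsFinite π] (Nm : LNorm π) (hcov : ∀ y : Y, ∃ i, y ∈ V i)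
    (hample : CohB1.IsAmple (M.restrict (π ⁻¹ᵁ U).ι)) :
    CohB1.IsAmple ((NN Nm V M ℓ hℓ).restrict U.ι) := by
  haveI : IsFinite (π ∣_ U) := MorphismProperty.of_isPullback (isPullback_morphismRestrict π U).flip inferInstance
  have hcov' : ∀ y : (↑U : Scheme.{u}), ∃ i, y ∈ V' V U i := by
    intro y
    obtain ⟨i, hi⟩ := hcov (U.ι y)
    exact ⟨i, hi⟩
  let N := NN Nm V M ℓ hℓ
  let e' : ∀ i, Γ(N.restrict U.ι, V' V U i) := fun i =>
    (show Γ(N.restrict U.ι, V' V U i) from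
      res N (U.ι.image_preimage_le (V i)) (CocycleMod.gen V _ (eta_cocycle Nm V M ℓ hℓ) i))
  have he' : ∀ i, IsGen (N.restrict U.ι) (V' V U i) (e' i) := fun i =>
    isGen_restrict_of_isGen N U _
      ((CocycleMod.isGen_gen V _ (eta_cocycle Nm V M ℓ hℓ) (isUnit_eta Nm V M ℓ hℓ) i).res _)
  refine LNormAmple.isAmple_of_normRel (π := π ∣_ U) (V' V U) (M.restrict (π ⁻¹ᵁ U).ι) (ℓ' V M ℓ U)
    (hℓ' V M ℓ hℓ U) (LNormRestrict.restrict Nm U) hcov' hample (N.restrict U.ι) e' he' ?_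
  intro i j
  rw [gg', restrict_smul_eq, res_restrict_eq, res_restrict_eq]
  show res N _ (res N _ (CocycleMod.gen V _ (eta_cocycle Nm V M ℓ hℓ) i)) =
    ((show Γ(Y, U.ι ''ᵁ (V' V U i ⊓ V' V U j)) from
        LNormRestrict.normU Nm U (V' V U i ⊓ V' V U j) (c' V M ℓ hℓ U i j)) •
      res N _ (res N _ (CocycleMod.gen V _ (eta_cocycle Nm V M ℓ hℓ) j)) : Γ(N, _))
  rw [res_res, res_res, LNormRestrict.normU_apply]
  have hup : LNormRestrict.up U (V' V U i ⊓ V' V U j) (c' V M ℓ hℓ U i j) =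
      resO (π.preimage_mono (le3 V U i j)) (gg V M ℓ hℓ i j) := by
    unfold LNormRestrict.up c'
    exact resO_resO _ _ _
  rw [hup, ← norm_resO Nm (le3 V U i j)]
  have h1 := CocycleMod.gen_rel V _ (eta_cocycle Nm V M ℓ hℓ) i j
  have h2 := congrArg (res N (le3 V U i j)) h1
  rw [res_res, res_smul, res_res] at h2
  exact h2

end Groth.Agent.Lib.Helper17.LNormRel
end
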