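import Groth.Agent.Lib.Helper17.Serre
import Groth.Agent.Lib.Helper17.Indicator
import Groth.Agent.Lib.Helper28.TwistGen
import Groth.Agent.Lib.Helper4.ConnIdem
import Groth.Agent.Lib.Helper6.K0Op
import Groth.Prelude.Def_Lef
import Mathlib
set_option backward.isDefEq.respectTransparency.types false
set_option autoImplicit false
set_option linter.style.haveILetI false
set_option linter.unusedSectionVars false

/-!
# Lefschetz condition and connectedness
-/

universe u
open CategoryTheory CategoryTheory.Limits AlgebraicGeometry Opposite TopologicalSpace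

noncomputable section
namespace Groth.Agent.Lib.Helper17.LefConn

open Groth.Agent.Lib.Helper28 Groth.Agent.Lib.Helper28.QCohLoc Groth.Agent.Lib.Helper17.Indicator
open Groth.Agent.Lib.Helper4.ConnIdem

variable {U : Scheme.{u}}

/-- `Lef.quotMap` on sections -/
theorem quotMap_app {I J : U.IdealSheafData} (h : I ≤ J) (W : U.Opens)
    (x : Γ(I.subscheme, I.subschemeι ⁻¹ᵁ W)) :
    (Lef.quotMap h).app W (show Γ(ClSub.quotMod I, W) from x) =
      (show Γ(ClSub.quotMod J, W) from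
        (J.subscheme.presheaf.map (eqToHom (by
          rw [← Scheme.IdealSheafData.inclusion_subschemeι h]; rfl) :
            J.subschemeι ⁻¹ᵁ W ⟶ (Scheme.IdealSheafData.inclusion h) ⁻¹ᵁ (I.subschemeι ⁻¹ᵁ W)).op).hom
          (((Scheme.IdealSheafData.inclusion h).app (I.subschemeι ⁻¹ᵁ W)).hom x)) := by
  rfl

section Hom

variable (M : U.Modules)

/-- the section attached to a morphism from the structure sheaf -/
def secOf (φ : Coh.structureModule U ⟶ M) : Γ(M, ⊤) :=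
  φ.app ⊤ (show Γ(Coh.structureModule U, ⊤) from (1 : Γ(U, ⊤)))

theorem secOf_ofSection (σ : Γ(M, ⊤)) : secOf M (TwistGen.ofSection M σ) = σ := by
  unfold secOf
  rw [TwistGen.ofSection_app_one]
  exact res_self M σ

theorem hom_ext_secOf {φ ψ : Coh.structureModule U ⟶ M} (h : secOf M φ = secOf M ψ) : φ = ψ := by
  apply (SheafOfModules.unitHomEquiv M).injective
  apply Subtype.ext
  funext V
  rw [SheafOfModules.unitHomEquiv_apply_coe, SheafOfModules.unitHomEquiv_apply_coe]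
  have key : ∀ χ : Coh.structureModule U ⟶ M,
      χ.val.app V (1 : U.ringCatSheaf.obj.obj V) = M.val.map (homOfLE (le_top : V.unop ≤ ⊤)).op (secOf M χ) := by
    intro χ
    have hn := PresheafOfModules.naturality_apply χ.val (homOfLE (le_top : V.unop ≤ ⊤)).op
      (show (Coh.structureModule U).val.obj (op ⊤) from (1 : Γ(U, ⊤)))
    refine Eq.trans ?_ hn
    refine congrArg (χ.val.app V) ?_
    exact (map_one (U.presheaf.map (homOfLE (le_top : V.unop ≤ ⊤)).op).hom).symm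
  rw [key φ, key ψ, h]

theorem secOf_comp {N : U.Modules} (φ : Coh.structureModule U ⟶ M) (g : M ⟶ N) :
    secOf N (φ ≫ g) = g.app ⊤ (secOf M φ) := rfl

end Hom


section LefSec

variable (𝓙 : U.IdealSheafData) (hLef : Lef.HomToFormalBijective 𝓙 (Coh.structureModule U))

/-- the thickenings -/
abbrev Yn (n : ℕ) : Scheme.{u} := (𝓙 ^ (n + 1)).subscheme
/-- their inclusions -/
abbrev jn (n : ℕ) : Yn 𝓙 n ⟶ U := (𝓙 ^ (n + 1)).subschemeι

include hLef in
theorem eq_of_forall_app_eq (a b : Γ(U, ⊤))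
    (h : ∀ n, ((jn 𝓙 n).app ⊤).hom a = ((jn 𝓙 n).app ⊤).hom b) : a = b := by
  let φ := TwistGen.ofSection (Coh.structureModule U) (show Γ(Coh.structureModule U, ⊤) from a)
  let ψ := TwistGen.ofSection (Coh.structureModule U) (show Γ(Coh.structureModule U, ⊤) from b)
  have hφψ : φ = ψ := by
    refine hLef.1 φ ψ fun n => hom_ext_secOf _ ?_
    rw [secOf_comp, secOf_comp, secOf_ofSection, secOf_ofSection]
    exact h n
  have h1 := congrArg (secOf (Coh.structureModule U)) hφψ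
  rw [secOf_ofSection, secOf_ofSection] at h1
  exact h1

include hLef in
theorem exists_of_compatible (e : ∀ n, Γ(Yn 𝓙 n, jn 𝓙 n ⁻¹ᵁ ⊤))
    (hc : ∀ n, (Lef.quotMap (Lef.pow_succ_le 𝓙 n)).app ⊤
      (show Γ(ClSub.quotMod (𝓙 ^ (n + 2)), ⊤) from e (n + 1)) =
      (show Γ(ClSub.quotMod (𝓙 ^ (n + 1)), ⊤) from e n)) :
    ∃ f : Γ(U, ⊤), ∀ n, ((jn 𝓙 n).app ⊤).hom f = e n := by
  let y : ∀ n : ℕ, Coh.structureModule U ⟶ ClSub.quotMod (𝓙 ^ (n + 1)) := fun n =>
    TwistGen.ofSection (ClSub.quotMod (𝓙 ^ (n + 1))) (show Γ(ClSub.quotMod (𝓙 ^ (n + 1)), ⊤) from e n)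
  have hy : Lef.IsFormalHom 𝓙 (Coh.structureModule U) y := by
    intro n
    refine hom_ext_secOf _ ?_
    rw [secOf_comp, secOf_ofSection, secOf_ofSection]
    exact hc n
  obtain ⟨φ, hφ⟩ := hLef.2 y hy
  refine ⟨(show Γ(U, ⊤) from secOf (Coh.structureModule U) φ), fun n => ?_⟩
  have h1 := congrArg (secOf _) (hφ n)
  rw [secOf_comp, secOf_ofSection] at h1
  exact h1

end LefSec


section Conn

/-- the subscheme is homeomorphic to the support -/
def homeoSupp (I : U.IdealSheafData) : I.subscheme ≃ₜ (I.support : Set U) :=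
  (I.subschemeι.isClosedEmbedding.isEmbedding.toHomeomorph).trans (Homeomorph.setCongr I.range_subschemeι)

theorem homeoSupp_apply (I : U.IdealSheafData) (x : I.subscheme) : (homeoSupp I x).1 = I.subschemeι x := rfl

variable (𝓙 : U.IdealSheafData) (hLef : Lef.HomToFormalBijective 𝓙 (Coh.structureModule U))

/-- all thickenings have the same space -/
def cn (n : ℕ) : Yn 𝓙 n ≃ₜ (𝓙.support : Set U) := homeoSupp (𝓙 ^ (n + 1))

theorem cn_apply (n : ℕ) (x : Yn 𝓙 n) : (cn 𝓙 n x).1 = jn 𝓙 n x := rfl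

/-- the inclusion of `Y_0` in `Y_n` -/
abbrev inc0 (n : ℕ) : Yn 𝓙 0 ⟶ Yn 𝓙 n :=
  Scheme.IdealSheafData.inclusion (show 𝓙 ^ (n + 1) ≤ 𝓙 ^ (0 + 1) by
    rw [zero_add, pow_one, pow_succ]; exact mul_le_of_le_one_left' le_top)

theorem inc0_jn (n : ℕ) : inc0 𝓙 n ≫ jn 𝓙 n = jn 𝓙 0 := Scheme.IdealSheafData.inclusion_subschemeι _

theorem app_zero_of_app (n : ℕ) (f : Γ(U, ⊤)) :
    ((inc0 𝓙 n).app (jn 𝓙 n ⁻¹ᵁ ⊤)).hom (((jn 𝓙 n).app ⊤).hom f) =
      ((Yn 𝓙 0).presheaf.map (eqToHom (by rw [← inc0_jn 𝓙 n]; rfl) :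
        inc0 𝓙 n ⁻¹ᵁ (jn 𝓙 n ⁻¹ᵁ ⊤) ⟶ jn 𝓙 0 ⁻¹ᵁ ⊤).op).hom (((jn 𝓙 0).app ⊤).hom f) := by
  have h1 := Scheme.Hom.congr_app (inc0_jn 𝓙 n) ⊤
  rw [Scheme.Hom.comp_app] at h1
  have h2 := congrArg (fun φ => φ.hom f) h1
  exact h2

include hLef in
theorem connectedSpace_of_support [ConnectedSpace (𝓙.support : Set U)] : ConnectedSpace U := by
  haveI hY : ∀ n, ConnectedSpace (Yn 𝓙 n) := fun n => (cn 𝓙 n).connectedSpace_iff.2 inferInstance
  obtain ⟨y0⟩ := (hY 0).toNonempty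
  haveI : Nonempty U := ⟨jn 𝓙 0 y0⟩
  haveI : PreconnectedSpace U := by
    refine preconnectedSpace_of_noIdem U fun f hf => ?_
    have he : ∀ n, ((jn 𝓙 n).app ⊤).hom f = 0 ∨ ((jn 𝓙 n).app ⊤).hom f = 1 := fun n =>
      noIdem_Γ (Yn 𝓙 n) (show Γ(Yn 𝓙 n, ⊤) from ((jn 𝓙 n).app ⊤).hom f)
        ((map_mul ((jn 𝓙 n).app ⊤).hom f f).symm.trans (congrArg _ hf))
    haveI : ∀ n, Nontrivial Γ(Yn 𝓙 0, inc0 𝓙 n ⁻¹ᵁ (jn 𝓙 n ⁻¹ᵁ ⊤)) := fun n => by
      haveI : Nonempty ↥(inc0 𝓙 n ⁻¹ᵁ (jn 𝓙 n ⁻¹ᵁ (⊤ : U.Opens))) := ⟨⟨y0, trivial⟩⟩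
      infer_instance
    rcases he 0 with h0 | h0
    · left
      refine eq_of_forall_app_eq 𝓙 hLef f 0 fun n => ?_
      rw [map_zero]
      rcases he n with hn | hn
      · exact hn
      · exfalso
        have := app_zero_of_app 𝓙 n f
        rw [hn, h0, map_one, map_zero] at this
        exact one_ne_zero this
    · right
      refine eq_of_forall_app_eq 𝓙 hLef f 1 fun n => ?_
      rw [map_one]
      rcases he n with hn | hn
      · exfalso
        have := app_zero_of_app 𝓙 n f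
        rw [hn, h0, map_one, map_zero] at this
        exact zero_ne_one this
      · exact hn
  exact { toPreconnectedSpace := inferInstance, toNonempty := inferInstance }


/-- the transition inclusion -/
abbrev incS (n : ℕ) : Yn 𝓙 n ⟶ Yn 𝓙 (n + 1) :=
  Scheme.IdealSheafData.inclusion (Lef.pow_succ_le 𝓙 n)

theorem incS_jn (n : ℕ) : incS 𝓙 n ≫ jn 𝓙 (n + 1) = jn 𝓙 n := Scheme.IdealSheafData.inclusion_subschemeι _

theorem cn_incS (n : ℕ) (x : Yn 𝓙 n) : cn 𝓙 (n + 1) (incS 𝓙 n x) = cn 𝓙 n x := by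
  apply Subtype.ext
  rw [cn_apply, cn_apply]
  have := congrArg (fun φ : Yn 𝓙 n ⟶ U => φ x) (incS_jn 𝓙 n)
  exact this

theorem ind_congr {Z : Scheme.{u}} {s s' : Set Z} (hs : IsClopen s) (hs' : IsClopen s') (h : s = s')
    (W : Z.Opens) : ind hs W = ind hs' W := by
  subst h; rfl

include hLef in
theorem connectedSpace_support [ConnectedSpace U] : ConnectedSpace (𝓙.support : Set U) := by
  -- nonempty
  have hne : Nonempty (𝓙.support : Set U) := by
    by_contra hcon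
    rw [not_nonempty_iff] at hcon
    haveI : ∀ n, IsEmpty (Yn 𝓙 n) := fun n => (cn 𝓙 n).toEquiv.isEmpty
    have h01 : (0 : Γ(U, ⊤)) = 1 := by
      refine eq_of_forall_app_eq 𝓙 hLef 0 1 fun n => ?_
      haveI : Subsingleton Γ(Yn 𝓙 n, jn 𝓙 n ⁻¹ᵁ ⊤) := by
        have : jn 𝓙 n ⁻¹ᵁ (⊤ : U.Opens) = ⊥ := by
          ext x; exact (IsEmpty.false x).elim
        rw [this]; infer_instance
      exact Subsingleton.elim _ _
    haveI : Nonempty ↥(⊤ : U.Opens) := by
      obtain ⟨x⟩ := (inferInstance : Nonempty U)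
      exact ⟨⟨x, trivial⟩⟩
    haveI : Nontrivial Γ(U, ⊤) := inferInstance
    exact zero_ne_one h01
  haveI : PreconnectedSpace (𝓙.support : Set U) := by
    rw [preconnectedSpace_iff_clopen]
    intro s hs
    have hsn : ∀ n, IsClopen ((cn 𝓙 n) ⁻¹' s) := fun n => hs.preimage (cn 𝓙 n).continuous
    let e : ∀ n, Γ(Yn 𝓙 n, jn 𝓙 n ⁻¹ᵁ ⊤) := fun n => ind (hsn n) (jn 𝓙 n ⁻¹ᵁ ⊤)
    have hc : ∀ n, (Lef.quotMap (Lef.pow_succ_le 𝓙 n)).app ⊤
        (show Γ(ClSub.quotMod (𝓙 ^ (n + 2)), ⊤) from e (n + 1)) =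
        (show Γ(ClSub.quotMod (𝓙 ^ (n + 1)), ⊤) from e n) := by
      intro n
      rw [quotMap_app]
      change ((Yn 𝓙 n).presheaf.map _).hom (((incS 𝓙 n).app (jn 𝓙 (n + 1) ⁻¹ᵁ ⊤)).hom
        (ind (hsn (n + 1)) (jn 𝓙 (n + 1) ⁻¹ᵁ ⊤))) = ind (hsn n) (jn 𝓙 n ⁻¹ᵁ ⊤)
      rw [app_ind]
      have hset : (incS 𝓙 n) ⁻¹' ((cn 𝓙 (n + 1)) ⁻¹' s) = (cn 𝓙 n) ⁻¹' s := by
        ext x
        simp only [Set.mem_preimage]
        rw [cn_incS]
      rw [ind_congr _ (hsn n) hset]
      exact ind_res (hsn n) (le_of_eq rfl)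
    obtain ⟨f, hf⟩ := exists_of_compatible 𝓙 hLef e hc
    have hff : f * f = f := by
      refine eq_of_forall_app_eq 𝓙 hLef _ _ fun n => ?_
      rw [map_mul, hf n]
      exact ind_mul_self (hsn n) _
    rcases noIdem_Γ U f hff with h0 | h1
    · left
      have h2 : ind (hsn 0) (⊤ : (Yn 𝓙 0).Opens) = 0 := by
        have := hf 0
        rw [h0, map_zero] at this
        exact this.symm
      have h3 := eq_empty_of_ind_eq_zero (hsn 0) h2
      rw [Set.eq_empty_iff_forall_notMem] at h3 ⊢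
      intro x hx
      exact h3 ((cn 𝓙 0).symm x) (by simpa using hx)
    · right
      have h2 : ind (hsn 0) (⊤ : (Yn 𝓙 0).Opens) = 1 := by
        have := hf 0
        rw [h1, map_one] at this
        exact this.symm
      have h3 := eq_univ_of_ind_eq_one (hsn 0) h2
      rw [Set.eq_univ_iff_forall] at h3 ⊢
      intro x
      have := h3 ((cn 𝓙 0).symm x)
      simpa using this
  exact { toPreconnectedSpace := inferInstance, toNonempty := hne }

end Conn


section Final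

variable (X : Scheme.{u}) (𝓘 : X.IdealSheafData) (V : X.Opens) (hV : (𝓘.support : Set X) ⊆ (V : Set X))

/-- the support of the restricted ideal -/
def suppHomeo : (((𝓘.comap V.ι).support : Closeds ((↑V : Scheme.{u}))) : Set (↑V : Scheme.{u})) ≃ₜ (𝓘.support : Set X) where
  toFun x := ⟨x.1.1, by
    have h2 : x.1 ∈ (((𝓘.comap V.ι).support : Closeds ((↑V : Scheme.{u}))) :
      Set (↑V : Scheme.{u})) := x.2
    have h3 := Scheme.IdealSheafData.support_comap 𝓘 V.ι
    have h4 : x.1 ∈ ((𝓘.support.preimage V.ι.continuous : Closeds ((↑V : Scheme.{u}))) :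
      Set (↑V : Scheme.{u})) := h3 ▸ h2
    exact h4⟩
  invFun y := ⟨⟨y.1, hV y.2⟩, by
    have h3 := Scheme.IdealSheafData.support_comap 𝓘 V.ι
    have h4 : (⟨y.1, hV y.2⟩ : (↑V : Scheme.{u})) ∈
      ((𝓘.support.preimage V.ι.continuous : Closeds ((↑V : Scheme.{u}))) :
      Set (↑V : Scheme.{u})) := y.2
    exact h3 ▸ h4⟩
  left_inv x := rfl
  right_inv y := rfl
  continuous_toFun := by
    refine Continuous.subtype_mk ?_ _
    exact continuous_subtype_val.comp continuous_subtype_val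
  continuous_invFun := by
    refine Continuous.subtype_mk ?_ _
    exact Continuous.subtype_mk continuous_subtype_val _

include hV in
theorem connected_iff (h : Lef.LefCond X 𝓘) :
    ConnectedSpace (𝓘.support : Set X) ↔ ConnectedSpace V := by
  have hO : FlatMod.IsFinLocFree (Coh.structureModule (↑V : Scheme.{u})) := fun x => by
    obtain ⟨W, hxW, e⟩ := Groth.Agent.Lib.Helper6.K0Op.isFinLocFreeOfRank_one_of_isInvertible _
      (PicLoc.isInvertible_structureModule (↑V : Scheme.{u})) x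
    exact ⟨W, 1, hxW, e⟩
  have hLef := h V hV (Coh.structureModule (↑V : Scheme.{u})) hO
  rw [← (suppHomeo X 𝓘 V hV).connectedSpace_iff]
  constructor
  · intro hc
    exact connectedSpace_of_support (𝓘.comap V.ι) hLef
  · intro hc
    exact connectedSpace_support (𝓘.comap V.ι) hLef

end Final

end Groth.Agent.Lib.Helper17.LefConn
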