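import Groth.Agent.Lib.Helper17.ClosedUnit
import Groth.Agent.Lib.Helper21.ThickDict2
import Groth.Agent.Lib.Helper23.Formal.QuotSections
import Groth.Agent.Lib.Helper23.Formal.QuotAdj
import Groth.Agent.Lib.Helper28.QCohPush
import Mathlib
set_option backward.isDefEq.respectTransparency.types false
set_option autoImplicit false

/-!
# The unit of a closed immersion cut out by an ideal of the base ring is the quotient by that ideal
-/

universe u
open CategoryTheory CategoryTheory.Limits AlgebraicGeometry Opposite TopologicalSpace TensorProduct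

namespace Groth.Agent.Lib.Helper17.Tow

open Groth.Agent.Lib.Helper17.PullbackBC Groth.Agent.Lib.Helper17.ClosedUnit
open Groth.Agent.Lib.Helper28 Groth.Agent.Lib.Helper28.QCohLoc Groth.Agent.Lib.Helper28.PullbackInv
open Groth.Agent.Lib.Helper23.FQuot Groth.Agent.Lib.Helper21.ThickDict

/-- the kernel of a base change map along a surjective ring map -/
theorem mem_smul_top_of_isBC {R S : Type u} [CommRing R] [CommRing S] (φ : R →+* S)
    (hφ : Function.Surjective φ) {P T : Type u} [AddCommGroup P] [Module R P] [AddCommGroup T] [Module S T]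
    (c : P → T) (hc : IsBC φ c) (p : P) (hp : c p = 0) :
    p ∈ (RingHom.ker φ) • (⊤ : Submodule R P) := by
  letI := φ.toAlgebra
  obtain ⟨e, he⟩ := (isBC_iff φ c).mp hc
  set N : Submodule R P := (RingHom.ker φ) • (⊤ : Submodule R P) with hN
  have key : ∀ a b : R, φ a = φ b → ∀ p : P, N.mkQ (a • p) = N.mkQ (b • p) := by
    intro a b hab p
    rw [← sub_eq_zero, ← map_sub, ← sub_smul, Submodule.mkQ_apply, Submodule.Quotient.mk_eq_zero]
    exact Submodule.smul_mem_smul (by rw [RingHom.mem_ker, map_sub, hab, sub_self]) trivial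
  have hs : ∀ s : S, φ (Function.surjInv hφ s) = s := Function.surjInv_eq hφ
  let β : S →ₗ[R] P →ₗ[R] (P ⧸ N) := LinearMap.mk₂ R (fun s p => N.mkQ (Function.surjInv hφ s • p))
    (fun s s' p => by
      rw [← map_add, ← add_smul]
      exact key _ _ (by rw [hs, _root_.map_add, hs, hs]) p)
    (fun r s p => by
      rw [← map_smul, ← mul_smul]
      refine key _ _ ?_ p
      rw [hs, _root_.map_mul, hs]; rfl)
    (fun s p p' => by rw [smul_add, map_add])
    (fun r s p => by rw [smul_comm, map_smul])
  let ρ : S ⊗[R] P →ₗ[R] (P ⧸ N) := TensorProduct.lift β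
  have hρ : ∀ p : P, ρ ((1 : S) ⊗ₜ[R] p) = N.mkQ p := by
    intro p
    change N.mkQ (Function.surjInv hφ (1 : S) • p) = N.mkQ p
    rw [key _ 1 (by rw [hs, _root_.map_one]) p, one_smul]
  have h1 : (1 : S) ⊗ₜ[R] p = 0 := by rw [← he, hp, map_zero]
  have h2 := hρ p
  rw [h1, map_zero] at h2
  exact (Submodule.Quotient.mk_eq_zero N).1 h2.symm

/-- base change maps along surjective ring maps are surjective -/
theorem surjective_of_isBC {R S : Type u} [CommRing R] [CommRing S] (φ : R →+* S)
    (hφ : Function.Surjective φ) {P T : Type u} [AddCommGroup P] [Module R P] [AddCommGroup T] [Module S T]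
    (c : P → T) (hc : IsBC φ c) : Function.Surjective c := by
  letI := φ.toAlgebra
  obtain ⟨e, he⟩ := (isBC_iff φ c).mp hc
  have hc' : c = e.symm ∘ (fun p => (1 : S) ⊗ₜ[R] p) := by
    funext p
    change c p = e.symm ((1 : S) ⊗ₜ[R] p)
    rw [← he, LinearEquiv.symm_apply_apply]
  rw [hc']
  refine e.symm.surjective.comp fun z => ?_
  induction z using TensorProduct.induction_on with
  | zero => exact ⟨0, TensorProduct.tmul_zero _ _⟩
  | add x y hx hy =>
    obtain ⟨p, hp⟩ := hx
    obtain ⟨q, hq⟩ := hy
    change (1 : S) ⊗ₜ[R] p = x at hp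
    change (1 : S) ⊗ₜ[R] q = y at hq
    refine ⟨p + q, ?_⟩
    change (1 : S) ⊗ₜ[R] (p + q) = x + y
    rw [TensorProduct.tmul_add, hp, hq]
  | tmul s p =>
    obtain ⟨r, rfl⟩ := hφ s
    refine ⟨r • p, ?_⟩
    change (1 : S) ⊗ₜ[R] (r • p) = φ r ⊗ₜ[R] p
    rw [TensorProduct.tmul_smul, TensorProduct.smul_tmul', Algebra.smul_def, mul_one]
    rfl

variable {A : Type u} [CommRing A] {Y Y' : Scheme.{u}} [Y.Over (Spec (CommRingCat.of A))]
  [Y'.Over (Spec (CommRingCat.of A))] (i : Y ⟶ Y') [IsClosedImmersion i]

/-- the unit of a closed immersion is an epimorphism on quasi-coherent modules -/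
theorem epi_unit (M : Y'.Modules) [M.IsQuasicoherent] :
    Epi ((Scheme.Modules.pullbackPushforwardAdjunction i).unit.app M) := by
  haveI : ((Scheme.Modules.pushforward i).obj ((Scheme.Modules.pullback i).obj M)).IsQuasicoherent :=
    isQuasicoherent_pushforward i _
  refine epi_of_affine_cover ((Scheme.Modules.pullbackPushforwardAdjunction i).unit.app M)
    (fun U : Y'.affineOpens => U.1) (fun U => U.2) ?cov
    (fun U => isLocOn_of_isQuasicoherent
      ((Scheme.Modules.pushforward i).obj ((Scheme.Modules.pullback i).obj M)) U.2) ?surj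
  case cov =>
    intro x
    obtain ⟨W, hW, hxW, -⟩ := Opens.isBasis_iff_nbhd.mp Y'.isBasis_affineOpens
      (show x ∈ (⊤ : Y'.Opens) from trivial)
    exact ⟨⟨W, hW⟩, hxW⟩
  case surj =>
    intro U
    have hW' : IsAffineOpen (i ⁻¹ᵁ U.1) := U.2.preimage i
    have hbc := isBC_pullback i U.2 hW' le_rfl M
    have hsurj : Function.Surjective (i.appLE U.1 (i ⁻¹ᵁ U.1) le_rfl).hom := by
      rw [← Scheme.Hom.app_eq_appLE]
      exact i.app_surjective U.1 U.2
    have := surjective_of_isBC _ hsurj _ hbc
    have heq : (fun m : Γ(M, U.1) => res ((Scheme.Modules.pullback i).obj M) (le_refl (i ⁻¹ᵁ U.1)) (pbs i M U.1 m)) =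
        fun m => ((Scheme.Modules.pullbackPushforwardAdjunction i).unit.app M).app U.1 m := by
      funext m
      exact res_self _ _
    rw [heq] at this
    exact this

/-- **the unit of a closed immersion whose ideal is generated by the ideal `J` of the base ring is the
quotient by `J`** -/
theorem isQuot_unit (hi : i ≫ (Y' ↘ Spec (CommRingCat.of A)) = Y ↘ Spec (CommRingCat.of A))
    (J : Ideal A) (hJ : J.FG)
    (hker : ∀ (U : Y'.Opens), IsAffineOpen U → ∀ r : Γ(Y', U), (i.app U).hom r = 0 →
      r ∈ Ideal.map (phiU (Y' ↘ Spec (CommRingCat.of A)) U) J)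
    (hzero : ∀ c ∈ J, ∀ N : Y.Modules, Formal.smulMod A N c = 0)
    (M : Y'.Modules) [M.IsQuasicoherent] :
    IsQuot J ((Scheme.Modules.pullbackPushforwardAdjunction i).unit.app M) := by
  let η : M ⟶ (Scheme.Modules.pushforward i).obj ((Scheme.Modules.pullback i).obj M) :=
    (Scheme.Modules.pullbackPushforwardAdjunction i).unit.app M
  show IsQuot J η
  haveI : ((Scheme.Modules.pushforward i).obj ((Scheme.Modules.pullback i).obj M)).IsQuasicoherent :=
    isQuasicoherent_pushforward i _
  have hz : ∀ c ∈ J, Formal.smulMod A M c ≫ η = 0 := by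
    intro c hc
    rw [smulMod_naturality, ← pushforward_map_smulMod i hi, hzero c hc, Functor.map_zero, comp_zero]
  let q := cokernel.π (Formal.smulFamily J M)
  have hq : IsQuot J q := isQuot_cokernelπ J M
  obtain ⟨θ, hθ⟩ := hq.fac η hz
  haveI : (∐ fun _ : J => M).IsQuasicoherent :=
    Groth.Agent.Lib.Helper16.QCohSigma.isQuasicoherent_sigma (fun _ : J => M)
  haveI : (cokernel (Formal.smulFamily J M)).IsQuasicoherent :=
    Groth.Agent.Lib.Helper17.CohKer.isQuasicoherent_cokernel _
  haveI := hq.epi
  haveI : Epi η := epi_unit i M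
  have hiso : IsIso θ := by
    refine isIso_of_affine_cover θ (fun U : Y'.affineOpens => U.1) (fun U => U.2) ?cov
      (fun U => isLocOn_of_isQuasicoherent _ U.2) (fun U => isLocOn_of_isQuasicoherent _ U.2) ?bij
    case cov =>
      intro x
      obtain ⟨W, hW, hxW, -⟩ := Opens.isBasis_iff_nbhd.mp Y'.isBasis_affineOpens
        (show x ∈ (⊤ : Y'.Opens) from trivial)
      exact ⟨⟨W, hW⟩, hxW⟩
    case bij =>
      intro U
      have hηU : ∀ m : Γ(M, U.1), θ.app U.1 (q.app U.1 m) = η.app U.1 m := fun m => by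
        rw [← hθ]; rfl
      constructor
      · rw [injective_iff_map_eq_zero]
        intro n hn
        obtain ⟨m, hm⟩ := Groth.Agent.Lib.Helper23.Tower.surj_sections_of_epi q U.2 n
        have hm' : q.app U.1 m = n := hm
        subst hm'
        rw [hηU] at hn
        have hW' : IsAffineOpen (i ⁻¹ᵁ U.1) := U.2.preimage i
        have hbc := isBC_pullback i U.2 hW' le_rfl M
        have hsurj : Function.Surjective (i.appLE U.1 (i ⁻¹ᵁ U.1) le_rfl).hom := by
          rw [← Scheme.Hom.app_eq_appLE]
          exact i.app_surjective U.1 U.2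
        have hmem := mem_smul_top_of_isBC _ hsurj _ hbc m
          (by rw [res_self]; exact hn)
        refine Submodule.smul_induction_on hmem (fun r hr m' _ => ?_) (fun x y hx hy => ?_)
        · have hr' : (i.app U.1).hom r = 0 := by
            rw [RingHom.mem_ker] at hr
            rw [Scheme.Hom.app_eq_appLE]
            exact hr
          exact app_smul_eq_zero_of_mem_map J M q hq U.1 r (hker U.1 U.2 r hr') m'
        · rw [map_add, hx, hy, add_zero]
      · intro z
        obtain ⟨m, hm⟩ := Groth.Agent.Lib.Helper23.Tower.surj_sections_of_epi η U.2 z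
        have hm' : η.app U.1 m = z := hm
        exact ⟨q.app U.1 m, (hηU m).trans hm'⟩
  rw [← hθ]
  exact IsQuot.comp_iso hq

end Groth.Agent.Lib.Helper17.Tow
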