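import Groth.Agent.Lib.Helper17.SqZeroA
import Groth.Agent.Lib.Helper17.TowA
import Groth.Agent.Lib.Helper28.TensorIso
import Mathlib
set_option backward.isDefEq.respectTransparency.types false
set_option autoImplicit false
universe u
open AlgebraicGeometry CategoryTheory Opposite TopologicalSpace CategoryTheory.Limits

namespace Groth.Agent.Lib.Helper17.Lift
open Scheme.Modules
open Groth.Agent.Lib.Helper17.PullbackBC Groth.Agent.Lib.Helper17.SqZero
open Groth.Agent.Lib.Helper28.PullbackInv Groth.Agent.Lib.Helper28.QCohLoc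
open Groth.Agent.Lib.Helper28.GenLocus Groth.Agent.Lib.Helper28.TensorIso

/-! ### algebra -/

open TensorProduct in
theorem lift_bijective_of_flat {A : Type*} [CommRing A] {P Q K : Type*} [AddCommGroup P] [AddCommGroup Q]
    [AddCommGroup K] [Module A P] [Module A Q] [Module A K] [Module.Flat A Q]
    (β : P →ₗ[A] Q →ₗ[A] K) (ιP : P →ₗ[A] A) (hιP : Function.Injective ιP)
    (ιK : K →ₗ[A] Q) (hιK : Function.Injective ιK)
    (hβ : ∀ p q, ιK (β p q) = ιP p • q)
    (hK : ∀ k, ιK k ∈ (LinearMap.range ιP : Submodule A A) • (⊤ : Submodule A Q)) :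
    Function.Bijective (TensorProduct.lift β) := by
  have hcomp : ιK ∘ₗ TensorProduct.lift β = (TensorProduct.lid A Q).toLinearMap ∘ₗ ιP.rTensor Q := by
    apply TensorProduct.ext'
    intro p q
    simp [hβ]
  constructor
  · have hinj : Function.Injective (ιK ∘ₗ TensorProduct.lift β) := by
      rw [hcomp]
      exact (TensorProduct.lid A Q).injective.comp
        (Module.Flat.rTensor_preserves_injective_linearMap ιP hιP)
    intro x y hxy
    apply hinj
    simp [hxy]
  · intro k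
    have key : ∀ m ∈ (LinearMap.range ιP : Submodule A A) • (⊤ : Submodule A Q),
        ∃ ξ : P ⊗[A] Q, ιK (TensorProduct.lift β ξ) = m := by
      intro m hm
      refine Submodule.smul_induction_on hm ?_ ?_
      · intro a ha q _
        obtain ⟨p, rfl⟩ := ha
        exact ⟨p ⊗ₜ q, by simp [hβ]⟩
      · intro x y hx hy
        obtain ⟨ξ, hξ⟩ := hx
        obtain ⟨ζ, hζ⟩ := hy
        exact ⟨ξ + ζ, by simp [hξ, hζ]⟩
    obtain ⟨ξ, hξ⟩ := key _ (hK k)
    exact ⟨ξ, hιK hξ⟩

variable {X : Scheme.{u}} (I : X.IdealSheafData) (N : X.Modules)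

theorem surjective_app_subschemeι {U : X.Opens} (hU : IsAffineOpen U) :
    Function.Surjective (I.subschemeι.appLE U (I.subschemeι ⁻¹ᵁ U) le_rfl).hom := by
  rw [← Scheme.Hom.app_eq_appLE]
  exact I.subschemeι.app_surjective U hU

theorem mem_smul_top_of_pbs_eq_zero [N.IsQuasicoherent] {U : X.Opens} (hU : IsAffineOpen U) (m : Γ(N, U))
    (hm : pbs I.subschemeι N U m = 0) :
    m ∈ (I.ideal ⟨U, hU⟩) • (⊤ : Submodule Γ(X, U) Γ(N, U)) := by
  have hW' : IsAffineOpen (I.subschemeι ⁻¹ᵁ U) := hU.preimage _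
  have hbc := isBC_pullback I.subschemeι hU hW' le_rfl N
  have h := Groth.Agent.Lib.Helper17.Tow.mem_smul_top_of_isBC _ (surjective_app_subschemeι I hU) _ hbc m
    (by rw [res_self]; exact hm)
  have hker : RingHom.ker (I.subschemeι.appLE U (I.subschemeι ⁻¹ᵁ U) le_rfl).hom = I.ideal ⟨U, hU⟩ := by
    rw [← Scheme.Hom.app_eq_appLE]
    exact I.ker_subschemeι_app ⟨U, hU⟩
  rwa [hker] at h

theorem surjective_pbs [N.IsQuasicoherent] {U : X.Opens} (hU : IsAffineOpen U) :
    Function.Surjective (pbs I.subschemeι N U) := by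
  have hW' : IsAffineOpen (I.subschemeι ⁻¹ᵁ U) := hU.preimage _
  have hbc := isBC_pullback I.subschemeι hU hW' le_rfl N
  have h := Groth.Agent.Lib.Helper17.Tow.surjective_of_isBC _ (surjective_app_subschemeι I hU) _ hbc
  intro t
  obtain ⟨m, hm⟩ := h t
  refine ⟨m, ?_⟩
  simp only [] at hm
  rwa [res_self] at hm


/-! ### `I ⊗ F ≅ I F` for flat `F` -/

variable (F : X.Modules)

/-- the inclusion `I(W) → O(W)` as a linear map -/
noncomputable def ιP (W : X.Opens) : Γ(ClSub.idealMod I, W) →ₗ[Γ(X, W)] Γ(X, W) where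
  toFun x := (ClSub.idealModι I).app W x
  map_add' x y := map_add _ x y
  map_smul' c x := by
    simp only [RingHom.id_apply]
    rw [Scheme.Modules.Hom.app_smul]
    rfl

/-- the inclusion `(I F)(W) → F(W)` as a linear map -/
noncomputable def ιK (W : X.Opens) : Γ(KK I F, W) →ₗ[Γ(X, W)] Γ(F, W) where
  toFun k := (kernel.ι (un I F)).app W k
  map_add' x y := map_add _ x y
  map_smul' c x := by
    simp only [RingHom.id_apply]
    rw [Scheme.Modules.Hom.app_smul]

theorem Θ_add₁ (W : X.Opens) (a a' : Γ(ClSub.idealMod I, W)) (f : Γ(F, W)) :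
    Θ I F W f (a + a') = Θ I F W f a + Θ I F W f a' := by
  apply kernelι_injective I F W
  rw [map_add, ι_Θ, ι_Θ, ι_Θ, map_add]
  exact add_smul _ _ _

theorem Θ_add₂ (W : X.Opens) (a : Γ(ClSub.idealMod I, W)) (f f' : Γ(F, W)) :
    Θ I F W (f + f') a = Θ I F W f a + Θ I F W f' a := by
  apply kernelι_injective I F W
  rw [map_add, ι_Θ, ι_Θ, ι_Θ]
  exact smul_add _ _ _

theorem Θ_smul₁ (W : X.Opens) (c : Γ(X, W)) (a : Γ(ClSub.idealMod I, W)) (f : Γ(F, W)) :
    Θ I F W f (c • a) = c • Θ I F W f a := by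
  apply kernelι_injective I F W
  rw [Scheme.Modules.Hom.app_smul, ι_Θ, ι_Θ, Scheme.Modules.Hom.app_smul]
  exact mul_smul _ _ _

theorem Θ_smul₂ (W : X.Opens) (c : Γ(X, W)) (a : Γ(ClSub.idealMod I, W)) (f : Γ(F, W)) :
    Θ I F W (c • f) a = c • Θ I F W f a := by
  apply kernelι_injective I F W
  rw [Scheme.Modules.Hom.app_smul, ι_Θ, ι_Θ]
  exact smul_comm _ _ _

theorem Θ_res (W W' : X.Opens) (h : W' ≤ W) (a : Γ(ClSub.idealMod I, W)) (f : Γ(F, W)) :
    Θ I F W' (res F h f) (res (ClSub.idealMod I) h a) = res (KK I F) h (Θ I F W f a) := by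
  apply kernelι_injective I F W'
  rw [app_res, ι_Θ, ι_Θ, res_smul]
  congr 1
  exact (app_res (ClSub.idealModι I) h a)

theorem nonempty_tensor_iso_KK [F.IsQuasicoherent]
    (hflat : ∀ U : X.affineOpens, Module.Flat Γ(X, U.1) Γ(F, U.1)) :
    Nonempty (CohB1.tensorMod (ClSub.idealMod I) F ≅ KK I F) := by
  refine nonempty_tensorMod_iso (ClSub.idealMod I) F (KK I F) (fun W a f => Θ I F W f a)
    (fun W a a' f => Θ_add₁ I F W a a' f) (fun W a f f' => Θ_add₂ I F W a f f')
    (fun W c a f => Θ_smul₁ I F W c a f) (fun W c a f => Θ_smul₂ I F W c a f)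
    (fun W W' h a f => Θ_res I F W W' h a f) (fun W => IsAffineOpen W) ?_ ?_
  · intro U x hx
    obtain ⟨V, hV, hxV, hVU⟩ := Opens.isBasis_iff_nbhd.mp X.isBasis_affineOpens hx
    exact ⟨V, hV, hxV, hVU⟩
  · intro W hW
    haveI := hflat ⟨W, hW⟩
    refine lift_bijective_of_flat
      (LinearMap.mk₂ Γ(X, W) (fun a f => Θ I F W f a) (fun a a' f => Θ_add₁ I F W a a' f)
        (fun c a f => Θ_smul₁ I F W c a f) (fun a f f' => Θ_add₂ I F W a f f')
        (fun c a f => Θ_smul₂ I F W c a f))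
      (ιP I W) (idealModι_injective I W) (ιK I F W) (kernelι_injective I F W) ?_ ?_
    · intro a f
      exact ι_Θ I F W f a
    · intro k
      have h1 := mem_smul_top_of_pbs_eq_zero I F hW ((kernel.ι (un I F)).app W k) (un_app_kernel I F W k)
      have hle : I.ideal ⟨W, hW⟩ ≤ (LinearMap.range (ιP I W) : Submodule Γ(X, W) Γ(X, W)) := by
        intro c hc
        rw [← I.ker_subschemeι_app ⟨W, hW⟩, RingHom.mem_ker] at hc
        obtain ⟨x, hx⟩ := exists_idealModι_eq I W c hc
        exact ⟨x, hx⟩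
      exact Submodule.smul_mono_left hle h1

end Groth.Agent.Lib.Helper17.Lift
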