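import Groth.Agent.Lib.Helper17.SqZeroD
import Groth.Agent.S0232
import Mathlib
set_option backward.isDefEq.respectTransparency.types false
set_option autoImplicit false
universe u
open AlgebraicGeometry CategoryTheory Opposite TopologicalSpace CategoryTheory.Limits

namespace Groth.Agent.Lib.Helper17.SqZero
open Scheme.Modules
open Groth.Agent.Lib.Helper17.PullbackBC Groth.Agent.Lib.Helper17.H0Neg
open Groth.Agent.Lib.Helper28.PullbackInv Groth.Agent.Lib.Helper28.QCohLoc
open Groth.Agent.Lib.Helper28.GenLocus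

variable {X : Scheme.{u}} (I : X.IdealSheafData)

theorem killed_idealMod (hI : I ^ 2 = ⊥) (U : X.affineOpens) (a : Γ(X, U.1))
    (ha : a ∈ I.ideal U) (s : Γ(ClSub.idealMod I, U.1)) : (a • s : Γ(ClSub.idealMod I, U.1)) = 0 := by
  apply idealModι_injective I U.1
  rw [Scheme.Modules.Hom.app_smul, map_zero]
  have hs : (show Γ(X, U.1) from (ClSub.idealModι I).app U.1 s) ∈ I.ideal U := by
    rw [← I.ker_subschemeι_app U, RingHom.mem_ker]
    exact app_idealModι I U.1 s
  have h2 : a * (show Γ(X, U.1) from (ClSub.idealModι I).app U.1 s) ∈ (I ^ 2).ideal U := by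
    rw [Scheme.IdealSheafData.ideal_pow, Pi.pow_apply, pow_two]
    exact Ideal.mul_mem_mul ha hs
  rw [hI] at h2
  exact h2

theorem subsingleton_HH_pullback_idealMod (hI : I ^ 2 = ⊥)
    (h1 : Subsingleton (Coh.HH X (ClSub.idealMod I) 1)) :
    Subsingleton (Coh.HH I.subscheme ((Scheme.Modules.pullback I.subschemeι).obj (ClSub.idealMod I)) 1) := by
  haveI : (ClSub.idealMod I).IsQuasicoherent := inferInstance
  haveI := Groth.Agent.Lib.Helper17.ClosedUnit.isIso_unit_of_killed I.subschemeι (ClSub.idealMod I)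
    (fun U a ha s => killed_idealMod I hI U a (by rwa [I.ker_subschemeι] at ha) s)
  have h3 : Subsingleton (Coh.HH X ((Scheme.Modules.pushforward I.subschemeι).obj
      ((Scheme.Modules.pullback I.subschemeι).obj (ClSub.idealMod I))) 1) :=
    Groth.Agent.Lib.Helper4.VanClass.subsingleton_HH_of_iso
      (asIso ((Scheme.Modules.pullbackPushforwardAdjunction I.subschemeι).unit.app (ClSub.idealMod I))) 1 h1
  obtain ⟨e, -⟩ := Groth.Agent.Lib.Helper2.Bridge2.exists_natural_equiv I.subschemeι 1
  exact (e _ inferInstance).symm.toEquiv.subsingleton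

/-- **injectivity of `Pic X → Pic X₀` for a square-zero thickening with `H¹(X, I) = 0`** -/
theorem pullCl_injective (hI : I * I = ⊥) (h1 : Subsingleton (Coh.HH X (ClSub.idealMod I) 1))
    (c d : PicF.Cl X) (hc : PicF.IsInvertibleCl c) (hd : PicF.IsInvertibleCl d)
    (h : PicF.pullCl I.subschemeι c = PicF.pullCl I.subschemeι d) : c = d := by
  obtain ⟨L, rfl, hL⟩ := hc
  obtain ⟨L', rfl, hL'⟩ := hd
  have hI' : I ^ 2 = ⊥ := by rw [pow_two]; exact hI
  have h' : PicF.cl ((Scheme.Modules.pullback I.subschemeι).obj L) =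
      PicF.cl ((Scheme.Modules.pullback I.subschemeι).obj L') := h
  obtain ⟨e⟩ := (Groth.Agent.S0232.cl_eq_iff _ _).1 h'
  exact (Groth.Agent.S0232.cl_eq_iff _ _).2
    (main X I hI' (subsingleton_HH_pullback_idealMod I hI' h1) L L' hL hL' e)

end Groth.Agent.Lib.Helper17.SqZero
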