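import Groth.Agent.Lib.Helper17.LiftA
import Groth.Agent.Lib.Helper17.TensorQC
import Groth.Agent.Lib.Helper17.SqZeroH1
import Groth.Agent.Lib.Helper17.ModPullback
import Mathlib
set_option backward.isDefEq.respectTransparency.types false
set_option autoImplicit false
universe u
open AlgebraicGeometry CategoryTheory Opposite TopologicalSpace CategoryTheory.Limits

namespace Groth.Agent.Lib.Helper17.Lift

/-! ### algebra -/
section alg
open TensorProduct

variable {A B : Type*} [CommRing A] [CommRing B] (φ : A →+* B)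
  {P Q P' Q' K : Type*} [AddCommGroup P] [AddCommGroup Q] [AddCommGroup P'] [AddCommGroup Q']
  [AddCommGroup K] [Module A P] [Module A Q] [Module B P'] [Module B Q'] [Module A K]
  (uP : P →+ P') (uQ : Q →+ Q')

theorem eq_zero_of_mem_smul_top (J : Ideal A) (hkill : ∀ a ∈ J, ∀ p : P, a • p = 0) (p : P)
    (hp : p ∈ J • (⊤ : Submodule A P)) : p = 0 := by
  refine Submodule.smul_induction_on hp ?_ ?_
  · intro a ha q _
    exact hkill a ha q
  · intro x y hx hy
    rw [hx, hy, add_zero]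

theorem tmul_eq_zero_of_mem_smul_top (J : Ideal A) (hkill : ∀ a ∈ J, ∀ p : P, a • p = 0) (p : P) (q : Q)
    (hq : q ∈ J • (⊤ : Submodule A Q)) : p ⊗ₜ[A] q = 0 := by
  refine Submodule.smul_induction_on hq ?_ ?_
  · intro a ha q' _
    rw [← TensorProduct.smul_tmul, hkill a ha p, TensorProduct.zero_tmul]
  · intro x y hx hy
    rw [TensorProduct.tmul_add, hx, hy, add_zero]

include φ in
theorem lift_bijective_of_killed (hφ : Function.Surjective φ)
    (hPs : ∀ a p, uP (a • p) = φ a • uP p) (hQs : ∀ a q, uQ (a • q) = φ a • uQ q)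
    (hPsurj : Function.Surjective uP) (hQsurj : Function.Surjective uQ)
    (hPker : ∀ p, uP p = 0 → p ∈ RingHom.ker φ • (⊤ : Submodule A P))
    (hQker : ∀ q, uQ q = 0 → q ∈ RingHom.ker φ • (⊤ : Submodule A Q))
    (hkill : ∀ a ∈ RingHom.ker φ, ∀ p : P, a • p = 0)
    (θ : P' ⊗[B] Q' →+ K) (hθ : Function.Bijective θ)
    (β : P →ₗ[A] Q →ₗ[A] K) (hβ : ∀ p q, β p q = θ (uP p ⊗ₜ[B] uQ q)) :
    Function.Bijective (TensorProduct.lift β) := by
  have hPinj : Function.Injective uP := by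
    rw [injective_iff_map_eq_zero]
    intro p hp
    exact eq_zero_of_mem_smul_top _ hkill p (hPker p hp)
  let eP : P ≃+ P' := AddEquiv.ofBijective uP ⟨hPinj, hPsurj⟩
  -- for fixed `p`, the map `q' ↦ p ⊗ q`
  let h : P → (Q →+ P ⊗[A] Q) := fun p =>
    { toFun := fun q => p ⊗ₜ[A] q
      map_zero' := TensorProduct.tmul_zero _ _
      map_add' := fun q q' => TensorProduct.tmul_add _ _ _ }
  have hker : ∀ p, uQ.ker ≤ (h p).ker := by
    intro p q hq
    rw [AddMonoidHom.mem_ker] at hq ⊢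
    exact tmul_eq_zero_of_mem_smul_top _ hkill p q (hQker q hq)
  let g : P → (Q' →+ P ⊗[A] Q) := fun p =>
    uQ.liftOfRightInverse (Function.surjInv hQsurj) (Function.rightInverse_surjInv hQsurj) ⟨h p, hker p⟩
  have hg : ∀ p q, g p (uQ q) = p ⊗ₜ[A] q := fun p q =>
    AddMonoidHom.liftOfRightInverse_comp_apply uQ _ _ ⟨h p, hker p⟩ q
  let G₀ : P →+ (Q' →+ P ⊗[A] Q) :=
    { toFun := g
      map_zero' := by
        ext q'
        obtain ⟨q, rfl⟩ := hQsurj q'
        rw [hg, TensorProduct.zero_tmul]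
        rfl
      map_add' := fun p p' => by
        ext q'
        obtain ⟨q, rfl⟩ := hQsurj q'
        rw [AddMonoidHom.add_apply, hg, hg, hg, TensorProduct.add_tmul] }
  let G : P' →+ (Q' →+ P ⊗[A] Q) := G₀.comp eP.symm.toAddMonoidHom
  have hG : ∀ p q, G (uP p) (uQ q) = p ⊗ₜ[A] q := by
    intro p q
    have : eP.symm (uP p) = p := eP.symm_apply_apply p
    change g (eP.symm (uP p)) (uQ q) = _
    rw [this, hg]
  have hbal : ∀ (b : B) (p' : P') (q' : Q'), G (b • p') q' = G p' (b • q') := by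
    intro b p' q'
    obtain ⟨a, rfl⟩ := hφ b
    obtain ⟨p, rfl⟩ := hPsurj p'
    obtain ⟨q, rfl⟩ := hQsurj q'
    rw [← hPs, ← hQs, hG, hG, TensorProduct.smul_tmul]
  let Γ' : P' ⊗[B] Q' →+ P ⊗[A] Q := TensorProduct.liftAddHom G hbal
  have hΓ : ∀ p q, Γ' (uP p ⊗ₜ[B] uQ q) = p ⊗ₜ[A] q := by
    intro p q
    change G (uP p) (uQ q) = _
    exact hG p q
  let eθ : P' ⊗[B] Q' ≃+ K := AddEquiv.ofBijective θ hθ
  have hR : ∀ ξ : P ⊗[A] Q, Γ' (eθ.symm (TensorProduct.lift β ξ)) = ξ := by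
    intro ξ
    induction ξ using TensorProduct.induction_on with
    | zero => simp
    | tmul p q =>
      rw [TensorProduct.lift.tmul, hβ]
      have : eθ.symm (θ (uP p ⊗ₜ[B] uQ q)) = uP p ⊗ₜ[B] uQ q := eθ.symm_apply_apply _
      rw [this, hΓ]
    | add x y hx hy =>
      rw [map_add, map_add, map_add, hx, hy]
  constructor
  · intro x y hxy
    rw [← hR x, ← hR y, hxy]
  · intro k
    obtain ⟨t, rfl⟩ := hθ.2 k
    induction t using TensorProduct.induction_on with
    | zero => exact ⟨0, by simp⟩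
    | tmul p' q' =>
      obtain ⟨p, rfl⟩ := hPsurj p'
      obtain ⟨q, rfl⟩ := hQsurj q'
      exact ⟨p ⊗ₜ[A] q, by rw [TensorProduct.lift.tmul, hβ]⟩
    | add x y hx hy =>
      obtain ⟨ξ, hξ⟩ := hx
      obtain ⟨ζ, hζ⟩ := hy
      exact ⟨ξ + ζ, by rw [map_add, map_add, hξ, hζ]⟩

end alg

section sheaf
open Scheme.Modules
open Groth.Agent.Lib.Helper17.SqZero Groth.Agent.Lib.Helper28.PullbackInv Groth.Agent.Lib.Helper28.QCohLoc
open Groth.Agent.Lib.Helper28.TensorIso Groth.Agent.Lib.Helper28.TensorGen Groth.Agent.Lib.Helper17.TensorQC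
open Groth.Agent.Lib.Helper17.ModPullback TensorProduct

variable {X : Scheme.{u}} (I : X.IdealSheafData) (F : X.Modules)

/-- `i^* I ⊗ i^* F` -/
noncomputable abbrev TI : I.subscheme.Modules :=
  CohB1.tensorMod ((Scheme.Modules.pullback I.subschemeι).obj (ClSub.idealMod I))
    ((Scheme.Modules.pullback I.subschemeι).obj F)

/-- the pairing `I × F → i_* (i^* I ⊗ i^* F)` -/
noncomputable def βp (W : X.Opens) (a : Γ(ClSub.idealMod I, W)) (f : Γ(F, W)) :
    Γ((Scheme.Modules.pushforward I.subschemeι).obj (TI I F), W) :=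
  tmulSec _ _ (pbs I.subschemeι (ClSub.idealMod I) W a) (pbs I.subschemeι F W f)

theorem βp_add₁ (W : X.Opens) (a a' : Γ(ClSub.idealMod I, W)) (f : Γ(F, W)) :
    βp I F W (a + a') f = βp I F W a f + βp I F W a' f := by
  unfold βp
  rw [pbs_add, tmulSec_add_left]
  rfl

theorem βp_add₂ (W : X.Opens) (a : Γ(ClSub.idealMod I, W)) (f f' : Γ(F, W)) :
    βp I F W a (f + f') = βp I F W a f + βp I F W a f' := by
  unfold βp
  rw [pbs_add, tmulSec_add_right]
  rfl

theorem βp_smul₁ (W : X.Opens) (c : Γ(X, W)) (a : Γ(ClSub.idealMod I, W)) (f : Γ(F, W)) :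
    βp I F W (c • a) f = c • βp I F W a f := by
  unfold βp
  rw [pbs_smul, tmulSec_smul_left]
  rfl

theorem βp_smul₂ (W : X.Opens) (c : Γ(X, W)) (a : Γ(ClSub.idealMod I, W)) (f : Γ(F, W)) :
    βp I F W a (c • f) = c • βp I F W a f := by
  unfold βp
  rw [pbs_smul, tmulSec_smul_right]
  rfl

theorem βp_res (W W' : X.Opens) (h : W' ≤ W) (a : Γ(ClSub.idealMod I, W)) (f : Γ(F, W)) :
    βp I F W' (res (ClSub.idealMod I) h a) (res F h f) =
      res ((Scheme.Modules.pushforward I.subschemeι).obj (TI I F)) h (βp I F W a f) := by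
  unfold βp
  rw [pbs_res, pbs_res, ← tmulSec_res]
  rfl

/-- inverse image of sections as an additive map -/
noncomputable def pbsHom (N : X.Modules) (W : X.Opens) :
    Γ(N, W) →+ Γ((Scheme.Modules.pullback I.subschemeι).obj N, I.subschemeι ⁻¹ᵁ W) where
  toFun := pbs I.subschemeι N W
  map_zero' := by
    have := pbs_add I.subschemeι N W 0 0
    rw [add_zero] at this
    exact left_eq_add.mp this
  map_add' := pbs_add I.subschemeι N W

theorem nonempty_tensor_iso_push (hI : I ^ 2 = ⊥) [F.IsQuasicoherent] :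
    Nonempty (CohB1.tensorMod (ClSub.idealMod I) F ≅
      (Scheme.Modules.pushforward I.subschemeι).obj (TI I F)) := by
  refine nonempty_tensorMod_iso (ClSub.idealMod I) F _ (βp I F)
    (βp_add₁ I F) (βp_add₂ I F) (βp_smul₁ I F) (βp_smul₂ I F)
    (fun W W' h a f => βp_res I F W W' h a f) (fun W => IsAffineOpen W) ?_ ?_
  · intro U x hx
    obtain ⟨V, hV, hxV, hVU⟩ := Opens.isBasis_iff_nbhd.mp X.isBasis_affineOpens hx
    exact ⟨V, hV, hxV, hVU⟩
  · intro W hW
    have hV : IsAffineOpen (I.subschemeι ⁻¹ᵁ W) := hW.preimage _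
    have hker : RingHom.ker (I.subschemeι.app W).hom = I.ideal ⟨W, hW⟩ := I.ker_subschemeι_app ⟨W, hW⟩
    let θ : Γ((Scheme.Modules.pullback I.subschemeι).obj (ClSub.idealMod I), I.subschemeι ⁻¹ᵁ W)
          ⊗[Γ(I.subscheme, I.subschemeι ⁻¹ᵁ W)]
          Γ((Scheme.Modules.pullback I.subschemeι).obj F, I.subschemeι ⁻¹ᵁ W) →+
        Γ((Scheme.Modules.pushforward I.subschemeι).obj (TI I F), W) :=
      { toFun := fun ξ => η _ _ (W := I.subschemeι ⁻¹ᵁ W) ξ
        map_zero' := η_zero _ _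
        map_add' := η_add _ _ }
    have hθ : Function.Bijective θ := by
      constructor
      · rw [injective_iff_map_eq_zero]
        intro ξ hξ
        exact η_injective _ _ hV ξ hξ
      · intro t
        exact η_surjective _ _ hV t
    refine lift_bijective_of_killed (I.subschemeι.app W).hom
      (pbsHom I (ClSub.idealMod I) W) (pbsHom I F W) (I.subschemeι.app_surjective W hW)
      (fun a p => pbs_smul _ _ _ a p) (fun a q => pbs_smul _ _ _ a q)
      (surjective_pbs I _ hW) (surjective_pbs I _ hW) ?_ ?_ ?_ θ hθ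
      (LinearMap.mk₂ Γ(X, W) (βp I F W) (βp_add₁ I F W) (βp_smul₁ I F W) (βp_add₂ I F W) (βp_smul₂ I F W))
      (fun p q => rfl)
    · intro p hp
      rw [hker]
      exact mem_smul_top_of_pbs_eq_zero I _ hW p hp
    · intro q hq
      rw [hker]
      exact mem_smul_top_of_pbs_eq_zero I _ hW q hq
    · intro a ha p
      rw [hker] at ha
      exact killed_idealMod I hI ⟨W, hW⟩ a ha p

end sheaf

end Groth.Agent.Lib.Helper17.Lift
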