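import Groth.Agent.Lib.Helper17.GrFormal
import Groth.Agent.Lib.Helper23.Formal.QuotAdj
import Groth.Agent.Lib.Helper2.Bridge7
import Mathlib
set_option backward.isDefEq.respectTransparency.types false
set_option autoImplicit false

/-!
# The graded pieces of a formal system of modules spread over a tower of thickenings

`F k` is a module on `Xs k`, the transition `u k : F (k+1) ⟶ (i k)_* F k` is the quotient by `J^(k+1)`.
The kernels `K n = ker (u n)` (on `Xs (n+1)`) carry operators `kx j n : (i (n+1))_* K n ⟶ K (n+1)` induced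
by multiplication by the generators `a j` of `J`; they commute and generate.
-/

universe u
open CategoryTheory CategoryTheory.Limits AlgebraicGeometry Opposite TopologicalSpace

namespace Groth.Agent.Lib.Helper17.Tow

open Groth.Agent.Lib.Helper23.FQuot Groth.Agent.Lib.Lead.FormalA Groth.Agent.Lib.Helper17.GrFormal
open Groth.Agent.Lib.Helper2.Bridge7

variable {A : Type u} [CommRing A]

/-- a formal system of modules over a tower of closed immersions of `A`-schemes -/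
structure TowSys (J : Ideal A) (Xs : ℕ → Scheme.{u}) [∀ k, (Xs k).Over (Spec (CommRingCat.of A))]
    (i : ∀ k, Xs k ⟶ Xs (k + 1)) where
  hi : ∀ k, i k ≫ (Xs (k + 1) ↘ Spec (CommRingCat.of A)) = Xs k ↘ Spec (CommRingCat.of A)
  hcl : ∀ k, Topology.IsClosedEmbedding (i k).base
  F : ∀ k, (Xs k).Modules
  u : ∀ k, F (k + 1) ⟶ (Scheme.Modules.pushforward (i k)).obj (F k)
  hu : ∀ k, IsQuot (J ^ (k + 1)) (u k)
  hkill : ∀ k, Formal.KilledBy (J ^ (k + 1)) (F k)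

variable {J : Ideal A} {Xs : ℕ → Scheme.{u}} [∀ k, (Xs k).Over (Spec (CommRingCat.of A))]
  {i : ∀ k, Xs k ⟶ Xs (k + 1)} (𝒯 : TowSys J Xs i) {r : ℕ} (a : Fin r → A) (ha : ∀ j, a j ∈ J)

namespace TowSys

/-- the pushforward functors -/
noncomputable abbrev P (_ : TowSys J Xs i) (k : ℕ) : (Xs k).Modules ⥤ (Xs (k + 1)).Modules :=
  Scheme.Modules.pushforward (i k)

theorem P_smulMod (k : ℕ) (N : (Xs k).Modules) (c : A) :
    (𝒯.P k).map (Formal.smulMod A N c) = Formal.smulMod A ((𝒯.P k).obj N) c :=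
  pushforward_map_smulMod (i k) (𝒯.hi k) N c

instance (k : ℕ) : Epi (𝒯.u k) := (𝒯.hu k).epi

theorem epi_P_map (k : ℕ) {M N : (Xs k).Modules} (g : M ⟶ N) [Epi g] : Epi ((𝒯.P k).map g) :=
  epi_push_map (i k) (𝒯.hcl k) g

include ha in
theorem exists_abar (j : Fin r) (n : ℕ) : ∃ f : (𝒯.P n).obj (𝒯.F n) ⟶ 𝒯.F (n + 1),
    𝒯.u n ≫ f = Formal.smulMod A (𝒯.F (n + 1)) (a j) := by
  refine (𝒯.hu n).fac _ fun b hb => ?_
  rw [← smulMod_mul]
  exact 𝒯.hkill (n + 1) _ (by rw [pow_succ]; exact Ideal.mul_mem_mul hb (ha j))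

/-- multiplication by `a j`, lifted to a map `(i n)_* F n ⟶ F (n+1)` -/
noncomputable def abar (j : Fin r) (n : ℕ) : (𝒯.P n).obj (𝒯.F n) ⟶ 𝒯.F (n + 1) :=
  Classical.choose (𝒯.exists_abar a ha j n)

theorem u_abar (j : Fin r) (n : ℕ) :
    𝒯.u n ≫ 𝒯.abar a ha j n = Formal.smulMod A (𝒯.F (n + 1)) (a j) :=
  Classical.choose_spec (𝒯.exists_abar a ha j n)

theorem abar_u (j : Fin r) (n : ℕ) :
    𝒯.abar a ha j n ≫ 𝒯.u n = Formal.smulMod A ((𝒯.P n).obj (𝒯.F n)) (a j) := by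
  rw [← cancel_epi (𝒯.u n), ← Category.assoc, u_abar, smulMod_naturality]

theorem abar_comm (i' j : Fin r) (n : ℕ) :
    (𝒯.P (n + 1)).map (𝒯.abar a ha i' n) ≫ 𝒯.abar a ha j (n + 1) =
      (𝒯.P (n + 1)).map (𝒯.abar a ha j n) ≫ 𝒯.abar a ha i' (n + 1) := by
  haveI := 𝒯.epi_P_map (n + 1) (𝒯.u n)
  have key : ∀ i' j : Fin r, 𝒯.u (n + 1) ≫ (𝒯.P (n + 1)).map (𝒯.u n) ≫
      (𝒯.P (n + 1)).map (𝒯.abar a ha i' n) ≫ 𝒯.abar a ha j (n + 1) =
      Formal.smulMod A (𝒯.F (n + 1 + 1)) (a i' * a j) := by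
    intro i' j
    rw [← Category.assoc ((𝒯.P (n + 1)).map (𝒯.u n)), ← Functor.map_comp, u_abar, P_smulMod,
      ← Category.assoc, ← smulMod_naturality, Category.assoc, u_abar, ← smulMod_mul]
  rw [← cancel_epi ((𝒯.P (n + 1)).map (𝒯.u n)), ← cancel_epi (𝒯.u (n + 1)), key, key, mul_comm]

/-- the graded pieces -/
noncomputable abbrev K (n : ℕ) : (Xs (n + 1)).Modules := kernel (𝒯.u n)

theorem ι_abar_u (j : Fin r) (n : ℕ) :
    ((𝒯.P (n + 1)).map (kernel.ι (𝒯.u n)) ≫ 𝒯.abar a ha j (n + 1)) ≫ 𝒯.u (n + 1) = 0 := by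
  rw [Category.assoc, abar_u, ← P_smulMod, ← Functor.map_comp, ← u_abar 𝒯 a ha j n,
    ← Category.assoc, kernel.condition, zero_comp, Functor.map_zero]

/-- the operators on the kernels -/
noncomputable def kx (j : Fin r) (n : ℕ) : (𝒯.P (n + 1)).obj (𝒯.K n) ⟶ 𝒯.K (n + 1) :=
  kernel.lift (𝒯.u (n + 1)) ((𝒯.P (n + 1)).map (kernel.ι (𝒯.u n)) ≫ 𝒯.abar a ha j (n + 1))
    (𝒯.ι_abar_u a ha j n)

theorem kx_ι (j : Fin r) (n : ℕ) :
    𝒯.kx a ha j n ≫ kernel.ι (𝒯.u (n + 1)) =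
      (𝒯.P (n + 1)).map (kernel.ι (𝒯.u n)) ≫ 𝒯.abar a ha j (n + 1) :=
  kernel.lift_ι _ _ _

theorem kx_comm (i' j : Fin r) (n : ℕ) :
    (𝒯.P (n + 1 + 1)).map (𝒯.kx a ha i' n) ≫ 𝒯.kx a ha j (n + 1) =
      (𝒯.P (n + 1 + 1)).map (𝒯.kx a ha j n) ≫ 𝒯.kx a ha i' (n + 1) := by
  have key : ∀ i' j : Fin r, ((𝒯.P (n + 1 + 1)).map (𝒯.kx a ha i' n) ≫ 𝒯.kx a ha j (n + 1)) ≫
      kernel.ι (𝒯.u (n + 1 + 1)) =
      (𝒯.P (n + 1 + 1)).map ((𝒯.P (n + 1)).map (kernel.ι (𝒯.u n))) ≫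
        (𝒯.P (n + 1 + 1)).map (𝒯.abar a ha i' (n + 1)) ≫ 𝒯.abar a ha j (n + 1 + 1) := by
    intro i' j
    rw [Category.assoc, kx_ι, ← Category.assoc, ← Functor.map_comp, kx_ι, Functor.map_comp,
      Category.assoc]
  rw [← cancel_mono (kernel.ι (𝒯.u (n + 1 + 1))), key, key, abar_comm]

/-- multiplication by `c ∈ J^(n+1)` maps `F (n+1)` into the kernel `K n` -/
noncomputable def ell₀ {n : ℕ} (c : A) (hc : c ∈ J ^ (n + 1)) : 𝒯.F (n + 1) ⟶ 𝒯.K n :=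
  kernel.lift (𝒯.u n) (Formal.smulMod A (𝒯.F (n + 1)) c) ((𝒯.hu n).zero c hc)

/-- multiplication by `c ∈ J^(n+1)` as a map `F (n+2) ⟶ (i (n+1))_* K n` -/
noncomputable def ell {n : ℕ} (c : A) (hc : c ∈ J ^ (n + 1)) :
    𝒯.F (n + 1 + 1) ⟶ (𝒯.P (n + 1)).obj (𝒯.K n) :=
  𝒯.u (n + 1) ≫ (𝒯.P (n + 1)).map (𝒯.ell₀ c hc)

theorem ell_kx {n : ℕ} (c : A) (hc : c ∈ J ^ (n + 1)) (j : Fin r) :
    𝒯.ell c hc ≫ 𝒯.kx a ha j n =
      kernel.lift (𝒯.u (n + 1)) (Formal.smulMod A (𝒯.F (n + 1 + 1)) (c * a j))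
        ((𝒯.hu (n + 1)).zero _ (by rw [pow_succ]; exact Ideal.mul_mem_mul hc (ha j))) := by
  rw [← cancel_mono (kernel.ι (𝒯.u (n + 1))), Category.assoc, kx_ι, kernel.lift_ι]
  unfold ell ell₀
  rw [Category.assoc, ← Category.assoc ((𝒯.P (n + 1)).map _), ← Functor.map_comp, kernel.lift_ι,
    P_smulMod, ← Category.assoc, ← smulMod_naturality, Category.assoc, u_abar, ← smulMod_mul]

include ha in
theorem eq_zero_of_kx_comp (hspan : Ideal.span (Set.range a) = J) (n : ℕ) {T : (Xs (n + 1 + 1)).Modules}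
    (g : 𝒯.K (n + 1) ⟶ T) (hx : ∀ j, 𝒯.kx a ha j n ≫ g = 0) : g = 0 := by
  refine eq_zero_of_kernel_lift_smulMod_comp (𝒯.u (n + 1)) (𝒯.hu (n + 1)) g fun b hb => ?_
  have hb' : b ∈ J ^ (n + 1) * Ideal.span (Set.range a) := by rw [hspan, ← pow_succ]; exact hb
  obtain ⟨c, hc, rfl⟩ := exists_sum_mul_of_mem_mul a (J ^ (n + 1)) b hb'
  have h1 : kernel.lift (𝒯.u (n + 1)) (Formal.smulMod A (𝒯.F (n + 1 + 1)) (∑ j, c j * a j))
      ((𝒯.hu (n + 1)).zero _ hb) = ∑ j, 𝒯.ell (c j) (hc j) ≫ 𝒯.kx a ha j n := by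
    rw [← cancel_mono (kernel.ι (𝒯.u (n + 1))), kernel.lift_ι, Preadditive.sum_comp, smulMod_sum]
    refine Finset.sum_congr rfl fun j _ => ?_
    rw [ell_kx, kernel.lift_ι]
  rw [h1, Preadditive.sum_comp]
  refine Finset.sum_eq_zero fun j _ => ?_
  rw [Category.assoc, hx, comp_zero]

end TowSys

end Groth.Agent.Lib.Helper17.Tow
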