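import Groth.Agent.Lib.Helper17.TowA
import Groth.Agent.Lib.Helper17.TowB
import Groth.Agent.Lib.Helper17.FinTypePushPull
import Groth.Agent.Lib.Helper6.DevExt
import Groth.Agent.Lib.Helper6.DevPow
import Mathlib
set_option backward.isDefEq.respectTransparency.types false
set_option autoImplicit false

/-!
# Descent of the graded pieces of a tower to the base level
-/

universe u
open CategoryTheory CategoryTheory.Limits AlgebraicGeometry Opposite TopologicalSpace

namespace Groth.Agent.Lib.Helper17.Tow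

open Groth.Agent.Lib.Helper23.FQuot Groth.Agent.Lib.Lead.FormalA Groth.Agent.Lib.Helper17.GrFormal
open Groth.Agent.Lib.Helper2.Bridge7 Groth.Agent.Lib.Helper17.Graded
open Groth.Agent.Lib.Helper28 Groth.Agent.Lib.Helper28.QCohLoc Groth.Agent.Lib.Helper17.ClosedUnit

attribute [local instance] Abelian.hasFiniteBiproducts

section counit

variable {Y Y' : Scheme.{u}} (i : Y ⟶ Y') [IsClosedImmersion i]

/-- the counit `i^* i_* N ⟶ N` of a closed immersion is an isomorphism on quasi-coherent modules -/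
theorem isIso_counit (N : Y.Modules) [N.IsQuasicoherent] :
    IsIso ((Scheme.Modules.pullbackPushforwardAdjunction i).counit.app N) := by
  haveI : ((Scheme.Modules.pushforward i).obj N).IsQuasicoherent := isQuasicoherent_pushforward i N
  have h1 : IsIso ((Scheme.Modules.pullbackPushforwardAdjunction i).unit.app
      ((Scheme.Modules.pushforward i).obj N)) := by
    refine isIso_unit_of_killed i _ fun U a ha s => ?_
    rw [Scheme.Hom.ker_apply, RingHom.mem_ker] at ha
    have : (a • s : Γ((Scheme.Modules.pushforward i).obj N, U.1)) =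
        ((i.app U.1).hom a • (show Γ(N, i ⁻¹ᵁ U.1) from s) : Γ(N, i ⁻¹ᵁ U.1)) := rfl
    rw [this, ha, zero_smul]
    rfl
  have h2 := (Scheme.Modules.pullbackPushforwardAdjunction i).right_triangle_components N
  have h3 : IsIso ((Scheme.Modules.pushforward i).map
      ((Scheme.Modules.pullbackPushforwardAdjunction i).counit.app N)) := by
    have : (Scheme.Modules.pushforward i).map
        ((Scheme.Modules.pullbackPushforwardAdjunction i).counit.app N) =
        inv ((Scheme.Modules.pullbackPushforwardAdjunction i).unit.app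
          ((Scheme.Modules.pushforward i).obj N)) := by
      rw [← cancel_epi ((Scheme.Modules.pullbackPushforwardAdjunction i).unit.app
        ((Scheme.Modules.pushforward i).obj N)), h2, IsIso.hom_inv_id]
      rfl
    rw [this]
    infer_instance
  haveI : (Scheme.Modules.pushforward i).ReflectsIsomorphisms :=
    reflectsIsomorphisms_of_reflectsMonomorphisms_of_reflectsEpimorphisms _
  exact isIso_of_reflects_iso _ (Scheme.Modules.pushforward i)

end counit

section functors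

variable (Xs : ℕ → Scheme.{u}) (i : ∀ k, Xs k ⟶ Xs (k + 1))

/-- pullback to the base level -/
noncomputable def Lam : ∀ k, (Xs k).Modules ⥤ (Xs 0).Modules
  | 0 => 𝟭 _
  | k + 1 => Scheme.Modules.pullback (i k) ⋙ Lam k

/-- pushforward from the base level -/
noncomputable def Pi : ∀ k, (Xs 0).Modules ⥤ (Xs k).Modules
  | 0 => 𝟭 _
  | k + 1 => Pi k ⋙ Scheme.Modules.pushforward (i k)

/-- the adjunction between them -/
noncomputable def adj : ∀ k, Lam Xs i k ⊣ Pi Xs i k
  | 0 => Adjunction.id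
  | k + 1 => (Scheme.Modules.pullbackPushforwardAdjunction (i k)).comp (adj k)

theorem Lam_succ (k : ℕ) : Lam Xs i (k + 1) = Scheme.Modules.pullback (i k) ⋙ Lam Xs i k := rfl

theorem Pi_succ (k : ℕ) : Pi Xs i (k + 1) = Pi Xs i k ⋙ Scheme.Modules.pushforward (i k) := rfl

theorem adj_succ (k : ℕ) : adj Xs i (k + 1) =
    (Scheme.Modules.pullbackPushforwardAdjunction (i k)).comp (adj Xs i k) := rfl

instance (k : ℕ) : (Lam Xs i k).Additive := by
  induction k with
  | zero => exact inferInstanceAs (𝟭 _ : (Xs 0).Modules ⥤ (Xs 0).Modules).Additive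
  | succ k ih =>
    haveI := ih
    haveI : (Scheme.Modules.pullback (i k)).Additive :=
      (Scheme.Modules.pullbackPushforwardAdjunction (i k)).left_adjoint_additive
    exact inferInstanceAs (Scheme.Modules.pullback (i k) ⋙ Lam Xs i k).Additive

theorem isQuasicoherent_Lam (k : ℕ) (N : (Xs k).Modules) [N.IsQuasicoherent] :
    ((Lam Xs i k).obj N).IsQuasicoherent := by
  induction k with
  | zero => exact inferInstanceAs N.IsQuasicoherent
  | succ k ih =>
    exact ih ((Scheme.Modules.pullback (i k)).obj N)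

theorem isFiniteType_Lam (k : ℕ) (N : (Xs k).Modules) [N.IsQuasicoherent]
    [SheafOfModules.IsFiniteType.{u} (R := (Xs k).ringCatSheaf) N] :
    SheafOfModules.IsFiniteType.{u} (R := (Xs 0).ringCatSheaf) ((Lam Xs i k).obj N) := by
  induction k with
  | zero => exact inferInstanceAs (SheafOfModules.IsFiniteType.{u} (R := (Xs 0).ringCatSheaf) N)
  | succ k ih =>
    haveI := Groth.Agent.Lib.Helper17.FinTypePushPull.isFiniteType_pullback (i k) N
    exact ih ((Scheme.Modules.pullback (i k)).obj N)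

end functors

section gsys

variable {A : Type u} [CommRing A] {J : Ideal A} {Xs : ℕ → Scheme.{u}}
  [∀ k, (Xs k).Over (Spec (CommRingCat.of A))] {i : ∀ k, Xs k ⟶ Xs (k + 1)}
  [∀ k, IsClosedImmersion (i k)] (𝒯 : TowSys J Xs i) {r : ℕ} (a : Fin r → A) (ha : ∀ j, a j ∈ J)
  [hqc : ∀ k, (𝒯.F k).IsQuasicoherent]

namespace TowSys

instance isQuasicoherent_PF (k : ℕ) : ((𝒯.P k).obj (𝒯.F k)).IsQuasicoherent :=
  isQuasicoherent_pushforward (i k) (𝒯.F k)

instance isQuasicoherent_K (n : ℕ) : (𝒯.K n).IsQuasicoherent :=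
  Groth.Agent.Lib.Helper17.CohKer.isQuasicoherent_kernel (𝒯.u n)

instance isQuasicoherent_PK (n : ℕ) : ((𝒯.P (n + 1)).obj (𝒯.K n)).IsQuasicoherent :=
  isQuasicoherent_pushforward (i (n + 1)) (𝒯.K n)

/-- the counit at `K n` -/
noncomputable abbrev ε (n : ℕ) :
    (Scheme.Modules.pullback (i (n + 1))).obj ((𝒯.P (n + 1)).obj (𝒯.K n)) ⟶ 𝒯.K n :=
  (Scheme.Modules.pullbackPushforwardAdjunction (i (n + 1))).counit.app (𝒯.K n)

instance isIso_ε (n : ℕ) : IsIso (𝒯.ε n) := isIso_counit (i (n + 1)) (𝒯.K n)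

/-- the operators, before descent to the base level -/
noncomputable def κ (j : Fin r) (n : ℕ) :
    𝒯.K n ⟶ (Scheme.Modules.pullback (i (n + 1))).obj (𝒯.K (n + 1)) :=
  inv (𝒯.ε n) ≫ (Scheme.Modules.pullback (i (n + 1))).map (𝒯.kx a ha j n)

theorem κ_comm (i' j : Fin r) (n : ℕ) :
    𝒯.κ a ha i' n ≫ (Scheme.Modules.pullback (i (n + 1))).map (𝒯.κ a ha j (n + 1)) =
      𝒯.κ a ha j n ≫ (Scheme.Modules.pullback (i (n + 1))).map (𝒯.κ a ha i' (n + 1)) := by
  let ε' := (Scheme.Modules.pullbackPushforwardAdjunction (i (n + 1 + 1))).counit.app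
    ((𝒯.P (n + 1)).obj (𝒯.K n))
  haveI : IsIso ε' := isIso_counit (i (n + 1 + 1)) _
  have key : ∀ i' j : Fin r, 𝒯.kx a ha i' n ≫ 𝒯.κ a ha j (n + 1) =
      inv ε' ≫ (Scheme.Modules.pullback (i (n + 1 + 1))).map
        ((𝒯.P (n + 1 + 1)).map (𝒯.kx a ha i' n) ≫ 𝒯.kx a ha j (n + 1)) := by
    intro i' j
    unfold κ
    rw [Functor.map_comp, ← Category.assoc, ← Category.assoc]
    congr 1
    rw [IsIso.comp_inv_eq, Category.assoc, IsIso.eq_inv_comp]
    exact ((Scheme.Modules.pullbackPushforwardAdjunction (i (n + 1 + 1))).counit.naturality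
      (𝒯.kx a ha i' n)).symm
  have h2 : ∀ i' j : Fin r, 𝒯.κ a ha i' n ≫
      (Scheme.Modules.pullback (i (n + 1))).map (𝒯.κ a ha j (n + 1)) =
      inv (𝒯.ε n) ≫ (Scheme.Modules.pullback (i (n + 1))).map
        (inv ε' ≫ (Scheme.Modules.pullback (i (n + 1 + 1))).map
          ((𝒯.P (n + 1 + 1)).map (𝒯.kx a ha i' n) ≫ 𝒯.kx a ha j (n + 1))) := by
    intro i' j
    rw [← key]
    unfold κ
    rw [Category.assoc, ← Functor.map_comp]
  rw [h2, h2, kx_comm]

/-- **the graded system on the base level** -/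
noncomputable def Gsys : GrSys (Xs 0) r where
  K n := (Lam Xs i (n + 1)).obj (𝒯.K n)
  x j n := (Lam Xs i (n + 1)).map (𝒯.κ a ha j n)
  comm i' j n := by
    show (Lam Xs i (n + 1)).map (𝒯.κ a ha i' n) ≫
      (Lam Xs i (n + 1)).map ((Scheme.Modules.pullback (i (n + 1))).map (𝒯.κ a ha j (n + 1))) =
      (Lam Xs i (n + 1)).map (𝒯.κ a ha j n) ≫
      (Lam Xs i (n + 1)).map ((Scheme.Modules.pullback (i (n + 1))).map (𝒯.κ a ha i' (n + 1)))
    rw [← Functor.map_comp, ← Functor.map_comp, κ_comm]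

include ha in
theorem epi_gen_Gsys (hspan : Ideal.span (Set.range a) = J) (n : ℕ) : Epi ((𝒯.Gsys a ha).gen n) := by
  apply Preadditive.epi_of_cancel_zero
  intro T g hg
  have hx : ∀ j, (Lam Xs i (n + 1)).map (𝒯.κ a ha j n) ≫ g = 0 := fun j => by
    have h1 := congrArg (fun t => biproduct.ι (fun _ : Fin r => (𝒯.Gsys a ha).K n) j ≫ t) hg
    simp only [comp_zero] at h1
    rw [← Category.assoc, GrSys.ι_gen] at h1
    exact h1
  let g₁ : (Lam Xs i (n + 1)).obj ((Scheme.Modules.pullback (i (n + 1))).obj (𝒯.K (n + 1))) ⟶ T := g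
  have hx' : ∀ j, (Lam Xs i (n + 1)).map (𝒯.κ a ha j n) ≫ g₁ = 0 := hx
  haveI : (Pi Xs i (n + 1 + 1)).Additive := (adj Xs i (n + 1 + 1)).right_adjoint_additive
  have hz : ∀ {M : (Xs (n + 1 + 1)).Modules} {T : (Xs 0).Modules},
      (adj Xs i (n + 1 + 1)).homEquiv M T 0 = 0 := by
    intro M T
    rw [Adjunction.homEquiv_unit, Functor.map_zero, comp_zero]
  have hg' : (adj Xs i (n + 1 + 1)).homEquiv _ _ g = 0 := by
    refine 𝒯.eq_zero_of_kx_comp a ha hspan n _ fun j => ?_
    rw [← Adjunction.homEquiv_naturality_left]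
    have h4 : (Scheme.Modules.pullback (i (n + 1))).map (𝒯.kx a ha j n) = 𝒯.ε n ≫ 𝒯.κ a ha j n := by
      unfold κ
      rw [IsIso.hom_inv_id_assoc]
    have h2 : (Lam Xs i (n + 1 + 1)).map (𝒯.kx a ha j n) ≫ g = 0 := by
      show (Lam Xs i (n + 1)).map ((Scheme.Modules.pullback (i (n + 1))).map (𝒯.kx a ha j n)) ≫ g₁ = 0
      rw [h4, Functor.map_comp, Category.assoc, hx', comp_zero]
    rw [h2, hz]
  exact (adj Xs i (n + 1 + 1)).homEquiv _ _ |>.injective (hg'.trans hz.symm)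

omit [∀ k, IsClosedImmersion (i k)] hqc in
/-- multiplication by the generators maps onto the first kernel -/
theorem eq_zero_of_ell₀_comp (hspan : Ideal.span (Set.range a) = J) {T : (Xs (0 + 1)).Modules}
    (g : 𝒯.K 0 ⟶ T)
    (hx : ∀ j, 𝒯.ell₀ (n := 0) (a j) (by rw [zero_add, pow_one]; exact ha j) ≫ g = 0) : g = 0 := by
  refine eq_zero_of_kernel_lift_smulMod_comp (𝒯.u 0) (𝒯.hu 0) g fun b hb => ?_
  have hb' : b ∈ Ideal.span (Set.range a) := by
    rw [hspan]; rw [zero_add, pow_one] at hb; exact hb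
  obtain ⟨c, rfl⟩ := Ideal.mem_span_range_iff_exists_fun.1 hb'
  have h1 : kernel.lift (𝒯.u 0) (Formal.smulMod A (𝒯.F (0 + 1)) (∑ j, c j * a j))
      ((𝒯.hu 0).zero _ hb) = ∑ j, Formal.smulMod A (𝒯.F (0 + 1)) (c j) ≫
        𝒯.ell₀ (n := 0) (a j) (by rw [zero_add, pow_one]; exact ha j) := by
    rw [← cancel_mono (kernel.ι (𝒯.u 0)), kernel.lift_ι, Preadditive.sum_comp, smulMod_sum]
    refine Finset.sum_congr rfl fun j _ => ?_
    unfold ell₀
    rw [Category.assoc, kernel.lift_ι, ← smulMod_mul]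
  rw [h1, Preadditive.sum_comp]
  refine Finset.sum_eq_zero fun j _ => ?_
  rw [Category.assoc, hx, comp_zero]

include ha in
theorem isFiniteType_K_zero (hcoh : ∀ k, Coh.IsCoh (𝒯.F k)) (hspan : Ideal.span (Set.range a) = J) :
    SheafOfModules.IsFiniteType.{u} (R := (Xs (0 + 1)).ringCatSheaf) (𝒯.K 0) := by
  let σ : (⨁ fun _ : Fin r => 𝒯.F (0 + 1)) ⟶ 𝒯.K 0 :=
    biproduct.desc fun j => 𝒯.ell₀ (n := 0) (a j) (by rw [zero_add, pow_one]; exact ha j)
  haveI : Epi σ := by
    apply Preadditive.epi_of_cancel_zero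
    intro T g hg
    refine 𝒯.eq_zero_of_ell₀_comp a ha hspan g fun j => ?_
    have h1 := congrArg (fun t => biproduct.ι (fun _ : Fin r => 𝒯.F (0 + 1)) j ≫ t) hg
    simp only [comp_zero] at h1
    rw [← Category.assoc, biproduct.ι_desc] at h1
    exact h1
  have hB : Coh.IsCoh (⨁ fun _ : Fin r => 𝒯.F (0 + 1)) :=
    Groth.Agent.Lib.Helper6.DevCore.isCoh_of_iso (biproduct.isoCoproduct _).symm
      (Groth.Agent.Lib.Helper6.DevPow.isCoh_sigma_fin r _ (fun _ => hcoh (0 + 1)))
  haveI := hB.2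
  exact Groth.Agent.Lib.Helper17.CohKer.isFiniteType_of_epi σ

include ha in
theorem isCoh_Gsys (hcoh : ∀ k, Coh.IsCoh (𝒯.F k)) (hspan : Ideal.span (Set.range a) = J) :
    ∀ n, Coh.IsCoh ((𝒯.Gsys a ha).K n)
  | 0 => by
    haveI := 𝒯.isFiniteType_K_zero a ha hcoh hspan
    exact ⟨isQuasicoherent_Lam Xs i (0 + 1) (𝒯.K 0), isFiniteType_Lam Xs i (0 + 1) (𝒯.K 0)⟩
  | n + 1 => by
    have ih := isCoh_Gsys hcoh hspan n
    have hB : Coh.IsCoh (⨁ fun _ : Fin r => (𝒯.Gsys a ha).K n) :=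
      Groth.Agent.Lib.Helper6.DevCore.isCoh_of_iso (biproduct.isoCoproduct _).symm
        (Groth.Agent.Lib.Helper6.DevPow.isCoh_sigma_fin r _ (fun _ => ih))
    haveI := hB.2
    haveI := 𝒯.epi_gen_Gsys a ha hspan n
    exact ⟨isQuasicoherent_Lam Xs i (n + 1 + 1) (𝒯.K (n + 1)),
      Groth.Agent.Lib.Helper17.CohKer.isFiniteType_of_epi ((𝒯.Gsys a ha).gen n)⟩

include ha in
theorem isFG_Gsys (hcoh : ∀ k, Coh.IsCoh (𝒯.F k)) (hspan : Ideal.span (Set.range a) = J) :
    (𝒯.Gsys a ha).IsFG :=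
  ⟨𝒯.isCoh_Gsys a ha hcoh hspan, 0, fun n _ => 𝒯.epi_gen_Gsys a ha hspan n⟩

end TowSys

end gsys

end Groth.Agent.Lib.Helper17.Tow
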