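import Groth.Agent.Lib.Helper17.LiftB
import Groth.Agent.Lib.Helper17.TowC
import Groth.Agent.Lib.Helper17.FlatDict2
import Groth.Agent.Lib.Helper1.LocFree7
import Groth.Agent.Lib.Helper1.FlatPullback
import Mathlib
set_option backward.isDefEq.respectTransparency.types false
set_option autoImplicit false
universe u w
open AlgebraicGeometry CategoryTheory Opposite TopologicalSpace CategoryTheory.Limits

namespace Groth.Agent.Lib.Helper17.Lift
open Scheme.Modules
open Groth.Agent.Lib.Helper17.SqZero Groth.Agent.Lib.Helper28.PullbackInv Groth.Agent.Lib.Helper28.QCohLoc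
open Groth.Agent.Lib.Helper17.ModPullback Groth.Agent.Lib.Helper17.TensorQC

/-! ### category theory -/

open Abelian in
theorem exists_section_of_subsingleton_ext {C : Type*} [Category C] [Abelian C] [HasExt.{w} C]
    {S : ShortComplex C} (hS : S.ShortExact) (h : Subsingleton (Abelian.Ext.{w} S.X₃ S.X₁ 1)) :
    ∃ s : S.X₃ ⟶ S.X₂, s ≫ S.g = 𝟙 S.X₃ := by
  obtain ⟨x₂, hx₂⟩ := Ext.covariant_sequence_exact₃ S.X₃ hS (Ext.mk₀ (𝟙 S.X₃)) (zero_add 1)
    (Subsingleton.elim _ _)
  obtain ⟨s, rfl⟩ := (Ext.mk₀_bijective S.X₃ S.X₂).2 x₂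
  refine ⟨s, ?_⟩
  rw [Ext.mk₀_comp_mk₀] at hx₂
  exact (Ext.mk₀_bijective S.X₃ S.X₃).1 hx₂


variable {X : Scheme.{u}} (I : X.IdealSheafData)

theorem isQuasicoherent_of_isFinLocFree (F : X.Modules) (hF : FlatMod.IsFinLocFree F) : F.IsQuasicoherent := by
  haveI := Groth.Agent.Lib.Helper29.FPFree.isFinitePresentation_of_isFinLocFree F hF
  exact Groth.Agent.Lib.Helper29.FPDict.isQuasicoherent_of_isFinitePresentation F

theorem flat_stalk_of_isFinLocFree (F : X.Modules) (hF : FlatMod.IsFinLocFree F) (x : X) :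
    Module.Flat (X.presheaf.stalk x) (F.presheaf.stalk x) := by
  obtain ⟨hfree, -⟩ := Groth.Agent.Lib.Helper1.LocFree.FL.free_finite_stalk
    (Groth.Agent.Lib.Helper1.LocFree.FL.of_isFinLocFree hF ⊤) x trivial
  exact Module.Flat.of_free

theorem flat_sections_of_isFinLocFree (F : X.Modules) (hF : FlatMod.IsFinLocFree F) [F.IsQuasicoherent]
    (U : X.affineOpens) : Module.Flat Γ(X, U.1) Γ(F, U.1) := by
  rw [Groth.Agent.Lib.Helper17.FlatDict2.flat_sections_iff_isFlatAt F U.2]
  intro x _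
  exact flat_stalk_of_isFinLocFree F hF x

theorem nonempty_KK_iso_push (hI : I ^ 2 = ⊥) (F : X.Modules) (hF : FlatMod.IsFinLocFree F) :
    Nonempty (KK I F ≅ (Scheme.Modules.pushforward I.subschemeι).obj (TI I F)) := by
  haveI : F.IsQuasicoherent := isQuasicoherent_of_isFinLocFree F hF
  obtain ⟨e₁⟩ := nonempty_tensor_iso_KK I F (flat_sections_of_isFinLocFree F hF)
  obtain ⟨e₂⟩ := nonempty_tensor_iso_push I F hI
  exact ⟨e₁.symm ≪≫ e₂⟩

theorem nonempty_pullback_KK_iso (hI : I ^ 2 = ⊥) (F : X.Modules) (hF : FlatMod.IsFinLocFree F) :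
    Nonempty ((Scheme.Modules.pullback I.subschemeι).obj (KK I F) ≅ TI I F) := by
  haveI : F.IsQuasicoherent := isQuasicoherent_of_isFinLocFree F hF
  obtain ⟨κ⟩ := nonempty_KK_iso_push I hI F hF
  haveI : (TI I F).IsQuasicoherent := inferInstance
  haveI := Groth.Agent.Lib.Helper17.Tow.isIso_counit I.subschemeι (TI I F)
  exact ⟨(Scheme.Modules.pullback I.subschemeι).mapIso κ ≪≫
    asIso ((Scheme.Modules.pullbackPushforwardAdjunction I.subschemeι).counit.app (TI I F))⟩

/-- **uniqueness of extensions of homomorphisms** -/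
theorem hom_ext_of_subsingleton (hI : I ^ 2 = ⊥) (E F : X.Modules) (hF : FlatMod.IsFinLocFree F)
    (h0 : Subsingleton ((Scheme.Modules.pullback I.subschemeι).obj E ⟶ TI I F))
    (u u' : E ⟶ F)
    (huu' : (Scheme.Modules.pullback I.subschemeι).map u = (Scheme.Modules.pullback I.subschemeι).map u') :
    u = u' := by
  obtain ⟨κ⟩ := nonempty_KK_iso_push I hI F hF
  have h1 : (Scheme.Modules.pullback I.subschemeι).map (u - u') = 0 := by
    rw [Functor.map_sub, huu', sub_self]
  have h2 : (u - u') ≫ un I F = 0 := by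
    have := (Scheme.Modules.pullbackPushforwardAdjunction I.subschemeι).unit.naturality (u - u')
    simp only [Functor.id_obj, Functor.id_map, Functor.comp_obj, Functor.comp_map] at this
    rw [this, h1, Functor.map_zero, comp_zero]
  let d' : E ⟶ KK I F := kernel.lift (un I F) (u - u') h2
  have h3 : d' ≫ κ.hom = 0 := by
    apply ((Scheme.Modules.pullbackPushforwardAdjunction I.subschemeι).homEquiv E (TI I F)).symm.injective
    exact Subsingleton.elim _ _
  have h4 : d' = 0 := by
    rw [← cancel_mono κ.hom, h3, zero_comp]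
  have h5 : u - u' = 0 := by
    rw [← kernel.lift_ι (un I F) (u - u') h2]
    change d' ≫ _ = 0
    rw [h4, zero_comp]
  exact sub_eq_zero.mp h5

end Groth.Agent.Lib.Helper17.Lift
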