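import Groth.Agent.Lib.Helper17.LocalFlat

/-!
# Flatness modulo powers of a regular element

`flat_quot_pow`: if `t` is `M`-regular and `(A ⧸ t) ⊗ M` is flat over `A ⧸ t`, then
`(A ⧸ t ^ n) ⊗ M` is flat over `A ⧸ t ^ n` for all `n ≥ 1`.
-/

namespace Groth.Agent.Lib.Helper17.LocalFlat

open TensorProduct Function

universe u v

theorem flat_quot_pow {A : Type u} [CommRing A] (t : A) (M : Type v) [AddCommGroup M] [Module A M]
    (hreg : IsSMulRegular M t)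
    (h : Module.Flat (A ⧸ Ideal.span {t}) ((A ⧸ Ideal.span {t}) ⊗[A] M)) (n : ℕ) (hn : 1 ≤ n) :
    Module.Flat (A ⧸ (Ideal.span {t} ^ n)) ((A ⧸ (Ideal.span {t} ^ n)) ⊗[A] M) := by
  set J : Ideal A := Ideal.span {t} ^ n with hJ
  have htJ : t ^ n ∈ J := by
    rw [hJ, Ideal.span_singleton_pow]; exact Ideal.mem_span_singleton_self _
  set tn : A ⧸ J := Ideal.Quotient.mk J t with htn
  have htn0 : tn ^ n = 0 := by
    rw [htn, ← map_pow]; exact Ideal.Quotient.eq_zero_iff_mem.2 htJ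
  set In : Ideal (A ⧸ J) := Ideal.span {tn} with hIn
  have hI : IsNilpotent In :=
    ⟨n, by rw [hIn, Ideal.span_singleton_pow, htn0, Ideal.zero_eq_bot, Ideal.span_singleton_eq_bot]⟩
  -- flatness of the reduction
  have hflat : Module.Flat ((A ⧸ J) ⧸ In) (((A ⧸ J) ⧸ In) ⊗[A ⧸ J] ((A ⧸ J) ⊗[A] M)) := by
    let φ : (A ⧸ Ideal.span {t}) →+* ((A ⧸ J) ⧸ In) :=
      Ideal.Quotient.lift (Ideal.span {t}) (algebraMap A ((A ⧸ J) ⧸ In)) (by
        intro a ha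
        obtain ⟨c, rfl⟩ := Ideal.mem_span_singleton'.1 ha
        rw [IsScalarTower.algebraMap_apply A (A ⧸ J) ((A ⧸ J) ⧸ In)]
        show Ideal.Quotient.mk In (Ideal.Quotient.mk J (c * t)) = 0
        rw [Ideal.Quotient.eq_zero_iff_mem, map_mul]
        exact Ideal.mul_mem_left _ _ (Ideal.mem_span_singleton_self _))
    letI : Algebra (A ⧸ Ideal.span {t}) ((A ⧸ J) ⧸ In) := φ.toAlgebra
    haveI : IsScalarTower A (A ⧸ Ideal.span {t}) ((A ⧸ J) ⧸ In) :=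
      IsScalarTower.of_algebraMap_eq (fun a => rfl)
    haveI : Module.Flat ((A ⧸ J) ⧸ In)
        (((A ⧸ J) ⧸ In) ⊗[A ⧸ Ideal.span {t}] ((A ⧸ Ideal.span {t}) ⊗[A] M)) := inferInstance
    let e1 := AlgebraTensorModule.cancelBaseChange A (A ⧸ Ideal.span {t}) ((A ⧸ J) ⧸ In)
      ((A ⧸ J) ⧸ In) M
    let e2 := AlgebraTensorModule.cancelBaseChange A (A ⧸ J) ((A ⧸ J) ⧸ In)
      ((A ⧸ J) ⧸ In) M
    exact Module.Flat.of_linearEquiv (e2.trans e1.symm)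
  refine flat_of_nilpotent ((A ⧸ J) ⊗[A] M) hI ?_
  have htI : tn ∈ In := Ideal.mem_span_singleton_self _
  have hform : ∀ z : In ⊗[A ⧸ J] ((A ⧸ J) ⊗[A] M), ∃ m, z = (⟨tn, htI⟩ : In) ⊗ₜ m := by
    intro z
    induction z using TensorProduct.induction_on with
    | zero => exact ⟨0, by rw [tmul_zero]⟩
    | add x y hx hy =>
      obtain ⟨b₁, rfl⟩ := hx
      obtain ⟨b₂, rfl⟩ := hy
      exact ⟨b₁ + b₂, by rw [tmul_add]⟩
    | tmul a b =>
      obtain ⟨c, hc⟩ := Ideal.mem_span_singleton'.1 a.2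
      refine ⟨c • b, ?_⟩
      rw [← smul_tmul]
      congr 1
      exact Subtype.ext hc.symm
  have hsurj : ∀ m : (A ⧸ J) ⊗[A] M, ∃ x : M, m = (1 : A ⧸ J) ⊗ₜ x := by
    intro m
    induction m using TensorProduct.induction_on with
    | zero => exact ⟨0, by rw [tmul_zero]⟩
    | add x y hx hy =>
      obtain ⟨b₁, rfl⟩ := hx
      obtain ⟨b₂, rfl⟩ := hy
      exact ⟨b₁ + b₂, by rw [tmul_add]⟩
    | tmul a x =>
      obtain ⟨a, rfl⟩ := Ideal.Quotient.mk_surjective a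
      refine ⟨a • x, ?_⟩
      rw [← smul_tmul]
      congr 1
      rw [Algebra.smul_def, mul_one]; rfl
  rw [injective_iff_map_eq_zero]
  intro z hz
  obtain ⟨m, rfl⟩ := hform z
  obtain ⟨x, rfl⟩ := hsurj m
  have hz' : tn ⊗ₜ[A ⧸ J] ((1 : A ⧸ J) ⊗ₜ[A] x) = (0 : (A ⧸ J) ⊗[A ⧸ J] ((A ⧸ J) ⊗[A] M)) := hz
  have h3 := congrArg (TensorProduct.lid (A ⧸ J) ((A ⧸ J) ⊗[A] M)) hz'
  rw [TensorProduct.lid_tmul, map_zero, TensorProduct.smul_tmul', smul_eq_mul, mul_one] at h3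
  have h4 := congrArg (TensorProduct.quotTensorEquivQuotSMul M J) h3
  rw [htn, TensorProduct.quotTensorEquivQuotSMul_mk_tmul, map_zero,
    Submodule.Quotient.mk_eq_zero, hJ, Ideal.span_singleton_pow,
    Submodule.ideal_span_singleton_smul] at h4
  obtain ⟨y, -, hy⟩ := h4
  have hy' : t • x = t • (t ^ (n - 1) • y) := by
    rw [← hy, ← mul_smul, ← pow_succ']
    show t ^ n • y = _
    congr 2; omega
  have hx : x = t ^ (n - 1) • y := hreg hy'
  have h5 : ((1 : A ⧸ J) ⊗ₜ[A] x : (A ⧸ J) ⊗[A] M) = tn ^ (n - 1) • ((1 : A ⧸ J) ⊗ₜ[A] y) := by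
    rw [hx, TensorProduct.smul_tmul', smul_eq_mul, mul_one, ← smul_tmul, htn, ← map_pow]
    congr 1
    rw [Algebra.smul_def, mul_one]; rfl
  rw [h5, ← smul_tmul]
  have : tn ^ (n - 1) • (⟨tn, htI⟩ : In) = 0 := by
    apply Subtype.ext
    show tn ^ (n - 1) * tn = 0
    rw [← pow_succ, ← htn0]
    congr 1; omega
  rw [this, zero_tmul]

end Groth.Agent.Lib.Helper17.LocalFlat
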