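import Groth.Agent.Lib.Helper17.MV2
import Groth.Agent.Lib.Helper17.RelAffine
import Mathlib
set_option backward.isDefEq.respectTransparency.types false
set_option autoImplicit false
universe u

namespace Groth.Agent.Lib.Helper17.MV
open CategoryTheory CategoryTheory.Limits Opposite Abelian TopologicalSpace AlgebraicGeometry
open Groth.Agent.Lib.Helper17.AffineVanish

variable {X : Scheme.{u}}

/-- a quasi-compact open inside an affine open `U₀`, intersected with basic opens of `U₀`: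
uniformly bounded quasi-coherent cohomological dimension. -/
theorem exists_vanishing_of_isCompact_le_affine_inf {U₀ : X.Opens} (hU₀ : IsAffineOpen U₀) (W : X.Opens)
    (hW : W ≤ U₀) (hc : IsCompact (W : Set X)) :
    ∃ d : ℕ, ∀ (M : X.Modules), M.IsQuasicoherent → ∀ p : ℕ, d ≤ p → ∀ h : Γ(X, U₀),
      Subsingleton (CohTop.HU (X := X.toTopCat) ((SheafOfModules.toSheaf.{u} X.ringCatSheaf).obj M) p
        (W ⊓ X.basicOpen h)) := by
  classical
  obtain ⟨s, rfl⟩ := exists_finset_basicOpen_eq hU₀ W hW hc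
  refine ⟨s.card + 1, fun M hM p hp h => ?_⟩
  have e : (⨆ g ∈ s, X.basicOpen g) ⊓ X.basicOpen h =
      ⨆ g ∈ s.image (fun g => g * h), X.basicOpen g := by
    rw [Finset.iSup_finset_image, iSup₂_inf_eq]
    refine iSup_congr fun g => iSup_congr fun _ => ?_
    exact (X.basicOpen_mul g h).symm
  rw [e]
  exact subsingleton_HU_biSup_basicOpen hU₀ M s.card _ Finset.card_image_le p hp

/-- a finite union of affine opens with pairwise quasi-compact intersections, intersected with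
basic opens: uniformly bounded quasi-coherent cohomological dimension. -/
theorem exists_vanishing_biSup_affineOpens_inf (s : Finset X.affineOpens)
    (hqs : ∀ a ∈ s, ∀ i ∈ s, IsCompact (((a : X.Opens) ⊓ (i : X.Opens) : X.Opens) : Set X)) :
    ∃ d : ℕ, ∀ (M : X.Modules), M.IsQuasicoherent → ∀ p : ℕ, d ≤ p →
      ∀ (T : X.Opens) (_ : ⨆ i ∈ s, (i : X.Opens) ≤ T) (h : Γ(X, T)),
      Subsingleton (CohTop.HU (X := X.toTopCat) ((SheafOfModules.toSheaf.{u} X.ringCatSheaf).obj M) p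
        ((⨆ i ∈ s, (i : X.Opens)) ⊓ X.basicOpen h)) := by
  classical
  induction s using Finset.induction_on with
  | empty =>
    refine ⟨1, fun M hM p hp T hT h => ?_⟩
    obtain ⟨p, rfl⟩ : ∃ q, p = q + 1 := ⟨p - 1, by omega⟩
    simp only [Finset.notMem_empty, iSup_false, iSup_bot, bot_inf_eq]
    exact subsingleton_HU_of_isAffineOpen M (isAffineOpen_bot X) p
  | insert a s has ih =>
    obtain ⟨d₂, h₂⟩ := ih (fun a' ha' i hi => hqs a' (Finset.mem_insert_of_mem ha') i
      (Finset.mem_insert_of_mem hi))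
    have hc : IsCompact (((a : X.Opens) ⊓ ⨆ i ∈ s, (i : X.Opens) : X.Opens) : Set X) := by
      rw [inf_iSup₂_eq]
      have : (((⨆ i ∈ s, (a : X.Opens) ⊓ (i : X.Opens)) : X.Opens) : Set X) =
          ⋃ i ∈ s, (((a : X.Opens) ⊓ (i : X.Opens) : X.Opens) : Set X) := by
        ext x
        simp
      rw [this]
      exact s.finite_toSet.isCompact_biUnion fun i hi =>
        hqs a (Finset.mem_insert_self a s) i (Finset.mem_insert_of_mem hi)
    obtain ⟨d₁, h₁⟩ := exists_vanishing_of_isCompact_le_affine_inf a.2 _ inf_le_left hc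
    refine ⟨max (d₁ + 1) (max d₂ 1), fun M hM p hp T hT h => ?_⟩
    obtain ⟨p, rfl⟩ : ∃ q, p = q + 1 := ⟨p - 1, by omega⟩
    rw [Finset.iSup_insert] at hT ⊢
    have haT : (a : X.Opens) ≤ T := le_sup_left.trans hT
    have hBT : ⨆ i ∈ s, (i : X.Opens) ≤ T := le_sup_right.trans hT
    have ea : (a : X.Opens) ⊓ X.basicOpen h = X.basicOpen (X.presheaf.map (homOfLE haT).op h) := by
      rw [Scheme.basicOpen_res]
    rw [inf_sup_right]
    apply subsingleton_HU_sup
    · have e : ((a : X.Opens) ⊓ X.basicOpen h) ⊓ ((⨆ i ∈ s, (i : X.Opens)) ⊓ X.basicOpen h) =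
          ((a : X.Opens) ⊓ ⨆ i ∈ s, (i : X.Opens)) ⊓ X.basicOpen (X.presheaf.map (homOfLE haT).op h) := by
        rw [← ea]
        ext x
        simp only [Opens.coe_inf, Set.mem_inter_iff]
        tauto
      rw [e]
      exact h₁ M hM p (by omega) _
    · rw [ea]
      exact subsingleton_HU_of_isAffineOpen M (a.2.basicOpen _) p
    · exact h₂ M hM (p + 1) (by omega) T hBT h

/-- preimages of basic opens of an affine open under a qcqs morphism have uniformly bounded
quasi-coherent cohomological dimension. -/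
theorem exists_vanishing_preimage_basicOpen {S : Scheme.{u}} (f : X ⟶ S) [QuasiCompact f] [QuasiSeparated f]
    (V : S.Opens) (hV : IsAffineOpen V) :
    ∃ d : ℕ, ∀ (M : X.Modules), M.IsQuasicoherent → ∀ p : ℕ, d ≤ p → ∀ g : Γ(S, V),
      Subsingleton (CohTop.HU (X := X.toTopCat) ((SheafOfModules.toSheaf.{u} X.ringCatSheaf).obj M) p
        (f ⁻¹ᵁ S.basicOpen g)) := by
  have hc : IsCompact ((f ⁻¹ᵁ V : X.Opens) : Set X) :=
    (quasiCompact_iff_forall_isAffineOpen (f := f)).1 inferInstance V hV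
  have hq : IsQuasiSeparated ((f ⁻¹ᵁ V : X.Opens) : Set X) :=
    Scheme.Hom.isQuasiSeparated_preimage f hV.isQuasiSeparated
  obtain ⟨s, hs, e⟩ := (isCompact_iff_finite_and_eq_biUnion_affineOpens (U := f ⁻¹ᵁ V)).1 hc
  have hle : ∀ a ∈ hs.toFinset, (a : X.Opens) ≤ f ⁻¹ᵁ V := by
    intro a ha
    rw [e]
    exact le_iSup₂ (f := fun (i : X.affineOpens) (_ : i ∈ s) => (i : X.Opens)) a (hs.mem_toFinset.1 ha)
  obtain ⟨d, hd⟩ := exists_vanishing_biSup_affineOpens_inf hs.toFinset (fun a ha i hi =>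
    hq _ _ (hle a ha) a.1.2 a.2.isCompact (hle i hi) i.1.2 i.2.isCompact)
  refine ⟨d, fun M hM p hp g => ?_⟩
  have e' : ⨆ i ∈ hs.toFinset, (i : X.Opens) = f ⁻¹ᵁ V := by
    rw [e]
    simp only [Set.Finite.mem_toFinset]
  have := hd M hM p hp (f ⁻¹ᵁ V) e'.le (f.app V g)
  rw [e', ← Scheme.preimage_basicOpen, inf_eq_right.2] at this
  · exact this
  · exact (Opens.map f.base).monotone (S.basicOpen_le g)

/-- **uniform vanishing of higher direct images** along a qcqs morphism to a quasi-compact base. -/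
theorem exists_isZero_Rpush {S : Scheme.{u}} (f : X ⟶ S) [QuasiCompact f] [QuasiSeparated f] [CompactSpace S] :
    ∃ n : ℕ, ∀ (M : X.Modules), M.IsQuasicoherent → ∀ p : ℕ, n ≤ p →
      IsZero ((CohTop.Rpush f.base p).obj ((SheafOfModules.toSheaf.{u} X.ringCatSheaf).obj M)) := by
  obtain ⟨s, hs, e⟩ := (isCompact_iff_finite_and_eq_biUnion_affineOpens (U := (⊤ : S.Opens))).1
    isCompact_univ
  have h1 : ∀ V : S.affineOpens, ∃ d : ℕ, ∀ (M : X.Modules), M.IsQuasicoherent → ∀ p : ℕ, d ≤ p →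
      ∀ g : Γ(S, V.1), Subsingleton (CohTop.HU (X := X.toTopCat)
        ((SheafOfModules.toSheaf.{u} X.ringCatSheaf).obj M) p (f ⁻¹ᵁ S.basicOpen g)) := fun V =>
    exists_vanishing_preimage_basicOpen f V.1 V.2
  choose d hd using h1
  refine ⟨hs.toFinset.sup d, fun M hM p hp => ?_⟩
  obtain ⟨e1⟩ := Groth.Agent.Lib.Helper6.CohTopSheafify.nonempty_Rpush_iso_sheafify f.base
    ((SheafOfModules.toSheaf.{u} X.ringCatSheaf).obj M) p
  refine IsZero.of_iso ?_ e1
  refine Groth.Agent.Lib.Helper17.RelAffine.isZero_sheafify_of_basis _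
    {V' : S.Opens | ∃ V ∈ s, ∃ g : Γ(S, V.1), V' = S.basicOpen g} ?_ ?_
  · intro V' y hy
    have hy' : y ∈ (⊤ : S.Opens) := trivial
    rw [e] at hy'
    obtain ⟨V, hyV⟩ := Opens.mem_iSup.1 hy'
    obtain ⟨hVs, hyV⟩ := Opens.mem_iSup.1 hyV
    obtain ⟨g, hg, hyg⟩ := V.2.exists_basicOpen_le (V := V') ⟨y, hy⟩ hyV
    exact ⟨S.basicOpen g, ⟨V, hVs, g, rfl⟩, hyg, hg⟩
  · rintro V' ⟨V, hVs, g, rfl⟩
    exact hd V M hM p ((Finset.le_sup (f := d) (hs.mem_toFinset.2 hVs)).trans hp) g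

end Groth.Agent.Lib.Helper17.MV
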