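import Mathlib

/-!
# Finiteness over a Milnor (pinching) square of rings
-/

set_option autoImplicit false
universe u
open TensorProduct

namespace Groth.Agent.Lib.Helper17.MilnorFin

variable {A B A' : Type u} [CommRing A] [CommRing B] [CommRing A'] (φ : A →+* B) (ψ : A →+* A')
  (M : Type u) [AddCommGroup M] [Module A M]

/-- finitely many elements of `M` whose images generate `S ⊗ M` -/
theorem exists_family (S : Type u) [CommRing S] [Algebra A S] [Module.Finite S (S ⊗[A] M)] :
    ∃ (ι : Type) (_ : Fintype ι) (F : (ι → A) →ₗ[A] M), Function.Surjective (F.lTensor S) := by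
  obtain ⟨n, s, hs⟩ := Module.Finite.exists_fin (R := S) (M := S ⊗[A] M)
  choose k t m h using fun i : Fin n ↦ TensorProduct.exists_sum_tmul_eq (s i)
  let f₀ : ((Σ i, Fin (k i)) → A) →ₗ[A] M := (Pi.basisFun A _).constr A fun ⟨i, j⟩ ↦ m i j
  refine ⟨Σ i, Fin (k i), inferInstance, f₀, ?_⟩
  have : Function.Surjective (AlgebraTensorModule.lTensor S S f₀) := by
    rw [← LinearMap.range_eq_top, eq_top_iff, ← hs, Submodule.span_le, Set.range_subset_iff]
    intro i
    use ∑ (j : Fin (k i)), t i j ⊗ₜ Pi.basisFun A _ ⟨i, j⟩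
    simp [f₀, -Pi.basisFun_equivFun, -Pi.basisFun_apply, h i]
  exact this

/-- **finiteness over a pinching square**: `A ⟶ A'` surjective with kernel `I`, `A ⟶ B` injective on `I` with
`I B = I`; a module is finite as soon as its base changes to `A'` and `B` are -/
theorem finite_of_finite_tensor [Algebra A B] [Algebra A A']
    (hsurj : Function.Surjective (algebraMap A A'))
    (hinj : RingHom.ker (algebraMap A B) ⊓ RingHom.ker (algebraMap A A') = ⊥)
    (hI : ∀ a ∈ Ideal.map (algebraMap A B) (RingHom.ker (algebraMap A A')),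
        ∃ i ∈ RingHom.ker (algebraMap A A'), algebraMap A B i = a)
    [Module.Finite A' (A' ⊗[A] M)] [Module.Finite B (B ⊗[A] M)] : Module.Finite A M := by
  obtain ⟨ι₁, _, F₁, hF₁⟩ := exists_family (A := A) M A'
  obtain ⟨ι₂, _, F₂, hF₂⟩ := exists_family (A := A) M B
  set I : Ideal A := RingHom.ker (algebraMap A A') with hIdef
  let F : ((ι₁ → A) × (ι₂ → A)) →ₗ[A] M := F₁.coprod F₂
  have hFA' : Function.Surjective (F.lTensor A') := by
    have h1 : F.lTensor A' ∘ₗ (LinearMap.inl A (ι₁ → A) (ι₂ → A)).lTensor A' = F₁.lTensor A' := by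
      rw [← LinearMap.lTensor_comp, LinearMap.coprod_inl]
    intro z
    obtain ⟨x, hx⟩ := hF₁ z
    exact ⟨(LinearMap.inl A (ι₁ → A) (ι₂ → A)).lTensor A' x, by rw [← hx, ← h1]; rfl⟩
  have hFB : Function.Surjective (F.lTensor B) := by
    have h1 : F.lTensor B ∘ₗ (LinearMap.inr A (ι₁ → A) (ι₂ → A)).lTensor B = F₂.lTensor B := by
      rw [← LinearMap.lTensor_comp, LinearMap.coprod_inr]
    intro z
    obtain ⟨x, hx⟩ := hF₂ z
    exact ⟨(LinearMap.inr A (ι₁ → A) (ι₂ → A)).lTensor B x, by rw [← hx, ← h1]; rfl⟩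
  let N : Submodule A M := LinearMap.range F
  have hπF : N.mkQ ∘ₗ F = 0 := by
    apply LinearMap.ext
    intro x
    rw [LinearMap.comp_apply, LinearMap.zero_apply, Submodule.mkQ_apply,
      Submodule.Quotient.mk_eq_zero]
    exact LinearMap.mem_range_self F _
  have hsub : ∀ (S : Type u) [CommRing S] [Algebra A S], Function.Surjective (F.lTensor S) →
      Subsingleton (S ⊗[A] (M ⧸ N)) := by
    intro S _ _ hFS
    refine ⟨fun z w => ?_⟩
    have key : ∀ z : S ⊗[A] (M ⧸ N), z = 0 := by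
      intro z
      obtain ⟨y, rfl⟩ := LinearMap.lTensor_surjective S (Submodule.mkQ_surjective N) z
      obtain ⟨x, rfl⟩ := hFS y
      rw [← LinearMap.comp_apply, ← LinearMap.lTensor_comp, hπF, LinearMap.lTensor_zero,
        LinearMap.zero_apply]
    rw [key z, key w]
  haveI hQA' := hsub A' hFA'
  haveI hQB := hsub B hFB
  -- `Q = I Q`
  have h1 : (I • ⊤ : Submodule A (M ⧸ N)) = ⊤ := by
    let e : (A ⧸ I) ≃ₐ[A] A' := Ideal.quotientKerAlgEquivOfSurjective (f := Algebra.ofId A A') hsurj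
    have e2 : ((A ⧸ I) ⊗[A] (M ⧸ N)) ≃ₗ[A] (A' ⊗[A] (M ⧸ N)) := LinearEquiv.rTensor (M ⧸ N) e.toLinearEquiv
    haveI : Subsingleton ((A ⧸ I) ⊗[A] (M ⧸ N)) := e2.toEquiv.subsingleton
    haveI : Subsingleton ((M ⧸ N) ⧸ (I • ⊤ : Submodule A (M ⧸ N))) :=
      (TensorProduct.quotTensorEquivQuotSMul (M ⧸ N) I).symm.toEquiv.subsingleton
    exact Submodule.Quotient.subsingleton_iff.mp inferInstance
  -- `I Q = 0`
  have h2 : (I • ⊤ : Submodule A (M ⧸ N)) = ⊥ := by
    rw [eq_bot_iff, Submodule.smul_le]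
    intro i hi q _
    rw [Submodule.mem_bot]
    have hex : ∀ b : B, ∃ i' ∈ I, algebraMap A B i' = b * algebraMap A B i := fun b =>
      hI _ (Ideal.mul_mem_left _ b (Ideal.mem_map_of_mem _ hi))
    choose β hβI hβ using hex
    have huniq : ∀ x y : A, x ∈ I → y ∈ I → algebraMap A B x = algebraMap A B y → x = y := by
      intro x y hx hy hxy
      have hmem : x - y ∈ RingHom.ker (algebraMap A B) ⊓ I :=
        ⟨show x - y ∈ RingHom.ker (algebraMap A B) by rw [RingHom.mem_ker, map_sub, hxy, sub_self],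
          I.sub_mem hx hy⟩
      rw [hinj] at hmem
      exact sub_eq_zero.mp hmem
    let βL : B →ₗ[A] A :=
      { toFun := β
        map_add' := fun b c => huniq _ _ (hβI _) (I.add_mem (hβI b) (hβI c))
          (by rw [hβ, map_add, hβ, hβ, add_mul])
        map_smul' := fun a b => huniq _ _ (hβI _) (I.mul_mem_left a (hβI b))
          (by rw [hβ, RingHom.id_apply, smul_eq_mul, map_mul, hβ, Algebra.smul_def, mul_assoc]) }
    have hβ1 : β 1 = i := huniq _ _ (hβI 1) hi (by rw [hβ, one_mul])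
    let g : B ⊗[A] (M ⧸ N) →ₗ[A] (M ⧸ N) := (TensorProduct.lid A (M ⧸ N)).toLinearMap ∘ₗ βL.rTensor (M ⧸ N)
    have hg : g ((1 : B) ⊗ₜ[A] q) = i • q := by
      show (TensorProduct.lid A (M ⧸ N)) (βL.rTensor (M ⧸ N) ((1 : B) ⊗ₜ[A] q)) = i • q
      rw [LinearMap.rTensor_tmul, TensorProduct.lid_tmul]
      show β 1 • q = i • q
      rw [hβ1]
    rw [← hg, Subsingleton.elim ((1 : B) ⊗ₜ[A] q) 0, map_zero]
  have hN : N = ⊤ := by
    rw [← Submodule.Quotient.subsingleton_iff]
    refine ⟨fun x y => ?_⟩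
    have hx : ∀ z : M ⧸ N, z = 0 := by
      intro z
      have : z ∈ (⊤ : Submodule A (M ⧸ N)) := trivial
      rw [← h1, h2] at this
      exact this
    rw [hx x, hx y]
  exact Module.Finite.of_surjective F (LinearMap.range_eq_top.mp hN)

end Groth.Agent.Lib.Helper17.MilnorFin
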