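import Mathlib

/-!
# Morita theory for `End_R(F)`, `F` a finitely generated projective faithfully flat module (helper17)

Given an algebra isomorphism `φ : End_R F ≃ End_R G`, the module
`L = {ℓ : F → G | ℓ ∘ f = φ f ∘ ℓ}` is invertible and evaluation `F ⊗ L → G` is an isomorphism
inducing `φ`.
-/

set_option autoImplicit false

namespace Groth.Agent.Lib.Helper17.MoritaEnd

open TensorProduct

universe u v w

section basic

variable {R : Type u} [CommRing R] {F : Type v} {G : Type w} [AddCommGroup F] [Module R F]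
  [AddCommGroup G] [Module R G]

/-- the module of `φ`-semilinear maps -/
def Lmod (φ : Module.End R F ≃ₐ[R] Module.End R G) : Submodule R (F →ₗ[R] G) where
  carrier := {ℓ | ∀ (f : Module.End R F) (x : F), ℓ (f x) = φ f (ℓ x)}
  add_mem' := by
    intro a b ha hb f x
    simp only [LinearMap.add_apply, ha f x, hb f x, map_add]
  zero_mem' := by
    intro f x
    simp
  smul_mem' := by
    intro c a ha f x
    simp only [LinearMap.smul_apply, ha f x, map_smul]

lemma mem_Lmod (φ : Module.End R F ≃ₐ[R] Module.End R G) (ℓ : F →ₗ[R] G) :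
    ℓ ∈ Lmod φ ↔ ∀ (f : Module.End R F) (x : F), ℓ (f x) = φ f (ℓ x) := Iff.rfl

/-- `g ↦ (y ↦ φ(θ_{y,lam}) g)` -/
noncomputable def ellHom (φ : Module.End R F ≃ₐ[R] Module.End R G) (lam : F →ₗ[R] R) :
    G →ₗ[R] (F →ₗ[R] G) :=
  (φ.toLinearMap ∘ₗ (LinearMap.smulRightₗ lam : F →ₗ[R] F →ₗ[R] F)).flip

lemma ellHom_apply (φ : Module.End R F ≃ₐ[R] Module.End R G) (lam : F →ₗ[R] R) (g : G) (y : F) :
    ellHom φ lam g y = φ (lam.smulRight y) g := rfl

lemma smulRight_comp (lam : F →ₗ[R] R) (f : Module.End R F) (y : F) :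
    lam.smulRight (f y) = f * lam.smulRight y := by
  ext z
  simp

lemma ellHom_mem (φ : Module.End R F ≃ₐ[R] Module.End R G) (lam : F →ₗ[R] R) (g : G) :
    ellHom φ lam g ∈ Lmod φ := by
  intro f x
  rw [ellHom_apply, ellHom_apply, smulRight_comp, map_mul]
  rfl

/-- `ellHom` corestricted to `Lmod φ` -/
noncomputable def ell (φ : Module.End R F ≃ₐ[R] Module.End R G) (lam : F →ₗ[R] R) :
    G →ₗ[R] Lmod φ :=
  LinearMap.codRestrict (Lmod φ) (ellHom φ lam) (ellHom_mem φ lam)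

lemma ell_apply (φ : Module.End R F ≃ₐ[R] Module.End R G) (lam : F →ₗ[R] R) (g : G) (y : F) :
    (ell φ lam g : F →ₗ[R] G) y = φ (lam.smulRight y) g := rfl

/-- evaluation `F ⊗ L → G` -/
noncomputable def xi₀ (φ : Module.End R F ≃ₐ[R] Module.End R G) : F ⊗[R] Lmod φ →ₗ[R] G :=
  TensorProduct.lift (LinearMap.mk₂ R (fun (x : F) (ℓ : Lmod φ) => (ℓ : F →ₗ[R] G) x)
    (by intros; simp) (by intros; simp) (by intros; simp) (by intros; simp))

@[simp] lemma xi₀_tmul (φ : Module.End R F ≃ₐ[R] Module.End R G) (x : F) (ℓ : Lmod φ) :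
    xi₀ φ (x ⊗ₜ ℓ) = (ℓ : F →ₗ[R] G) x := by
  simp [xi₀]

end basic

/-- dual basis data together with a "trace one" family -/
structure DB (R : Type u) [CommRing R] (F : Type v) [AddCommGroup F] [Module R F] where
  n : ℕ
  y : Fin n → F
  μ : Fin n → (F →ₗ[R] R)
  x : Fin n → F
  hy : ∀ z, ∑ j, μ j z • y j = z
  hx : ∑ i, μ i (x i) = 1

section db

variable (R : Type u) [CommRing R] (F : Type v) [AddCommGroup F] [Module R F]

theorem exists_DB [Module.Finite R F] [Module.Projective R F] [Module.FaithfullyFlat R F] :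
    Nonempty (DB R F) := by
  classical
  obtain ⟨n, f, g, hf, hginj, hfg⟩ := Module.Finite.exists_comp_eq_id_of_projective R F
  have hy : ∀ z, ∑ j, ((LinearMap.proj j).comp g) z • f (fun k => if j = k then 1 else 0) = z := by
    intro z
    have h := LinearMap.congr_fun hfg z
    simp only [LinearMap.comp_apply, LinearMap.id_apply] at h
    conv_rhs => rw [← h]
    rw [LinearMap.pi_apply_eq_sum_univ]
    rfl
  let Φ : (Fin n → F) →ₗ[R] R := ∑ j, ((LinearMap.proj j : (Fin n → R) →ₗ[R] R).comp g).comp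
    (LinearMap.proj j : (Fin n → F) →ₗ[R] F)
  have hΦ : ∀ x : Fin n → F, Φ x = ∑ j, g (x j) j := by
    intro x
    simp [Φ]
  have hsurj : LinearMap.range Φ = ⊤ := by
    by_contra hne
    obtain ⟨m, hm, hle⟩ := Ideal.exists_le_maximal (LinearMap.range Φ) hne
    apply Module.FaithfullyFlat.submodule_ne_top (R := R) (M := F) hm
    rw [eq_top_iff]
    intro z _
    rw [← hy z]
    refine Submodule.sum_mem _ fun j _ => ?_
    apply Submodule.smul_mem_smul _ Submodule.mem_top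
    apply hle
    refine ⟨Pi.single j z, ?_⟩
    rw [hΦ]
    rw [Finset.sum_eq_single j]
    · simp
    · intro b _ hb
      simp [hb]
    · intro h; exact absurd (Finset.mem_univ j) h
  obtain ⟨x, hx⟩ : (1 : R) ∈ LinearMap.range Φ := hsurj ▸ Submodule.mem_top
  exact ⟨⟨n, fun j => f (fun k => if j = k then 1 else 0), fun j => (LinearMap.proj j).comp g, x,
    hy, by rw [← hx, hΦ]; rfl⟩⟩

end db

section main

variable {R : Type u} [CommRing R] {F : Type v} {G : Type w} [AddCommGroup F] [Module R F]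
  [AddCommGroup G] [Module R G] (D : DB R F) (φ : Module.End R F ≃ₐ[R] Module.End R G)

lemma sum_smulRight_eq_one : ∑ j, (D.μ j).smulRight (D.y j) = (1 : Module.End R F) := by
  ext z
  simp [LinearMap.sum_apply, D.hy]

lemma smulRight_mul_smulRight (lam lam' : F →ₗ[R] R) (a b : F) :
    (lam.smulRight a : Module.End R F) * lam'.smulRight b = lam b • lam'.smulRight a := by
  ext z
  simp [smul_smul, mul_comm]

lemma double_sum_eq_one :
    ∑ i, ∑ j, ((D.μ i).smulRight (D.y j) : Module.End R F) * (D.μ j).smulRight (D.x i) = 1 := by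
  simp_rw [smulRight_mul_smulRight]
  rw [Finset.sum_comm]
  simp_rw [← Finset.sum_smul, D.hx, one_smul]
  exact sum_smulRight_eq_one D

/-- the inverse of evaluation -/
noncomputable def eta : G →ₗ[R] F ⊗[R] Lmod φ :=
  ∑ i, ∑ j, (TensorProduct.mk R F (Lmod φ) (D.y j)) ∘ₗ (ell φ (D.μ i)) ∘ₗ
    (φ ((D.μ j).smulRight (D.x i)) : G →ₗ[R] G)

lemma eta_apply (g : G) :
    eta D φ g = ∑ i, ∑ j, D.y j ⊗ₜ[R] ell φ (D.μ i) (φ ((D.μ j).smulRight (D.x i)) g) := by
  simp [eta, LinearMap.sum_apply]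

lemma xi₀_eta (g : G) : xi₀ φ (eta D φ g) = g := by
  rw [eta_apply]
  simp only [map_sum, xi₀_tmul, ell_apply]
  have h : ∀ i j, φ ((D.μ i).smulRight (D.y j)) (φ ((D.μ j).smulRight (D.x i)) g) =
      φ (((D.μ i).smulRight (D.y j) : Module.End R F) * (D.μ j).smulRight (D.x i)) g := by
    intro i j
    rw [map_mul]
    rfl
  simp_rw [h]
  have key : (φ (∑ i, ∑ j, ((D.μ i).smulRight (D.y j) : Module.End R F) *
      (D.μ j).smulRight (D.x i))) g = g := by
    rw [double_sum_eq_one, map_one]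
    rfl
  simp only [map_sum, LinearMap.sum_apply] at key
  exact key

lemma ell_apply_eval (i j : Fin D.n) (z : F) (ℓ : Lmod φ) :
    ell φ (D.μ i) (φ ((D.μ j).smulRight (D.x i)) ((ℓ : F →ₗ[R] G) z)) =
      (D.μ j z * D.μ i (D.x i)) • ℓ := by
  apply Subtype.ext
  ext y
  rw [ell_apply]
  have h1 := ℓ.2 ((D.μ j).smulRight (D.x i)) z
  rw [← h1]
  have h2 := ℓ.2 ((D.μ i).smulRight y) (((D.μ j).smulRight (D.x i)) z)
  rw [← h2]
  simp [smul_smul]

lemma eta_xi₀ (t : F ⊗[R] Lmod φ) : eta D φ (xi₀ φ t) = t := by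
  induction t using TensorProduct.induction_on with
  | zero => simp
  | add a b ha hb => simp only [map_add, ha, hb]
  | tmul z ℓ =>
    rw [xi₀_tmul, eta_apply]
    simp_rw [ell_apply_eval]
    have h1 : ∀ i j, D.y j ⊗ₜ[R] ((D.μ j z * D.μ i (D.x i)) • ℓ) =
        D.μ i (D.x i) • ((D.μ j z • D.y j) ⊗ₜ[R] ℓ) := by
      intro i j
      rw [TensorProduct.tmul_smul, mul_comm, mul_smul, TensorProduct.smul_tmul']
    simp_rw [h1, ← Finset.smul_sum, ← TensorProduct.sum_tmul, D.hy, ← Finset.sum_smul, D.hx,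
      one_smul]

/-- evaluation is an isomorphism `F ⊗ L ≃ G` -/
noncomputable def xiEquiv : F ⊗[R] Lmod φ ≃ₗ[R] G :=
  LinearEquiv.ofLinearMap (xi₀ φ) (eta D φ)
    (LinearMap.ext fun g => xi₀_eta D φ g) (LinearMap.ext fun t => eta_xi₀ D φ t)

@[simp] lemma xiEquiv_tmul (x : F) (ℓ : Lmod φ) : xiEquiv D φ (x ⊗ₜ ℓ) = (ℓ : F →ₗ[R] G) x :=
  xi₀_tmul φ x ℓ

lemma xiEquiv_conj (f : Module.End R F) :
    φ f = (xiEquiv D φ).conj (TensorProduct.map f LinearMap.id) := by
  have h : ∀ t : F ⊗[R] Lmod φ, φ f (xiEquiv D φ t) =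
      xiEquiv D φ (TensorProduct.map f LinearMap.id t) := by
    intro t
    induction t using TensorProduct.induction_on with
    | zero => simp
    | add a b ha hb => simp only [map_add, ha, hb]
    | tmul x ℓ =>
      rw [TensorProduct.map_tmul, xiEquiv_tmul, xiEquiv_tmul, LinearMap.id_apply]
      exact (ℓ.2 f x).symm
  ext g
  rw [LinearEquiv.conj_apply_apply, ← h, LinearEquiv.apply_symm_apply]

/-- elements of `End F` commuting with everything are scalars (explicitly) -/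
lemma eq_smul_of_commute (h : Module.End R F) (hc : ∀ f : Module.End R F, h * f = f * h) (z : F) :
    h z = (∑ i, D.μ i (h (D.x i))) • z := by
  have h1 : ∀ i, D.μ i (D.x i) • h z = D.μ i (h (D.x i)) • z := by
    intro i
    have := LinearMap.congr_fun (hc ((D.μ i).smulRight z)) (D.x i)
    simp only [Module.End.mul_apply, LinearMap.smulRight_apply, map_smul] at this
    exact this
  calc h z = (∑ i, D.μ i (D.x i)) • h z := by rw [D.hx, one_smul]
    _ = ∑ i, D.μ i (h (D.x i)) • z := by rw [Finset.sum_smul]; exact Finset.sum_congr rfl fun i _ => h1 i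
    _ = _ := by rw [Finset.sum_smul]

/-- the pairing `L ⊗ L' → R` -/
noncomputable def pairing : Lmod φ ⊗[R] Lmod φ.symm →ₗ[R] R :=
  TensorProduct.lift (LinearMap.mk₂ R
    (fun (ℓ : Lmod φ) (ℓ' : Lmod φ.symm) =>
      ∑ i, D.μ i ((ℓ' : G →ₗ[R] F) ((ℓ : F →ₗ[R] G) (D.x i))))
    (by intros; simp [Finset.sum_add_distrib])
    (by intros; simp [Finset.mul_sum])
    (by intros; simp [Finset.sum_add_distrib])
    (by intros; simp [Finset.mul_sum]))

lemma pairing_tmul (ℓ : Lmod φ) (ℓ' : Lmod φ.symm) :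
    pairing D φ (ℓ ⊗ₜ ℓ') = ∑ i, D.μ i ((ℓ' : G →ₗ[R] F) ((ℓ : F →ₗ[R] G) (D.x i))) := by
  simp [pairing]

lemma comp_eq_pairing_smul (ℓ : Lmod φ) (ℓ' : Lmod φ.symm) (z : F) :
    (ℓ' : G →ₗ[R] F) ((ℓ : F →ₗ[R] G) z) = pairing D φ (ℓ ⊗ₜ ℓ') • z := by
  rw [pairing_tmul]
  have := eq_smul_of_commute D ((ℓ' : G →ₗ[R] F) ∘ₗ (ℓ : F →ₗ[R] G)) (fun f => by
    ext y
    simp only [Module.End.mul_apply, LinearMap.comp_apply]
    rw [ℓ.2 f y, ℓ'.2 (φ f) _, AlgEquiv.symm_apply_apply]) z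
  simpa using this

end main

section invertible

variable {R : Type u} [CommRing R] {F : Type v} {G : Type w} [AddCommGroup F] [Module R F]
  [AddCommGroup G] [Module R G] (D : DB R F) (D' : DB R G)
  (φ : Module.End R F ≃ₐ[R] Module.End R G)

/-- `F ⊗ (L ⊗ L') ≃ F` -/
noncomputable def tripleEquiv : F ⊗[R] (Lmod φ ⊗[R] Lmod φ.symm) ≃ₗ[R] F :=
  (TensorProduct.assoc R F (Lmod φ) (Lmod φ.symm)).symm ≪≫ₗ
    (TensorProduct.congr (xiEquiv D φ) (LinearEquiv.refl R (Lmod φ.symm))) ≪≫ₗ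
    xiEquiv D' φ.symm

lemma tripleEquiv_eq :
    (tripleEquiv D D' φ : F ⊗[R] (Lmod φ ⊗[R] Lmod φ.symm) →ₗ[R] F) =
      (TensorProduct.rid R F : F ⊗[R] R →ₗ[R] F) ∘ₗ (pairing D φ).lTensor F := by
  apply TensorProduct.ext_threefold'
  intro z ℓ ℓ'
  simp only [tripleEquiv, LinearEquiv.coe_coe, LinearEquiv.trans_apply, LinearMap.comp_apply,
    LinearMap.lTensor_tmul, TensorProduct.rid_tmul]
  rw [TensorProduct.assoc_symm_tmul, TensorProduct.congr_tmul, xiEquiv_tmul,
    LinearEquiv.refl_apply, xiEquiv_tmul]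
  exact comp_eq_pairing_smul D φ ℓ ℓ' z

variable [Module.FaithfullyFlat R F]

include D' in
lemma pairing_bijective : Function.Bijective (pairing D φ) := by
  refine (Module.FaithfullyFlat.lTensor_bijective_iff_bijective R F
    (N := Lmod φ ⊗[R] Lmod φ.symm) (N' := R) (pairing D φ)).mp ?_
  have h : ((pairing D φ).lTensor F : F ⊗[R] (Lmod φ ⊗[R] Lmod φ.symm) →ₗ[R] F ⊗[R] R) =
      ((TensorProduct.rid R F).symm : F →ₗ[R] F ⊗[R] R) ∘ₗ
        (tripleEquiv D D' φ : F ⊗[R] (Lmod φ ⊗[R] Lmod φ.symm) →ₗ[R] F) := by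
    rw [tripleEquiv_eq, ← LinearMap.comp_assoc]
    simp
  rw [h]
  exact (TensorProduct.rid R F).symm.bijective.comp (tripleEquiv D D' φ).bijective

include D D' in
theorem invertible_Lmod : Module.Invertible R (Lmod φ) :=
  Module.Invertible.left (LinearEquiv.ofBijective (pairing D φ) (pairing_bijective D D' φ))

end invertible

end Groth.Agent.Lib.Helper17.MoritaEnd
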