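import Mathlib
set_option autoImplicit false

/-! # Helper17 — a common eigenvector of finitely many commuting endomorphisms over an algebraically closed field -/

namespace Groth.Agent.Lib.Helper17.MumA

universe v

theorem exists_common_eigenvector {K : Type*} [Field K] [IsAlgClosed K] :
    ∀ (r : ℕ) {W : Type v} [AddCommGroup W] [Module K W] [FiniteDimensional K W] [Nontrivial W]
      (T : Fin r → Module.End K W), (∀ i j, Commute (T i) (T j)) →
      ∃ w : W, w ≠ 0 ∧ ∀ i, ∃ c : K, T i w = c • w := by
  intro r
  induction r with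
  | zero =>
    intro W _ _ _ _ T _
    obtain ⟨w, hw⟩ := exists_ne (0 : W)
    exact ⟨w, hw, fun i => i.elim0⟩
  | succ r ih =>
    intro W _ _ _ _ T hT
    obtain ⟨μ, hμ⟩ := Module.End.exists_eigenvalue (T (Fin.last r))
    let W' : Submodule K W := Module.End.eigenspace (T (Fin.last r)) μ
    have hne : W' ≠ ⊥ := hμ
    haveI : Nontrivial W' := Submodule.nontrivial_iff_ne_bot.2 hne
    have hmaps : ∀ i : Fin r, ∀ w ∈ W', T i.castSucc w ∈ W' := by
      intro i w hw
      rw [Module.End.mem_eigenspace_iff] at hw ⊢
      have hc := (hT (Fin.last r) i.castSucc).eq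
      have h1 : T (Fin.last r) (T i.castSucc w) = T i.castSucc (T (Fin.last r) w) := by
        have := congrArg (fun φ : Module.End K W => φ w) hc
        exact this
      rw [h1, hw, map_smul]
    let T' : Fin r → Module.End K W' := fun i => (T i.castSucc).restrict (hmaps i)
    have hT' : ∀ i j, Commute (T' i) (T' j) := by
      intro i j
      apply LinearMap.ext
      intro w
      apply Subtype.ext
      have hc := (hT i.castSucc j.castSucc).eq
      exact congrArg (fun φ : Module.End K W => φ w.1) hc
    obtain ⟨w, hw, hwT⟩ := ih T' hT'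
    refine ⟨w.1, fun h => hw (Subtype.ext h), fun i => ?_⟩
    refine Fin.lastCases ?_ (fun j => ?_) i
    · exact ⟨μ, Module.End.mem_eigenspace_iff.1 w.2⟩
    · obtain ⟨c, hc⟩ := hwT j
      exact ⟨c, congrArg Subtype.val hc⟩

end Groth.Agent.Lib.Helper17.MumA
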