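import Groth.Agent.Lib.Helper17.H0NegB
import Groth.Agent.Lib.Helper17.MumA
import Groth.Agent.Lib.Helper23.Formal.FormalLimit
import Groth.Agent.Lib.lead.FormalA
import Groth.Agent.Lib.Helper8.GGCoh
import Mathlib
set_option backward.isDefEq.respectTransparency.types false
set_option autoImplicit false

/-!
# Mumford's lemma (generic form): a base point free linear system of forms of degree one on `M`
drops `h⁰(F ⊗ M^n)` strictly, for `F` coherent without closed associated points on a proper `k`-scheme,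
`k` algebraically closed.
-/

universe u
open CategoryTheory CategoryTheory.Limits AlgebraicGeometry Opposite TopologicalSpace
noncomputable section

namespace Groth.Agent.Lib.Helper17.Mum

open Groth.Agent.Lib.Helper28 Groth.Agent.Lib.Helper28.QCohLoc Groth.Agent.Lib.Helper28.TensorGen
  Groth.Agent.Lib.Helper28.GenLocus Groth.Agent.Lib.Helper17.TwHom Groth.Agent.Lib.Helper29.QCohStalk
  Groth.Agent.Lib.Helper17.H0Neg Groth.Agent.Lib.Helper23.FQuot

variable (k : Type u) [Field k] {X : Scheme.{u}} [X.Over (Spec (CommRingCat.of k))]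

/-- a linear system of forms of degree one on `M` parametrized by the `k`-vector space `V` -/
structure LinSys (M : X.Modules) (V : Type u) [AddCommGroup V] [Module k V] where
  f : V → ∀ W : X.Opens, Γ(M, W) → Γ(X, W)
  S : V → X.Opens
  form : ∀ v, IsForm M 1 (f v)
  add : ∀ (v v' : V) (W : X.Opens) (g : Γ(M, W)), f (v + v') W g = f v W g + f v' W g
  smul : ∀ (c : k) (v : V) (W : X.Opens) (g : Γ(M, W)), f (c • v) W g = toSec (A := k) W c * f v W g
  loc : ∀ (v : V) (W : X.Opens) (g : Γ(M, W)), IsGen M W g → ∀ y ∈ W, (y ∈ S v ↔ y ∈ X.basicOpen (f v W g))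

variable {k} {F M : X.Modules} {V : Type u} [AddCommGroup V] [Module k V]

/-- the local representative of a section of `F ⊗ M^n` on a chart -/
theorem exists_rep (n : ℕ) {W : X.Opens} {g : Γ(M, W)} (hg : IsGen M W g) (t : Γ(Pn F M n, W)) :
    ∃ x : Γ(F, W), Θn F M n W g x = t :=
  ((isTwist_Pn F M n).bij W g hg).2 t

theorem Θn_injective (n : ℕ) {W : X.Opens} {g : Γ(M, W)} (hg : IsGen M W g) :
    Function.Injective (Θn F M n W g) :=
  ((isTwist_Pn F M n).bij W g hg).1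

/-- the characterizing property of the multiplication map by a form of degree one -/
def IsMul (f : ∀ W : X.Opens, Γ(M, W) → Γ(X, W)) (n : ℕ) (μ : Pn F M (n + 1) ⟶ Pn F M n) : Prop :=
  ∀ (W : X.Opens) (g : Γ(M, W)), IsGen M W g → ∀ x : Γ(F, W),
    μ.app W (Θn F M (n + 1) W g x) = Θn F M n W g ((f W g • x : Γ(F, W)))

theorem exists_isMul (hM : PicF.IsInvertible M) {f : ∀ W : X.Opens, Γ(M, W) → Γ(X, W)} (hf : IsForm M 1 f)
    (n : ℕ) : ∃ μ : Pn F M (n + 1) ⟶ Pn F M n, IsMul f n μ := by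
  obtain ⟨μ, hμ⟩ := exists_mu (F := F) hM hf n 1
  refine ⟨μ, fun W g hg x => ?_⟩
  have := hμ W g hg x
  rw [pow_one] at this
  exact this


attribute [local instance] secModule

variable (k) in
/-- `H⁰` as global sections, linearly -/
def El (P : X.Modules) : Coh.HH X P 0 ≃ₗ[k] Γ(P, ⊤) :=
  { E P with
    map_smul' := fun c x => by
      have h := E_nat k (Formal.smulMod k P c) x
      exact h.symm }

variable (k) in
/-- the map on global sections, linearly -/
def appL {P Q : X.Modules} (φ : P ⟶ Q) : Γ(P, ⊤) →ₗ[k] Γ(Q, ⊤) where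
  toFun := φ.app ⊤
  map_add' := map_add _
  map_smul' := fun c m => app_smul φ ⊤ c m

theorem appL_apply {P Q : X.Modules} (φ : P ⟶ Q) (t : Γ(P, ⊤)) : appL k φ t = φ.app ⊤ t := rfl

/-- global sections agreeing on the charts agree -/
theorem eq_of_charts (hM : PicF.IsInvertible M) (Q : X.Modules) (s s' : Γ(Q, ⊤))
    (h : ∀ (W : X.Opens) (g : Γ(M, W)), IsAffineOpen W → IsGen M W g →
      res Q (le_top : W ≤ ⊤) s = res Q (le_top : W ≤ ⊤) s') : s = s' := by
  choose W g hzW hW hg using exists_chart hM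
  refine eq_of_locally_eq Q W ⊤ (fun _ => le_top) (fun z _ => Opens.mem_iSup.2 ⟨z, hzW z⟩) s s' ?_
  intro z
  exact h (W z) (g z) (hW z) (hg z)

/-- the multiplication map on a chart -/
theorem IsMul.res_app {f : ∀ W : X.Opens, Γ(M, W) → Γ(X, W)} {n : ℕ} {μ : Pn F M (n + 1) ⟶ Pn F M n}
    (hμ : IsMul f n μ) (t : Γ(Pn F M (n + 1), ⊤)) {W : X.Opens} {g : Γ(M, W)} (hg : IsGen M W g)
    (x : Γ(F, W)) (hx : Θn F M (n + 1) W g x = res (Pn F M (n + 1)) (le_top : W ≤ ⊤) t) :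
    res (Pn F M n) (le_top : W ≤ ⊤) (μ.app ⊤ t) = Θn F M n W g ((f W g • x : Γ(F, W))) := by
  rw [← app_res, ← hx, hμ W g hg x]


section lin

variable {f f' f'' : ∀ W : X.Opens, Γ(M, W) → Γ(X, W)} {n : ℕ} {μ μ' μ'' : Pn F M (n + 1) ⟶ Pn F M n}

theorem resO_toSec {W : X.Opens} (c : k) : resO (le_top : W ≤ ⊤) (toSec (A := k) (⊤ : X.Opens) c) = toSec (A := k) W c := by
  unfold toSec
  simp only [RingHom.comp_apply]
  have h := X.presheaf.map_comp (homOfLE (le_top : (⊤ : X.Opens) ≤ ⊤)).op (homOfLE (le_top : W ≤ ⊤)).op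
  exact (congrArg (fun φ => φ.hom (Coh.toGlobal (X ↘ Spec (CommRingCat.of k)) c)) h).symm

/-- additivity of the multiplication maps in the form -/
theorem IsMul.app_add (hM : PicF.IsInvertible M) (hμ : IsMul f n μ) (hμ' : IsMul f' n μ') (hμ'' : IsMul f'' n μ'')
    (hadd : ∀ (W : X.Opens) (g : Γ(M, W)), f'' W g = f W g + f' W g) (t : Γ(Pn F M (n + 1), ⊤)) :
    μ''.app ⊤ t = μ.app ⊤ t + μ'.app ⊤ t := by
  refine eq_of_charts hM _ _ _ (fun W g _ hg => ?_)
  obtain ⟨x, hx⟩ := exists_rep (F := F) (n + 1) hg (res (Pn F M (n + 1)) (le_top : W ≤ ⊤) t)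
  rw [res_add, hμ.res_app t hg x hx, hμ'.res_app t hg x hx, hμ''.res_app t hg x hx, hadd, add_smul]
  exact (isTwist_Pn F M n).add W g _ _

/-- homogeneity of the multiplication maps in the form -/
theorem IsMul.app_smul (hM : PicF.IsInvertible M) (hμ : IsMul f n μ) (hμ' : IsMul f' n μ') (c : k)
    (hsm : ∀ (W : X.Opens) (g : Γ(M, W)), f' W g = toSec (A := k) W c * f W g) (t : Γ(Pn F M (n + 1), ⊤)) :
    μ'.app ⊤ t = c • μ.app ⊤ t := by
  refine eq_of_charts hM _ _ _ (fun W g _ hg => ?_)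
  obtain ⟨x, hx⟩ := exists_rep (F := F) (n + 1) hg (res (Pn F M (n + 1)) (le_top : W ≤ ⊤) t)
  have h1 : res (Pn F M n) (le_top : W ≤ ⊤) (c • μ.app ⊤ t) =
      (toSec (A := k) W c • res (Pn F M n) (le_top : W ≤ ⊤) (μ.app ⊤ t) : Γ(Pn F M n, W)) := by
    show res (Pn F M n) (le_top : W ≤ ⊤) (toSec (A := k) (⊤ : X.Opens) c • μ.app ⊤ t : Γ(Pn F M n, ⊤)) = _
    rw [res_smul, resO_toSec]
  rw [h1, hμ.res_app t hg x hx, hμ'.res_app t hg x hx, hsm, mul_smul]
  exact (isTwist_Pn F M n).smul W g _ _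

/-- the key commutation relation -/
theorem IsMul.comm [F.IsQuasicoherent] (hM : PicF.IsInvertible M) {f₀ : ∀ W : X.Opens, Γ(M, W) → Γ(X, W)} {S₀ : X.Opens}
    (hG : Good F M 1 f₀ S₀) {μ₀ : Pn F M (n + 1) ⟶ Pn F M n} (hμ₀ : IsMul f₀ n μ₀)
    (hμ : IsMul f n μ) (hμ' : IsMul f' n μ') (ta tb tc : Γ(Pn F M (n + 1), ⊤))
    (hb : μ₀.app ⊤ tb = μ'.app ⊤ ta) (hc : μ₀.app ⊤ tc = μ.app ⊤ ta) :
    μ.app ⊤ tb = μ'.app ⊤ tc := by
  refine eq_of_charts hM _ _ _ (fun W g hW hg => ?_)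
  obtain ⟨xa, hxa⟩ := exists_rep (F := F) (n + 1) hg (res (Pn F M (n + 1)) (le_top : W ≤ ⊤) ta)
  obtain ⟨xb, hxb⟩ := exists_rep (F := F) (n + 1) hg (res (Pn F M (n + 1)) (le_top : W ≤ ⊤) tb)
  obtain ⟨xc, hxc⟩ := exists_rep (F := F) (n + 1) hg (res (Pn F M (n + 1)) (le_top : W ≤ ⊤) tc)
  have hb' : (f₀ W g • xb : Γ(F, W)) = (f' W g • xa : Γ(F, W)) := by
    apply Θn_injective (F := F) n hg
    rw [← hμ₀.res_app tb hg xb hxb, ← hμ'.res_app ta hg xa hxa, hb]
  have hc' : (f₀ W g • xc : Γ(F, W)) = (f W g • xa : Γ(F, W)) := by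
    apply Θn_injective (F := F) n hg
    rw [← hμ₀.res_app tc hg xc hxc, ← hμ.res_app ta hg xa hxa, hc]
  rw [hμ.res_app tb hg xb hxb, hμ'.res_app tc hg xc hxc]
  congr 1
  have hz : (f₀ W g ^ 1 • ((f W g • xb : Γ(F, W)) - (f' W g • xc : Γ(F, W))) : Γ(F, W)) = 0 := by
    rw [pow_one, smul_sub, smul_comm (f₀ W g) (f W g) xb, smul_comm (f₀ W g) (f' W g) xc, hb', hc',
      smul_comm (f W g) (f' W g) xa, sub_self]
  exact sub_eq_zero.1 (hG.nzd hW hg 1 _ hz)

end lin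


namespace LinSys

variable (Λ : LinSys k M V)

theorem mem_S_of_add (hM : PicF.IsInvertible M) (a b : V) (z : X) (hz : z ∈ Λ.S (a + b)) :
    z ∈ Λ.S a ∨ z ∈ Λ.S b := by
  obtain ⟨W, g, hzW, -, hg⟩ := exists_chart hM z
  have h1 := (Λ.loc (a + b) W g hg z hzW).1 hz
  rw [Λ.add, Scheme.mem_basicOpen _ _ _ hzW, map_add] at h1
  rcases IsLocalRing.isUnit_or_isUnit_of_isUnit_add h1 with h | h
  · exact Or.inl ((Λ.loc a W g hg z hzW).2 ((Scheme.mem_basicOpen _ _ _ hzW).2 h))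
  · exact Or.inr ((Λ.loc b W g hg z hzW).2 ((Scheme.mem_basicOpen _ _ _ hzW).2 h))

theorem mem_S_of_smul (hM : PicF.IsInvertible M) (c : k) (a : V) (z : X) (hz : z ∈ Λ.S (c • a)) :
    z ∈ Λ.S a := by
  obtain ⟨W, g, hzW, -, hg⟩ := exists_chart hM z
  have h1 := (Λ.loc (c • a) W g hg z hzW).1 hz
  rw [Λ.smul, Scheme.basicOpen_mul] at h1
  exact (Λ.loc a W g hg z hzW).2 h1.2

end LinSys

variable (k) in
/-- **Mumford's lemma, generic form.** -/
theorem mumford_step [IsAlgClosed k] [IsProper (X ↘ Spec (CommRingCat.of k))]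
    (hM : PicF.IsInvertible M) (hF : Coh.IsCoh F)
    (hass : ∀ x : X, Curv2.IsAssPoint F x → ¬ IsClosed ({x} : Set X))
    (Λ : LinSys k M V) {r : ℕ} (v : Fin r → V) (hbpf : ∀ x : X, ∃ i, x ∈ Λ.S (v i))
    (v₀ : V) (hv₀ : ∀ y : X, Curv2.IsAssPoint F y → y ∈ Λ.S v₀) (haff : IsAffineOpen (Λ.S v₀))
    (n : ℕ) (h1 : 1 ≤ Module.finrank k (Coh.HH X (Pn F M n) 0)) :
    Module.finrank k (Coh.HH X (Pn F M (n + 1)) 0) + 1 ≤ Module.finrank k (Coh.HH X (Pn F M n) 0) := by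
  haveI : F.IsQuasicoherent := hF.1
  haveI : SheafOfModules.IsFiniteType.{u} (R := X.ringCatSheaf) F := hF.2
  have hG : Good F M 1 (Λ.f v₀) (Λ.S v₀) :=
    ⟨Λ.form v₀, Λ.loc v₀, fun y hy => hv₀ y ((isAssPoint_iff_isWeakAssPoint F y).2 hy)⟩
  choose μ hμ using fun v : V => exists_isMul (F := F) hM (Λ.form v) n
  have hcoh : ∀ n, Coh.IsCoh (Pn F M n) := fun n =>
    ⟨(isTwist_Pn F M n).isQuasicoherent hM, (isTwist_Pn F M n).isFiniteType hM⟩
  haveI hfin : ∀ n, Module.Finite k (Coh.HH X (Pn F M n) 0) := fun n =>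
    Groth.Agent.Lib.Helper4.ProperFinal.finite_HH k X _ (hcoh n) 0
  haveI hfinA : Module.Finite k Γ(Pn F M (n + 1), ⊤) := Module.Finite.equiv (El k (Pn F M (n + 1)))
  haveI hfinB : Module.Finite k Γ(Pn F M n, ⊤) := Module.Finite.equiv (El k (Pn F M n))
  rw [(El k (Pn F M (n + 1))).finrank_eq, (El k (Pn F M n)).finrank_eq] at *
  let m : V → (Γ(Pn F M (n + 1), ⊤) →ₗ[k] Γ(Pn F M n, ⊤)) := fun v => appL k (μ v)
  have hm_add : ∀ a b : V, m (a + b) = m a + m b := fun a b =>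
    LinearMap.ext fun t => IsMul.app_add hM (hμ a) (hμ b) (hμ (a + b)) (Λ.add a b) t
  have hm_smul : ∀ (c : k) (a : V), m (c • a) = c • m a := fun c a =>
    LinearMap.ext fun t => IsMul.app_smul hM (hμ a) (hμ (c • a)) c (Λ.smul c a) t
  have hinj : Function.Injective (m v₀) := by
    rw [injective_iff_map_eq_zero]
    intro t ht
    refine eq_zero_of_mu_app_eq_zero hM hG n 1 (μ v₀) (fun W g hg x => ?_) t ht
    rw [pow_one]
    exact hμ v₀ W g hg x
  by_contra hcon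
  have hle : Module.finrank k Γ(Pn F M (n + 1), ⊤) ≤ Module.finrank k Γ(Pn F M n, ⊤) :=
    LinearMap.finrank_le_finrank_of_injective hinj
  have heq : Module.finrank k Γ(Pn F M (n + 1), ⊤) = Module.finrank k Γ(Pn F M n, ⊤) := by omega
  have hsurj : Function.Surjective (m v₀) :=
    (LinearMap.injective_iff_surjective_of_finrank_eq_finrank heq).1 hinj
  let e₀ : Γ(Pn F M (n + 1), ⊤) ≃ₗ[k] Γ(Pn F M n, ⊤) := LinearEquiv.ofBijective (m v₀) ⟨hinj, hsurj⟩
  have he₀ : ∀ b, (μ v₀).app ⊤ (e₀.symm b) = b := fun b => e₀.apply_symm_apply b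
  let T : V → Module.End k Γ(Pn F M (n + 1), ⊤) := fun a => e₀.symm.toLinearMap ∘ₗ m a
  have hT : ∀ a b : V, Commute (T a) (T b) := by
    intro a b
    apply LinearMap.ext
    intro t
    show e₀.symm (m a (e₀.symm (m b t))) = e₀.symm (m b (e₀.symm (m a t)))
    congr 1
    exact IsMul.comm hM hG (hμ v₀) (hμ a) (hμ b) t _ _ (he₀ _) (he₀ _)
  haveI : Nontrivial Γ(Pn F M (n + 1), ⊤) := Module.nontrivial_of_finrank_pos (R := k) (by omega)
  obtain ⟨w, hw, hwT⟩ := Groth.Agent.Lib.Helper17.MumA.exists_common_eigenvector r (fun i => T (v i))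
    (fun i j => hT _ _)
  choose c hc using hwT
  have hkill : ∀ i, (μ (v i - c i • v₀)).app ⊤ w = 0 := by
    intro i
    have h2 : m (v i) w = c i • m v₀ w := by
      have h3 := congrArg e₀ (hc i)
      rw [map_smul] at h3
      exact (e₀.apply_symm_apply (m (v i) w)).symm.trans h3
    have h4 := hm_add (v i - c i • v₀) (c i • v₀)
    rw [sub_add_cancel, hm_smul] at h4
    have h5 := congrArg (fun φ => φ w) h4
    simp only [LinearMap.add_apply, LinearMap.smul_apply] at h5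
    rw [h2] at h5
    have h6 : m (v i - c i • v₀) w = 0 := by
      have := add_eq_right.1 h5.symm
      exact this
    exact h6
  obtain ⟨W, g, hW, hg, hne⟩ : ∃ (W : X.Opens) (g : Γ(M, W)), IsAffineOpen W ∧ IsGen M W g ∧
      res (Pn F M (n + 1)) (le_top : W ≤ ⊤) w ≠ 0 := by
    by_contra hcon'
    push_neg at hcon'
    exact hw (eq_of_charts hM _ w 0 (fun W g hW hg => by rw [hcon' W g hW hg, res_zero]))
  obtain ⟨x, hx⟩ := exists_rep (F := F) (n + 1) hg (res (Pn F M (n + 1)) (le_top : W ≤ ⊤) w)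
  have hx0 : x ≠ 0 := by
    rintro rfl
    exact hne (by rw [← hx, Θn_zero])
  obtain ⟨y, hyW, hyw, hgerm⟩ := exists_isWeakAssPoint_of_ne_zero hW (isLocOn_of_isQuasicoherent F hW) x hx0
  have hfx : ∀ i, (Λ.f (v i - c i • v₀) W g • x : Γ(F, W)) = 0 := by
    intro i
    apply Θn_injective (F := F) n hg
    rw [← (hμ _).res_app w hg x hx, hkill i, res_zero, Θn_zero]
  have hyS : ∀ i, y ∉ Λ.S (v i - c i • v₀) := by
    intro i hyi
    have hyB := (Λ.loc _ W g hg y hyW).1 hyi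
    have hu : IsUnit (X.presheaf.germ W y hyW (Λ.f (v i - c i • v₀) W g)) :=
      (Scheme.mem_basicOpen _ _ _ hyW).1 hyB
    apply hgerm
    have h1 := congrArg (gm F W y hyW) (hfx i)
    rw [gm_smul, gm_zero] at h1
    exact eq_zero_of_isUnit_smul hu h1
  have hcl : closure ({y} : Set X) ⊆ Λ.S v₀ := by
    intro z hz
    by_contra hzS
    obtain ⟨i, hi⟩ := hbpf z
    have hzu : z ∉ Λ.S (v i - c i • v₀) := by
      have hcl' : IsClosed (((Λ.S (v i - c i • v₀) : X.Opens) : Set X)ᶜ) :=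
        (Λ.S (v i - c i • v₀)).isOpen.isClosed_compl
      exact closure_minimal (Set.singleton_subset_iff.2 (hyS i)) hcl' hz
    have hi' : z ∈ Λ.S ((v i - c i • v₀) + c i • v₀) := by rw [sub_add_cancel]; exact hi
    rcases Λ.mem_S_of_add hM _ _ z hi' with h | h
    · exact hzu h
    · exact hzS (Λ.mem_S_of_smul hM _ _ z h)
  have hyc := Groth.Agent.Lib.Helper17.ClosedPt.isClosed_singleton_of_closure_subset_affine
    (X ↘ Spec (CommRingCat.of k)) haff y hcl
  exact hass y ((isAssPoint_iff_isWeakAssPoint F y).2 hyw) hyc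

end Groth.Agent.Lib.Helper17.Mum
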