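import Groth.Agent.Lib.Helper17.MumB
import Groth.Agent.Lib.Helper28.SecAdd
import Groth.Agent.Lib.Helper28.VeryAmpleSec
import Mathlib
set_option backward.isDefEq.respectTransparency.types false
set_option autoImplicit false

/-!
# Mumford's lemma (generic form), continued: choice of a good form; linearity of `sform`
-/

universe u
open CategoryTheory CategoryTheory.Limits AlgebraicGeometry Opposite TopologicalSpace
noncomputable section

namespace Groth.Agent.Lib.Helper17.Mum

open Groth.Agent.Lib.Helper28 Groth.Agent.Lib.Helper28.QCohLoc Groth.Agent.Lib.Helper28.TensorGen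
  Groth.Agent.Lib.Helper28.GenLocus Groth.Agent.Lib.Helper17.TwHom Groth.Agent.Lib.Helper29.QCohStalk
  Groth.Agent.Lib.Helper17.H0Neg Groth.Agent.Lib.Helper23.FQuot

variable {k : Type u} [Field k] {X : Scheme.{u}} [X.Over (Spec (CommRingCat.of k))]
variable {F M : X.Modules} {V : Type u} [AddCommGroup V] [Module k V]

namespace LinSys

variable (Λ : LinSys k M V)

theorem f_zero (W : X.Opens) (g : Γ(M, W)) : Λ.f 0 W g = 0 := by
  have h := Λ.add 0 0 W g
  rw [add_zero] at h
  exact left_eq_add.1 h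

theorem notMem_S_zero (hM : PicF.IsInvertible M) (z : X) : z ∉ Λ.S 0 := by
  intro hz
  obtain ⟨W, g, hzW, -, hg⟩ := exists_chart hM z
  have h1 := (Λ.loc 0 W g hg z hzW).1 hz
  rw [Λ.f_zero, Scheme.basicOpen_zero] at h1
  exact h1

/-- the forms not generating at `y` -/
def bad (hM : PicF.IsInvertible M) (y : X) : Submodule k V where
  carrier := {v | y ∉ Λ.S v}
  add_mem' := fun {a b} ha hb h => (Λ.mem_S_of_add hM a b y h).elim ha hb
  zero_mem' := Λ.notMem_S_zero hM y
  smul_mem' := fun c a ha h => ha (Λ.mem_S_of_smul hM c a y h)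

theorem exists_good [Infinite k] (hM : PicF.IsInvertible M) (Z : Set X) (hZ : Z.Finite)
    (hbpf : ∀ y ∈ Z, ∃ v, y ∈ Λ.S v) : ∃ v₀ : V, ∀ y ∈ Z, y ∈ Λ.S v₀ := by
  haveI : Finite Z := hZ.to_subtype
  obtain ⟨v₀, hv₀⟩ := Submodule.exists_forall_notMem_of_forall_ne_top (fun y : Z => Λ.bad hM y.1)
    (fun y h => by
      obtain ⟨v, hv⟩ := hbpf y.1 y.2
      have : v ∈ Λ.bad hM y.1 := by rw [h]; trivial
      exact this hv)
  refine ⟨v₀, fun y hy => ?_⟩
  by_contra h
  exact hv₀ ⟨y, hy⟩ h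

end LinSys

variable (k) in
/-- **Mumford's lemma, generic form**, with the good form chosen. -/
theorem mumford [IsAlgClosed k] [IsProper (X ↘ Spec (CommRingCat.of k))]
    (hM : PicF.IsInvertible M) (hF : Coh.IsCoh F)
    (hass : ∀ x : X, Curv2.IsAssPoint F x → ¬ IsClosed ({x} : Set X))
    (Λ : LinSys k M V) {r : ℕ} (v : Fin r → V) (hbpf : ∀ x : X, ∃ i, x ∈ Λ.S (v i))
    (haff : ∀ v₀ : V, IsAffineOpen (Λ.S v₀))
    (n : ℕ) (h1 : 1 ≤ Module.finrank k (Coh.HH X (Pn F M n) 0)) :
    Module.finrank k (Coh.HH X (Pn F M (n + 1)) 0) + 1 ≤ Module.finrank k (Coh.HH X (Pn F M n) 0) := by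
  haveI : CompactSpace X := by
    haveI : CompactSpace ↥(Spec (CommRingCat.of k)) := inferInstance
    exact QuasiCompact.compactSpace_of_compactSpace (X ↘ Spec (CommRingCat.of k))
  haveI : IsLocallyNoetherian X :=
    LocallyOfFiniteType.isLocallyNoetherian (X ↘ Spec (CommRingCat.of k))
  have hZfin : {x : X | Curv2.IsAssPoint F x}.Finite := by
    have h := Groth.Agent.S1576.result X F hF ⊤ isCompact_univ
    exact h.subset (fun x hx => ⟨trivial, hx⟩)
  obtain ⟨v₀, hv₀⟩ := Λ.exists_good hM _ hZfin (fun y _ => by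
    obtain ⟨i, hi⟩ := hbpf y
    exact ⟨v i, hi⟩)
  exact mumford_step k hM hF hass Λ v hbpf v₀ hv₀ (haff v₀) n h1

end Groth.Agent.Lib.Helper17.Mum

namespace Groth.Agent.Lib.Helper17.SForm

open Groth.Agent.Lib.Helper28 Groth.Agent.Lib.Helper28.QCohLoc Groth.Agent.Lib.Helper28.TensorGen
  Groth.Agent.Lib.Helper28.GenLocus Groth.Agent.Lib.Helper28.InvTensor Groth.Agent.Lib.Helper17.TwHom

variable {X : Scheme.{u}} {L M : X.Modules} (m : ℕ)
  (e : CohB1.tensorMod (CohB1.tensorPow L m) (CohB1.tensorPow M m) ≅ Coh.structureModule X)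

theorem sform_of_add {s s' s'' : Coh.structureModule X ⟶ CohB1.tensorPow L m}
    (h : secOf s'' = secOf s + secOf s') (W : X.Opens) (g : Γ(M, W)) :
    sform m e s'' W g = sform m e s W g + sform m e s' W g := by
  unfold sform
  rw [h, res_add, tmulSec_add_left]
  exact map_add (e.hom.app W).hom _ _

theorem sform_of_smul {s s' : Coh.structureModule X ⟶ CohB1.tensorPow L m} (r : Γ(X, ⊤))
    (h : secOf s' = (r • secOf s : Γ(CohB1.tensorPow L m, ⊤))) (W : X.Opens) (g : Γ(M, W)) :
    sform m e s' W g = resO (le_top : W ≤ ⊤) r * sform m e s W g := by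
  unfold sform
  rw [h, res_smul, tmulSec_smul_left]
  exact Scheme.Modules.Hom.app_smul e.hom _ _

end Groth.Agent.Lib.Helper17.SForm
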