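import Groth.Agent.Lib.Helper17.MumC
import Groth.Agent.Lib.Helper28.TwistAmple
import Groth.Agent.Lib.Helper28.TwistCov
import Groth.Agent.Lib.Helper28.TwistNegGen
import Groth.Agent.Lib.Helper28.ProjSpaceBasic
import Groth.Agent.Lib.Helper2.ProjCoh8
import Groth.Agent.Lib.Helper2.SerreFin2
import Groth.Agent.Lib.Helper2.Bridge5
import Mathlib
set_option backward.isDefEq.respectTransparency.types false
set_option autoImplicit false

/-!
# Mumford's lemma on projective space: the linear system of linear forms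
-/

universe u
open CategoryTheory CategoryTheory.Limits AlgebraicGeometry Opposite TopologicalSpace
noncomputable section

namespace Groth.Agent.Lib.Helper17.MumD

open Groth.Agent.Lib.Helper28 Groth.Agent.Lib.Helper28.QCohLoc Groth.Agent.Lib.Helper28.TensorGen
  Groth.Agent.Lib.Helper28.GenLocus Groth.Agent.Lib.Helper17.TwHom Groth.Agent.Lib.Helper29.QCohStalk
  Groth.Agent.Lib.Helper17.H0Neg Groth.Agent.Lib.Helper23.FQuot Groth.Agent.Lib.Helper17.Mum
  Groth.Agent.Lib.Helper2.ProjCoh3 Groth.Agent.Lib.Helper2.SerreFin2 Groth.Agent.Lib.Helper28.TwistGen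
  Groth.Agent.Lib.Helper28.TwistAmple

variable (N : ℕ) (k : Type u) [Field k]

/-- projective space -/
abbrev P : Scheme.{u} := CohB1.ProjSpace N k

/-- `O(1)` -/
abbrev L1 : (P N k).Modules := Twist.twist (gr N k) 1

/-- `O(-1)` -/
abbrev M1 : (P N k).Modules := Twist.twist (gr N k) (-1)

theorem hgen : (HomogeneousIdeal.irrelevant (gr N k)).toIdeal =
    Ideal.span ((gr N k 1 : Submodule k (PA N k)) : Set (PA N k)) :=
  GammaStar.hgen_of_span (vars_mem N k) (irrelevant_eq_span N k)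

theorem hL1 : PicF.IsInvertible (L1 N k) := TwistCov.isInvertible_twist (gr N k) (hcov N k) 1

theorem hM1 : PicF.IsInvertible (M1 N k) := TwistCov.isInvertible_twist (gr N k) (hcov N k) (-1)

/-- `O(1) ≅ O(1)^{⊗ 1}` -/
def ι1 : Twist.twist (gr N k) ((1 : ℕ) : ℤ) ≅ CohB1.tensorPow (L1 N k) 1 :=
  (TwistCov.nonempty_twist_iso_tensorPow (gr N k) (hcov N k) 1).some

/-- `O(1) ⊗ O(-1) ≅ O` -/
def ε1 : CohB1.tensorMod (L1 N k) (M1 N k) ≅ Coh.structureModule (P N k) :=
  (TwistCov.nonempty_tensor_iso (gr N k) (hcov N k) 1 (-1)).some ≪≫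
    eqToIso (by norm_num) ≪≫ (TwistCov.nonempty_twist_zero_iso (gr N k) (hcov N k)).some

/-- the pairing in the form used by `SForm` -/
def e1 : CohB1.tensorMod (CohB1.tensorPow (L1 N k) 1) (CohB1.tensorPow (M1 N k) 1) ≅
    Coh.structureModule (P N k) :=
  (exists_tensorPow_tensorMod_iso (hL1 N k) (hM1 N k) 1).choose.symm ≪≫
    AmpleIso.tensorPowIso (ε1 N k) 1 ≪≫ (AmpleUnit.nonempty_tensorPow_unit_iso (P N k) 1).some


variable {N k}

theorem gsec_add (a b : PA N k) (ha : a ∈ gr N k 1) (hb : b ∈ gr N k 1) :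
    gsec (gr N k) (a + b) (Submodule.add_mem _ ha hb) = gsec (gr N k) a ha + gsec (gr N k) b hb := by
  apply TwistQC.ext_val
  intro x
  show Localization.mk (a + b) 1 = Localization.mk a 1 + Localization.mk b 1
  rw [Localization.add_mk_self]

/-- the scalar `c`, as a function on an open of projective space -/
def cSec (W : (Proj (gr N k)).Opens) (c : k) : Γ(Proj (gr N k), W) := toSec (A := k) (X := P N k) W c

theorem gsec_smul (c : k) (a : PA N k) (ha : a ∈ gr N k 1) :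
    gsec (gr N k) (c • a) (Submodule.smul_mem _ c ha) =
      (cSec (N := N) ⊤ c • gsec (gr N k) a ha : Γ(Twist.twist (gr N k) ((1 : ℕ) : ℤ), ⊤)) := by
  apply TwistQC.ext_val
  intro x
  rw [TwistQC.val_smul]
  obtain ⟨f, hf, hxf⟩ := hcov N k x.1
  have h1 : cSec (N := N) ⊤ c =
      resO (le_top : (⊤ : (Proj (gr N k)).Opens) ≤ ⊤)
        (Groth.Agent.Lib.Helper2.ProjCoh8.rho (gr N k) (algebraMap k (gr N k 0) c)) := by
    unfold cSec toSec
    rw [RingHom.comp_apply]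
    exact congrArg _ (Groth.Agent.Lib.Helper2.ProjCoh8.toGlobal_eq N k c)
  rw [h1, Groth.Agent.Lib.Helper2.ProjCoh8.val_valO_rho (gr N k) hf one_pos _ ⊤ x hxf]
  show Localization.mk (c • a) 1 = Localization.mk ((algebraMap k (gr N k 0) c : gr N k 0) : PA N k) 1 * Localization.mk a 1
  rw [Localization.mk_mul, one_mul]
  congr 1
  rw [Algebra.smul_def]
  rfl


variable (N k) in
/-- the section of `O(1)^{⊗ 1}` attached to a linear form -/
def sℓ (ℓ : gr N k 1) : Coh.structureModule (P N k) ⟶ CohB1.tensorPow (L1 N k) 1 :=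
  secHom (gr N k) ℓ.2 ≫ (ι1 N k).hom

theorem secOf_sℓ (ℓ : gr N k 1) :
    secOf (sℓ N k ℓ) = (ι1 N k).hom.app ⊤ (gsec (gr N k) ℓ.1 ℓ.2) := by
  unfold sℓ
  rw [Groth.Agent.Lib.Helper28.VeryAmpleSec.secOf_comp]
  congr 1
  exact secOf_ofSection _

theorem genLocus_sℓ (ℓ : gr N k 1) :
    CohB1.genLocus (CohB1.tensorPow (L1 N k) 1) (sℓ N k ℓ) = Proj.basicOpen (gr N k) ℓ.1 := by
  apply le_antisymm
  · refine sSup_le ?_
    intro (U : (Proj (gr N k)).Opens) hU
    have hU' : IsIso ((Scheme.Modules.restrictFunctor U.ι).map (secHom (gr N k) ℓ.2 ≫ (ι1 N k).hom)) := hU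
    rw [Functor.map_comp] at hU'
    have hiso : IsIso ((Scheme.Modules.restrictFunctor U.ι).map (secHom (gr N k) ℓ.2)) :=
      IsIso.of_isIso_comp_right _ ((Scheme.Modules.restrictFunctor U.ι).map (ι1 N k).hom)
    exact @le_basicOpen_of_isIso_restrict _ _ _ _ _ (gr N k) _ (hgen N k) _ ℓ.2 U hiso
  · refine le_sSup ?_
    show IsIso ((Scheme.Modules.restrictFunctor (Proj.basicOpen (gr N k) ℓ.1).ι).map
      (secHom (gr N k) ℓ.2 ≫ (ι1 N k).hom))
    rw [Functor.map_comp]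
    haveI := isIso_restrict_secHom (gr N k) ℓ.2
    infer_instance


open Groth.Agent.Lib.Helper17.SForm in
variable (N k) in
/-- the linear system of linear forms on projective space -/
def linSys : LinSys k (M1 N k) (gr N k 1) where
  f ℓ := sform 1 (e1 N k) (sℓ N k ℓ)
  S ℓ := CohB1.genLocus (CohB1.tensorPow (L1 N k) 1) (sℓ N k ℓ)
  form ℓ := isForm_sform 1 (e1 N k) (sℓ N k ℓ)
  add ℓ ℓ' W g := by
    refine sform_of_add 1 (e1 N k) ?_ W g
    rw [secOf_sℓ, secOf_sℓ, secOf_sℓ]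
    have h : gsec (gr N k) ((ℓ + ℓ' : gr N k 1) : PA N k) (ℓ + ℓ').2 =
        gsec (gr N k) ℓ.1 ℓ.2 + gsec (gr N k) ℓ'.1 ℓ'.2 := gsec_add ℓ.1 ℓ'.1 ℓ.2 ℓ'.2
    rw [h]
    exact map_add ((ι1 N k).hom.app ⊤).hom _ _
  smul c ℓ W g := by
    have h0 := sform_of_smul 1 (e1 N k) (s := sℓ N k ℓ) (s' := sℓ N k (c • ℓ)) (cSec (N := N) ⊤ c) ?_ W g
    · rw [h0]
      congr 1
    · rw [secOf_sℓ, secOf_sℓ]
      have h : gsec (gr N k) ((c • ℓ : gr N k 1) : PA N k) (c • ℓ).2 =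
          (cSec (N := N) ⊤ c • gsec (gr N k) ℓ.1 ℓ.2 : Γ(Twist.twist (gr N k) ((1 : ℕ) : ℤ), ⊤)) :=
        gsec_smul c ℓ.1 ℓ.2
      rw [h]
      exact Scheme.Modules.Hom.app_smul (ι1 N k).hom _ _
  loc ℓ W g hg y hy := mem_genLocus_iff 1 (e1 N k) (sℓ N k ℓ) (hL1 N k) hg y hy

end Groth.Agent.Lib.Helper17.MumD
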