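import Groth.Agent.Lib.Helper17.MumD
import Groth.Agent.Lib.Helper28.AmpleUnit
import Groth.Agent.Lib.Helper4.VanClass
import Mathlib
set_option backward.isDefEq.respectTransparency.types false
set_option autoImplicit false

/-!
# Mumford's lemma on projective space: the statements for `O(-n)`
-/

universe u
open CategoryTheory CategoryTheory.Limits AlgebraicGeometry Opposite TopologicalSpace
noncomputable section

namespace Groth.Agent.Lib.Helper17.Mum

open Groth.Agent.Lib.Helper28 Groth.Agent.Lib.Helper28.QCohLoc Groth.Agent.Lib.Helper28.TensorGen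
  Groth.Agent.Lib.Helper28.GenLocus Groth.Agent.Lib.Helper17.TwHom Groth.Agent.Lib.Helper29.QCohStalk
  Groth.Agent.Lib.Helper17.H0Neg Groth.Agent.Lib.Helper23.FQuot

attribute [local instance] secModule

variable {k : Type u} [Field k] {X : Scheme.{u}} [X.Over (Spec (CommRingCat.of k))]
variable {F M : X.Modules} {V : Type u} [AddCommGroup V] [Module k V]

variable (k) in
/-- the unconditional inequality -/
theorem mumford_le [IsAlgClosed k] [IsProper (X ↘ Spec (CommRingCat.of k))]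
    (hM : PicF.IsInvertible M) (hF : Coh.IsCoh F)
    (Λ : LinSys k M V) (hbpf : ∀ x : X, ∃ v, x ∈ Λ.S v) (n : ℕ) :
    Module.finrank k (Coh.HH X (Pn F M (n + 1)) 0) ≤ Module.finrank k (Coh.HH X (Pn F M n) 0) := by
  haveI : CompactSpace X := by
    haveI : CompactSpace ↥(Spec (CommRingCat.of k)) := inferInstance
    exact QuasiCompact.compactSpace_of_compactSpace (X ↘ Spec (CommRingCat.of k))
  haveI : IsLocallyNoetherian X :=
    LocallyOfFiniteType.isLocallyNoetherian (X ↘ Spec (CommRingCat.of k))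
  have hZfin : {x : X | Curv2.IsAssPoint F x}.Finite := by
    have h := Groth.Agent.S1576.result X F hF ⊤ isCompact_univ
    exact h.subset (fun x hx => ⟨trivial, hx⟩)
  obtain ⟨v₀, hv₀⟩ := Λ.exists_good hM _ hZfin (fun y _ => hbpf y)
  haveI : F.IsQuasicoherent := hF.1
  haveI : SheafOfModules.IsFiniteType.{u} (R := X.ringCatSheaf) F := hF.2
  have hG : Good F M 1 (Λ.f v₀) (Λ.S v₀) :=
    ⟨Λ.form v₀, Λ.loc v₀, fun y hy => hv₀ y ((isAssPoint_iff_isWeakAssPoint F y).2 hy)⟩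
  obtain ⟨μ, hμ⟩ := exists_isMul (F := F) hM (Λ.form v₀) n
  have hcoh : ∀ n, Coh.IsCoh (Pn F M n) := fun n =>
    ⟨(isTwist_Pn F M n).isQuasicoherent hM, (isTwist_Pn F M n).isFiniteType hM⟩
  haveI hfin : ∀ n, Module.Finite k (Coh.HH X (Pn F M n) 0) := fun n =>
    Groth.Agent.Lib.Helper4.ProperFinal.finite_HH k X _ (hcoh n) 0
  haveI hfinA : Module.Finite k Γ(Pn F M (n + 1), ⊤) := Module.Finite.equiv (El k (Pn F M (n + 1)))
  haveI hfinB : Module.Finite k Γ(Pn F M n, ⊤) := Module.Finite.equiv (El k (Pn F M n))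
  rw [(El k (Pn F M (n + 1))).finrank_eq, (El k (Pn F M n)).finrank_eq]
  have hinj : Function.Injective (appL k μ) := by
    rw [injective_iff_map_eq_zero]
    intro t ht
    refine eq_zero_of_mu_app_eq_zero hM hG n 1 μ (fun W g hg x => ?_) t ht
    rw [pow_one]
    exact hμ W g hg x
  exact LinearMap.finrank_le_finrank_of_injective hinj

end Groth.Agent.Lib.Helper17.Mum

namespace Groth.Agent.Lib.Helper17.MumD

open Groth.Agent.Lib.Helper28 Groth.Agent.Lib.Helper28.QCohLoc Groth.Agent.Lib.Helper28.TensorGen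
  Groth.Agent.Lib.Helper28.GenLocus Groth.Agent.Lib.Helper17.TwHom Groth.Agent.Lib.Helper29.QCohStalk
  Groth.Agent.Lib.Helper17.H0Neg Groth.Agent.Lib.Helper23.FQuot Groth.Agent.Lib.Helper17.Mum
  Groth.Agent.Lib.Helper2.ProjCoh3 Groth.Agent.Lib.Helper2.SerreFin2 Groth.Agent.Lib.Helper28.TwistGen
  Groth.Agent.Lib.Helper28.TwistAmple Groth.Agent.Lib.Helper2.ProjCoh4 Groth.Agent.Lib.Helper2.ProjCoh5

variable (N : ℕ) (k : Type u) [Field k]

theorem hbpf (x : P N k) : ∃ i : Fin (N + 1), x ∈ (linSys N k).S ⟨MvPolynomial.X i, X_mem N k i⟩ := by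
  have hx : x ∈ ⨆ i, cov N k i := by
    rw [iSup_cov]
    trivial
  obtain ⟨i, hi⟩ := Opens.mem_iSup.1 hx
  refine ⟨i.down, ?_⟩
  show x ∈ CohB1.genLocus (CohB1.tensorPow (L1 N k) 1) (sℓ N k ⟨MvPolynomial.X i.down, X_mem N k i.down⟩)
  rw [genLocus_sℓ]
  exact hi

theorem haff (ℓ : gr N k 1) : IsAffineOpen ((linSys N k).S ℓ) := by
  show IsAffineOpen (CohB1.genLocus (CohB1.tensorPow (L1 N k) 1) (sℓ N k ℓ))
  rw [genLocus_sℓ]
  exact Proj.isAffineOpen_basicOpen (gr N k) ℓ.1 ℓ.2 one_pos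

/-- `M1^{⊗ n} ≅ O(-n)` -/
theorem nonempty_pow_iso (n : ℕ) : ∀ d : ℤ, d = -(n : ℤ) →
    Nonempty (CohB1.tensorPow (M1 N k) n ≅ Twist.twist (gr N k) d) := by
  induction n with
  | zero =>
    intro d hd
    obtain ⟨e⟩ := TwistCov.nonempty_twist_zero_iso (gr N k) (hcov N k)
    have h0 : d = ((0 : ℕ) : ℤ) := by simpa using hd
    subst h0
    exact ⟨e.symm⟩
  | succ n ih =>
    intro d hd
    obtain ⟨e⟩ := ih (-(n : ℤ)) rfl
    obtain ⟨e'⟩ := TwistCov.nonempty_tensor_iso (gr N k) (hcov N k) (-(n : ℤ)) (-1)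
    have h0 : d = -(n : ℤ) + -1 := by rw [hd]; push_cast; ring
    subst h0
    exact ⟨PicGrp.tensorModIso e (Iso.refl _) ≪≫ e'⟩

theorem nonempty_Pn_iso (F : (P N k).Modules) (n : ℕ) (d : ℤ) (hd : d = -(n : ℤ)) :
    Nonempty (Pn F (M1 N k) n ≅ CohB1.tensorMod F (Twist.twistProjSpace N k d)) := by
  obtain ⟨e⟩ := nonempty_pow_iso N k n d hd
  exact ⟨PicGrp.tensorModIso (Iso.refl F) e⟩

theorem nonempty_Pn_zero_iso (F : (P N k).Modules) : Nonempty (Pn F (M1 N k) 0 ≅ F) :=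
  AmpleUnit.nonempty_tensor_unit_iso F

variable [IsAlgClosed k]

theorem step (F : (P N k).Modules) (hF : Coh.IsCoh F)
    (hass : ∀ x : P N k, Curv2.IsAssPoint F x → ¬ IsClosed ({x} : Set (P N k)))
    (n : ℕ) (h1 : 1 ≤ Module.finrank k (Coh.HH (P N k) (Pn F (M1 N k) n) 0)) :
    Module.finrank k (Coh.HH (P N k) (Pn F (M1 N k) (n + 1)) 0) + 1 ≤
      Module.finrank k (Coh.HH (P N k) (Pn F (M1 N k) n) 0) := by
  haveI : IsProper (P N k ↘ Spec (CommRingCat.of k)) :=
    Groth.Agent.Lib.Helper28.ProjSpaceBasic.isProper_toSpec N k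
  exact Mum.mumford k (hM1 N k) hF hass (linSys N k)
    (fun i : Fin (N + 1) => (⟨MvPolynomial.X i, X_mem N k i⟩ : gr N k 1)) (hbpf N k) (haff N k) n h1

theorem le (F : (P N k).Modules) (hF : Coh.IsCoh F) (n : ℕ) :
    Module.finrank k (Coh.HH (P N k) (Pn F (M1 N k) (n + 1)) 0) ≤
      Module.finrank k (Coh.HH (P N k) (Pn F (M1 N k) n) 0) := by
  haveI : IsProper (P N k ↘ Spec (CommRingCat.of k)) :=
    Groth.Agent.Lib.Helper28.ProjSpaceBasic.isProper_toSpec N k
  exact Mum.mumford_le k (hM1 N k) hF (linSys N k)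
    (fun x => by obtain ⟨i, hi⟩ := hbpf N k x; exact ⟨_, hi⟩) n

theorem main (F : (P N k).Modules) (hF : Coh.IsCoh F)
    (hass : ∀ x : P N k, Curv2.IsAssPoint F x → ¬ IsClosed ({x} : Set (P N k))) (n : ℕ) :
    Module.finrank k (Coh.HH (P N k) (Pn F (M1 N k) n) 0) + n ≤
      Module.finrank k (Coh.HH (P N k) (Pn F (M1 N k) 0) 0) ∨
    Module.finrank k (Coh.HH (P N k) (Pn F (M1 N k) n) 0) = 0 := by
  induction n with
  | zero => left; omega
  | succ n ih =>
    have hle := le N k F hF n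
    by_cases h1 : 1 ≤ Module.finrank k (Coh.HH (P N k) (Pn F (M1 N k) n) 0)
    · have hs := step N k F hF hass n h1
      rcases ih with h | h
      · left; omega
      · omega
    · right; omega

/-- **Mumford's lemma, first form**, on `P^N_k`. -/
theorem result1 (F : (P N k).Modules) (hF : Coh.IsCoh F)
    (hass : ∀ x : P N k, Curv2.IsAssPoint F x → ¬ IsClosed ({x} : Set (P N k)))
    (h0 : 1 ≤ Module.finrank k (Coh.HH (P N k) F 0)) :
    Module.finrank k (Coh.HH (P N k) (CohB1.tensorMod F (Twist.twistProjSpace N k (-1))) 0) + 1 ≤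
      Module.finrank k (Coh.HH (P N k) F 0) := by
  obtain ⟨e0⟩ := nonempty_Pn_zero_iso N k F
  obtain ⟨e1⟩ := nonempty_Pn_iso N k F 1 (-1) (by norm_num)
  have h := step N k F hF hass 0
    (by rw [(Groth.Agent.Lib.Helper2.Bridge5.HHlinEquiv k e0 0).finrank_eq]; exact h0)
  rw [(Groth.Agent.Lib.Helper2.Bridge5.HHlinEquiv k e0 0).finrank_eq,
    (Groth.Agent.Lib.Helper2.Bridge5.HHlinEquiv k e1 0).finrank_eq] at h
  exact h

/-- **Mumford's lemma, second form**, on `P^N_k`. -/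
theorem result2 (F : (P N k).Modules) (hF : Coh.IsCoh F)
    (hass : ∀ x : P N k, Curv2.IsAssPoint F x → ¬ IsClosed ({x} : Set (P N k)))
    (n : ℕ) (hn : Module.finrank k (Coh.HH (P N k) F 0) ≤ n) :
    Subsingleton (Coh.HH (P N k) (CohB1.tensorMod F (Twist.twistProjSpace N k (-(n : ℤ)))) 0) := by
  obtain ⟨e0⟩ := nonempty_Pn_zero_iso N k F
  obtain ⟨en⟩ := nonempty_Pn_iso N k F n (-(n : ℤ)) rfl
  haveI : IsProper (P N k ↘ Spec (CommRingCat.of k)) :=
    Groth.Agent.Lib.Helper28.ProjSpaceBasic.isProper_toSpec N k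
  have hcoh : Coh.IsCoh (Pn F (M1 N k) n) := by
    haveI : F.IsQuasicoherent := hF.1
    haveI : SheafOfModules.IsFiniteType.{u} (R := (P N k).ringCatSheaf) F := hF.2
    exact ⟨(isTwist_Pn F (M1 N k) n).isQuasicoherent (hM1 N k),
      (isTwist_Pn F (M1 N k) n).isFiniteType (hM1 N k)⟩
  haveI hfin : Module.Finite k (Coh.HH (P N k) (Pn F (M1 N k) n) 0) :=
    Groth.Agent.Lib.Helper4.ProperFinal.finite_HH k (P N k) _ hcoh 0
  have h := main N k F hF hass n
  rw [(Groth.Agent.Lib.Helper2.Bridge5.HHlinEquiv k e0 0).finrank_eq] at h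
  have hzero : Module.finrank k (Coh.HH (P N k) (Pn F (M1 N k) n) 0) = 0 := by
    rcases h with h | h
    · omega
    · exact h
  have hsub : Subsingleton (Coh.HH (P N k) (Pn F (M1 N k) n) 0) :=
    Module.finrank_zero_iff.1 hzero
  exact Groth.Agent.Lib.Helper4.VanClass.subsingleton_HH_of_iso en 0 hsub

end Groth.Agent.Lib.Helper17.MumD
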