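import Groth.Agent.Lib.Helper17.H1Coc3
import Mathlib
set_option backward.isDefEq.respectTransparency.types false
set_option autoImplicit false
set_option linter.style.haveILetI false
set_option linter.unusedSectionVars false

/-!
# Unique divisibility: roots of `1 + nilpotent`, and cohomology of uniquely divisible sheaves
-/

universe u
open CategoryTheory CategoryTheory.Limits Opposite TopologicalSpace Abelian

noncomputable section
namespace Groth.Agent.Lib.Helper17.NDiv

open Polynomial in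
/-- `n`-th roots of elements of `1 + Nil(R)` exist uniquely in `1 + Nil(R)` when `n` is invertible -/
theorem existsUnique_root {R : Type*} [CommRing R] (n : ℕ) (hn : IsUnit (n : R)) (a : R)
    (ha : IsNilpotent (a - 1)) : ∃! r : R, IsNilpotent (r - 1) ∧ r ^ n = a := by
  have key := Polynomial.existsUnique_nilpotent_sub_and_aeval_eq_zero (R := R) (S := R)
    (P := (X : R[X]) ^ n - C a) (x := (1 : R))
    (by
      have : aeval (1 : R) ((X : R[X]) ^ n - C a) = 1 - a := by simp
      rw [this, ← neg_sub, isNilpotent_neg_iff]; exact ha)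
    (by
      have : aeval (1 : R) (derivative ((X : R[X]) ^ n - C a)) = (n : R) := by
        simp [derivative_X_pow]
      rw [this]; exact hn)
  obtain ⟨r, ⟨hr1, hr2⟩, hr3⟩ := key
  refine ⟨r, ⟨?_, ?_⟩, ?_⟩
  · rw [← neg_sub, isNilpotent_neg_iff]; exact hr1
  · have : aeval r ((X : R[X]) ^ n - C a) = r ^ n - a := by simp
    rw [this, sub_eq_zero] at hr2
    exact hr2
  · rintro s ⟨hs1, hs2⟩
    apply hr3
    refine ⟨?_, ?_⟩
    · rw [← neg_sub, isNilpotent_neg_iff]; exact hs1
    · have : aeval s ((X : R[X]) ^ n - C a) = s ^ n - a := by simp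
      rw [this, hs2, sub_self]

section Coh

variable {T : TopCat.{u}} {F G : CohTop.Ab T}

theorem H_map_add (f g : F ⟶ G) (q : ℕ) (x : Sheaf.H F q) :
    Sheaf.H.map (f + g) q x = Sheaf.H.map f q x + Sheaf.H.map g q x := by
  rw [Sheaf.H.map_apply, Sheaf.H.map_apply, Sheaf.H.map_apply, Ext.mk₀_add, Ext.comp_add]

theorem H_map_zero' (q : ℕ) (x : Sheaf.H F q) : Sheaf.H.map (0 : F ⟶ G) q x = 0 := by
  rw [Sheaf.H.map_apply, Ext.mk₀_zero, Ext.comp_zero]

theorem H_map_nsmul (f : F ⟶ G) (k : ℕ) (q : ℕ) (x : Sheaf.H F q) :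
    Sheaf.H.map (k • f) q x = k • Sheaf.H.map f q x := by
  induction k with
  | zero => rw [zero_smul, zero_smul]; exact H_map_zero' q x
  | succ k ih => rw [succ_nsmul, succ_nsmul, H_map_add, ih]

/-- if multiplication by `k` is an isomorphism of `K`, the cohomology of `K` is uniquely `k`-divisible -/
theorem H_uniquely_divisible (K : CohTop.Ab T) (k : ℕ) (hk : IsIso (k • 𝟙 K)) (q : ℕ) :
    (∀ y : Sheaf.H K q, ∃ x, k • x = y) ∧ (∀ x : Sheaf.H K q, k • x = 0 → x = 0) := by
  have h1 : ∀ x : Sheaf.H K q, Sheaf.H.map (k • 𝟙 K) q x = k • x := by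
    intro x
    rw [H_map_nsmul, Sheaf.H.map_id_apply]
  have h2 : ∀ x : Sheaf.H K q, Sheaf.H.map (inv (k • 𝟙 K)) q (k • x) = x := by
    intro x
    rw [← h1, ← Sheaf.H.map_comp_apply, IsIso.hom_inv_id, Sheaf.H.map_id_apply]
  have h3 : ∀ x : Sheaf.H K q, k • Sheaf.H.map (inv (k • 𝟙 K)) q x = x := by
    intro x
    rw [← h1, ← Sheaf.H.map_comp_apply, IsIso.inv_hom_id, Sheaf.H.map_id_apply]
  refine ⟨fun y => ⟨_, h3 y⟩, fun x hx => ?_⟩
  rw [← h2 x, hx, map_zero]

end Coh

end Groth.Agent.Lib.Helper17.NDiv
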