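import Groth.Agent.Lib.Helper17.PicLaw
import Groth.Agent.Lib.Helper8.ClifB
import Groth.Agent.Lib.Helper8.GGKill
import Groth.Agent.Lib.Helper8.CurveInv1
import Groth.Agent.Lib.Helper28.AmpleUnit
import Groth.Agent.Lib.Helper28.TensorPowGen
import Groth.Agent.Lib.Helper6.K0Op
import Mathlib
set_option backward.isDefEq.respectTransparency.types false
set_option autoImplicit false
set_option linter.style.haveILetI false
set_option linter.unusedSectionVars false

/-!
# Sections of an invertible module and of its inverse on an integral proper scheme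
-/

universe u
open CategoryTheory CategoryTheory.Limits AlgebraicGeometry Opposite TopologicalSpace

noncomputable section
namespace Groth.Agent.Lib.Helper17.NegSec

open Groth.Agent.Lib.Helper28 Groth.Agent.Lib.Helper8.EulerK Groth.Agent.Lib.Helper8.KillA

variable {X : Scheme.{u}}

/-- tensoring a monomorphism with an invertible module -/
theorem mono_tensor_map (N : X.Modules) (hN : PicF.IsInvertible N) {A B : X.Modules} (t : A ⟶ B) [Mono t] :
    Mono ((DCoh.tensorBi.obj N).map t) := by
  let S : ShortComplex X.Modules := ShortComplex.mk t (cokernel.π t) (cokernel.condition t)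
  have hS : S.ShortExact :=
    { exact := ShortComplex.exact_cokernel t
      mono_f := inferInstanceAs (Mono t)
      epi_g := inferInstanceAs (Epi (cokernel.π t)) }
  have h := Groth.Agent.Lib.Helper6.K0Op.shortExact_tensor_of_flat N
    (Groth.Agent.Lib.Helper6.K0Op.isFlat_of_isInvertible N hN) S hS
  exact h.mono_f

/-- the product of two injective sections -/
theorem exists_mono_prod {A B : X.Modules} (hA : PicF.IsInvertible A)
    (s : Coh.structureModule X ⟶ A) [Mono s] (t : Coh.structureModule X ⟶ B) [Mono t] :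
    ∃ u : Coh.structureModule X ⟶ CohB1.tensorMod A B, Mono u := by
  obtain ⟨ρ⟩ := AmpleUnit.nonempty_tensor_unit_iso A
  haveI := mono_tensor_map A hA t
  let Φ0 := (DCoh.tensorBi.obj A).map t
  let Φ : CohB1.tensorMod A (Coh.structureModule X) ⟶ CohB1.tensorMod A B := Φ0
  haveI : Mono Φ := inferInstanceAs (Mono ((DCoh.tensorBi.obj A).map t))
  exact ⟨s ≫ ρ.inv ≫ Φ, inferInstance⟩


/-- an injective endomorphism of the structure module of a proper scheme over a field is an isomorphism -/
theorem isIso_of_mono_unit (k : Type u) [Field k] [X.Over (Spec (CommRingCat.of k))]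
    [IsProper (X ↘ Spec (CommRingCat.of k))]
    (u : Coh.structureModule X ⟶ Coh.structureModule X) [Mono u] : IsIso u := by
  have hcO : Coh.IsCoh (Coh.structureModule X) := Groth.Agent.Lib.Helper6.DevRed.isCoh_structureModule
  haveI := finite_HH k X _ hcO 0
  have hinj := Groth.Agent.Lib.Helper8.ClifB.HHlin_zero_injective_of_mono k u
  have hsurj := LinearMap.surjective_of_injective hinj
  obtain ⟨q, hq⟩ := hsurj (unitH X)
  obtain ⟨v, hv⟩ := exists_hom_of_H0 (Coh.structureModule X) q
  have hvu : v ≫ u = 𝟙 _ := by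
    apply Groth.Agent.Lib.Helper8.GGKill.hom_eq_of_HHmap_unitH_eq
    rw [HHmap_comp, hv, HHmap_id]
    exact hq
  haveI : IsSplitEpi u := ⟨⟨v, hvu⟩⟩
  exact isIso_of_mono_of_isSplitEpi u

/-- if an invertible module and its inverse both have an injective section, the module is trivial -/
theorem nonempty_iso_unit (k : Type u) [Field k] [X.Over (Spec (CommRingCat.of k))]
    [IsProper (X ↘ Spec (CommRingCat.of k))] {N N' : X.Modules} (hN : PicF.IsInvertible N)
    (ε : CohB1.tensorMod N N' ≅ Coh.structureModule X)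
    (s : Coh.structureModule X ⟶ N) [Mono s] (t : Coh.structureModule X ⟶ N') [Mono t] :
    Nonempty (N ≅ Coh.structureModule X) := by
  obtain ⟨ρ⟩ := AmpleUnit.nonempty_tensor_unit_iso N
  haveI := mono_tensor_map N hN t
  let Φ0 := (DCoh.tensorBi.obj N).map t
  let Φ : CohB1.tensorMod N (Coh.structureModule X) ⟶ CohB1.tensorMod N N' := Φ0
  haveI : Mono Φ := inferInstanceAs (Mono ((DCoh.tensorBi.obj N).map t))
  let r : N ⟶ Coh.structureModule X := ρ.inv ≫ Φ ≫ ε.hom
  haveI : Mono r := inferInstance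
  haveI : IsIso (s ≫ r) := isIso_of_mono_unit k (s ≫ r)
  haveI : Epi r := epi_of_epi s r
  haveI : IsIso r := isIso_of_mono_of_epi r
  exact ⟨asIso r⟩

open PicGrp in
/-- negative powers have no sections -/
theorem main (k : Type u) [Field k] (X : Scheme.{u}) [X.Over (Spec (CommRingCat.of k))]
    [IsProper (X ↘ Spec (CommRingCat.of k))] [IsIntegral X]
    (L M : X.Modules) (hL : PicF.IsInvertible L) (hM : ClSub.IsInverseOf M L)
    (hsec : ∀ j : ℕ, 4 ≤ j → Nontrivial (Coh.HH X (CohB1.tensorPow L j) 0))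
    (hnt : ∀ j : ℕ, 1 ≤ j → IsEmpty (CohB1.tensorPow L j ≅ Coh.structureModule X))
    (i : ℕ) (hi : 1 ≤ i) :
    Subsingleton (Coh.HH X (CohB1.tensorPow M i) 0) := by
  by_contra hns
  rw [not_subsingleton_iff_nontrivial] at hns
  obtain ⟨ε0⟩ := hM
  have hMi : PicF.IsInvertible M := Groth.Agent.Lib.Helper6.K0Inv.isInvertible_of_tensor_iso' L M hL ε0
  have hO : PicF.IsInvertible (Coh.structureModule X) := PicLoc.isInvertible_structureModule X
  set A := CohB1.tensorPow M i with hA
  have hAi : PicF.IsInvertible A := GenLocus.isInvertible_tensorPow hMi i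
  set N := CohB1.tensorPow L (4 * i) with hN
  have hNi : PicF.IsInvertible N := GenLocus.isInvertible_tensorPow hL (4 * i)
  -- sections
  obtain ⟨q, hq⟩ := exists_ne (0 : Coh.HH X A 0)
  obtain ⟨t, ht⟩ := exists_hom_of_H0 A q
  have ht0 : t ≠ 0 := by
    rintro rfl
    exact hq (ht.symm.trans (HHmap_zero_unitH A))
  haveI : Mono t := Groth.Agent.Lib.Helper8.CurveInv.mono_of_ne_zero hO hAi t ht0
  haveI := hsec (4 * i) (by omega)
  obtain ⟨q', hq'⟩ := exists_ne (0 : Coh.HH X N 0)
  obtain ⟨s, hs⟩ := exists_hom_of_H0 N q'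
  have hs0 : s ≠ 0 := by
    rintro rfl
    exact hq' (hs.symm.trans (HHmap_zero_unitH N))
  haveI : Mono s := Groth.Agent.Lib.Helper8.CurveInv.mono_of_ne_zero hO hNi s hs0
  obtain ⟨t2, ht2⟩ := exists_mono_prod hAi t t
  haveI := ht2
  have hA2 : PicF.IsInvertible (CohB1.tensorMod A A) := GenLocus.isInvertible_tensorMod hAi hAi
  obtain ⟨t4, ht4⟩ := exists_mono_prod hA2 t2 t2
  haveI := ht4
  have hA4 : PicF.IsInvertible (CohB1.tensorMod (CohB1.tensorMod A A) (CohB1.tensorMod A A)) :=
    GenLocus.isInvertible_tensorMod hA2 hA2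
  -- the Picard group
  letI : PicGrp.Law X := Groth.Agent.Lib.Helper17.PicLaw.law X
  have hpow : ∀ (B : X.Modules) (hB : PicF.IsInvertible B) (n : ℕ),
      cls (CohB1.tensorPow B n) (GenLocus.isInvertible_tensorPow hB n) = cls B hB ^ n := by
    intro B hB n
    apply Subtype.ext
    rw [cls_pow_val]; rfl
  have hmul : ∀ (B C : X.Modules) (hB : PicF.IsInvertible B) (hC : PicF.IsInvertible C),
      cls (CohB1.tensorMod B C) (GenLocus.isInvertible_tensorMod hB hC) = cls B hB * cls C hC := by
    intro B C hB hC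
    apply Subtype.ext
    rw [cls_mul_cls_val]; rfl
  have hml : cls M hMi * cls L hL = 1 := (cls_mul_cls_eq_one_iff hMi hL).2 ⟨ε0⟩
  have h1 : cls N hNi * cls _ hA4 = 1 := by
    have e1 : cls N hNi = cls L hL ^ (4 * i) := hpow L hL (4 * i)
    have e2 : cls A hAi = cls M hMi ^ i := hpow M hMi i
    have e3 : cls _ hA2 = cls A hAi * cls A hAi := hmul A A hAi hAi
    have e4 : cls _ hA4 = cls _ hA2 * cls _ hA2 := hmul _ _ hA2 hA2
    rw [e1, e4, e3, e2]
    have : cls M hMi = (cls L hL)⁻¹ := eq_inv_of_mul_eq_one_left hml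
    rw [this]
    group
  obtain ⟨ε'⟩ := (cls_mul_cls_eq_one_iff hNi hA4).1 h1
  obtain ⟨ψ⟩ := nonempty_iso_unit k hNi ε' s t4
  exact (hnt (4 * i) (by omega)).false ψ

end Groth.Agent.Lib.Helper17.NegSec
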