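import Groth.Agent.Lib.Helper28.AmpleIso
import Groth.Agent.Lib.Helper28.TensorAssoc
import Groth.Agent.Lib.Helper28.DualInv
import Groth.Agent.Lib.Helper28.InvQC
import Groth.Agent.Lib.Helper6.K0Inv
import Groth.Agent.Lib.Helper6.InvDual
import Groth.Prelude.Def_PicGrp
import Mathlib
set_option backward.isDefEq.respectTransparency.types false
set_option autoImplicit false

/-!
# Uniqueness of tensor inverses; duals of tensor powers (helper17)
-/

universe u
open CategoryTheory CategoryTheory.Limits AlgebraicGeometry Opposite TopologicalSpace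
noncomputable section

namespace Groth.Agent.Lib.Helper17.NegTw

open Groth.Agent.Lib.Helper28 Groth.Agent.Lib.Helper28.QCohLoc Groth.Agent.Lib.Helper28.GenLocus
  Groth.Agent.Lib.Helper28.TensorGen Groth.Agent.Lib.Helper28.HomMod
open Groth.Agent.Lib.Helper6.K0Inv

variable {X : Scheme.{u}}

/-- **uniqueness of the tensor inverse** -/
theorem nonempty_iso_of_inverse {A B C : X.Modules} (hA : PicF.IsInvertible A) (hB : PicF.IsInvertible B)
    (hC : PicF.IsInvertible C)
    (eB : CohB1.tensorMod A B ≅ Coh.structureModule X) (eC : CohB1.tensorMod A C ≅ Coh.structureModule X) :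
    Nonempty (B ≅ C) := by
  obtain ⟨uB⟩ := InvQC.nonempty_unit_tensor_iso B
  obtain ⟨uC⟩ := InvQC.nonempty_unit_tensor_iso C
  obtain ⟨ψ, -⟩ := exists_tensorMod_assoc_iso hC hA hB
  exact ⟨uB.symm ≪≫ PicGrp.tensorModIso eC.symm (Iso.refl B) ≪≫
    PicGrp.tensorModIso (braidIso A C) (Iso.refl B) ≪≫ ψ ≪≫
    PicGrp.tensorModIso (Iso.refl C) eB ≪≫ braidIso C (Coh.structureModule X) ≪≫ uC⟩

/-- `L^N ⊗ L'^N ≅ O` when `L ⊗ L' ≅ O` -/
theorem nonempty_tensorPow_tensor_iso {L L' : X.Modules} (hL : PicF.IsInvertible L) (hL' : PicF.IsInvertible L')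
    (ε : CohB1.tensorMod L L' ≅ Coh.structureModule X) (N : ℕ) :
    Nonempty (CohB1.tensorMod (CohB1.tensorPow L N) (CohB1.tensorPow L' N) ≅ Coh.structureModule X) := by
  obtain ⟨ψ, -⟩ := exists_tensorPow_tensorMod_iso hL hL' N
  obtain ⟨υ⟩ := AmpleUnit.nonempty_tensorPow_unit_iso X N
  exact ⟨ψ.symm ≪≫ AmpleIso.tensorPowIso ε N ≪≫ υ⟩

/-- **the dual of `(L^m)^K` is `L'^(mK)`** for a tensor inverse `L'` of `L` -/
theorem nonempty_dual_iso {L L' : X.Modules} (hL : PicF.IsInvertible L)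
    (ε : CohB1.tensorMod L L' ≅ Coh.structureModule X) (m K N : ℕ) (hN : N = m * K) :
    Nonempty (dual (CohB1.tensorPow (CohB1.tensorPow L m) K) ≅ CohB1.tensorPow L' N) := by
  have hL' := isInvertible_of_tensor_iso L L' hL ε
  have hA : PicF.IsInvertible (CohB1.tensorPow (CohB1.tensorPow L m) K) :=
    isInvertible_tensorPow (isInvertible_tensorPow hL m) K
  obtain ⟨ψ₁, -⟩ := exists_tensorPow_tensorPow_iso hL m K N hN
  obtain ⟨eN⟩ := nonempty_tensorPow_tensor_iso hL hL' ε N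
  obtain ⟨eD⟩ := Groth.Agent.Lib.Helper6.InvDual.nonempty_tensor_dual_iso _ hA
  exact nonempty_iso_of_inverse hA (isInvertible_dual hA) (isInvertible_tensorPow hL' N) eD
    (PicGrp.tensorModIso ψ₁ (Iso.refl _) ≪≫ eN)

end Groth.Agent.Lib.Helper17.NegTw
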