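import Groth.Agent.Lib.Helper17.NegTwA
import Groth.Agent.Lib.Helper28.TwistGG
import Groth.Agent.Lib.Helper28.AmpleBasis
import Groth.Agent.Lib.Helper28.QCohGen
import Groth.Agent.Lib.Helper16.QCohSigma
import Mathlib
set_option backward.isDefEq.respectTransparency.types false
set_option autoImplicit false

/-!
# Every quasi-coherent module is a quotient of a coproduct of negative twists (helper17)
-/

universe u
open CategoryTheory CategoryTheory.Limits AlgebraicGeometry Opposite TopologicalSpace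
noncomputable section

namespace Groth.Agent.Lib.Helper17.NegTw

open Groth.Agent.Lib.Helper28 Groth.Agent.Lib.Helper28.QCohLoc Groth.Agent.Lib.Helper28.GenLocus
  Groth.Agent.Lib.Helper28.TensorGen Groth.Agent.Lib.Helper28.HomMod

variable {X : Scheme.{u}}

/-- the index type of the resolution -/
structure Idx (L F : X.Modules) (n₀ : ℕ) : Type u where
  n : ℕ
  K : ℕ
  hK : n₀ ≤ (n + 1) * K
  φ : dual (CohB1.tensorPow (CohB1.tensorPow L (n + 1)) K) ⟶ F

/-- the summands -/
def summand (L F : X.Modules) (n₀ : ℕ) (a : Idx L F n₀) : X.Modules :=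
  dual (CohB1.tensorPow (CohB1.tensorPow L (a.n + 1)) a.K)

/-- the resolution map -/
def resMap (L F : X.Modules) (n₀ : ℕ) : (∐ summand L F n₀) ⟶ F :=
  Sigma.desc (fun a => a.φ)

theorem epi_resMap {L : X.Modules} (hA : CohB1.IsAmple L) (F : X.Modules) [F.IsQuasicoherent] (n₀ : ℕ) :
    Epi (resMap L F n₀) := by
  haveI := hA.2.1
  haveI : X.IsSeparated := isSeparated_of_isAmple hA
  have hL := hA.1
  refine epi_of_locally_in_range _ ?_
  intro U y pt hpt
  obtain ⟨n, s, hpts, hsU, -⟩ := exists_genLocus_le_of_isAmple hA U pt hpt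
  have hM := isInvertible_tensorPow hL (n + 1)
  obtain ⟨k₀, hk₀⟩ := exists_extension_qcoh_ge hM s F (res F hsU y)
  obtain ⟨t', ht'⟩ := hk₀ (max k₀ n₀) (le_max_left _ _)
  have hΛ := isInvertible_tensorPow hM (max k₀ n₀)
  have hγ : IsGen (CohB1.tensorPow (CohB1.tensorPow L (n + 1)) (max k₀ n₀)) (CohB1.genLocus _ s)
      (gpow _ (res _ le_top (secOf s)) (max k₀ n₀)) := isGen_gpow (isGen_genLocus s) _
  let a : Idx L F n₀ := ⟨n, max k₀ n₀, (le_max_right k₀ n₀).trans (Nat.le_mul_of_pos_left _ (Nat.succ_pos n)),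
    homOfTensorSec F hΛ t'⟩
  refine ⟨CohB1.genLocus _ s, hsU, hpts, (Sigma.ι (summand L F n₀) a).app _ (gdual hγ), ?_⟩
  have h1 : (Sigma.ι (summand L F n₀) a ≫ resMap L F n₀) = a.φ := by
    unfold resMap
    exact Sigma.ι_desc _ _
  have h2 : (resMap L F n₀).app (CohB1.genLocus _ s) ((Sigma.ι (summand L F n₀) a).app _ (gdual hγ)) =
      a.φ.app _ (gdual hγ) := by
    rw [← h1]
    rfl
  rw [h2]
  show (homOfTensorSec F hΛ t').app _ (gdual hγ) = _
  rw [homOfTensorSec_app_gdual F hΛ t' hγ, ht', untw_tmulSec]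

end Groth.Agent.Lib.Helper17.NegTw
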