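import Groth.Agent.Lib.Helper17.NegTwB
import Groth.Agent.Lib.Helper4.VanClass
import Groth.Agent.S0043
import Mathlib
set_option backward.isDefEq.respectTransparency.types false
set_option autoImplicit false

/-!
# A scheme with an ample module whose negative powers are acyclic is affine (helper17)
-/

universe u
open CategoryTheory CategoryTheory.Limits AlgebraicGeometry Opposite TopologicalSpace Abelian
noncomputable section

namespace Groth.Agent.Lib.Helper17.NegTw

open Groth.Agent.Lib.Helper28 Groth.Agent.Lib.Helper28.QCohLoc Groth.Agent.Lib.Helper28.GenLocus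
  Groth.Agent.Lib.Helper28.TensorGen Groth.Agent.Lib.Helper28.HomMod
open Groth.Agent.S0043

variable {X : Scheme.{u}}

theorem isZero_Hf_sigma [CompactSpace X] [QuasiSeparatedSpace X] (q : ℕ) {α : Type u}
    (f : α → SheafOfModules.{u} X.ringCatSheaf)
    (h : ∀ a, IsZero ((Hf X.toTopCat q ⊤).obj ((SheafOfModules.toSheaf.{u} X.ringCatSheaf).obj (f a)))) :
    IsZero ((Hf X.toTopCat q ⊤).obj ((SheafOfModules.toSheaf.{u} X.ringCatSheaf).obj (∐ f))) := by
  haveI : PreservesColimitsOfShape (Finset (Discrete α)) (SheafOfModules.toSheaf.{u} X.ringCatSheaf) :=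
    Groth.Agent.Lib.Helper1.RestrExact.toSheaf_preservesColimitsOfShape _ _
  haveI : PreservesColimit (CoproductsFromFiniteFiltered.liftToFinsetObj (Discrete.functor f))
      (SheafOfModules.toSheaf.{u} X.ringCatSheaf ⋙ Hf X.toTopCat q ⊤) := by
    haveI : CompactSpace X.toTopCat := inferInstanceAs (CompactSpace X)
    haveI : QuasiSeparatedSpace X.toTopCat := inferInstanceAs (QuasiSeparatedSpace X)
    haveI : PrespectralSpace X.toTopCat := inferInstanceAs (PrespectralSpace X)
    haveI := Groth.Agent.Lib.Helper27.ExtFilt.preservesColimit_of_isQuasiSeparated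
      (X := X.toTopCat) ⊤ isCompact_univ isQuasiSeparated_univ q
      (CoproductsFromFiniteFiltered.liftToFinsetObj (Discrete.functor f) ⋙
        SheafOfModules.toSheaf.{u} X.ringCatSheaf)
    infer_instance
  exact isZero_obj_sigma (SheafOfModules.toSheaf.{u} X.ringCatSheaf ⋙ Hf X.toTopCat q ⊤) f h

theorem P_step' (X : Scheme.{u})
    (hres : ∀ F : X.Modules, F.IsQuasicoherent → ∃ (E : X.Modules) (π : E ⟶ F), Epi π ∧ E.IsQuasicoherent ∧
      ∀ p : ℕ, 0 < p → Subsingleton (CohTop.HU (X := X.toTopCat)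
        ((SheafOfModules.toSheaf.{u} X.ringCatSheaf).obj E) p ⊤))
    (d : ℕ) (hd : 0 < d) (hP : P X (d + 1)) : P X d := by
  intro F hF p hp
  obtain ⟨E, φ, hφ, hE, hvan⟩ := hres F hF
  haveI := hF
  haveI := hE
  haveI := hφ
  let S : ShortComplex X.Modules := ShortComplex.mk (kernel.ι φ) φ (kernel.condition φ)
  have hS : S.ShortExact :=
    { exact := ShortComplex.exact_kernel φ
      mono_f := inferInstanceAs (Mono (kernel.ι φ))
      epi_g := inferInstanceAs (Epi φ) }
  have hT := Groth.Agent.Lib.Helper17.Serre.shortExact_map_toSheaf' S hS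
  have hK : (kernel φ).IsQuasicoherent := Groth.Agent.Lib.Helper17.CohKer.isQuasicoherent_kernel φ
  exact subsingleton_ext_X₃ _ _ hT p (hvan p (by omega)) (hP _ hK (p + 1) (by omega))

theorem P_one' (X : Scheme.{u}) [CompactSpace X] [QuasiSeparatedSpace X]
    (hres : ∀ F : X.Modules, F.IsQuasicoherent → ∃ (E : X.Modules) (π : E ⟶ F), Epi π ∧ E.IsQuasicoherent ∧
      ∀ p : ℕ, 0 < p → Subsingleton (CohTop.HU (X := X.toTopCat)
        ((SheafOfModules.toSheaf.{u} X.ringCatSheaf).obj E) p ⊤)) : P X 1 := by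
  obtain ⟨d, hd⟩ := Groth.Agent.Lib.Helper17.MV.exists_vanishing_top (X := X)
  have key : ∀ k : ℕ, P X (k + 1) → P X 1 := by
    intro k
    induction k with
    | zero => exact id
    | succ k ih => exact fun hk => ih (P_step' X hres (k + 1) (by omega) hk)
  refine key d ?_
  intro M hM p hp
  exact hd M hM p (by omega)

/-- **a scheme with an ample invertible module whose large negative powers are acyclic is affine** -/
theorem isAffine_of_vanishing (X : Scheme.{u}) (L L' : X.Modules)
    (hL : CohB1.IsAmple L) (hinv : Nonempty (CohB1.tensorMod L L' ≅ Coh.structureModule X)) (n₀ : ℕ)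
    (h : ∀ n : ℕ, n₀ ≤ n → ∀ p : ℕ, 0 < p → Subsingleton (Coh.HH X (CohB1.tensorPow L' n) p)) :
    IsAffine X := by
  obtain ⟨ε⟩ := hinv
  haveI := hL.2.1
  haveI : X.IsSeparated := isSeparated_of_isAmple hL
  haveI : QuasiSeparatedSpace X := inferInstance
  have hLinv := hL.1
  have hres : ∀ F : X.Modules, F.IsQuasicoherent → ∃ (E : X.Modules) (π : E ⟶ F), Epi π ∧ E.IsQuasicoherent ∧
      ∀ p : ℕ, 0 < p → Subsingleton (CohTop.HU (X := X.toTopCat)
        ((SheafOfModules.toSheaf.{u} X.ringCatSheaf).obj E) p ⊤) := by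
    intro F hF
    haveI := hF
    haveI : ∀ a : Idx L F n₀, (summand L F n₀ a).IsQuasicoherent := fun a =>
      InvQC.isQuasicoherent_of_isInvertible _
        (isInvertible_dual (isInvertible_tensorPow (isInvertible_tensorPow hLinv (a.n + 1)) a.K))
    refine ⟨∐ summand L F n₀, resMap L F n₀, epi_resMap hL F n₀,
      Groth.Agent.Lib.Helper16.QCohSigma.isQuasicoherent_sigma _, fun p hp => ?_⟩
    have hz : ∀ a : Idx L F n₀, IsZero ((Hf X.toTopCat p ⊤).obj
        ((SheafOfModules.toSheaf.{u} X.ringCatSheaf).obj (summand L F n₀ a))) := by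
      intro a
      obtain ⟨e⟩ := nonempty_dual_iso hLinv ε (a.n + 1) a.K ((a.n + 1) * a.K) rfl
      have h1 : Subsingleton (Coh.HH X (summand L F n₀ a) p) :=
        Groth.Agent.Lib.Helper4.VanClass.subsingleton_HH_of_iso e.symm p (h _ a.hK p hp)
      have h0 : Subsingleton (CohTop.HU (X := X.toTopCat)
          ((SheafOfModules.toSheaf.{u} X.ringCatSheaf).obj (summand L F n₀ a)) p ⊤) :=
        @Equiv.subsingleton _ _ (Groth.Agent.Lib.Helper17.HCompare.topHEquiv (X := X.toTopCat)
          ((SheafOfModules.toSheaf.{u} X.ringCatSheaf).obj (summand L F n₀ a)) p).symm.toEquiv h1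
      exact @AddCommGrpCat.isZero_of_subsingleton _ h0
    exact AddCommGrpCat.subsingleton_of_isZero (isZero_Hf_sigma p _ hz)
  have hP := P_one' X hres
  refine Groth.Agent.S0009.result X (fun I i _ hI => ?_)
  exact @Equiv.subsingleton _ _ (Groth.Agent.Lib.Helper17.HCompare.topHEquiv (X := X.toTopCat)
        ((SheafOfModules.toSheaf.{u} X.ringCatSheaf).obj I) 1).toEquiv (hP I hI 1 le_rfl)

end Groth.Agent.Lib.Helper17.NegTw
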