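import Mathlib

/-! Lifting finitely generated projective modules along a surjection with nilpotent kernel. -/

namespace Groth.Agent.Lib.Helper17.NilLift
open TensorProduct

universe u
variable {R : Type u} {S : Type u} [CommRing R] [CommRing S] [Algebra R S]

lemma mem_smul_top_of_tmul_eq_zero (hf : Function.Surjective (algebraMap R S))
    {X : Type*} [AddCommGroup X] [Module R X] (q : X) (h : (1 : S) ⊗ₜ[R] q = 0) :
    q ∈ (RingHom.ker (algebraMap R S)) • (⊤ : Submodule R X) := by
  have hf' : Function.Surjective (Algebra.ofId R S) := hf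
  let e₁ : (R ⧸ RingHom.ker (Algebra.ofId R S)) ≃ₐ[R] S :=
    Ideal.quotientKerAlgEquivOfSurjective hf'
  let e₂ : S ⊗[R] X ≃ₗ[R] X ⧸ ((RingHom.ker (Algebra.ofId R S)) • ⊤ : Submodule R X) :=
    (TensorProduct.congr e₁.symm.toLinearEquiv (LinearEquiv.refl R X)) ≪≫ₗ
      TensorProduct.quotTensorEquivQuotSMul X _
  have h2 : e₂ (1 ⊗ₜ q) = Submodule.Quotient.mk q := by
    simp [e₂, map_one]
  rw [h, map_zero] at h2
  exact (Submodule.Quotient.mk_eq_zero _).mp h2.symm

lemma ker_le_jacobson (hN : IsNilpotent (RingHom.ker (algebraMap R S))) :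
    RingHom.ker (algebraMap R S) ≤ Ideal.jacobson ⊥ := by
  obtain ⟨k, hk⟩ := hN
  intro x hx
  have hx' : IsNilpotent x := ⟨k, by
    have := Ideal.pow_mem_pow hx k
    rw [hk] at this
    simpa using this⟩
  exact Ideal.radical_le_jacobson ((mem_nilradical).mpr hx')

lemma isNilpotent_of_mem_ker (hN : IsNilpotent (RingHom.ker (algebraMap R S))) {x : R}
    (hx : algebraMap R S x = 0) : IsNilpotent x := by
  obtain ⟨k, hk⟩ := hN
  refine ⟨k, ?_⟩
  have := Ideal.pow_mem_pow ((RingHom.mem_ker).mpr hx) k
  rw [hk] at this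
  simpa using this

theorem nonempty_linearEquiv_of_baseChange (hf : Function.Surjective (algebraMap R S))
    (hN : IsNilpotent (RingHom.ker (algebraMap R S)))
    (X : Type u) [AddCommGroup X] [Module R X] [Module.Finite R X] [Module.Projective R X]
    (e : S ⊗[R] X ≃ₗ[S] S) : Nonempty (X ≃ₗ[R] R) := by
  obtain ⟨x₀, hx₀⟩ := TensorProduct.mk_surjective R X S hf (e.symm 1)
  have hx₀' : e (1 ⊗ₜ x₀) = 1 := by
    have : (1 : S) ⊗ₜ[R] x₀ = e.symm 1 := hx₀
    rw [this, LinearEquiv.apply_symm_apply]
  let g : R →ₗ[R] X := LinearMap.toSpanSingleton R X x₀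
  have hg : ∀ a, g a = a • x₀ := fun a => rfl
  have hsurj : Function.Surjective g := by
    rw [← LinearMap.range_eq_top, eq_top_iff]
    refine Submodule.le_of_le_smul_of_le_jacobson_bot Module.Finite.fg_top (ker_le_jacobson hN) ?_
    intro q _
    obtain ⟨r, hr⟩ := hf (e (1 ⊗ₜ q))
    have hz : (1 : S) ⊗ₜ[R] (q - r • x₀) = 0 := by
      apply e.injective
      rw [map_zero, tmul_sub, map_sub, ← smul_tmul, ← Algebra.algebraMap_eq_smul_one, ← mul_one (algebraMap R S r),
        ← smul_eq_mul, ← smul_tmul', map_smul, hx₀', hr]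
      simp
    have hmem := mem_smul_top_of_tmul_eq_zero hf _ hz
    have : q = g r + (q - r • x₀) := by rw [hg]; abel
    rw [this]
    exact Submodule.add_mem_sup (LinearMap.mem_range_self g r) hmem
  obtain ⟨s, hs⟩ := Module.projective_lifting_property g LinearMap.id hsurj
  have hs' : ∀ x, g (s x) = x := fun x => LinearMap.congr_fun hs x
  set ε := s x₀ with hε
  have h1 : (1 - ε) • x₀ = 0 := by
    rw [sub_smul, one_smul, ← hg ε, hs', sub_self]
  have h2 : algebraMap R S (1 - ε) = 0 := by
    have : algebraMap R S (1 - ε) = e ((1 : S) ⊗ₜ[R] ((1 - ε) • x₀)) := by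
      rw [← smul_tmul, ← Algebra.algebraMap_eq_smul_one, ← mul_one (algebraMap R S (1 - ε)),
        ← smul_eq_mul, ← smul_tmul', map_smul, hx₀']
    rw [this, h1, tmul_zero, map_zero]
  have hu : IsUnit ε := by
    have := (isNilpotent_of_mem_ker hN h2).isUnit_one_sub
    rwa [sub_sub_cancel] at this
  have hinj : Function.Injective g := by
    rw [injective_iff_map_eq_zero]
    intro a ha
    have : s (g a) = a * ε := by rw [hg, map_smul, smul_eq_mul]
    rw [ha, map_zero] at this
    exact (hu.mul_left_eq_zero).mp this.symm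
  exact ⟨(LinearEquiv.ofBijective g ⟨hinj, hsurj⟩).symm⟩

/-- entries of `x ^ k` lie in `N ^ k` when entries of `x` lie in `N`. -/
lemma pow_entry_mem {n : ℕ} (N : Ideal R) (x : Matrix (Fin n) (Fin n) R)
    (hx : ∀ i j, x i j ∈ N) (k : ℕ) : ∀ i j, (x ^ k) i j ∈ N ^ k := by
  induction k with
  | zero => intro i j; simp
  | succ k ih =>
    intro i j
    rw [pow_succ N k, pow_succ x k, Matrix.mul_apply]
    exact Ideal.sum_mem _ fun l _ => Ideal.mul_mem_mul (ih i l) (hx l j)

/-- The range of an idempotent matrix is projective. -/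
theorem range_idem_projective {n : ℕ} (e' : Matrix (Fin n) (Fin n) R) (he' : IsIdempotentElem e') :
    Module.Projective R (LinearMap.range (Matrix.toLin' e')) := by
  let T : (Fin n → R) →ₗ[R] (Fin n → R) := Matrix.toLin' e'
  have hTT : ∀ v, T (T v) = T v := by
    intro v
    show Matrix.toLin' e' (Matrix.toLin' e' v) = _
    rw [← LinearMap.comp_apply, ← Matrix.toLin'_mul, he'.eq]
  have hM : ∀ m : LinearMap.range T, T m.1 = m.1 := by
    rintro ⟨_, v, rfl⟩
    exact hTT v
  refine Module.Projective.of_split (LinearMap.range T).subtype T.rangeRestrict ?_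
  ext m : 2
  exact hM m

/-- Base change of the range of an idempotent matrix `e'` over `R`, when the image of `e'` over `S`
is the idempotent attached to a presentation `p, s` of an `S`-module `P`. -/
theorem baseChange_range_idem {n : ℕ} (e' : Matrix (Fin n) (Fin n) R) (he' : IsIdempotentElem e')
    (P : Type*) [AddCommGroup P] [Module S P] (p : (Fin n → S) →ₗ[S] P) (s : P →ₗ[S] (Fin n → S))
    (hps' : ∀ q, p (s q) = q)
    (hFe' : (algebraMap R S).mapMatrix e' = LinearMap.toMatrix' (s ∘ₗ p)) :
    Nonempty (S ⊗[R] (LinearMap.range (Matrix.toLin' e')) ≃ₗ[S] P) := by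
  classical
  let E : (Fin n → S) →ₗ[S] (Fin n → S) := s ∘ₗ p
  let e : Matrix (Fin n) (Fin n) S := LinearMap.toMatrix' E
  let F : Matrix (Fin n) (Fin n) R →+* Matrix (Fin n) (Fin n) S := (algebraMap R S).mapMatrix
  have hFe' : F e' = e := hFe'
  let T : (Fin n → R) →ₗ[R] (Fin n → R) := Matrix.toLin' e'
  have hTT : ∀ v, T (T v) = T v := by
    intro v
    show Matrix.toLin' e' (Matrix.toLin' e' v) = _
    rw [← LinearMap.comp_apply, ← Matrix.toLin'_mul, he'.eq]
  let M : Submodule R (Fin n → R) := LinearMap.range T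
  have hM : ∀ m : M, T m.1 = m.1 := by
    rintro ⟨_, v, rfl⟩
    exact hTT v
  let _ : Module R P := Module.compHom P (algebraMap R S)
  have : IsScalarTower R S P := IsScalarTower.of_algebraMap_smul fun _ _ => rfl
  -- compatibility of `T` with `E`
  have hcompat : ∀ v : Fin n → R, (fun i => algebraMap R S (T v i)) =
      s (p (fun i => algebraMap R S (v i))) := by
    intro v
    have h1 : s (p (fun i => algebraMap R S (v i))) = Matrix.toLin' e (fun i => algebraMap R S (v i)) := by
      show E _ = _
      rw [Matrix.toLin'_toMatrix']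
    rw [h1, ← hFe']
    funext i
    have := RingHom.map_mulVec (algebraMap R S) e' v i
    simp only [F, T, Matrix.toLin'_apply, Function.comp_def, RingHom.mapMatrix_apply] at this ⊢
    exact this
  let φ : M →ₗ[R] P := (p.restrictScalars R) ∘ₗ ((Algebra.linearMap R S).compLeft (Fin n)) ∘ₗ M.subtype
  have hφ : ∀ m : M, φ m = p (fun i => algebraMap R S (m.1 i)) := fun m => rfl
  let Φ : S ⊗[R] M →ₗ[S] P := LinearMap.liftBaseChange S φ
  let b : Fin n → (Fin n → R) := fun i j => if i = j then 1 else 0
  let mb : Fin n → M := fun i => ⟨T (b i), LinearMap.mem_range_self T _⟩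
  let Ψ : P →ₗ[S] S ⊗[R] M := ∑ i, ((LinearMap.proj i) ∘ₗ s).smulRight ((1 : S) ⊗ₜ[R] mb i)
  have hΨ : ∀ q, Ψ q = ∑ i, (s q i) • ((1 : S) ⊗ₜ[R] mb i) := by
    intro q
    simp [Ψ, LinearMap.sum_apply]
  have hb : ∀ i, (fun j => algebraMap R S (b i j)) = fun j => if i = j then (1 : S) else 0 := by
    intro i; funext j; simp only [b]; split_ifs <;> simp
  refine ⟨LinearEquiv.ofLinearMap Φ Ψ ?_ ?_⟩
  · ext q
    simp only [LinearMap.comp_apply, LinearMap.id_apply, hΨ, map_sum, map_smul]
    have : ∀ i, Φ ((1 : S) ⊗ₜ[R] mb i) = p (fun j => if i = j then (1 : S) else 0) := by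
      intro i
      simp only [Φ, LinearMap.liftBaseChange_tmul, one_smul, hφ, mb]
      rw [hcompat, hps', hb]
    simp only [this]
    rw [← LinearMap.pi_apply_eq_sum_univ p (s q), hps']
  · apply TensorProduct.AlgebraTensorModule.ext
    intro a m
    simp only [LinearMap.comp_apply, LinearMap.id_apply, Φ, LinearMap.liftBaseChange_tmul, map_smul]
    have h1 : s (φ m) = fun i => algebraMap R S (m.1 i) := by
      rw [hφ, ← hcompat, hM]
    have h2 : Ψ (φ m) = (1 : S) ⊗ₜ[R] m := by
      rw [hΨ, h1]
      have : ∀ i, algebraMap R S (m.1 i) • ((1 : S) ⊗ₜ[R] mb i) = (1 : S) ⊗ₜ[R] (m.1 i • mb i) := by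
        intro i
        rw [smul_tmul', smul_eq_mul, mul_one, Algebra.algebraMap_eq_smul_one, smul_tmul]
      simp only [this]
      rw [← tmul_sum]
      congr 1
      apply Subtype.ext
      rw [Submodule.coe_sum]
      simp only [Submodule.coe_smul, mb]
      rw [← LinearMap.pi_apply_eq_sum_univ T m.1, hM]
    rw [h2, smul_tmul', smul_eq_mul, mul_one]

/-- version for a nil kernel (every element of the kernel nilpotent). -/
theorem exists_lift_projective' (hf : Function.Surjective (algebraMap R S))
    (hN' : ∀ x ∈ RingHom.ker (algebraMap R S), IsNilpotent x)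
    (P : Type u) [AddCommGroup P] [Module S P] [Module.Finite S P] [Module.Projective S P] :
    ∃ (M : Type u) (_ : AddCommGroup M) (_ : Module R M) (_ : Module.Finite R M)
      (_ : Module.Projective R M), Nonempty (S ⊗[R] M ≃ₗ[S] P) := by
  classical
  obtain ⟨n, p, s, hp, hs, hps⟩ := Module.Finite.exists_comp_eq_id_of_projective S P
  have hps' : ∀ q, p (s q) = q := fun q => LinearMap.congr_fun hps q
  let E : (Fin n → S) →ₗ[S] (Fin n → S) := s ∘ₗ p
  let e : Matrix (Fin n) (Fin n) S := LinearMap.toMatrix' E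
  have he : IsIdempotentElem e := by
    show e * e = e
    rw [← LinearMap.toMatrix'_comp]
    congr 1
    refine LinearMap.ext fun v => ?_
    simp [E, hps']
  let F : Matrix (Fin n) (Fin n) R →+* Matrix (Fin n) (Fin n) S := (algebraMap R S).mapMatrix
  have hker : ∀ x ∈ RingHom.ker F, IsNilpotent x := by
    intro x hx
    have hx' : ∀ i j, x i j ∈ RingHom.ker (algebraMap R S) := by
      intro i j
      have h0 : F x = 0 := hx
      have := Matrix.ext_iff.mpr h0 i j
      simpa [F] using this
    let I₀ : Ideal R := Ideal.span (Set.range fun q : Fin n × Fin n => x q.1 q.2)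
    have hfg : I₀.FG := Submodule.fg_span (Set.finite_range _)
    have hle : I₀ ≤ nilradical R := by
      rw [Ideal.span_le]
      rintro _ ⟨q, rfl⟩
      exact mem_nilradical.2 (hN' _ (hx' q.1 q.2))
    obtain ⟨k, hk⟩ := (Ideal.FG.isNilpotent_iff_le_nilradical hfg).2 hle
    refine ⟨k, ?_⟩
    ext i j
    have := pow_entry_mem I₀ x (fun i j => Ideal.subset_span ⟨(i, j), rfl⟩) k i j
    rw [hk] at this
    simpa using this
  have hrange : e ∈ F.range := by
    refine ⟨Matrix.of fun i j => Classical.choose (hf (e i j)), ?_⟩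
    ext i j
    simp [F, Classical.choose_spec (hf (e i j))]
  obtain ⟨e', he', hFe'⟩ := exists_isIdempotentElem_eq_of_ker_isNilpotent F hker e hrange he
  exact ⟨LinearMap.range (Matrix.toLin' e'), inferInstance, inferInstance, inferInstance,
    range_idem_projective e' he', baseChange_range_idem e' he' P p s hps' hFe'⟩

theorem exists_lift_projective (hf : Function.Surjective (algebraMap R S))
    (hN : IsNilpotent (RingHom.ker (algebraMap R S)))
    (P : Type u) [AddCommGroup P] [Module S P] [Module.Finite S P] [Module.Projective S P] :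
    ∃ (M : Type u) (_ : AddCommGroup M) (_ : Module R M) (_ : Module.Finite R M)
      (_ : Module.Projective R M), Nonempty (S ⊗[R] M ≃ₗ[S] P) :=
  exists_lift_projective' hf (fun _ hx => isNilpotent_of_mem_ker hN ((RingHom.mem_ker).1 hx)) P

end Groth.Agent.Lib.Helper17.NilLift
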