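import Groth.Agent.Lib.Helper17.NormPb
import Groth.Agent.Lib.Helper28.AmpleFinite
import Groth.Agent.Lib.Helper28.AmpleFamily
import Groth.Agent.Lib.Helper28.AmplePow
import Groth.Agent.Lib.Helper28.AmpleIso
import Groth.Agent.S8880
import Mathlib
set_option backward.isDefEq.respectTransparency.types false
set_option autoImplicit false
universe u
open CategoryTheory CategoryTheory.Limits AlgebraicGeometry Opposite TopologicalSpace

/-!
# Helper17 — NormAmple: ampleness descends along a finite morphism with a norm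

`π : X ⟶ Y` finite with a norm, `L` invertible on `Y`: if `π^* L` is ample then `L` is ample.
-/

namespace Groth.Agent.Lib.Helper17.NormAmple

open Groth.Agent.Lib.Helper28 Groth.Agent.Lib.Helper28.QCohLoc Groth.Agent.Lib.Helper28.GenLocus
open Groth.Agent.Lib.Helper28.PullbackInv
open Groth.Agent.Lib.Helper17

variable {X Y : Scheme.{u}} {π : X ⟶ Y} {d : ℕ}

theorem isAmple_of_isAmple_pullback [IsFinite π] (Nm : Nrm.NormOfDegree π d) (L : Y.Modules)
    (hL : PicF.IsInvertible L) (hample : CohB1.IsAmple ((Scheme.Modules.pullback π).obj L)) :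
    CohB1.IsAmple L := by
  classical
  have hsurj : Function.Surjective π := Groth.Agent.S8880.surjective_of_norm Nm
  have hMinv := hample.1
  haveI : CompactSpace X := hample.2.1
  haveI : CompactSpace Y := by
    constructor
    have h := (isCompact_univ (X := X)).image π.continuous
    rwa [Set.image_univ, hsurj.range_eq] at h
  have h1 : ∀ y : Y, ∃ (Vy : Y.Opens) (n : ℕ)
      (s : Coh.structureModule X ⟶ CohB1.tensorPow ((Scheme.Modules.pullback π).obj L) (n + 1)),
      IsAffineOpen Vy ∧ π ⁻¹' {y} ⊆ CohB1.genLocus _ s ∧ (CohB1.genLocus _ s : Set X) ⊆ π ⁻¹ᵁ Vy := by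
    intro y
    obtain ⟨_, ⟨Vy, hVy, rfl⟩, hyVy, -⟩ :=
      Y.isBasis_affineOpens.exists_subset_of_mem_open (Set.mem_univ y) isOpen_univ
    obtain ⟨n, s, hs1, hs2, -⟩ := exists_affine_genLocus_of_finite hample (π ⁻¹' {y})
      (π.finite_preimage_singleton y) (π ⁻¹ᵁ Vy) (by
        intro x hx
        change π.base x ∈ Vy
        rw [show π.base x = y from hx]
        exact hyVy)
    exact ⟨Vy, n, s, hVy, hs1, hs2⟩
  choose Vy n s hVy hs1 hs2 using h1
  have hcl : ∀ y : Y, IsClosed (π '' ((CohB1.genLocus _ (s y) : Set X)ᶜ)) :=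
    fun y => π.isClosedMap _ (CohB1.genLocus _ (s y)).isOpen.isClosed_compl
  let O : Y → Set Y := fun y => (π '' ((CohB1.genLocus _ (s y) : Set X)ᶜ))ᶜ
  have hO : ∀ y, IsOpen (O y) := fun y => (hcl y).isOpen_compl
  have hyO : ∀ y, y ∈ O y := by
    rintro y ⟨x, hx, hxy⟩
    exact hx (hs1 y hxy)
  have hOfib : ∀ y y', y' ∈ O y → π ⁻¹' {y'} ⊆ CohB1.genLocus _ (s y) := by
    intro y y' hy' x hx
    by_contra hnot
    exact hy' ⟨x, hnot, hx⟩
  obtain ⟨T, -, hT⟩ := isCompact_univ.elim_nhds_subcover O (fun y _ => (hO y).mem_nhds (hyO y))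
  let k : ℕ := ∏ y ∈ T, (n y + 1)
  have hk : ∀ y ∈ T, (n y + 1) ∣ k := fun y hy => Finset.dvd_prod_of_mem _ hy
  have hkpos : 0 < k := Finset.prod_pos (fun y _ => Nat.succ_pos _)
  have h2 : ∀ y ∈ T, ∃ s' : Coh.structureModule X ⟶ CohB1.tensorPow ((Scheme.Modules.pullback π).obj L) k,
      CohB1.genLocus _ s' = CohB1.genLocus _ (s y) := by
    intro y hy
    have hm : k = (n y + 1) * (k / (n y + 1)) := (Nat.mul_div_cancel' (hk y hy)).symm
    have hmpos : 0 < k / (n y + 1) := Nat.div_pos (Nat.le_of_dvd hkpos (hk y hy)) (Nat.succ_pos _)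
    obtain ⟨ψ, -⟩ := exists_tensorPow_tensorPow_iso hMinv (n y + 1) (k / (n y + 1)) k hm
    refine ⟨spow (s y) (k / (n y + 1)) ≫ ψ.hom, ?_⟩
    rw [AmpleUnit.genLocus_comp_iso _ ψ, genLocus_spow (isInvertible_tensorPow hMinv _) (s y) _ hmpos]
  obtain ⟨ψk, -⟩ := exists_pullback_tensorPow_iso π hL k
  have hLk : PicF.IsInvertible (CohB1.tensorPow L k) := isInvertible_tensorPow hL k
  have hP : PicF.IsInvertible (CohB1.tensorPow (CohB1.tensorPow L k) d) := isInvertible_tensorPow hLk d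
  have hPample : CohB1.IsAmple (CohB1.tensorPow (CohB1.tensorPow L k) d) := by
    refine ⟨hP, inferInstance, fun y' => ?_⟩
    obtain ⟨y, hyT, hy'⟩ : ∃ y ∈ T, y' ∈ O y := by
      have := hT (Set.mem_univ y')
      simpa using this
    obtain ⟨s', hs'⟩ := h2 y hyT
    obtain ⟨t, ht1, ht2⟩ := NormPb.exists_norm_section_pullback Nm (CohB1.tensorPow L k) hLk (s' ≫ ψk.inv)
    have hs'' : CohB1.genLocus _ (s' ≫ ψk.inv) = CohB1.genLocus _ (s y) := by
      rw [← hs']
      exact AmpleUnit.genLocus_comp_iso s' ψk.symm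
    have hy't : y' ∈ CohB1.genLocus _ t := ht1 y' (by rw [hs'']; exact hOfib y y' hy')
    have hle : CohB1.genLocus _ t ≤ Vy y := by
      intro z hz
      obtain ⟨x, rfl⟩ := hsurj z
      have hx : x ∈ CohB1.genLocus _ (s' ≫ ψk.inv) := ht2 x hz
      rw [hs''] at hx
      exact hs2 y hx
    have haff : IsAffineOpen (CohB1.genLocus _ t) := by
      have := isAffineOpen_genLocus_inf hP t (hVy y)
      rwa [inf_eq_left.2 hle] at this
    obtain ⟨τ, hτ⟩ := AmpleFamily.exists_tensorPow_one_section t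
    exact ⟨0, τ, by rw [hτ]; exact hy't, by rw [hτ]; exact haff⟩
  obtain ⟨ψ, -⟩ := exists_tensorPow_tensorPow_iso hL k d (k * d) rfl
  have hdpos : 0 < d := Nm.one_le
  exact isAmple_of_isAmple_tensorPow hL (k * d) (Nat.mul_pos hkpos hdpos)
    (AmpleIso.isAmple_of_iso ψ hPample)

end Groth.Agent.Lib.Helper17.NormAmple
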