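import Groth.Prelude.Def_Fitting
import Groth.Agent.Lib.Helper17.NormGlue
import Groth.Agent.Lib.Helper28.NormalSection
import Mathlib
set_option backward.isDefEq.respectTransparency.types false
set_option autoImplicit false
universe u
open CategoryTheory CategoryTheory.Limits AlgebraicGeometry Opposite TopologicalSpace

/-!
# Helper17 — NormInt: the norm of a finite extension of domains `A ⊆ B` with `A` integrally closed
(`B` not assumed integrally closed), and the resulting norm for a finite surjective morphism of
integral schemes onto a normal scheme.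
-/

namespace Groth.Agent.Lib.Helper17.NormInt

section Algebra

open Polynomial IntermediateField

/-- the fraction field of a finite extension of domains is finite over the base fraction field -/
theorem finiteDimensional_of_fractionRing (A B K L : Type*) [CommRing A] [CommRing B] [Field K] [Field L]
    [Algebra A B] [Algebra A K] [Algebra A L] [Algebra B L] [Algebra K L] [IsScalarTower A B L]
    [IsScalarTower A K L] [IsFractionRing B L] [Module.Finite A B] : FiniteDimensional K L := by
  have halg : Algebra.IsAlgebraic K L := isAlgebraic_of_isFractionRing A B K L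
  obtain ⟨S, hS⟩ := (Module.Finite.fg_top : (⊤ : Submodule A B).FG)
  let T : Set L := algebraMap B L '' (S : Set B)
  have hTfin : T.Finite := (S.finite_toSet).image _
  haveI : Finite T := hTfin
  have hfin : FiniteDimensional K (IntermediateField.adjoin K T) :=
    IntermediateField.finiteDimensional_adjoin (fun x _ => (halg.isAlgebraic x).isIntegral)
  have hB : ∀ b : B, algebraMap B L b ∈ IntermediateField.adjoin K T := by
    intro b
    have hb : b ∈ Submodule.span A (S : Set B) := hS ▸ Submodule.mem_top
    induction hb using Submodule.span_induction with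
    | mem x hx => exact IntermediateField.subset_adjoin K T ⟨x, hx, rfl⟩
    | zero => simp
    | add x y _ _ hx hy => rw [map_add]; exact add_mem hx hy
    | smul a x _ hx =>
      rw [Algebra.smul_def, map_mul, ← IsScalarTower.algebraMap_apply,
        IsScalarTower.algebraMap_apply A K L]
      exact mul_mem (IntermediateField.algebraMap_mem _ _) hx
  have htop : IntermediateField.adjoin K T = ⊤ := by
    rw [eq_top_iff]
    intro z _
    obtain ⟨x, y, hy, rfl⟩ := IsFractionRing.div_surjective (A := B) z
    exact div_mem (hB x) (hB y)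
  rw [htop] at hfin
  exact Module.Finite.equiv (IntermediateField.topEquiv (F := K) (E := L)).toLinearEquiv

/-- **the norm of an integral element descends to an integrally closed base, and the element
divides its norm** -/
theorem exists_norm (A B K L : Type*) [CommRing A] [IsDomain A] [IsIntegrallyClosed A] [CommRing B]
    [IsDomain B] [Field K] [Field L] [Algebra A B] [Algebra A K] [Algebra A L] [Algebra B L]
    [Algebra K L] [IsScalarTower A B L] [IsScalarTower A K L] [IsFractionRing A K]
    [Algebra.IsIntegral A B] [FiniteDimensional K L] (x : B) :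
    ∃ a : A, algebraMap A K a = Algebra.norm K (algebraMap B L x) ∧ x ∣ algebraMap A B a := by
  have hx : IsIntegral A x := Algebra.IsIntegral.isIntegral x
  set y := algebraMap B L x with hy
  have hyint : IsIntegral K y := (hx.map (IsScalarTower.toAlgHom A B L)).tower_top
  have hmin : minpoly K y = (minpoly A x).map (algebraMap A K) :=
    minpoly.isIntegrallyClosed_eq_field_fractions K L hx
  have h1 := Algebra.norm_eq_norm_adjoin K y
  have h2 := Algebra.PowerBasis.norm_gen_eq_coeff_zero_minpoly (IntermediateField.adjoin.powerBasis hyint)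
  rw [IntermediateField.adjoin.powerBasis_gen, IntermediateField.minpoly_gen, hmin, coeff_map] at h2
  set m := Module.finrank K⟮y⟯ L with hm
  have hmpos : 0 < m := Module.finrank_pos
  set n := (IntermediateField.adjoin.powerBasis hyint).dim
  refine ⟨((-1) ^ n * (minpoly A x).coeff 0) ^ m, ?_, ?_⟩
  · rw [h1, h2, map_pow, map_mul, map_pow, map_neg, map_one]
  · rw [map_pow]
    refine dvd_pow ?_ hmpos.ne'
    rw [map_mul]
    refine Dvd.dvd.mul_left ?_ _
    have h3 := minpoly.aeval A x
    rw [← Polynomial.divX_mul_X_add (minpoly A x), map_add, map_mul, aeval_X, aeval_C] at h3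
    refine ⟨-(aeval x (minpoly A x).divX), ?_⟩
    rw [mul_neg, mul_comm, eq_neg_iff_add_eq_zero, add_comm]
    exact h3

end Algebra

section Scheme

variable {X Y : Scheme.{u}} [IsIntegral X] [IsIntegral Y] (π : X ⟶ Y)

theorem map_genericPoint [Surjective π] : π.base (genericPoint X) = genericPoint Y := by
  apply ((genericPoint_spec Y).eq _).symm
  have := (genericPoint_spec X).image π.continuous
  rw [Set.image_univ, π.surjective.range_eq, closure_univ] at this
  exact this

theorem genericPoint_mem_iff (V : Y.Opens) : genericPoint Y ∈ V ↔ Nonempty V := by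
  rw [← SetLike.mem_coe, (genericPoint_spec Y).mem_open_set_iff V.isOpen]
  simp [Set.Nonempty]

variable [Surjective π]

theorem genericPoint_mem_preimage (V : Y.Opens) (h : genericPoint Y ∈ V) :
    genericPoint X ∈ π ⁻¹ᵁ V := by
  change π.base (genericPoint X) ∈ V
  rw [map_genericPoint π]
  exact h

/-- the field extension `K(Y) → K(X)` -/
noncomputable def sigma : Y.functionField →+* X.functionField :=
  (π.stalkMap (genericPoint X)).hom.comp
    (Y.presheaf.stalkSpecializes (specializes_of_eq (map_genericPoint π))).hom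

theorem sigma_germ (V : Y.Opens) (h : genericPoint Y ∈ V) (g : Γ(Y, V)) :
    sigma π (Y.presheaf.germ V (genericPoint Y) h g) =
      X.presheaf.germ (π ⁻¹ᵁ V) (genericPoint X) (genericPoint_mem_preimage π V h) (π.app V g) := by
  unfold sigma
  rw [RingHom.comp_apply]
  have h1 := Y.presheaf.germ_stalkSpecializes (U := V) h (specializes_of_eq (map_genericPoint π))
  have h4 := congrArg (fun ψ => ψ.hom g) h1
  simp only [CommRingCat.hom_comp, RingHom.comp_apply] at h4
  erw [h4]
  exact Scheme.Hom.germ_stalkMap_apply π V (genericPoint X) _ g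

/-- the norm map `K(X) → K(Y)` -/
noncomputable def N : X.functionField →* Y.functionField :=
  letI := (sigma π).toAlgebra
  Algebra.norm Y.functionField

/-- the degree -/
noncomputable def deg : ℕ :=
  letI := (sigma π).toAlgebra
  Module.finrank Y.functionField X.functionField

theorem N_sigma (a : Y.functionField) : N π (sigma π a) = a ^ deg π := by
  letI := (sigma π).toAlgebra
  exact Algebra.norm_algebraMap a

theorem package [IsFinite π] (hY : ∀ y : Y, IsIntegrallyClosed (Y.presheaf.stalk y)) (V : Y.Opens)
    (hV : IsAffineOpen V) (h : genericPoint Y ∈ V) :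
    1 ≤ deg π ∧ ∀ t : Γ(X, π ⁻¹ᵁ V), ∃ s : Γ(Y, V),
      Y.presheaf.germ V (genericPoint Y) h s =
        N π (X.presheaf.germ (π ⁻¹ᵁ V) (genericPoint X) (genericPoint_mem_preimage π V h) t) ∧
      t ∣ π.app V s := by
  haveI : Nonempty V := (genericPoint_mem_iff V).1 h
  haveI : Nonempty (π ⁻¹ᵁ V) := ⟨⟨genericPoint X, genericPoint_mem_preimage π V h⟩⟩
  letI : Algebra Γ(Y, V) Γ(X, π ⁻¹ᵁ V) := (π.app V).hom.toAlgebra
  letI : Algebra Y.functionField X.functionField := (sigma π).toAlgebra
  letI : Algebra Γ(Y, V) X.functionField :=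
    ((algebraMap Γ(X, π ⁻¹ᵁ V) X.functionField).comp (algebraMap Γ(Y, V) Γ(X, π ⁻¹ᵁ V))).toAlgebra
  haveI : IsScalarTower Γ(Y, V) Γ(X, π ⁻¹ᵁ V) X.functionField :=
    IsScalarTower.of_algebraMap_eq (fun _ => rfl)
  haveI : IsScalarTower Γ(Y, V) Y.functionField X.functionField :=
    IsScalarTower.of_algebraMap_eq (fun g => (sigma_germ π V h g).symm)
  haveI : IsFractionRing Γ(Y, V) Y.functionField := functionField_isFractionRing_of_isAffineOpen Y V hV
  haveI : IsFractionRing Γ(X, π ⁻¹ᵁ V) X.functionField :=
    functionField_isFractionRing_of_isAffineOpen X (π ⁻¹ᵁ V) (hV.preimage π)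
  haveI : IsIntegrallyClosed Γ(Y, V) :=
    Groth.Agent.Lib.Helper28.NormalSection.isIntegrallyClosed_of_isAffineOpen Y V (fun x _ => hY x) hV
  haveI : Module.Finite Γ(Y, V) Γ(X, π ⁻¹ᵁ V) := IsFinite.finite_app π V hV
  haveI : FiniteDimensional Y.functionField X.functionField :=
    finiteDimensional_of_fractionRing Γ(Y, V) Γ(X, π ⁻¹ᵁ V) Y.functionField X.functionField
  refine ⟨Module.finrank_pos, fun t => ?_⟩
  exact exists_norm Γ(Y, V) Γ(X, π ⁻¹ᵁ V) Y.functionField X.functionField t

/-- `s` is a norm of `t` -/
def IsNormOf (V : Y.Opens) (t : Γ(X, π ⁻¹ᵁ V)) (s : Γ(Y, V)) : Prop :=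
  ∀ h : genericPoint Y ∈ V, Y.presheaf.germ V (genericPoint Y) h s =
    N π (X.presheaf.germ (π ⁻¹ᵁ V) (genericPoint X) (genericPoint_mem_preimage π V h) t)

theorem subsingleton_of_not_mem (V : Y.Opens) (h : genericPoint Y ∉ V) : Subsingleton Γ(Y, V) := by
  have hV : V = ⊥ := by
    by_contra hne
    apply h
    rw [genericPoint_mem_iff]
    by_contra hemp
    apply hne
    ext y
    simp only [Opens.coe_bot, Set.mem_empty_iff_false, iff_false]
    exact fun hy => hemp ⟨⟨y, hy⟩⟩
  subst hV
  infer_instance

theorem IsNormOf.unique {V : Y.Opens} {t : Γ(X, π ⁻¹ᵁ V)} {s s' : Γ(Y, V)}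
    (hs : IsNormOf π V t s) (hs' : IsNormOf π V t s') : s = s' := by
  by_cases h : genericPoint Y ∈ V
  · exact germ_injective_of_isIntegral Y (genericPoint Y) h ((hs h).trans (hs' h).symm)
  · haveI := subsingleton_of_not_mem V h
    exact Subsingleton.elim _ _

theorem exists_isNormOf [IsFinite π] (hY : ∀ y : Y, IsIntegrallyClosed (Y.presheaf.stalk y))
    (V : Y.Opens) (hV : IsAffineOpen V) (t : Γ(X, π ⁻¹ᵁ V)) :
    ∃ s : Γ(Y, V), IsNormOf π V t s := by
  by_cases h : genericPoint Y ∈ V
  · obtain ⟨s, hs, -⟩ := (package π hY V hV h).2 t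
    exact ⟨s, fun _ => hs⟩
  · exact ⟨0, fun h' => absurd h' h⟩

/-- the local norm -/
noncomputable def nrm [IsFinite π] (hY : ∀ y : Y, IsIntegrallyClosed (Y.presheaf.stalk y))
    (V : Y.Opens) (hV : IsAffineOpen V) : Γ(X, π ⁻¹ᵁ V) →* Γ(Y, V) where
  toFun t := (exists_isNormOf π hY V hV t).choose
  map_one' := by
    apply IsNormOf.unique π (exists_isNormOf π hY V hV 1).choose_spec
    intro h
    rw [map_one, map_one, map_one]
  map_mul' a b := by
    apply IsNormOf.unique π (exists_isNormOf π hY V hV (a * b)).choose_spec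
    intro h
    rw [map_mul, map_mul, map_mul, (exists_isNormOf π hY V hV a).choose_spec h,
      (exists_isNormOf π hY V hV b).choose_spec h]

theorem nrm_spec [IsFinite π] (hY : ∀ y : Y, IsIntegrallyClosed (Y.presheaf.stalk y))
    (V : Y.Opens) (hV : IsAffineOpen V) (t : Γ(X, π ⁻¹ᵁ V)) : IsNormOf π V t (nrm π hY V hV t) :=
  (exists_isNormOf π hY V hV t).choose_spec

open Groth.Agent.Lib.Helper17.NormGlue in
noncomputable def localNormData [IsFinite π] (hY : ∀ y : Y, IsIntegrallyClosed (Y.presheaf.stalk y)) :
    LocalNormData π (deg π) where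
  good := {W | IsAffineOpen W}
  aff W hW := hW
  basic W hW f := hW.basicOpen f
  cov y := by
    obtain ⟨_, ⟨W, hW, rfl⟩, hx, -⟩ :=
      (Y.isBasis_affineOpens).exists_subset_of_mem_open (Set.mem_univ y) isOpen_univ
    exact ⟨W, hW, hx⟩
  nrm W hW := nrm π hY W hW
  compat W hW f t := by
    apply IsNormOf.unique π (nrm_spec π hY _ _ _)
    intro h
    have hW' : genericPoint Y ∈ W := Y.basicOpen_le f h
    rw [Y.presheaf.germ_res_apply, nrm_spec π hY W hW t hW']
    unfold resPre
    rw [X.presheaf.germ_res_apply]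
  nrm_app W hW g := by
    apply IsNormOf.unique π (nrm_spec π hY _ _ _)
    intro h
    rw [← sigma_germ π W h g, N_sigma, map_pow]
  nrm_mem W hW t x hx ht := by
    have h : genericPoint Y ∈ W := (genericPoint_mem_iff W).2 ⟨⟨_, hx⟩⟩
    obtain ⟨s, hs, hdvd⟩ := (package π hY W hW h).2 t
    have hs' : nrm π hY W hW t = s := IsNormOf.unique π (nrm_spec π hY _ _ _) (fun _ => hs)
    change Y.presheaf.germ W (π.base x) hx (nrm π hY W hW t) ∈ _
    rw [hs']
    obtain ⟨c, hc⟩ := hdvd
    rw [IsLocalRing.mem_maximalIdeal, mem_nonunits_iff] at ht ⊢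
    intro hu
    have h2 : IsUnit (X.presheaf.germ (π ⁻¹ᵁ W) x hx (π.app W s)) := by
      rw [← Scheme.Hom.germ_stalkMap_apply]
      exact hu.map _
    rw [hc, map_mul] at h2
    exact ht (isUnit_of_mul_isUnit_left h2)

theorem hasNorm [IsFinite π] (hY : ∀ y : Y, IsIntegrallyClosed (Y.presheaf.stalk y)) :
    Nrm.HasNorm π (deg π) := by
  obtain ⟨_, ⟨W, hW, rfl⟩, hx, -⟩ :=
    (Y.isBasis_affineOpens).exists_subset_of_mem_open (Set.mem_univ (genericPoint Y)) isOpen_univ
  exact ⟨(localNormData π hY).toNormOfDegree (package π hY W hW hx).1⟩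

end Scheme

end Groth.Agent.Lib.Helper17.NormInt
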