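import Groth.Agent.Lib.Helper17.PbDict
import Mathlib

/-!
# Base change maps sectionwise
-/

set_option backward.isDefEq.respectTransparency.types false
set_option autoImplicit false
universe u
open CategoryTheory CategoryTheory.Limits AlgebraicGeometry Opposite TopologicalSpace
noncomputable section

namespace Groth.Agent.Lib.Helper17.PbDict

open Groth.Agent.Lib.Helper28 Groth.Agent.Lib.Helper28.QCohLoc Groth.Agent.Lib.Helper28.GenLocus
open Groth.Agent.Lib.Helper28.PullbackInv Groth.Agent.Lib.Helper17.Frame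

/-- morphisms out of `φ^* ψ^* N` are determined by their values on the `pbs φ (pbs ψ n)` -/
theorem pb_pb_hom_ext {U V W : Scheme.{u}} (φ : U ⟶ V) (ψ : V ⟶ W) (N : W.Modules) {K : U.Modules}
    (a b : (Scheme.Modules.pullback φ).obj ((Scheme.Modules.pullback ψ).obj N) ⟶ K)
    (h : ∀ (O : W.Opens) (n : Γ(N, O)),
      a.app (φ ⁻¹ᵁ (ψ ⁻¹ᵁ O)) (pbs φ _ (ψ ⁻¹ᵁ O) (pbs ψ N O n)) =
        b.app (φ ⁻¹ᵁ (ψ ⁻¹ᵁ O)) (pbs φ _ (ψ ⁻¹ᵁ O) (pbs ψ N O n))) : a = b := by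
  apply ((Scheme.Modules.pullbackPushforwardAdjunction φ).homEquiv _ _).injective
  apply pb_hom_ext
  intro O n
  rw [Adjunction.homEquiv_unit, Adjunction.homEquiv_unit]
  exact h O n

section BC

variable {X Y U V : Scheme.{u}} (f : X ⟶ Y) (ξ : X ⟶ U) (η : Y ⟶ V) (φ : U ⟶ V) (h : f ≫ η = ξ ≫ φ)
  (M : Y.Modules)

include h in
theorem bc_le (O : V.Opens) : ξ ⁻¹ᵁ (φ ⁻¹ᵁ O) ≤ f ⁻¹ᵁ (η ⁻¹ᵁ O) := by
  have h' : (ξ ≫ φ) ⁻¹ᵁ O = (f ≫ η) ⁻¹ᵁ O := by rw [h]
  exact le_of_eq h'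

/-- the morphism `η_* M ⟶ φ_* ξ_* f^* M` whose adjoint is the base change map, sectionwise -/
theorem bcTheta_app (O : V.Opens) (m : Γ(M, η ⁻¹ᵁ O)) :
    ((Scheme.Modules.pushforward η).map ((Scheme.Modules.pullbackPushforwardAdjunction f).unit.app M) ≫
      (Scheme.Modules.pushforwardComp f η).hom.app ((Scheme.Modules.pullback f).obj M) ≫
      (Scheme.Modules.pushforwardCongr h).hom.app ((Scheme.Modules.pullback f).obj M) ≫
      (Scheme.Modules.pushforwardComp ξ φ).inv.app ((Scheme.Modules.pullback f).obj M)).app O m =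
    res ((Scheme.Modules.pullback f).obj M) (bc_le f ξ η φ h O) (pbs f M (η ⁻¹ᵁ O) m) := by
  rfl

end BC

end Groth.Agent.Lib.Helper17.PbDict
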