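import Mathlib

/-!
# Connected components: topological and affine lemmas for `π₀(X₀) ≃ π₀(X)`
-/

set_option autoImplicit false
universe u

open TopologicalSpace

namespace Groth.Agent.Lib.Helper17.Pi0

/-- In a Noetherian space the connected components are open. -/
theorem isOpen_connectedComponent_of_noetherianSpace {α : Type*} [TopologicalSpace α]
    [NoetherianSpace α] (x : α) : IsOpen (connectedComponent x) := by
  rw [← isClosed_compl_iff]
  have hfin : (irreducibleComponents α).Finite := NoetherianSpace.finite_irreducibleComponents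
  have h : (connectedComponent x)ᶜ =
      ⋃ Z ∈ {Z ∈ irreducibleComponents α | Disjoint Z (connectedComponent x)}, Z := by
    ext y
    simp only [Set.mem_compl_iff, Set.mem_ofPred_eq, Set.mem_iUnion, exists_prop]
    constructor
    · intro hy
      refine ⟨irreducibleComponent y, ⟨irreducibleComponent_mem_irreducibleComponents y, ?_⟩,
        mem_irreducibleComponent⟩
      rw [Set.disjoint_left]
      intro z hz hzx
      apply hy
      have hpre : _root_.IsPreconnected (irreducibleComponent y) :=
        isIrreducible_irreducibleComponent.isConnected.isPreconnected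
      have hsub := hpre.subset_connectedComponent hz
      rw [← connectedComponent_eq hzx] at hsub
      exact hsub mem_irreducibleComponent
    · rintro ⟨Z, ⟨_, hZ⟩, hyZ⟩ hy
      exact Set.disjoint_left.mp hZ hyZ hy
  rw [h]
  refine Set.Finite.isClosed_biUnion (hfin.subset fun Z hZ => hZ.1) fun Z hZ => ?_
  exact isClosed_of_mem_irreducibleComponents Z hZ.1

/-- Abstract criterion for `π₀(T) → π₀(X)` to be bijective. -/
theorem bijective_connectedComponentsMap {T X : Type*} [TopologicalSpace T] [TopologicalSpace X]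
    {j : T → X} (hj : Continuous j)
    (ha : ∀ x : X, ∃ t : T, j t ∈ connectedComponent x)
    (hb : ∀ U₀ : Set T, IsClopen U₀ → ∃ U : Set X, IsClopen U ∧ j ⁻¹' U = U₀)
    (hc : ∀ t : T, IsOpen (connectedComponent t)) :
    Function.Bijective hj.connectedComponentsMap := by
  constructor
  · intro a b hab
    obtain ⟨t₁, rfl⟩ := ConnectedComponents.surjective_coe a
    obtain ⟨t₂, rfl⟩ := ConnectedComponents.surjective_coe b
    have hab' : (ConnectedComponents.mk (j t₁)) = ConnectedComponents.mk (j t₂) := hab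
    rw [ConnectedComponents.coe_eq_coe'] at hab'
    by_contra hne
    have hne' : t₂ ∉ connectedComponent t₁ := by
      intro h
      apply hne
      exact (ConnectedComponents.coe_eq_coe'.mpr h).symm
    obtain ⟨U, hU, hUeq⟩ := hb (connectedComponent t₁) ⟨isClosed_connectedComponent, hc t₁⟩
    have h1 : j t₁ ∈ U := by
      have : t₁ ∈ j ⁻¹' U := by rw [hUeq]; exact mem_connectedComponent
      exact this
    have h2 : j t₂ ∉ U := by
      intro h
      have : t₂ ∈ j ⁻¹' U := h
      rw [hUeq] at this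
      exact hne' this
    have hsub := hU.connectedComponent_subset h1
    have h3 : j t₁ ∈ connectedComponent (j t₂) := hab'
    have h4 : j t₂ ∈ connectedComponent (j t₁) := by
      rw [← connectedComponent_eq h3]; exact mem_connectedComponent
    exact h2 (hsub h4)
  · intro c
    obtain ⟨x, rfl⟩ := ConnectedComponents.surjective_coe c
    obtain ⟨t, ht⟩ := ha x
    refine ⟨ConnectedComponents.mk t, ?_⟩
    show ConnectedComponents.mk (j t) = ConnectedComponents.mk x
    exact ConnectedComponents.coe_eq_coe'.mpr ht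

/-- Lifting clopen subsets along a closed surjection with connected fibres. -/
theorem exists_clopen_lift {T X Y : Type*} [TopologicalSpace T] [TopologicalSpace X]
    [TopologicalSpace Y] {j : T → X} (hj : Topology.IsClosedEmbedding j) {g : X → Y}
    (hg : Continuous g) (hgc : IsClosedMap g) (hfib : ∀ y, IsConnected (g ⁻¹' {y})) {Z : Set Y}
    (hZ : Set.range j = g ⁻¹' Z)
    (hlift : ∀ V₀ W₀ : Set Y, IsClosed V₀ → IsClosed W₀ → V₀ ∪ W₀ = Z → Disjoint V₀ W₀ →
      ∃ V, IsClopen V ∧ V ∩ Z = V₀)
    (U₀ : Set T) (hU₀ : IsClopen U₀) : ∃ U : Set X, IsClopen U ∧ j ⁻¹' U = U₀ := by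
  have hsurj : Function.Surjective g := fun y => by
    obtain ⟨x, hx⟩ := (hfib y).nonempty
    exact ⟨x, hx⟩
  set P := j '' U₀ with hP
  set Q := j '' U₀ᶜ with hQ
  have hPc : IsClosed P := hj.isClosedMap _ hU₀.1
  have hQc : IsClosed Q := hj.isClosedMap _ hU₀.2.isClosed_compl
  have hPQ : P ∪ Q = g ⁻¹' Z := by
    rw [← hZ, hP, hQ, ← Set.image_union, Set.union_compl_self, Set.image_univ]
  have hPQd : Disjoint P Q := by
    rw [hP, hQ]
    exact (Set.disjoint_image_iff hj.injective).mpr disjoint_compl_right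
  have hVc : IsClosed (g '' P) := hgc _ hPc
  have hWc : IsClosed (g '' Q) := hgc _ hQc
  have hun : g '' P ∪ g '' Q = Z := by
    rw [← Set.image_union, hPQ, Set.image_preimage_eq _ hsurj]
  have hdis : Disjoint (g '' P) (g '' Q) := by
    rw [Set.disjoint_left]
    rintro y ⟨p, hp, rfl⟩ ⟨q, hq, hqp⟩
    have hpre := (hfib (g p)).isPreconnected
    rw [isPreconnected_closed_iff] at hpre
    have hsub : g ⁻¹' {g p} ⊆ P ∪ Q := by
      rw [hPQ]
      intro x hx
      have hx' : g x = g p := hx
      show g x ∈ Z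
      rw [hx']
      have : p ∈ g ⁻¹' Z := by rw [← hPQ]; exact Or.inl hp
      exact this
    obtain ⟨x, _, hxP, hxQ⟩ := hpre P Q hPc hQc hsub ⟨p, rfl, hp⟩ ⟨q, hqp, hq⟩
    exact Set.disjoint_left.mp hPQd hxP hxQ
  obtain ⟨V, hV, hVZ⟩ := hlift _ _ hVc hWc hun hdis
  refine ⟨g ⁻¹' V, hV.preimage hg, ?_⟩
  ext t
  have htZ : g (j t) ∈ Z := by
    have : j t ∈ g ⁻¹' Z := by rw [← hZ]; exact ⟨t, rfl⟩
    exact this
  constructor
  · intro ht
    have h1 : g (j t) ∈ V ∩ Z := ⟨ht, htZ⟩
    rw [hVZ] at h1
    by_contra hnot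
    have h2 : g (j t) ∈ g '' Q := ⟨j t, ⟨t, hnot, rfl⟩, rfl⟩
    exact Set.disjoint_left.mp hdis h1 h2
  · intro ht
    have h1 : g (j t) ∈ g '' P := ⟨j t, ⟨t, ht, rfl⟩, rfl⟩
    rw [← hVZ] at h1
    exact h1.1

open Polynomial in
/-- Idempotents lift modulo a henselian ideal. -/
theorem exists_idempotent_lift {B : Type*} [CommRing B] (J : Ideal B) [HenselianRing B J] (b : B)
    (hb : b * b - b ∈ J) : ∃ e : B, IsIdempotentElem e ∧ e - b ∈ J := by
  have hmonic : (X ^ 2 - X : B[X]).Monic := by
    by_cases hn : Nontrivial B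
    · exact monic_X_pow_sub (by rw [degree_X]; norm_num)
    · rw [not_nontrivial_iff_subsingleton] at hn
      exact Subsingleton.elim _ _
  have heval : (X ^ 2 - X : B[X]).eval b ∈ J := by
    simp only [eval_sub, eval_pow, eval_X]
    rw [pow_two]; exact hb
  have hder : IsUnit (Ideal.Quotient.mk J ((X ^ 2 - X : B[X]).derivative.eval b)) := by
    have h1 : (X ^ 2 - X : B[X]).derivative.eval b = 2 * b - 1 := by
      simp
      ring
    rw [h1]
    have h2 : Ideal.Quotient.mk J (2 * b - 1) * Ideal.Quotient.mk J (2 * b - 1) = 1 := by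
      rw [← map_mul, ← map_one (Ideal.Quotient.mk J), Ideal.Quotient.eq]
      have : (2 * b - 1) * (2 * b - 1) - 1 = 4 * (b * b - b) := by ring
      rw [this]
      exact J.mul_mem_left _ hb
    exact IsUnit.of_mul_eq_one _ h2
  obtain ⟨e, he, hee⟩ := HenselianRing.is_henselian (X ^ 2 - X : B[X]) hmonic b heval hder
  refine ⟨e, ?_, hee⟩
  have : e ^ 2 - e = 0 := by
    have := he
    simp only [IsRoot.def, eval_sub, eval_pow, eval_X] at this
    exact this
  show e * e = e
  rw [← pow_two]
  exact sub_eq_zero.mp this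

/-- Relatively clopen subsets of `V(J)` lift to clopen subsets of `Spec B` when `(B, J)` is
henselian. -/
theorem exists_clopen_primeSpectrum {B : Type*} [CommRing B] (J : Ideal B) [HenselianRing B J]
    (V₀ W₀ : Set (PrimeSpectrum B)) (hV : IsClosed V₀) (hW : IsClosed W₀)
    (hu : V₀ ∪ W₀ = PrimeSpectrum.zeroLocus (J : Set B)) (hd : Disjoint V₀ W₀) :
    ∃ V : Set (PrimeSpectrum B), IsClopen V ∧ V ∩ PrimeSpectrum.zeroLocus (J : Set B) = V₀ := by
  set q := Ideal.Quotient.mk J with hq
  have hqs : Function.Surjective q := Ideal.Quotient.mk_surjective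
  set c := PrimeSpectrum.comap q with hc
  have hcc : Continuous c := PrimeSpectrum.continuous_comap q
  have hrange : Set.range c = PrimeSpectrum.zeroLocus (J : Set B) := by
    rw [hc, _root_.range_comap_of_surjective _ _ hqs, Ideal.mk_ker]
  have hSc : IsClopen (c ⁻¹' V₀) := by
    refine ⟨hV.preimage hcc, ?_⟩
    have : c ⁻¹' V₀ = (c ⁻¹' W₀)ᶜ := by
      ext p
      have hp : c p ∈ V₀ ∪ W₀ := by rw [hu, ← hrange]; exact ⟨p, rfl⟩
      simp only [Set.mem_preimage, Set.mem_compl_iff]
      constructor
      · intro h1 h2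
        exact Set.disjoint_left.mp hd h1 h2
      · intro h1
        rcases hp with h | h
        · exact h
        · exact absurd h h1
    rw [this]
    exact (hW.preimage hcc).isOpen_compl
  obtain ⟨ebar, hebar, hS⟩ := PrimeSpectrum.exists_idempotent_basicOpen_eq_of_isClopen hSc
  obtain ⟨b, rfl⟩ := hqs ebar
  have hb : b * b - b ∈ J := by
    rw [← Ideal.Quotient.eq, map_mul]
    exact hebar
  obtain ⟨e, he, hee⟩ := exists_idempotent_lift J b hb
  have hqe : q e = q b := Ideal.Quotient.eq.mpr hee
  refine ⟨(PrimeSpectrum.basicOpen e : Set (PrimeSpectrum B)),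
    PrimeSpectrum.isClopen_basicOpen_of_mul_add e (1 - e) ?_ (by ring), ?_⟩
  · rw [mul_sub, mul_one, he.eq, sub_self]
  · ext p
    constructor
    · rintro ⟨hp1, hp2⟩
      rw [← hrange] at hp2
      obtain ⟨p', rfl⟩ := hp2
      have : p' ∈ c ⁻¹' V₀ := by
        rw [hS]
        show q b ∉ p'.asIdeal
        rw [← hqe]
        exact hp1
      exact this
    · intro hp
      have hpZ : p ∈ PrimeSpectrum.zeroLocus (J : Set B) := by rw [← hu]; exact Or.inl hp
      refine ⟨?_, hpZ⟩
      rw [← hrange] at hpZ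
      obtain ⟨p', rfl⟩ := hpZ
      have h1 : p' ∈ c ⁻¹' V₀ := hp
      rw [hS] at h1
      show q e ∉ p'.asIdeal
      rw [hqe]
      exact h1

end Groth.Agent.Lib.Helper17.Pi0
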