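import Groth.Agent.Lib.Helper17.Pi0A
import Groth.Agent.Lib.Helper21.ZarConn7
import Groth.Agent.Lib.lead.ComplFin
import Mathlib

/-!
# `π₀(X₀) ≃ π₀(X)` for `X` proper over a complete Noetherian ring
-/

set_option autoImplicit false
set_option backward.isDefEq.respectTransparency.types false
universe u
open CategoryTheory CategoryTheory.Limits AlgebraicGeometry TopologicalSpace

namespace Groth.Agent.Lib.Helper17.Pi0

theorem range_specMap_mk {A : Type u} [CommRing A] (I : Ideal A) :
    Set.range (Spec.map (CommRingCat.ofHom (Ideal.Quotient.mk I))) =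
      PrimeSpectrum.zeroLocus (I : Set A) := by
  have := _root_.range_comap_of_surjective _ (Ideal.Quotient.mk I) Ideal.Quotient.mk_surjective
  rw [Ideal.mk_ker] at this
  exact this

theorem preimage_specMap_zeroLocus {A B : Type u} [CommRing A] [CommRing B] (ψ : A →+* B)
    (I : Ideal A) :
    (Spec.map (CommRingCat.ofHom ψ)) ⁻¹' (PrimeSpectrum.zeroLocus (I : Set A)) =
      PrimeSpectrum.zeroLocus ((I.map ψ : Ideal B) : Set B) := by
  have := PrimeSpectrum.preimage_comap_zeroLocus ψ (I : Set A)
  rw [Ideal.map, PrimeSpectrum.zeroLocus_span]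
  exact this

/-- Every connected component of `X` meets the closed fibre. -/
theorem exists_mem_connectedComponent (A : Type u) [CommRing A] (I : Ideal A)
    (hI : I ≤ Ideal.jacobson ⊥) {X : Scheme.{u}}
    (f : X ⟶ Spec (CommRingCat.of A)) [IsProper f] (x : X) :
    ∃ x' ∈ connectedComponent x, f x' ∈ PrimeSpectrum.zeroLocus (I : Set A) := by
  have hcl : IsClosed (f '' connectedComponent x) := f.isClosedMap _ isClosed_connectedComponent
  set y : PrimeSpectrum A := f x with hy
  obtain ⟨m, hm, hym⟩ := Ideal.exists_le_maximal y.asIdeal y.2.ne_top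
  set pm : PrimeSpectrum A := ⟨m, hm.isPrime⟩ with hpm
  have hspec : y ⤳ pm := (PrimeSpectrum.le_iff_specializes y pm).mp hym
  have hmem : pm ∈ f '' connectedComponent x :=
    hspec.mem_closed hcl ⟨x, mem_connectedComponent, rfl⟩
  obtain ⟨x', hx', hfx'⟩ := hmem
  refine ⟨x', hx', ?_⟩
  rw [hfx']
  intro a ha
  have : a ∈ Ideal.jacobson (⊥ : Ideal A) := hI ha
  rw [Ideal.jacobson, Ideal.mem_sInf] at this
  exact this ⟨bot_le, hm⟩

/-- `π₀(X₀) → π₀(X)` is bijective for `X` proper over an `I`-adically complete Noetherian ring. -/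
theorem bijective_pi0 (A : Type u) [CommRing A] [IsNoetherianRing A] (I : Ideal A)
    [IsAdicComplete I A] {X : Scheme.{u}} (f : X ⟶ Spec (CommRingCat.of A)) [IsProper f] :
    Function.Bijective (Continuous.connectedComponentsMap
        (pullback.fst f (Spec.map (CommRingCat.ofHom (Ideal.Quotient.mk I)))).continuous) := by
  set ι := Spec.map (CommRingCat.ofHom (Ideal.Quotient.mk I)) with hι
  haveI : IsClosedImmersion ι :=
    IsClosedImmersion.spec_of_surjective _ Ideal.Quotient.mk_surjective
  set j := pullback.fst f ι with hjdef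
  haveI : IsClosedImmersion j := inferInstance
  have hjce : Topology.IsClosedEmbedding j := j.isClosedEmbedding
  have hrange : Set.range j = f ⁻¹' PrimeSpectrum.zeroLocus (I : Set A) := by
    rw [hjdef, Scheme.Pullback.range_fst, hι, range_specMap_mk]
  -- `X₀` is Noetherian
  haveI : IsNoetherianRing (A ⧸ I) := inferInstance
  haveI : IsLocallyNoetherian (Spec (CommRingCat.of (A ⧸ I))) := inferInstance
  haveI : IsNoetherian (pullback f ι) :=
    { toIsLocallyNoetherian := LocallyOfFiniteType.isLocallyNoetherian (pullback.snd f ι)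
      toCompactSpace := QuasiCompact.compactSpace_of_compactSpace (pullback.snd f ι) }
  haveI : NoetherianSpace ↥(pullback f ι) := inferInstance
  refine bijective_connectedComponentsMap _ ?_ ?_
    (fun t => isOpen_connectedComponent_of_noetherianSpace t)
  · intro x
    obtain ⟨x', hx', hfx'⟩ :=
      exists_mem_connectedComponent A I (IsAdicComplete.le_jacobson_bot I) f x
    have : x' ∈ Set.range j := by rw [hrange]; exact hfx'
    obtain ⟨t, rfl⟩ := this
    exact ⟨t, hx'⟩
  · -- clopen lifting via Stein factorisation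
    haveI : IsLocallyNoetherian (Spec (CommRingCat.of A)) := inferInstance
    set Y := f.normalization with hY
    set g := f.toNormalization with hg
    set h := f.fromNormalization with hh
    have hgh : g ≫ h = f := f.toNormalization_fromNormalization
    haveI : IsFinite h := Groth.Agent.Lib.Helper21.ProperGamma.isFinite_fromNormalization f
    haveI : IsAffine Y := isAffine_of_isAffineHom h
    haveI : IsProper g := Groth.Agent.Lib.Helper21.ZarConn.isProper_toNormalization f
    set ψc : CommRingCat.of A ⟶ Γ(Y, ⊤) :=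
      (Scheme.ΓSpecIso (CommRingCat.of A)).inv ≫ h.appTop with hψc
    have hfin : ψc.hom.Finite := by
      have h1 : h.appTop.hom.Finite :=
        ((HasAffineProperty.iff_of_isAffine (P := @IsFinite)).mp ‹IsFinite h›).2
      rw [hψc, CommRingCat.hom_comp]
      refine RingHom.Finite.comp h1 (RingHom.Finite.of_surjective _ ?_)
      exact (ConcreteCategory.bijective_of_isIso (Scheme.ΓSpecIso (CommRingCat.of A)).inv).2
    set ψ : A →+* Γ(Y, ⊤) := ψc.hom with hψ
    letI : Algebra A Γ(Y, ⊤) := ψ.toAlgebra
    haveI : Module.Finite A Γ(Y, ⊤) := hfin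
    haveI hcompl : IsAdicComplete I Γ(Y, ⊤) :=
      Groth.Agent.Lib.Lead.ComplFin.isAdicComplete_of_finite I Γ(Y, ⊤)
    haveI hcompl' : IsAdicComplete (I.map ψ) Γ(Y, ⊤) :=
      (IsAdicComplete.map_algebraMap_iff (R := A) (S := Γ(Y, ⊤)) (M := Γ(Y, ⊤)) (I := I)).mpr hcompl
    haveI : HenselianRing Γ(Y, ⊤) (I.map ψ) := inferInstance
    set g' : X ⟶ Spec Γ(Y, ⊤) := g ≫ Y.isoSpec.hom with hg'
    have hfg' : g' ≫ Spec.map ψc = f := by
      rw [hg', hψc, Spec.map_comp, Category.assoc, Scheme.isoSpec_hom_naturality_assoc,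
        Scheme.isoSpec_Spec_hom, ← Spec.map_comp, Iso.inv_hom_id, Spec.map_id, Category.comp_id, hgh]
    have hfib : ∀ y : ↥(Spec Γ(Y, ⊤)), _root_.IsConnected (g' ⁻¹' {y}) := by
      intro y
      have h1 := Groth.Agent.Lib.Helper21.ZarConn.isConnected_toNormalization_preimage f
        (Y.isoSpec.inv y)
      have h2 : g' ⁻¹' {y} = g ⁻¹' {Y.isoSpec.inv y} := by
        ext x
        simp only [Set.mem_preimage, Set.mem_singleton_iff, hg', Scheme.Hom.comp_apply]
        constructor
        · intro hx
          rw [← hx, Scheme.hom_inv_apply]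
        · intro hx
          rw [hx, Scheme.inv_hom_apply]
      rw [h2]
      exact h1
    have hZ : Set.range j = g' ⁻¹' PrimeSpectrum.zeroLocus ((I.map ψ : Ideal Γ(Y, ⊤)) : Set Γ(Y, ⊤)) := by
      rw [hrange, ← hfg']
      have := preimage_specMap_zeroLocus ψ I
      rw [← this]
      rfl
    intro U₀ hU₀
    exact exists_clopen_lift hjce g'.continuous g'.isClosedMap hfib hZ
      (fun V₀ W₀ hV hW hu hd => exists_clopen_primeSpectrum (I.map ψ) V₀ W₀ hV hW hu hd) U₀ hU₀

end Groth.Agent.Lib.Helper17.Pi0
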