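import Groth.Agent.Lib.Helper17.PicLiftB
import Groth.Agent.Lib.Helper28.TensorPowGen
import Mathlib
set_option backward.isDefEq.respectTransparency.types false
set_option autoImplicit false
set_option linter.style.haveILetI false
set_option linter.unusedSectionVars false

/-!
# The Picard group of a scheme and `H¹(X, O_X^×)`
-/

universe u
open CategoryTheory CategoryTheory.Limits AlgebraicGeometry Opposite TopologicalSpace Abelian

noncomputable section
namespace Groth.Agent.Lib.Helper17.PicH1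

open Groth.Agent.Lib.Helper6 Groth.Agent.Lib.Helper17.H1Coc Groth.Agent.Lib.Helper17.PicLift
open Groth.Agent.Lib.Helper28 Groth.Agent.Lib.Helper28.QCohLoc Groth.Agent.Lib.Helper28.GenLocus
open Groth.Agent.Lib.Helper17 Groth.Agent.Lib.Helper28.TensorGen Groth.Agent.Lib.Helper28.InvTensor

variable {X : Scheme.{u}}

/-- a unit as a section of `O_X^×` -/
def ofUX {V : X.Opens} (v : (Γ(X, V))ˣ) : (UnitsSh.unitsAb X).obj.obj (op V) :=
  UnitsSh.sectOfUnit (O := X.presheaf) (U := op V) v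

theorem toUX_ofUX {V : X.Opens} (v : (Γ(X, V))ˣ) : toUX (ofUX v) = v := rfl

theorem ofUX_toUX {V : X.Opens} (s : (UnitsSh.unitsAb X).obj.obj (op V)) : ofUX (toUX s) = s := rfl

theorem toUX_injective {V : X.Opens} : Function.Injective (toUX (X := X) (V := V)) := fun _ _ h => h

theorem toUX_sub {V : X.Opens} (s t : (UnitsSh.unitsAb X).obj.obj (op V)) :
    toUX (s - t) = toUX s * (toUX t)⁻¹ := div_eq_mul_inv _ _

/-- trivialisation data of a module -/
structure TD (L : X.Modules) where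
  W : X → X.Opens
  e : ∀ a, Γ(L, W a)
  mem : ∀ x, x ∈ W x
  isGen : ∀ a, IsGen L (W a) (e a)
  u : ∀ a b, (Γ(X, W a ⊓ W b))ˣ
  hu : ∀ a b, res L (inf_le_left : W a ⊓ W b ≤ W a) (e a) =
    ((u a b).val • res L (inf_le_right : W a ⊓ W b ≤ W b) (e b) : Γ(L, W a ⊓ W b))

theorem nonempty_TD (L : X.Modules) (hL : PicF.IsInvertible L) : Nonempty (TD L) := by
  choose W e hxW he using exists_isGen L hL
  have hu : ∀ a b : X, ∃ u : (Γ(X, W a ⊓ W b))ˣ,
      res L (inf_le_left : W a ⊓ W b ≤ W a) (e a) =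
        (u.val • res L (inf_le_right : W a ⊓ W b ≤ W b) (e b) : Γ(L, W a ⊓ W b)) :=
    fun a b => exists_unit_of_isGen ((he a).res _) ((he b).res _)
  choose u hu using hu
  exact ⟨⟨W, e, hxW, he, u, hu⟩⟩

variable {L : X.Modules}

/-- the unit cocycle of trivialisation data -/
def TD.η (D : TD L) : Coch (UnitsSh.unitsAb X) D.W := fun a b => ofUX (D.u a b)

theorem TD.cov (D : TD L) : ∀ x : X, ∃ a, x ∈ D.W a := fun x => ⟨x, D.mem x⟩

theorem TD.isCoc (D : TD L) : IsCoc D.η := by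
  apply isCoc_of_sections
  intro a b c
  apply toUX_injective
  apply Units.ext
  rw [toUX_add, Units.val_mul, toUX_rs_val, toUX_rs_val, toUX_rs_val]
  have hc3 : D.W a ⊓ D.W b ⊓ D.W c ≤ D.W c := inf_le_right
  apply ((D.isGen c) _ hc3).1
  have r1 := res_rel (L := L) _ _ (inf_le_left : D.W a ⊓ D.W b ⊓ D.W c ≤ D.W a ⊓ D.W b) _ _ _ (D.hu a b)
  have r2 := res_rel (L := L) _ _
    (inf_le_inf_right (D.W c) inf_le_right : D.W a ⊓ D.W b ⊓ D.W c ≤ D.W b ⊓ D.W c) _ _ _ (D.hu b c)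
  have r3 := res_rel (L := L) _ _
    (inf_le_inf_right (D.W c) inf_le_left : D.W a ⊓ D.W b ⊓ D.W c ≤ D.W a ⊓ D.W c) _ _ _ (D.hu a c)
  show ((_ * _) • res L hc3 (D.e c) : Γ(L, _)) = (_ • res L hc3 (D.e c) : Γ(L, _))
  rw [mul_smul]
  exact (congrArg _ r2.symm).trans (r1.symm.trans r3)

/-- restriction of units -/
def resU {V V' : X.Opens} (h : V' ≤ V) (v : (Γ(X, V))ˣ) : (Γ(X, V'))ˣ :=
  Units.map (X.presheaf.map (homOfLE h).op).hom.toMonoidHom v

theorem resU_val {V V' : X.Opens} (h : V' ≤ V) (v : (Γ(X, V))ˣ) : (resU h v).val = resO h v.val := rfl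

theorem ofUX_resU {V V' : X.Opens} (h : V' ≤ V) (v : (Γ(X, V))ˣ) :
    ofUX (resU h v) = rs (UnitsSh.unitsAb X) h (ofUX v) := rfl

/-- restriction of trivialisation data to a finer cover -/
def TD.restrict (D : TD L) (V : X → X.Opens) (hV : ∀ x, V x ≤ D.W x) (hm : ∀ x, x ∈ V x) : TD L where
  W := V
  e := fun a => res L (hV a) (D.e a)
  mem := hm
  isGen := fun a => (D.isGen a).res (hV a)
  u := fun a b => resU (inf_le_inf (hV a) (hV b)) (D.u a b)
  hu := fun a b => by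
    rw [res_res, res_res, resU_val]
    exact res_rel (L := L) _ _ (inf_le_inf (hV a) (hV b)) _ _ _ (D.hu a b)

theorem TD.restrict_η (D : TD L) (V : X → X.Opens) (hV : ∀ x, V x ≤ D.W x) (hm : ∀ x, x ∈ V x) :
    (D.restrict V hV hm).η = fun a b => rs (UnitsSh.unitsAb X) (inf_le_inf (hV a) (hV b)) (D.η a b) := rfl

theorem TD.rep_restrict (D : TD L) (V : X → X.Opens) (hV : ∀ x, V x ≤ D.W x) (hm : ∀ x, x ∈ V x)
    {c : Sheaf.H (UnitsSh.unitsAb X) 1} (h : Rep D.η c) : Rep (D.restrict V hV hm).η c := by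
  rw [TD.restrict_η]
  exact h.refine V id hV

/-- trivialisation data on a refinement, unpacked -/
theorem TD.exists_on_refinement (D : TD L) (V : X → X.Opens) (hV : ∀ x, V x ≤ D.W x)
    (hm : ∀ x, x ∈ V x) {c : Sheaf.H (UnitsSh.unitsAb X) 1} (h : Rep D.η c) :
    ∃ (e : ∀ a, Γ(L, V a)) (_ : ∀ a, IsGen L (V a) (e a)) (u : ∀ a b, (Γ(X, V a ⊓ V b))ˣ)
      (_ : ∀ a b, res L (inf_le_left : V a ⊓ V b ≤ V a) (e a) =
        ((u a b).val • res L (inf_le_right : V a ⊓ V b ≤ V b) (e b) : Γ(L, V a ⊓ V b))),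
      Rep (G := UnitsSh.unitsAb X) (U := V) (fun a b => ofUX (u a b)) c :=
  ⟨(D.restrict V hV hm).e, (D.restrict V hV hm).isGen, (D.restrict V hV hm).u,
    (D.restrict V hV hm).hu, D.rep_restrict V hV hm h⟩

/-- transport of trivialisation data along an isomorphism -/
def TD.ofIso {L' : X.Modules} (D : TD L) (ψ : L ≅ L') : TD L' where
  W := D.W
  e := fun a => ψ.hom.app (D.W a) (D.e a)
  mem := D.mem
  isGen := fun a => Groth.Agent.Lib.Helper28.VeryAmpleImm.isGen_app_iso ψ (D.isGen a)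
  u := D.u
  hu := fun a b => by
    rw [← app_res, ← app_res, D.hu a b, Scheme.Modules.Hom.app_smul]

theorem TD.ofIso_η {L' : X.Modules} (D : TD L) (ψ : L ≅ L') : (D.ofIso ψ).η = D.η := rfl


section General

variable {T : TopCat.{u}} {G : CohTop.Ab T} {ι : Type u} {V : ι → Opens T}

theorem gm_of_sections (g g' : Coch G V) (b : ∀ a, G.obj.obj (op (V a)))
    (h : ∀ a a', g' a a' + rs G (inf_le_right : V a ⊓ V a' ≤ V a') (b a') =
      g a a' + rs G (inf_le_left : V a ⊓ V a' ≤ V a) (b a))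
    (a a' : ι) (x : T) (ha : x ∈ V a) (ha' : x ∈ V a') :
    gm G (V a ⊓ V a') x ⟨ha, ha'⟩ (g' a a') =
      gm G (V a ⊓ V a') x ⟨ha, ha'⟩ (g a a') + gm G (V a) x ha (b a) - gm G (V a') x ha' (b a') := by
  have h2 := congrArg (gm G (V a ⊓ V a') x ⟨ha, ha'⟩) (h a a')
  rw [gm_add, gm_add, gm_rs, gm_rs] at h2
  rw [← h2]
  abel

theorem sections_of_gm (g g' : Coch G V) (b : ∀ a, G.obj.obj (op (V a)))
    (h : ∀ (a a' : ι) (x : T) (ha : x ∈ V a) (ha' : x ∈ V a'),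
      gm G (V a ⊓ V a') x ⟨ha, ha'⟩ (g a a') - gm G (V a ⊓ V a') x ⟨ha, ha'⟩ (g' a a') =
        gm G (V a) x ha (b a) - gm G (V a') x ha' (b a')) (a a' : ι) :
    g a a' + rs G (inf_le_right : V a ⊓ V a' ≤ V a') (b a') =
      g' a a' + rs G (inf_le_left : V a ⊓ V a' ≤ V a) (b a) := by
  apply eq_of_gm_eq
  intro x hx
  rw [gm_add, gm_add, gm_rs, gm_rs]
  have := h a a' x hx.1 hx.2
  rw [sub_eq_sub_iff_add_eq_add] at this
  exact this.trans (add_comm _ _)

end General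

section Compare

variable (V : X → X.Opens)

/-- two systems of generators on the same cover give cohomologous unit cochains -/
theorem exists_units_of_two_gens {L : X.Modules} (e e' : ∀ a, Γ(L, V a))
    (he : ∀ a, IsGen L (V a) (e a)) (he' : ∀ a, IsGen L (V a) (e' a))
    (u u' : ∀ a b, (Γ(X, V a ⊓ V b))ˣ)
    (hu : ∀ a b, res L (inf_le_left : V a ⊓ V b ≤ V a) (e a) =
      ((u a b).val • res L (inf_le_right : V a ⊓ V b ≤ V b) (e b) : Γ(L, V a ⊓ V b)))
    (hu' : ∀ a b, res L (inf_le_left : V a ⊓ V b ≤ V a) (e' a) =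
      ((u' a b).val • res L (inf_le_right : V a ⊓ V b ≤ V b) (e' b) : Γ(L, V a ⊓ V b))) :
    ∃ β : ∀ a, (Γ(X, V a))ˣ, ∀ a b,
      (u a b).val * resO (inf_le_right : V a ⊓ V b ≤ V b) (β b).val =
        (u' a b).val * resO (inf_le_left : V a ⊓ V b ≤ V a) (β a).val := by
  have hβ : ∀ a, ∃ β : (Γ(X, V a))ˣ, e a = (β.val • e' a : Γ(L, V a)) :=
    fun a => exists_unit_of_isGen (he a) (he' a)
  choose β hβ using hβ
  refine ⟨β, fun a b => ?_⟩
  apply ((he' b) _ (inf_le_right : V a ⊓ V b ≤ V b)).1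
  show ((_ * _) • res L _ (e' b) : Γ(L, V a ⊓ V b)) = ((_ * _) • res L _ (e' b) : Γ(L, V a ⊓ V b))
  have h1 := hu a b
  rw [hβ a, hβ b, res_smul, res_smul, hu' a b, ← mul_smul, ← mul_smul] at h1
  rw [← h1, mul_comm]

end Compare

/-- `c` is the class of the module `L` -/
def IsCls (L : X.Modules) (c : Sheaf.H (UnitsSh.unitsAb X) 1) : Prop := ∃ D : TD L, Rep D.η c

theorem exists_isCls (L : X.Modules) (hL : PicF.IsInvertible L) : ∃ c, IsCls L c := by
  obtain ⟨D⟩ := nonempty_TD L hL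
  obtain ⟨c, hc⟩ := exists_rep D.cov D.η D.isCoc
  exact ⟨c, D, hc⟩

theorem IsCls.unique {c c' : Sheaf.H (UnitsSh.unitsAb X) 1} (h : IsCls L c) (h' : IsCls L c') :
    c = c' := by
  obtain ⟨D, hD⟩ := h
  obtain ⟨D', hD'⟩ := h'
  let V : X → X.Opens := fun x => D.W x ⊓ D'.W x
  have hm : ∀ x, x ∈ V x := fun x => ⟨D.mem x, D'.mem x⟩
  let D₁ := D.restrict V (fun _ => inf_le_left) hm
  let D₂ := D'.restrict V (fun _ => inf_le_right) hm
  have h₁ : Rep D₁.η c := D.rep_restrict V _ hm hD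
  have h₂ : Rep D₂.η c' := D'.rep_restrict V _ hm hD'
  obtain ⟨β, hβ⟩ := exists_units_of_two_gens V D₁.e D₂.e D₁.isGen D₂.isGen D₁.u D₂.u D₁.hu D₂.hu
  have h₃ : Rep D₁.η c' := by
    refine h₂.of_coboundary (fun a => ofUX (β a)) (gm_of_sections D₂.η D₁.η _ (fun a a' => ?_))
    apply toUX_injective
    apply Units.ext
    rw [toUX_add, toUX_add, Units.val_mul, Units.val_mul, toUX_rs_val, toUX_rs_val]
    exact hβ a a'
  exact Rep.unique D₁.cov h₁ h₃

theorem IsCls.of_iso {L' : X.Modules} {c : Sheaf.H (UnitsSh.unitsAb X) 1} (ψ : L ≅ L')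
    (h : IsCls L c) : IsCls L' c := by
  obtain ⟨D, hD⟩ := h
  exact ⟨D.ofIso ψ, hD⟩


/-- modules with the same class are isomorphic -/
theorem IsCls.iso_of_eq {L' : X.Modules} {c : Sheaf.H (UnitsSh.unitsAb X) 1} (h : IsCls L c)
    (h' : IsCls L' c) : Nonempty (L ≅ L') := by
  obtain ⟨D, hD⟩ := h
  obtain ⟨D', hD'⟩ := h'
  let V : X → X.Opens := fun x => D.W x ⊓ D'.W x
  have hm : ∀ x, x ∈ V x := fun x => ⟨D.mem x, D'.mem x⟩
  obtain ⟨e₁, he₁, u₁, hu₁, h₁⟩ := D.exists_on_refinement V (fun _ => inf_le_left) hm hD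
  obtain ⟨e₂, he₂, u₂, hu₂, h₂⟩ := D'.exists_on_refinement V (fun _ => inf_le_right) hm hD'
  obtain ⟨b, hb⟩ := exists_coboundary_of_rep h₁ h₂
  have hsec := sections_of_gm _ _ b hb
  have hval : ∀ a a' : X, (u₁ a a').val * resO (inf_le_right : V a ⊓ V a' ≤ V a') (toUX (b a')).val =
      (u₂ a a').val * resO (inf_le_left : V a ⊓ V a' ≤ V a) (toUX (b a)).val := by
    intro a a'
    have := congrArg (fun s => (toUX s).val) (hsec a a')
    exact this
  let e₂' : ∀ a : X, Γ(L', V a) := fun a => ((toUX (b a)).val • e₂ a : Γ(L', V a))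
  have he₂' : ∀ a, IsGen L' (V a) (e₂' a) := fun a =>
    InvDescLoc.IsGen.smul_unit (he₂ a) _ (toUX (b a)).isUnit
  have hcoc : ∀ a a' : X, ∃ c : Γ(X, V a ⊓ V a'),
      res L inf_le_left (e₁ a) = (c • res L inf_le_right (e₁ a') : Γ(L, V a ⊓ V a')) ∧
      res L' inf_le_left (e₂' a) = (c • res L' inf_le_right (e₂' a') : Γ(L', V a ⊓ V a')) := by
    intro a a'
    refine ⟨(u₁ a a').val, hu₁ a a', ?_⟩
    change res L' _ ((toUX (b a)).val • e₂ a : Γ(L', V a)) =
      (_ • res L' _ ((toUX (b a')).val • e₂ a' : Γ(L', V a')) : Γ(L', V a ⊓ V a'))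
    rw [res_smul, res_smul, hu₂ a a', ← mul_smul, ← mul_smul, hval a a', mul_comm]
  obtain ⟨ψ, -⟩ := exists_iso_of_cocycle_gen (fun a : X => V a) e₁ e₂' he₁ he₂'
    (fun z => ⟨z, hm z⟩) hcoc
  exact ⟨ψ⟩

/-- every class is the class of an invertible module -/
theorem exists_isCls_of_class (c : Sheaf.H (UnitsSh.unitsAb X) 1) :
    ∃ L : X.Modules, PicF.IsInvertible L ∧ IsCls L c := by
  obtain ⟨V, r, hV, hyV, g, hg, hrep⟩ := exists_rep_refinement c (fun _ : X => (⊤ : Opens X))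
    (fun x => ⟨x, trivial⟩)
  let D : TD (Lof g) :=
    { W := V
      e := genOf hg
      mem := hyV
      isGen := isGen_genOf hg
      u := fun a b => toUX (g a b)
      hu := fun a b => genOf_rel hg a b }
  exact ⟨Lof g, isInvertible_Lof hg hyV, D, hrep⟩

/-- the class of a tensor product is the sum of the classes -/
theorem IsCls.tensor {L' : X.Modules} {c c' : Sheaf.H (UnitsSh.unitsAb X) 1} (h : IsCls L c)
    (h' : IsCls L' c') : IsCls (CohB1.tensorMod L L') (c + c') := by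
  obtain ⟨D, hD⟩ := h
  obtain ⟨D', hD'⟩ := h'
  let V : X → X.Opens := fun x => D.W x ⊓ D'.W x
  have hm : ∀ x, x ∈ V x := fun x => ⟨D.mem x, D'.mem x⟩
  obtain ⟨e₁, he₁, u₁, hu₁, h₁⟩ := D.exists_on_refinement V (fun _ => inf_le_left) hm hD
  obtain ⟨e₂, he₂, u₂, hu₂, h₂⟩ := D'.exists_on_refinement V (fun _ => inf_le_right) hm hD'
  let DT : TD (CohB1.tensorMod L L') :=
    { W := V
      e := fun a => tmulSec L L' (e₁ a) (e₂ a)
      mem := hm
      isGen := fun a => isGen_tmulSec L L' (he₁ a) (he₂ a)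
      u := fun a b => u₁ a b * u₂ a b
      hu := fun a b => by
        rw [tmulSec_res, tmulSec_res, hu₁ a b, hu₂ a b, tmulSec_smul_left, tmulSec_smul_right,
          ← mul_smul, Units.val_mul] }
  exact ⟨DT, h₁.add h₂⟩


section Equiv

/-- the class in `H¹` attached to an element of the Picard set -/
def Rel (a : PicLoc.PicSet X) (x : Sheaf.H (UnitsSh.unitsAb X) 1) : Prop :=
  ∃ (L : X.Modules) (hL : PicF.IsInvertible L), a = PicGrp.cls L hL ∧ IsCls L x

theorem exists_rel (a : PicLoc.PicSet X) : ∃ x, Rel a x := by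
  obtain ⟨L, hL, rfl⟩ := PicGrp.exists_eq_cls a
  obtain ⟨x, hx⟩ := exists_isCls L hL
  exact ⟨x, L, hL, rfl, hx⟩

theorem Rel.unique {a : PicLoc.PicSet X} {x x' : Sheaf.H (UnitsSh.unitsAb X) 1} (h : Rel a x)
    (h' : Rel a x') : x = x' := by
  obtain ⟨L, hL, rfl, hx⟩ := h
  obtain ⟨L', hL', heq, hx'⟩ := h'
  obtain ⟨ψ⟩ := (PicGrp.cls_eq_cls_iff hL hL').1 heq
  exact (hx.of_iso ψ).unique hx'

/-- the map `Pic(X) → H¹(X, O_X^×)` -/
def Φ (a : PicLoc.PicSet X) : Sheaf.H (UnitsSh.unitsAb X) 1 := (exists_rel a).choose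

theorem Φ_spec (a : PicLoc.PicSet X) : Rel a (Φ a) := (exists_rel a).choose_spec

theorem Φ_cls (L : X.Modules) (hL : PicF.IsInvertible L) : IsCls L (Φ (PicGrp.cls L hL)) := by
  obtain ⟨L', hL', heq, hx⟩ := Φ_spec (PicGrp.cls L hL)
  obtain ⟨ψ⟩ := (PicGrp.cls_eq_cls_iff hL hL').1 heq
  exact hx.of_iso ψ.symm

theorem Φ_injective : Function.Injective (Φ (X := X)) := by
  intro a b hab
  obtain ⟨L, hL, rfl, hx⟩ := Φ_spec a
  obtain ⟨M, hM, rfl, hy⟩ := Φ_spec b
  rw [hab] at hx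
  exact (PicGrp.cls_eq_cls_iff hL hM).2 (hx.iso_of_eq hy)

theorem Φ_surjective : Function.Surjective (Φ (X := X)) := by
  intro c
  obtain ⟨L, hL, hc⟩ := exists_isCls_of_class c
  exact ⟨PicGrp.cls L hL, (Φ_cls L hL).unique hc⟩

variable [PicGrp.Law X]

theorem Φ_mul (a b : PicLoc.PicSet X) : Φ (a * b) = Φ a + Φ b := by
  obtain ⟨L, hL, rfl⟩ := PicGrp.exists_eq_cls a
  obtain ⟨M, hM, rfl⟩ := PicGrp.exists_eq_cls b
  have hLM : PicF.IsInvertible (CohB1.tensorMod L M) := isInvertible_tensorMod hL hM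
  have h1 : PicGrp.cls L hL * PicGrp.cls M hM = PicGrp.cls (CohB1.tensorMod L M) hLM :=
    Subtype.ext (PicGrp.cls_mul_cls_val hL hM)
  rw [h1]
  exact (Φ_cls _ hLM).unique ((Φ_cls L hL).tensor (Φ_cls M hM))

variable (X) in
/-- **`Pic(X) ≅ H¹(X, O_X^×)`** -/
def picEquiv : Additive (PicLoc.PicSet X) ≃+ Sheaf.H (UnitsSh.unitsAb X) 1 :=
  AddEquiv.ofBijective
    (AddMonoidHom.mk' (fun a => Φ (Additive.toMul a)) (fun a b => Φ_mul (Additive.toMul a) (Additive.toMul b)))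
    ⟨fun a b h => Additive.toMul.injective (Φ_injective h),
      fun c => by
        obtain ⟨a, ha⟩ := Φ_surjective c
        exact ⟨Additive.ofMul a, ha⟩⟩

theorem picEquiv_apply (a : PicLoc.PicSet X) : picEquiv X (Additive.ofMul a) = Φ a := rfl

end Equiv

end Groth.Agent.Lib.Helper17.PicH1
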