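import Groth.Agent.Lib.Helper17.PicH1
import Mathlib
set_option backward.isDefEq.respectTransparency.types false
set_option autoImplicit false
set_option linter.style.haveILetI false
set_option linter.unusedSectionVars false

/-!
# Classes of invertible modules on `Z` in `H¹(X, i_* O_Z^×)` for a morphism `i : Z ⟶ X`
-/

universe u
open CategoryTheory CategoryTheory.Limits AlgebraicGeometry Opposite TopologicalSpace Abelian

noncomputable section
namespace Groth.Agent.Lib.Helper17.PicLift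

open Groth.Agent.Lib.Helper6 Groth.Agent.Lib.Helper17.H1Coc Groth.Agent.Lib.Helper17.PicH1
open Groth.Agent.Lib.Helper28 Groth.Agent.Lib.Helper28.QCohLoc Groth.Agent.Lib.Helper28.GenLocus
open Groth.Agent.Lib.Helper17 Groth.Agent.Lib.Helper28.TensorGen Groth.Agent.Lib.Helper28.InvTensor
open Groth.Agent.Lib.Helper28.PullbackInv

variable {Z X : Scheme.{u}} {i : Z ⟶ X} {L₀ : Z.Modules}

theorem TrivData.cov (D : TrivData i L₀) : ∀ x : X, ∃ a, x ∈ D.W a := fun x => ⟨x, D.mem x⟩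

/-- restriction of units of `Z` over preimages -/
def resUZ (i : Z ⟶ X) {V V' : X.Opens} (h : V' ≤ V) (v : (Γ(Z, i ⁻¹ᵁ V))ˣ) : (Γ(Z, i ⁻¹ᵁ V'))ˣ :=
  Units.map (Z.presheaf.map (homOfLE (i.preimage_mono h)).op).hom.toMonoidHom v

theorem resUZ_val {V V' : X.Opens} (h : V' ≤ V) (v : (Γ(Z, i ⁻¹ᵁ V))ˣ) :
    (resUZ i h v).val = resO (i.preimage_mono h) v.val := rfl

/-- restriction of trivialisation data to a finer cover -/
def TrivData.restrict (D : TrivData i L₀) (V : X → X.Opens) (hV : ∀ x, V x ≤ D.W x)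
    (hm : ∀ x, x ∈ V x) : TrivData i L₀ where
  W := V
  e := fun a => res L₀ (i.preimage_mono (hV a)) (D.e a)
  mem := hm
  isGen := fun a => (D.isGen a).res (i.preimage_mono (hV a))
  u := fun a b => resUZ i (inf_le_inf (hV a) (hV b)) (D.u a b)
  hu := fun a b => by
    rw [res_res, res_res, resUZ_val]
    exact res_rel (L := L₀) _ _ (i.preimage_mono (inf_le_inf (hV a) (hV b))) _ _ _ (D.hu a b)

theorem TrivData.restrict_η (D : TrivData i L₀) (V : X → X.Opens) (hV : ∀ x, V x ≤ D.W x)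
    (hm : ∀ x, x ∈ V x) :
    (D.restrict V hV hm).η = fun a b => rs (PU i) (inf_le_inf (hV a) (hV b)) (D.η a b) := rfl

theorem TrivData.rep_restrict (D : TrivData i L₀) (V : X → X.Opens) (hV : ∀ x, V x ≤ D.W x)
    (hm : ∀ x, x ∈ V x) {c : Sheaf.H (PU i) 1} (h : Rep D.η c) : Rep (D.restrict V hV hm).η c := by
  rw [TrivData.restrict_η]
  exact h.refine V id hV

/-- trivialisation data on a refinement, unpacked -/
theorem TrivData.exists_on_refinement (D : TrivData i L₀) (V : X → X.Opens) (hV : ∀ x, V x ≤ D.W x)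
    (hm : ∀ x, x ∈ V x) {c : Sheaf.H (PU i) 1} (h : Rep D.η c) :
    ∃ (e : ∀ a, Γ(L₀, i ⁻¹ᵁ V a)) (_ : ∀ a, IsGen L₀ (i ⁻¹ᵁ V a) (e a))
      (u : ∀ a b, (Γ(Z, i ⁻¹ᵁ (V a ⊓ V b)))ˣ)
      (_ : ∀ a b, res L₀ (i.preimage_mono (inf_le_left : V a ⊓ V b ≤ V a)) (e a) =
        ((u a b).val • res L₀ (i.preimage_mono (inf_le_right : V a ⊓ V b ≤ V b)) (e b) :
          Γ(L₀, i ⁻¹ᵁ (V a ⊓ V b)))),
      Rep (G := PU i) (U := V) (fun a b => ofU (u a b)) c :=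
  ⟨(D.restrict V hV hm).e, (D.restrict V hV hm).isGen, (D.restrict V hV hm).u,
    (D.restrict V hV hm).hu, D.rep_restrict V hV hm h⟩

/-- transport of trivialisation data along an isomorphism -/
def TrivData.ofIso {L₀' : Z.Modules} (D : TrivData i L₀) (ψ : L₀ ≅ L₀') : TrivData i L₀' where
  W := D.W
  e := fun a => ψ.hom.app (i ⁻¹ᵁ D.W a) (D.e a)
  mem := D.mem
  isGen := fun a => Groth.Agent.Lib.Helper28.VeryAmpleImm.isGen_app_iso ψ (D.isGen a)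
  u := D.u
  hu := fun a b => by
    rw [← app_res, ← app_res, D.hu a b, Scheme.Modules.Hom.app_smul]

theorem TrivData.ofIso_η {L₀' : Z.Modules} (D : TrivData i L₀) (ψ : L₀ ≅ L₀') :
    (D.ofIso ψ).η = D.η := rfl

section Compare

variable (V : X → X.Opens)

/-- two systems of generators on the same cover give cohomologous unit cochains -/
theorem exists_units_of_two_gensI (e e' : ∀ a, Γ(L₀, i ⁻¹ᵁ V a))
    (he : ∀ a, IsGen L₀ (i ⁻¹ᵁ V a) (e a)) (he' : ∀ a, IsGen L₀ (i ⁻¹ᵁ V a) (e' a))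
    (u u' : ∀ a b, (Γ(Z, i ⁻¹ᵁ (V a ⊓ V b)))ˣ)
    (hu : ∀ a b, res L₀ (i.preimage_mono (inf_le_left : V a ⊓ V b ≤ V a)) (e a) =
      ((u a b).val • res L₀ (i.preimage_mono (inf_le_right : V a ⊓ V b ≤ V b)) (e b) :
        Γ(L₀, i ⁻¹ᵁ (V a ⊓ V b))))
    (hu' : ∀ a b, res L₀ (i.preimage_mono (inf_le_left : V a ⊓ V b ≤ V a)) (e' a) =
      ((u' a b).val • res L₀ (i.preimage_mono (inf_le_right : V a ⊓ V b ≤ V b)) (e' b) :
        Γ(L₀, i ⁻¹ᵁ (V a ⊓ V b)))) :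
    ∃ β : ∀ a, (Γ(Z, i ⁻¹ᵁ V a))ˣ, ∀ a b,
      (u a b).val * resO (i.preimage_mono (inf_le_right : V a ⊓ V b ≤ V b)) (β b).val =
        (u' a b).val * resO (i.preimage_mono (inf_le_left : V a ⊓ V b ≤ V a)) (β a).val := by
  have hβ : ∀ a, ∃ β : (Γ(Z, i ⁻¹ᵁ V a))ˣ, e a = (β.val • e' a : Γ(L₀, i ⁻¹ᵁ V a)) :=
    fun a => exists_unit_of_isGen (he a) (he' a)
  choose β hβ using hβ
  refine ⟨β, fun a b => ?_⟩
  apply ((he' b) _ (i.preimage_mono (inf_le_right : V a ⊓ V b ≤ V b))).1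
  show ((_ * _) • res L₀ _ (e' b) : Γ(L₀, i ⁻¹ᵁ (V a ⊓ V b))) =
    ((_ * _) • res L₀ _ (e' b) : Γ(L₀, i ⁻¹ᵁ (V a ⊓ V b)))
  have h1 := hu a b
  rw [hβ a, hβ b, res_smul, res_smul, hu' a b, ← mul_smul, ← mul_smul] at h1
  rw [← h1, mul_comm]

end Compare

/-- `c ∈ H¹(X, i_* O_Z^×)` is the class of the module `L₀` on `Z` -/
def IsClsI (i : Z ⟶ X) (L₀ : Z.Modules) (c : Sheaf.H (PU i) 1) : Prop :=
  ∃ D : TrivData i L₀, Rep D.η c

theorem exists_isClsI [IsClosedImmersion i] (L₀ : Z.Modules) (hL₀ : PicF.IsInvertible L₀) :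
    ∃ c, IsClsI i L₀ c := by
  obtain ⟨D⟩ := nonempty_trivData i L₀ hL₀
  obtain ⟨c, hc⟩ := exists_rep (TrivData.cov D) D.η D.isCoc
  exact ⟨c, D, hc⟩

theorem IsClsI.unique {c c' : Sheaf.H (PU i) 1} (h : IsClsI i L₀ c) (h' : IsClsI i L₀ c') :
    c = c' := by
  obtain ⟨D, hD⟩ := h
  obtain ⟨D', hD'⟩ := h'
  let V : X → X.Opens := fun x => D.W x ⊓ D'.W x
  have hm : ∀ x, x ∈ V x := fun x => ⟨D.mem x, D'.mem x⟩
  obtain ⟨e₁, he₁, u₁, hu₁, h₁⟩ := D.exists_on_refinement V (fun _ => inf_le_left) hm hD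
  obtain ⟨e₂, he₂, u₂, hu₂, h₂⟩ := D'.exists_on_refinement V (fun _ => inf_le_right) hm hD'
  obtain ⟨β, hβ⟩ := exists_units_of_two_gensI V e₁ e₂ he₁ he₂ u₁ u₂ hu₁ hu₂
  have h₃ : Rep (G := PU i) (U := V) (fun a b => ofU (u₁ a b)) c' := by
    refine h₂.of_coboundary (fun a => ofU (β a)) (gm_of_sections _ _ _ (fun a a' => ?_))
    apply toU_injective
    apply Units.ext
    rw [toU_add, toU_add, Units.val_mul, Units.val_mul, toU_rs_val, toU_rs_val]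
    exact hβ a a'
  exact Rep.unique (fun x => ⟨x, hm x⟩) h₁ h₃

theorem IsClsI.of_iso {L₀' : Z.Modules} {c : Sheaf.H (PU i) 1} (ψ : L₀ ≅ L₀')
    (h : IsClsI i L₀ c) : IsClsI i L₀' c := by
  obtain ⟨D, hD⟩ := h
  exact ⟨D.ofIso ψ, hD⟩


/-- modules with the same class are isomorphic -/
theorem IsClsI.iso_of_eq {L₀' : Z.Modules} {c : Sheaf.H (PU i) 1} (h : IsClsI i L₀ c)
    (h' : IsClsI i L₀' c) : Nonempty (L₀ ≅ L₀') := by
  obtain ⟨D, hD⟩ := h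
  obtain ⟨D', hD'⟩ := h'
  let V : X → X.Opens := fun x => D.W x ⊓ D'.W x
  have hm : ∀ x, x ∈ V x := fun x => ⟨D.mem x, D'.mem x⟩
  obtain ⟨e₁, he₁, u₁, hu₁, h₁⟩ := D.exists_on_refinement V (fun _ => inf_le_left) hm hD
  obtain ⟨e₂, he₂, u₂, hu₂, h₂⟩ := D'.exists_on_refinement V (fun _ => inf_le_right) hm hD'
  obtain ⟨b, hb⟩ := exists_coboundary_of_rep h₁ h₂
  have hsec := sections_of_gm _ _ b hb
  have hval : ∀ a a' : X,
      (u₁ a a').val * resO (i.preimage_mono (inf_le_right : V a ⊓ V a' ≤ V a')) (toU (b a')).val =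
        (u₂ a a').val * resO (i.preimage_mono (inf_le_left : V a ⊓ V a' ≤ V a)) (toU (b a)).val := by
    intro a a'
    have := congrArg (fun s => (toU s).val) (hsec a a')
    exact this
  let e₂' : ∀ a : X, Γ(L₀', i ⁻¹ᵁ V a) := fun a => ((toU (b a)).val • e₂ a : Γ(L₀', i ⁻¹ᵁ V a))
  have he₂' : ∀ a, IsGen L₀' (i ⁻¹ᵁ V a) (e₂' a) := fun a =>
    InvDescLoc.IsGen.smul_unit (he₂ a) _ (toU (b a)).isUnit
  have hcoc : ∀ a a' : X, ∃ c : Γ(Z, i ⁻¹ᵁ V a ⊓ i ⁻¹ᵁ V a'),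
      res L₀ inf_le_left (e₁ a) = (c • res L₀ inf_le_right (e₁ a') : Γ(L₀, i ⁻¹ᵁ V a ⊓ i ⁻¹ᵁ V a')) ∧
      res L₀' inf_le_left (e₂' a) =
        (c • res L₀' inf_le_right (e₂' a') : Γ(L₀', i ⁻¹ᵁ V a ⊓ i ⁻¹ᵁ V a')) := by
    intro a a'
    refine ⟨(u₁ a a').val, hu₁ a a', ?_⟩
    have key : res L₀' (i.preimage_mono (inf_le_left : V a ⊓ V a' ≤ V a))
        ((toU (b a)).val • e₂ a : Γ(L₀', i ⁻¹ᵁ V a)) =
      ((u₁ a a').val • res L₀' (i.preimage_mono (inf_le_right : V a ⊓ V a' ≤ V a'))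
        ((toU (b a')).val • e₂ a' : Γ(L₀', i ⁻¹ᵁ V a')) : Γ(L₀', i ⁻¹ᵁ (V a ⊓ V a'))) := by
      rw [res_smul, res_smul, hu₂ a a', ← mul_smul, ← mul_smul, hval a a', mul_comm]
    exact key
  obtain ⟨ψ, -⟩ := exists_iso_of_cocycle_gen (fun a : X => i ⁻¹ᵁ V a) e₁ e₂' he₁ he₂'
    (fun z => ⟨i.base z, hm (i.base z)⟩) hcoc
  exact ⟨ψ⟩

/-- the class of a tensor product is the sum of the classes -/
theorem IsClsI.tensor {L₀' : Z.Modules} {c c' : Sheaf.H (PU i) 1} (h : IsClsI i L₀ c)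
    (h' : IsClsI i L₀' c') : IsClsI i (CohB1.tensorMod L₀ L₀') (c + c') := by
  obtain ⟨D, hD⟩ := h
  obtain ⟨D', hD'⟩ := h'
  let V : X → X.Opens := fun x => D.W x ⊓ D'.W x
  have hm : ∀ x, x ∈ V x := fun x => ⟨D.mem x, D'.mem x⟩
  obtain ⟨e₁, he₁, u₁, hu₁, h₁⟩ := D.exists_on_refinement V (fun _ => inf_le_left) hm hD
  obtain ⟨e₂, he₂, u₂, hu₂, h₂⟩ := D'.exists_on_refinement V (fun _ => inf_le_right) hm hD'
  let DT : TrivData i (CohB1.tensorMod L₀ L₀') :=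
    { W := V
      e := fun a => tmulSec L₀ L₀' (e₁ a) (e₂ a)
      mem := hm
      isGen := fun a => isGen_tmulSec L₀ L₀' (he₁ a) (he₂ a)
      u := fun a b => u₁ a b * u₂ a b
      hu := fun a b => by
        rw [tmulSec_res, tmulSec_res, hu₁ a b, hu₂ a b, tmulSec_smul_left, tmulSec_smul_right,
          ← mul_smul, Units.val_mul] }
  exact ⟨DT, h₁.add h₂⟩

section Pull

variable {L : X.Modules} (i)

/-- units of `X` map to units of `Z` -/
def mapU {V : X.Opens} (v : (Γ(X, V))ˣ) : (Γ(Z, i ⁻¹ᵁ V))ˣ := Units.map (i.app V).hom.toMonoidHom v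

/-- the pullback of trivialisation data -/
def _root_.Groth.Agent.Lib.Helper17.PicH1.TD.pull (D : TD L) : TrivData i ((Scheme.Modules.pullback i).obj L) where
  W := D.W
  e := fun a => pbs i L (D.W a) (D.e a)
  mem := D.mem
  isGen := fun a => isGen_pbs (f := i) (D.isGen a)
  u := fun a b => mapU i (D.u a b)
  hu := fun a b => by
    have h2 := congrArg (pbs i L (D.W a ⊓ D.W b)) (D.hu a b)
    rw [pbs_smul, pbs_res, pbs_res] at h2
    exact h2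

theorem _root_.Groth.Agent.Lib.Helper17.PicH1.TD.pull_η (D : TD L) :
    (D.pull i).η = fun a b => (UnitsSh.comap i).hom.app (op (D.W a ⊓ D.W b)) (D.η a b) := rfl

/-- the class of the pullback of `L` is the image of the class of `L` -/
theorem _root_.Groth.Agent.Lib.Helper17.PicH1.IsCls.pull {c : Sheaf.H (UnitsSh.unitsAb X) 1} (h : IsCls L c) :
    IsClsI i ((Scheme.Modules.pullback i).obj L) (Sheaf.H.map (UnitsSh.comap i) 1 c) := by
  obtain ⟨D, hD⟩ := h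
  refine ⟨D.pull i, ?_⟩
  rw [TD.pull_η]
  exact hD.map (UnitsSh.comap i)

end Pull


section Psi

variable (i) [IsClosedImmersion i]

/-- the class in `H¹(X, i_* O_Z^×)` attached to an element of the Picard set of `Z` -/
def RelI (a : PicLoc.PicSet Z) (x : Sheaf.H (PU i) 1) : Prop :=
  ∃ (L : Z.Modules) (hL : PicF.IsInvertible L), a = PicGrp.cls L hL ∧ IsClsI i L x

theorem exists_relI (a : PicLoc.PicSet Z) : ∃ x, RelI i a x := by
  obtain ⟨L, hL, rfl⟩ := PicGrp.exists_eq_cls a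
  obtain ⟨x, hx⟩ := exists_isClsI (i := i) L hL
  exact ⟨x, L, hL, rfl, hx⟩

/-- the map `Pic(Z) → H¹(X, i_* O_Z^×)` -/
def Ψ (a : PicLoc.PicSet Z) : Sheaf.H (PU i) 1 := (exists_relI i a).choose

theorem Ψ_spec (a : PicLoc.PicSet Z) : RelI i a (Ψ i a) := (exists_relI i a).choose_spec

theorem Ψ_cls (L : Z.Modules) (hL : PicF.IsInvertible L) : IsClsI i L (Ψ i (PicGrp.cls L hL)) := by
  obtain ⟨L', hL', heq, hx⟩ := Ψ_spec i (PicGrp.cls L hL)
  obtain ⟨ψ⟩ := (PicGrp.cls_eq_cls_iff hL hL').1 heq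
  exact hx.of_iso ψ.symm

theorem Ψ_injective : Function.Injective (Ψ i) := by
  intro a b hab
  obtain ⟨L, hL, rfl, hx⟩ := Ψ_spec i a
  obtain ⟨M, hM, rfl, hy⟩ := Ψ_spec i b
  rw [hab] at hx
  exact (PicGrp.cls_eq_cls_iff hL hM).2 (hx.iso_of_eq hy)

theorem Ψ_mul [PicGrp.Law Z] (a b : PicLoc.PicSet Z) : Ψ i (a * b) = Ψ i a + Ψ i b := by
  obtain ⟨L, hL, rfl⟩ := PicGrp.exists_eq_cls a
  obtain ⟨M, hM, rfl⟩ := PicGrp.exists_eq_cls b
  have hLM : PicF.IsInvertible (CohB1.tensorMod L M) := isInvertible_tensorMod hL hM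
  have h1 : PicGrp.cls L hL * PicGrp.cls M hM = PicGrp.cls (CohB1.tensorMod L M) hLM :=
    Subtype.ext (PicGrp.cls_mul_cls_val hL hM)
  rw [h1]
  exact (Ψ_cls i _ hLM).unique ((Ψ_cls i L hL).tensor (Ψ_cls i M hM))

theorem Ψ_one [PicGrp.Law Z] : Ψ i (1 : PicLoc.PicSet Z) = 0 := by
  have h := Ψ_mul i (1 : PicLoc.PicSet Z) 1
  rw [mul_one] at h
  exact left_eq_add.1 h

/-- compatibility with pullback -/
theorem Ψ_pull (L : X.Modules) (hL : PicF.IsInvertible L)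
    (hL' : PicF.IsInvertible ((Scheme.Modules.pullback i).obj L)) :
    Ψ i (PicGrp.cls ((Scheme.Modules.pullback i).obj L) hL') =
      Sheaf.H.map (UnitsSh.comap i) 1 (Φ (PicGrp.cls L hL)) :=
  (Ψ_cls i _ hL').unique ((Φ_cls L hL).pull i)

end Psi

end Groth.Agent.Lib.Helper17.PicLift
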