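import Groth.Agent.Lib.Helper17.UBase
import Groth.Agent.Lib.Helper17.AdicFlatD
import Groth.Agent.Lib.Helper6.CohTopClosed
import Groth.Agent.Lib.Helper17.GV6
import Mathlib
set_option backward.isDefEq.respectTransparency.types false
set_option autoImplicit false
set_option linter.style.haveILetI false
set_option linter.unusedSectionVars false

universe u
open CategoryTheory CategoryTheory.Limits AlgebraicGeometry Opposite TopologicalSpace Abelian

noncomputable section
namespace Groth.Agent.Lib.Helper17.UStep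

open Groth.Agent.Lib.Helper17.AdicFlat Groth.Agent.Lib.Helper17.USES
open Groth.Agent.Lib.Helper17.Tow Groth.Agent.Lib.Helper21.ThickDict

variable {X Y Z : Scheme.{u}}

theorem comap_comp (t : Z ⟶ Y) (i : Y ⟶ X) :
    UnitsSh.comap (t ≫ i) = UnitsSh.comap i ≫ (Coh.pushAb i).map (UnitsSh.comap t) := by
  apply Sheaf.hom_ext
  ext U x
  rfl


section KerSES

variable {𝒜 : Type*} [Category 𝒜] [Abelian 𝒜] {B C D : 𝒜} (g : B ⟶ C) (h : C ⟶ D)

/-- `ker g ⟶ ker (g ≫ h)` -/
def kerA : kernel g ⟶ kernel (g ≫ h) :=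
  kernel.lift (g ≫ h) (kernel.ι g) (by rw [← Category.assoc, kernel.condition, zero_comp])

/-- `ker (g ≫ h) ⟶ ker h` -/
def kerB : kernel (g ≫ h) ⟶ kernel h :=
  kernel.lift h (kernel.ι (g ≫ h) ≫ g) (by rw [Category.assoc, kernel.condition])

@[reassoc] theorem kerA_ι : kerA g h ≫ kernel.ι (g ≫ h) = kernel.ι g := kernel.lift_ι _ _ _

@[reassoc] theorem kerB_ι : kerB g h ≫ kernel.ι h = kernel.ι (g ≫ h) ≫ g := kernel.lift_ι _ _ _

theorem kerA_kerB : kerA g h ≫ kerB g h = 0 := by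
  rw [← cancel_mono (kernel.ι h), Category.assoc, kerB_ι, kerA_ι_assoc, kernel.condition, zero_comp]

instance : Mono (kerA g h) := mono_of_mono_fac (kerA_ι g h)

theorem epi_kerB [Epi g] : Epi (kerB g h) := by
  have hp : (pullback.fst g (kernel.ι h)) ≫ g ≫ h = 0 := by
    rw [← Category.assoc, pullback.condition, Category.assoc, kernel.condition, comp_zero]
  let z : pullback g (kernel.ι h) ⟶ kernel (g ≫ h) := kernel.lift (g ≫ h) (pullback.fst _ _) hp
  have hz : z ≫ kerB g h = pullback.snd g (kernel.ι h) := by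
    rw [← cancel_mono (kernel.ι h), Category.assoc, kerB_ι, ← Category.assoc, kernel.lift_ι,
      pullback.condition]
  haveI : Epi (pullback.snd g (kernel.ι h)) := Abelian.epi_pullback_of_epi_f g (kernel.ι h)
  exact epi_of_epi_fac hz

/-- `0 ⟶ ker g ⟶ ker (g ≫ h) ⟶ ker h ⟶ 0` for an epimorphism `g` -/
theorem kerSES [Epi g] : (ShortComplex.mk (kerA g h) (kerB g h) (kerA_kerB g h)).ShortExact := by
  haveI := epi_kerB g h
  refine ShortComplex.ShortExact.mk' ?_ inferInstance (epi_kerB g h)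
  apply ShortComplex.exact_of_f_is_kernel
  refine KernelFork.IsLimit.ofι _ _ (fun {T} x hx => kernel.lift g (x ≫ kernel.ι (g ≫ h)) ?_) ?_ ?_
  · have := congrArg (fun φ => φ ≫ kernel.ι h) hx
    simp only [Category.assoc, kerB_ι, zero_comp] at this
    rw [Category.assoc]
    exact this
  · intro T x hx
    rw [← cancel_mono (kernel.ι (g ≫ h)), Category.assoc, kerA_ι, kernel.lift_ι]
  · intro T x hx m hm
    rw [← cancel_mono (kernel.ι g), kernel.lift_ι, ← hm, Category.assoc, kerA_ι]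

end KerSES


section Transfer

open Groth.Agent.Lib.Helper2 Groth.Agent.Lib.Helper6

variable {X₁ X' : Scheme.{u}} (i : X₁ ⟶ X') [IsClosedImmersion i]

theorem acyc (G : Sheaf (Opens.grothendieckTopology X₁) AddCommGrpCat.{u}) : Bridge2.Acyc i G :=
  CohTopClosed.acyc_push_of_isClosedEmbedding i.base i.isClosedEmbedding G

/-- `H^p(X', i_* G) ≃+ H^p(X₁, G)` for a closed immersion -/
def pushEquiv (G : Sheaf (Opens.grothendieckTopology X₁) AddCommGrpCat.{u}) (p : ℕ) :
    Sheaf.H ((Coh.pushAb i).obj G) p ≃+ Sheaf.H G p :=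
  Bridge2.edgeEquiv i G (acyc i G) p

theorem pushEquiv_natural {G G' : Sheaf (Opens.grothendieckTopology X₁) AddCommGrpCat.{u}}
    (g : G ⟶ G') (p : ℕ) (y : Sheaf.H ((Coh.pushAb i).obj G) p) :
    pushEquiv i G' p (Sheaf.H.map ((Coh.pushAb i).map g) p y) =
      Sheaf.H.map g p (pushEquiv i G p y) :=
  Bridge2.edge_naturality i g p y

theorem surjective_push {G G' : Sheaf (Opens.grothendieckTopology X₁) AddCommGrpCat.{u}}
    (g : G ⟶ G') (p : ℕ) (h : Function.Surjective (Sheaf.H.map g p)) :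
    Function.Surjective (Sheaf.H.map ((Coh.pushAb i).map g) p) := by
  intro y
  obtain ⟨x, hx⟩ := h (pushEquiv i G' p y)
  refine ⟨(pushEquiv i G p).symm x, ?_⟩
  apply (pushEquiv i G' p).injective
  rw [pushEquiv_natural, AddEquiv.apply_symm_apply, hx]

theorem subsingleton_push (G : Sheaf (Opens.grothendieckTopology X₁) AddCommGrpCat.{u}) (p : ℕ)
    (h : Subsingleton (Sheaf.H G p)) : Subsingleton (Sheaf.H ((Coh.pushAb i).obj G) p) :=
  (pushEquiv i G p).toEquiv.subsingleton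

theorem subsingleton_H_of_iso {T : TopCat.{u}} {F G : CohTop.Ab T} (e : F ≅ G) (p : ℕ)
    (h : Subsingleton (Sheaf.H F p)) : Subsingleton (Sheaf.H G p) := by
  refine ⟨fun x y => ?_⟩
  have key : ∀ z : Sheaf.H G p, z = Sheaf.H.map e.hom p (Sheaf.H.map e.inv p z) := by
    intro z
    rw [← Sheaf.H.map_comp_apply, e.inv_hom_id, Sheaf.H.map_id_apply]
  rw [key x, key y, h.elim (Sheaf.H.map e.inv p x) (Sheaf.H.map e.inv p y)]

/-- `H^p` of the kernel of a pushed-forward map -/
theorem subsingleton_H_kernel_push {G G' : Sheaf (Opens.grothendieckTopology X₁) AddCommGrpCat.{u}}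
    (g : G ⟶ G') (p : ℕ) (h : Subsingleton (Sheaf.H (kernel g) p)) :
    Subsingleton (Sheaf.H (kernel ((Coh.pushAb i).map g)) p) :=
  subsingleton_H_of_iso (PreservesKernel.iso (Coh.pushAb i) g) p (subsingleton_push i _ p h)

end Transfer

section Nil

theorem isUnit_of_isUnit_map_nil {R S : Type*} [CommRing R] [CommRing S] (φ : R →+* S)
    (hs : Function.Surjective φ) (hn : ∀ a, φ a = 0 → IsNilpotent a) (r : R)
    (hr : IsUnit (φ r)) : IsUnit r := by
  obtain ⟨v, hv⟩ := hr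
  obtain ⟨s, hs'⟩ := hs (↑v⁻¹)
  have h0 : φ (r * s - 1) = 0 := by
    rw [map_sub, map_mul, ← hv, hs', Units.mul_inv, map_one, sub_self]
  have hnil := hn _ h0
  have h1 : IsUnit (r * s) := by
    have := hnil.isUnit_add_one
    simpa using this
  exact isUnit_of_mul_isUnit_left h1

variable (t : Z ⟶ Y)

/-- the kernel of `t` on affine opens consists of nilpotents -/
def NilK : Prop := ∀ (U : Y.affineOpens) (r : Γ(Y, U.1)), (t.app U.1).hom r = 0 → IsNilpotent r

variable {t}

theorem epi_comap_of_nilK [IsClosedImmersion t] (h : NilK t) : Epi (UnitsSh.comap t) := by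
  refine (TopCat.Sheaf.isLocallySurjective_iff_epi _).1 ?_
  rw [TopCat.Presheaf.isLocallySurjective_iff]
  intro U v x hx
  obtain ⟨_, ⟨V, hVa, rfl⟩, hxV, hVU⟩ := Y.isBasis_affineOpens.exists_subset_of_mem_open hx U.2
  refine ⟨V, hVU, ?_, hxV⟩
  generalize TopCat.Presheaf.restrictOpen v V hVU = w
  let w' : (Γ(Z, t ⁻¹ᵁ V))ˣ :=
    UnitsSh.unitOfSect (O := (t.base _* Z.presheaf)) (U := op V) w
  have hsurj : Function.Surjective (t.app V).hom := t.app_surjective V hVa
  obtain ⟨r, hr⟩ := hsurj w'.val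
  have hu : IsUnit r := isUnit_of_isUnit_map_nil (t.app V).hom hsurj
    (fun a ha => h ⟨V, hVa⟩ a ha) r (by rw [hr]; exact w'.isUnit)
  refine ⟨UnitsSh.sectOfUnit (O := Y.sheaf.obj) (U := op V) hu.unit, ?_⟩
  apply Units.ext
  exact hr

end Nil

section Congr

theorem surjective_H_comap_congr {f g : Z ⟶ X} (h : f = g) (q : ℕ)
    (hs : Function.Surjective (Sheaf.H.map (UnitsSh.comap f) q)) :
    Function.Surjective (Sheaf.H.map (UnitsSh.comap g) q) := by
  subst h; exact hs

theorem subsingleton_H_kernel_comap_congr {f g : Z ⟶ X} (h : f = g) (q : ℕ)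
    (hs : Subsingleton (Sheaf.H (kernel (UnitsSh.comap f)) q)) :
    Subsingleton (Sheaf.H (kernel (UnitsSh.comap g)) q) := by
  subst h; exact hs

end Congr

section Comp

theorem surjective_comap_comp (t : Z ⟶ Y) (i : Y ⟶ X) (q : ℕ)
    (h1 : Function.Surjective (Sheaf.H.map (UnitsSh.comap i) q))
    (h2 : Function.Surjective (Sheaf.H.map ((Coh.pushAb i).map (UnitsSh.comap t)) q)) :
    Function.Surjective (Sheaf.H.map (UnitsSh.comap (t ≫ i)) q) := by
  intro y
  obtain ⟨x, hx⟩ := h2 y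
  obtain ⟨w, hw⟩ := h1 x
  refine ⟨w, ?_⟩
  have key := Sheaf.H.map_comp_apply (UnitsSh.comap i) ((Coh.pushAb i).map (UnitsSh.comap t)) w
    (n := q)
  rw [hw, hx] at key
  have e := comap_comp t i
  exact (congrArg (fun φ => Sheaf.H.map φ q w) e).trans key

theorem subsingleton_kernel_comap_comp (t : Z ⟶ Y) (i : Y ⟶ X) [Epi (UnitsSh.comap i)] (q : ℕ)
    (h1 : Subsingleton (Sheaf.H (kernel (UnitsSh.comap i)) q))
    (h2 : Subsingleton (Sheaf.H (kernel ((Coh.pushAb i).map (UnitsSh.comap t))) q)) :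
    Subsingleton (Sheaf.H (kernel (UnitsSh.comap (t ≫ i))) q) := by
  have key := Groth.Agent.Lib.Helper17.GV.subsingleton_H_middle _
    (kerSES (UnitsSh.comap i) ((Coh.pushAb i).map (UnitsSh.comap t))) q h1 h2
  have e := comap_comp t i
  rw [e]
  exact key

end Comp


section Base

open Groth.Agent.Lib.Helper17.UBase

variable (R : Type u) [CommRing R] {Y : Scheme.{u}} [Y.Over (Spec (CommRingCat.of R))]
  {Z : Scheme.{u}} (ι : Z ⟶ Y) [IsClosedImmersion ι] (J : Ideal R)
  (p : Z ⟶ Spec (CommRingCat.of (R ⧸ J)))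
  (hpb : IsPullback ι p (Y ↘ Spec (CommRingCat.of R))
    (Spec.map (CommRingCat.ofHom (Ideal.Quotient.mk J))))

include hpb in
/-- **principal units of a small thickening of a flat scheme have no cohomology** -/
theorem subsingleton_H_kernel_comap [Flat (Y ↘ Spec (CommRingCat.of R))] (hJ : J.FG)
    {Y₀ : Scheme.{u}} (j : Y₀ ⟶ Y) [IsClosedImmersion j] (𝔪 : Ideal R) [𝔪.IsMaximal]
    (p₀ : Y₀ ⟶ Spec (CommRingCat.of (R ⧸ 𝔪)))
    (hpb₀ : IsPullback j p₀ (Y ↘ Spec (CommRingCat.of R))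
      (Spec.map (CommRingCat.ofHom (Ideal.Quotient.mk 𝔪))))
    (hk : ∀ a ∈ 𝔪, ∀ b ∈ J, a * b = 0) (hJ𝔪 : J ≤ 𝔪) (q : ℕ)
    (h : Subsingleton (Coh.HH Y₀ (Coh.structureModule Y₀) q)) :
    Subsingleton (Sheaf.H (kernel (UnitsSh.comap ι)) q) := by
  have hsq : SqZ ι := sqZ_of_mul_eq_zero R ι J p hpb (fun a ha b hb => hk a (hJ𝔪 ha) b hb)
  have hS := USES.shortExact hsq
  have h1 := subsingleton_HH_kernel_unit' R ι J hJ p hpb j 𝔪 p₀ hpb₀ hk q h
  have h2 : Subsingleton (Coh.HH Y (II ι) q) :=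
    Groth.Agent.Lib.Helper4.VanClass.subsingleton_HH_of_iso (IIiso ι).symm q h1
  exact subsingleton_H_of_iso
    (IsLimit.conePointUniqueUpToIso hS.fIsKernel (kernelIsKernel (UnitsSh.comap ι))) q h2

end Base


section Step

open Groth.Agent.Lib.Helper17.UBase

variable (A : Type u) [CommRing A] (X' : Scheme.{u}) [X'.Over (Spec (CommRingCat.of A))]

/-- the closed subscheme of `X'` cut out by `J` -/
abbrev XJ (J : Ideal A) : Scheme.{u} :=
  pullback (X' ↘ Spec (CommRingCat.of A)) (Spec.map (CommRingCat.ofHom (Ideal.Quotient.mk J)))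

abbrev iJ (J : Ideal A) : XJ A X' J ⟶ X' := pullback.fst _ _

abbrev pJ (J : Ideal A) : XJ A X' J ⟶ Spec (CommRingCat.of (A ⧸ J)) := pullback.snd _ _

instance (J : Ideal A) : IsClosedImmersion (iJ A X' J) :=
  MorphismProperty.pullback_fst _ _
    (IsClosedImmersion.spec_of_surjective _ Ideal.Quotient.mk_surjective)

variable {A}

theorem factor_mk {J₁ J : Ideal A} (h : J₁ ≤ J) :
    Spec.map (CommRingCat.ofHom (Ideal.Quotient.factor h)) ≫
      Spec.map (CommRingCat.ofHom (Ideal.Quotient.mk J₁)) =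
    Spec.map (CommRingCat.ofHom (Ideal.Quotient.mk J)) := by
  rw [← Spec.map_comp, ← CommRingCat.ofHom_comp]
  congr 2

/-- the transition closed immersion `X_J ⟶ X_{J₁}` for `J₁ ≤ J` -/
def tJ {J₁ J : Ideal A} (h : J₁ ≤ J) : XJ A X' J ⟶ XJ A X' J₁ :=
  pullback.lift (iJ A X' J) (pJ A X' J ≫ Spec.map (CommRingCat.ofHom (Ideal.Quotient.factor h)))
    (by rw [Category.assoc, factor_mk, pullback.condition])

theorem tJ_iJ {J₁ J : Ideal A} (h : J₁ ≤ J) : tJ X' h ≫ iJ A X' J₁ = iJ A X' J :=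
  pullback.lift_fst _ _ _

theorem tJ_pJ {J₁ J : Ideal A} (h : J₁ ≤ J) :
    tJ X' h ≫ pJ A X' J₁ = pJ A X' J ≫ Spec.map (CommRingCat.ofHom (Ideal.Quotient.factor h)) :=
  pullback.lift_snd _ _ _

instance {J₁ J : Ideal A} (h : J₁ ≤ J) : IsClosedImmersion (tJ X' h) := by
  haveI : IsClosedImmersion (tJ X' h ≫ iJ A X' J₁) := by rw [tJ_iJ]; infer_instance
  exact IsClosedImmersion.of_comp (tJ X' h) (iJ A X' J₁)

theorem isPullback_tJ {J₁ J : Ideal A} (h : J₁ ≤ J) :
    IsPullback (tJ X' h) (pJ A X' J) (pJ A X' J₁)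
      (Spec.map (CommRingCat.ofHom (Ideal.Quotient.factor h))) := by
  refine IsPullback.of_right ?_ (tJ_pJ X' h) (IsPullback.of_hasPullback _ _)
  rw [tJ_iJ, factor_mk]
  exact IsPullback.of_hasPullback _ _

theorem exists_isPullback_tJ {J₁ J : Ideal A} (h : J₁ ≤ J) :
    ∃ p' : XJ A X' J ⟶ Spec (CommRingCat.of ((A ⧸ J₁) ⧸ RingHom.ker (Ideal.Quotient.factor h))),
      IsPullback (tJ X' h) p' (pJ A X' J₁)
        (Spec.map (CommRingCat.ofHom (Ideal.Quotient.mk (RingHom.ker (Ideal.Quotient.factor h))))) := by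
  obtain ⟨p', hp'⟩ := exists_isPullback_mk (Ideal.Quotient.factor h)
    (Ideal.Quotient.factor_surjective h) (pJ A X' J₁) (tJ X' h) (pJ A X' J) (isPullback_tJ X' h)
    (Iso.refl _)
  rw [Iso.refl_hom, Category.id_comp] at hp'
  exact ⟨p', hp'⟩

theorem mem_ker_factor {J₁ J : Ideal A} (h : J₁ ≤ J) (x : A ⧸ J₁) :
    x ∈ RingHom.ker (Ideal.Quotient.factor h) ↔ ∃ a ∈ J, Ideal.Quotient.mk J₁ a = x := by
  rw [Ideal.Quotient.factor_ker, Ideal.mem_map_iff_of_surjective _ Ideal.Quotient.mk_surjective]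

end Step


section StepLocal

open Groth.Agent.Lib.Helper17.UBase IsLocalRing

variable (A : Type u) [CommRing A] [IsLocalRing A] [IsArtinianRing A] (X' : Scheme.{u})
  [X'.Over (Spec (CommRingCat.of A))] [Flat (X' ↘ Spec (CommRingCat.of A))]

theorem step_base (J : Ideal A) (hJ : J ≤ maximalIdeal A) :
    (∀ q, Subsingleton (Coh.HH (XJ A X' (maximalIdeal A)) (Coh.structureModule _) (q + 1)) →
      Function.Surjective (Sheaf.H.map (UnitsSh.comap
        (tJ X' (Ideal.mul_le_right : maximalIdeal A * J ≤ J))) q)) ∧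
    (∀ q, Subsingleton (Coh.HH (XJ A X' (maximalIdeal A)) (Coh.structureModule _) q) →
      Subsingleton (Sheaf.H (kernel (UnitsSh.comap
        (tJ X' (Ideal.mul_le_right : maximalIdeal A * J ≤ J)))) q)) := by
  have h : maximalIdeal A * J ≤ J := Ideal.mul_le_right
  have h' : maximalIdeal A * J ≤ maximalIdeal A := Ideal.mul_le_left
  letI : (XJ A X' (maximalIdeal A * J)).Over (Spec (CommRingCat.of (A ⧸ (maximalIdeal A * J)))) :=
    ⟨pJ A X' (maximalIdeal A * J)⟩
  haveI : Flat (XJ A X' (maximalIdeal A * J) ↘ Spec (CommRingCat.of (A ⧸ (maximalIdeal A * J)))) :=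
    MorphismProperty.pullback_snd (P := @Flat) _ _ inferInstance
  obtain ⟨p', hp'⟩ := exists_isPullback_tJ X' h
  obtain ⟨p₀, hp₀⟩ := exists_isPullback_tJ X' h'
  letI : Field (A ⧸ maximalIdeal A) := Ideal.Quotient.field (maximalIdeal A)
  haveI : (RingHom.ker (Ideal.Quotient.factor h')).IsMaximal :=
    RingHom.ker_isMaximal_of_surjective _ (Ideal.Quotient.factor_surjective h')
  have hFG : (RingHom.ker (Ideal.Quotient.factor h)).FG := IsNoetherian.noetherian _
  have hk : ∀ a ∈ RingHom.ker (Ideal.Quotient.factor h'),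
      ∀ b ∈ RingHom.ker (Ideal.Quotient.factor h), a * b = 0 := by
    intro a ha b hb
    obtain ⟨a', ha', rfl⟩ := (mem_ker_factor h' a).1 ha
    obtain ⟨b', hb', rfl⟩ := (mem_ker_factor h b).1 hb
    rw [← map_mul, Ideal.Quotient.eq_zero_iff_mem]
    exact Ideal.mul_mem_mul ha' hb'
  have hle : RingHom.ker (Ideal.Quotient.factor h) ≤ RingHom.ker (Ideal.Quotient.factor h') := by
    intro b hb
    obtain ⟨b', hb', rfl⟩ := (mem_ker_factor h b).1 hb
    exact (mem_ker_factor h' _).2 ⟨b', hJ hb', rfl⟩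
  refine ⟨fun q hv => ?_, fun q hv => ?_⟩
  · exact surjective_H_comap (A ⧸ (maximalIdeal A * J)) (tJ X' h) _ p' hp' hFG (tJ X' h') _ p₀ hp₀
      hk hle q hv
  · exact subsingleton_H_kernel_comap (A ⧸ (maximalIdeal A * J)) (tJ X' h) _ p' hp' hFG (tJ X' h') _
      p₀ hp₀ hk hle q hv

theorem nilK_iJ (J : Ideal A) (n : ℕ) (hn : J ^ n = ⊥) : NilK (iJ A X' J) := by
  intro U r hr
  have hr' := mem_map_of_isPullback J _ (iJ A X' J) (pJ A X' J) (IsPullback.of_hasPullback _ _)
    U.1 U.2 r hr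
  refine ⟨n, ?_⟩
  have := Ideal.pow_mem_pow hr' n
  rw [← Ideal.map_pow, hn, Ideal.map_bot] at this
  exact this

theorem surjective_all (q : ℕ)
    (hv : Subsingleton (Coh.HH (XJ A X' (maximalIdeal A)) (Coh.structureModule _) (q + 1))) :
    ∀ (k : ℕ) (J : Ideal A), J ≤ maximalIdeal A → maximalIdeal A ^ k * J = ⊥ →
      Function.Surjective (Sheaf.H.map (UnitsSh.comap (iJ A X' J)) q)
  | 0, J, hJ, h0 => by
    rw [pow_zero, one_mul] at h0
    exact surjective_H_comap A (iJ A X' J) J (pJ A X' J) (IsPullback.of_hasPullback _ _)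
      (by rw [h0]; exact Submodule.fg_bot) (iJ A X' (maximalIdeal A)) (maximalIdeal A)
      (pJ A X' (maximalIdeal A)) (IsPullback.of_hasPullback _ _)
      (fun a _ b hb => by rw [h0] at hb; rw [Ideal.mem_bot.1 hb, mul_zero]) hJ q hv
  | k + 1, J, hJ, hk => by
    have h : maximalIdeal A * J ≤ J := Ideal.mul_le_right
    have IH := surjective_all q hv k (maximalIdeal A * J) Ideal.mul_le_left
      (by rw [← mul_assoc, ← pow_succ]; exact hk)
    have hb := (step_base A X' J hJ).1 q hv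
    have hp := surjective_push (iJ A X' (maximalIdeal A * J)) _ q hb
    exact surjective_H_comap_congr (tJ_iJ X' h) q (surjective_comap_comp _ _ q IH hp)

theorem subsingleton_all (q : ℕ) (n : ℕ) (hn : maximalIdeal A ^ n = ⊥)
    (hv : Subsingleton (Coh.HH (XJ A X' (maximalIdeal A)) (Coh.structureModule _) q)) :
    ∀ (k : ℕ) (J : Ideal A), J ≤ maximalIdeal A → maximalIdeal A ^ k * J = ⊥ →
      Subsingleton (Sheaf.H (kernel (UnitsSh.comap (iJ A X' J))) q)
  | 0, J, hJ, h0 => by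
    rw [pow_zero, one_mul] at h0
    exact subsingleton_H_kernel_comap A (iJ A X' J) J (pJ A X' J) (IsPullback.of_hasPullback _ _)
      (by rw [h0]; exact Submodule.fg_bot) (iJ A X' (maximalIdeal A)) (maximalIdeal A)
      (pJ A X' (maximalIdeal A)) (IsPullback.of_hasPullback _ _)
      (fun a _ b hb => by rw [h0] at hb; rw [Ideal.mem_bot.1 hb, mul_zero]) hJ q hv
  | k + 1, J, hJ, hk => by
    have h : maximalIdeal A * J ≤ J := Ideal.mul_le_right
    have IH := subsingleton_all q n hn hv k (maximalIdeal A * J) Ideal.mul_le_left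
      (by rw [← mul_assoc, ← pow_succ]; exact hk)
    have hb := (step_base A X' J hJ).2 q hv
    have hp := subsingleton_H_kernel_push (iJ A X' (maximalIdeal A * J)) _ q hb
    refine subsingleton_H_kernel_comap_congr (tJ_iJ X' h) q ?_
    haveI : Epi (UnitsSh.comap (iJ A X' (maximalIdeal A * J))) :=
      epi_comap_of_nilK (nilK_iJ A X' _ n (by
        rw [eq_bot_iff, ← hn]
        exact Ideal.pow_right_mono Ideal.mul_le_left n))
    exact subsingleton_kernel_comap_comp _ _ q IH hp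

theorem exists_pow_maximalIdeal_eq_bot : ∃ n : ℕ, maximalIdeal A ^ n = ⊥ := by
  have h := IsArtinianRing.isNilpotent_jacobson_bot (R := A)
  rw [IsLocalRing.jacobson_eq_maximalIdeal ⊥ bot_ne_top] at h
  exact h

end StepLocal

end Groth.Agent.Lib.Helper17.UStep
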