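import Groth.Agent.Lib.Helper17.H1Coc2
import Groth.Agent.Lib.Helper17.UStep
import Groth.Agent.Lib.Helper17.CocycleMod
import Groth.Agent.Lib.Helper17.InvDescLoc
import Groth.Agent.Lib.Helper28.GenIso
import Groth.Agent.Lib.Helper28.TensorPowGen
import Groth.Agent.Lib.Helper28.PullbackInv
import Mathlib
set_option backward.isDefEq.respectTransparency.types false
set_option autoImplicit false
set_option linter.style.haveILetI false
set_option linter.unusedSectionVars false

/-!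
# Lifting invertible modules along a closed immersion whose unit kernel has no `H²`
-/

universe u
open CategoryTheory CategoryTheory.Limits AlgebraicGeometry Opposite TopologicalSpace Abelian

noncomputable section
namespace Groth.Agent.Lib.Helper17.PicLift

open Groth.Agent.Lib.Helper6 Groth.Agent.Lib.Helper17.H1Coc
open Groth.Agent.Lib.Helper28 Groth.Agent.Lib.Helper28.QCohLoc Groth.Agent.Lib.Helper28.GenLocus

variable {Z X : Scheme.{u}} (i : Z ⟶ X)

/-- **units lift locally along any closed immersion** -/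
theorem epi_comap [IsClosedImmersion i] : Epi (UnitsSh.comap i) := by
  refine (TopCat.Sheaf.isLocallySurjective_iff_epi _).1 ?_
  rw [TopCat.Presheaf.isLocallySurjective_iff]
  intro U v x hx
  by_cases hxZ : x ∈ Set.range i.base
  · obtain ⟨z, rfl⟩ := hxZ
    obtain ⟨_, ⟨V, hVa, rfl⟩, hxV, hVU⟩ := X.isBasis_affineOpens.exists_subset_of_mem_open hx U.2
    let w0 := TopCat.Presheaf.restrictOpen v V hVU
    let w' : (Γ(Z, i ⁻¹ᵁ V))ˣ :=
      UnitsSh.unitOfSect (O := (i.base _* Z.presheaf)) (U := op V) w0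
    have hsurj : Function.Surjective (i.app V).hom := i.app_surjective V hVa
    obtain ⟨r, hr⟩ := hsurj w'.val
    have hle : X.basicOpen r ≤ V := X.basicOpen_le r
    have hmem : i.base z ∈ X.basicOpen r := by
      have h1 : i ⁻¹ᵁ X.basicOpen r = Z.basicOpen (i.app V r) := Scheme.preimage_basicOpen i r
      have h2 : Z.basicOpen (i.app V r) = i ⁻¹ᵁ V := by
        apply Z.basicOpen_of_isUnit
        have : (i.app V) r = w'.val := hr
        rw [this]; exact w'.isUnit
      have h3 : z ∈ i ⁻¹ᵁ X.basicOpen r := by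
        rw [h1, h2]; exact hxV
      exact h3
    refine ⟨X.basicOpen r, hle.trans hVU, ?_, hmem⟩
    have hu : IsUnit (X.presheaf.map (homOfLE hle).op r) := X.toRingedSpace.isUnit_res_basicOpen r
    refine ⟨UnitsSh.sectOfUnit (O := X.sheaf.obj) (U := op (X.basicOpen r)) hu.unit, ?_⟩
    apply Units.ext
    have hnat : (i.app (X.basicOpen r)).hom (X.presheaf.map (homOfLE hle).op r) =
        Z.presheaf.map (homOfLE (i.preimage_mono hle)).op ((i.app V).hom r) :=
      congrArg (fun φ => φ.hom r) (i.naturality (homOfLE hle).op)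
    change (i.app (X.basicOpen r)).hom (X.presheaf.map (homOfLE hle).op r) = _
    rw [hnat, hr]
    let vv : Γ(Z, i ⁻¹ᵁ U) := (UnitsSh.unitOfSect (O := (i.base _* Z.presheaf)) (U := op U) v).val
    have hw : w'.val = Z.presheaf.map (homOfLE (i.preimage_mono (show V ≤ U from hVU))).op vv := rfl
    rw [hw]
    change (Z.presheaf.map _ ≫ Z.presheaf.map _).hom vv = Z.presheaf.map _ vv
    rw [← Z.presheaf.map_comp]
    rfl
  · have hopen : IsOpen (Set.range i.base)ᶜ := i.isClosedEmbedding.isClosed_range.isOpen_compl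
    let V : X.Opens := U ⊓ ⟨(Set.range i.base)ᶜ, hopen⟩
    refine ⟨V, inf_le_left, ⟨0, ?_⟩, ⟨hx, hxZ⟩⟩
    have e : i ⁻¹ᵁ V = ⊥ := by
      ext z
      simp only [Opens.coe_bot, Set.mem_empty_iff_false, iff_false]
      intro hz
      exact hz.2 ⟨z, rfl⟩
    have hsub : Subsingleton Γ(Z, i ⁻¹ᵁ V) := by rw [e]; infer_instance
    apply Units.ext
    exact hsub.elim _ _


/-- the units sequence of a closed immersion -/
def SS : ShortComplex (CohTop.Ab X.toTopCat) :=
  ShortComplex.mk (kernel.ι (UnitsSh.comap i)) (UnitsSh.comap i) (kernel.condition _)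

theorem SS_shortExact [IsClosedImmersion i] : (SS i).ShortExact := by
  haveI := epi_comap i
  refine ShortComplex.ShortExact.mk' ?_ (by dsimp [SS]; infer_instance) (by dsimp [SS]; infer_instance)
  exact ShortComplex.exact_of_f_is_kernel _ (kernelIsKernel _)

section Cover

variable [IsClosedImmersion i] (L₀ : Z.Modules) (hL₀ : PicF.IsInvertible L₀)

include hL₀ in
theorem exists_cover (x : X) :
    ∃ (W : X.Opens) (e : Γ(L₀, i ⁻¹ᵁ W)), x ∈ W ∧ IsGen L₀ (i ⁻¹ᵁ W) e := by
  by_cases hxZ : x ∈ Set.range i.base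
  · obtain ⟨z, rfl⟩ := hxZ
    obtain ⟨U, g, hzU, hg⟩ := exists_isGen L₀ hL₀ z
    obtain ⟨W', hW', hWU⟩ := i.isEmbedding.isInducing.isOpen_iff.1 U.2
    let W : X.Opens := ⟨W', hW'⟩
    have e : i ⁻¹ᵁ W = U := Opens.ext hWU
    subst e
    exact ⟨W, g, hzU, hg⟩
  · have hopen : IsOpen (Set.range i.base)ᶜ := i.isClosedEmbedding.isClosed_range.isOpen_compl
    let W : X.Opens := ⟨(Set.range i.base)ᶜ, hopen⟩
    have e : i ⁻¹ᵁ W = ⊥ := by
      ext z
      simp only [Opens.coe_bot, Set.mem_empty_iff_false, iff_false]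
      intro hz
      exact hz ⟨z, rfl⟩
    refine ⟨W, 0, hxZ, ?_⟩
    intro W' hW'
    have e' : W' = ⊥ := le_bot_iff.1 (hW'.trans (le_of_eq e))
    subst e'
    haveI : Subsingleton Γ(L₀, (⊥ : Z.Opens)) := Module.subsingleton Γ(Z, (⊥ : Z.Opens)) _
    exact ⟨fun a b _ => Subsingleton.elim _ _, fun t => ⟨0, Subsingleton.elim _ _⟩⟩

end Cover


section Units

/-- the pushforward of the units sheaf -/
abbrev PU : CohTop.Ab X.toTopCat := (CohTop.push i.base).obj (UnitsSh.unitsAb Z)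

variable {i}

/-- a section of `i_* O_Z^×` as a unit -/
def toU {V : X.Opens} (s : (PU i).obj.obj (op V)) : (Γ(Z, i ⁻¹ᵁ V))ˣ :=
  UnitsSh.unitOfSect (O := (i.base _* Z.presheaf)) (U := op V) s

/-- a unit as a section of `i_* O_Z^×` -/
def ofU {V : X.Opens} (v : (Γ(Z, i ⁻¹ᵁ V))ˣ) : (PU i).obj.obj (op V) :=
  UnitsSh.sectOfUnit (O := (i.base _* Z.presheaf)) (U := op V) v

theorem toU_ofU {V : X.Opens} (v : (Γ(Z, i ⁻¹ᵁ V))ˣ) : toU (ofU (i := i) v) = v := rfl

theorem ofU_toU {V : X.Opens} (s : (PU i).obj.obj (op V)) : ofU (toU s) = s := rfl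

theorem toU_add {V : X.Opens} (s t : (PU i).obj.obj (op V)) : toU (s + t) = toU s * toU t := rfl

theorem toU_sub {V : X.Opens} (s t : (PU i).obj.obj (op V)) : toU (s - t) = toU s * (toU t)⁻¹ :=
  div_eq_mul_inv _ _

theorem toU_rs_val {V V' : X.Opens} (h : V' ≤ V) (s : (PU i).obj.obj (op V)) :
    (toU (rs (PU i) h s)).val = resO (i.preimage_mono h) (toU s).val := rfl

theorem toU_injective {V : X.Opens} : Function.Injective (toU (i := i) (V := V)) := fun _ _ h => h

/-- a section of `O_X^×` as a unit -/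
def toUX {V : X.Opens} (s : (UnitsSh.unitsAb X).obj.obj (op V)) : (Γ(X, V))ˣ :=
  UnitsSh.unitOfSect (O := X.presheaf) (U := op V) s

theorem toUX_add {V : X.Opens} (s t : (UnitsSh.unitsAb X).obj.obj (op V)) :
    toUX (s + t) = toUX s * toUX t := rfl

theorem toUX_rs_val {V V' : X.Opens} (h : V' ≤ V) (s : (UnitsSh.unitsAb X).obj.obj (op V)) :
    (toUX (rs (UnitsSh.unitsAb X) h s)).val = resO h (toUX s).val := rfl

theorem toU_comap_val {V : X.Opens} (s : (UnitsSh.unitsAb X).obj.obj (op V)) :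
    (toU ((UnitsSh.comap i).hom.app (op V) s)).val = (i.app V).hom (toUX s).val := rfl

end Units


section General

variable {T : TopCat.{u}} {G : CohTop.Ab T} {ι : Type u} {U : ι → Opens T}

theorem isCoc_of_sections (g : Coch G U)
    (h : ∀ a b c : ι,
      rs G (inf_le_left : U a ⊓ U b ⊓ U c ≤ U a ⊓ U b) (g a b) +
        rs G (inf_le_inf_right (U c) inf_le_right : U a ⊓ U b ⊓ U c ≤ U b ⊓ U c) (g b c) =
      rs G (inf_le_inf_right (U c) inf_le_left : U a ⊓ U b ⊓ U c ≤ U a ⊓ U c) (g a c)) : IsCoc g := by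
  intro a b c x ha hb hc
  have := congrArg (gm G (U a ⊓ U b ⊓ U c) x ⟨⟨ha, hb⟩, hc⟩) (h a b c)
  rw [gm_add, gm_rs, gm_rs, gm_rs] at this
  exact this

theorem sections_of_isCoc {g : Coch G U} (hg : IsCoc g) (a b c : ι) :
    rs G (inf_le_left : U a ⊓ U b ⊓ U c ≤ U a ⊓ U b) (g a b) +
        rs G (inf_le_inf_right (U c) inf_le_right : U a ⊓ U b ⊓ U c ≤ U b ⊓ U c) (g b c) =
      rs G (inf_le_inf_right (U c) inf_le_left : U a ⊓ U b ⊓ U c ≤ U a ⊓ U c) (g a c) := by
  apply eq_of_gm_eq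
  intro x hx
  rw [gm_add, gm_rs, gm_rs, gm_rs]
  exact hg a b c x hx.1.1 hx.1.2 hx.2

end General


section Trans

variable {L : Z.Modules}

theorem res_rel {U1 U2 U12 T : Z.Opens} (h1 : U12 ≤ U1) (h2 : U12 ≤ U2) (hT : T ≤ U12)
    (x : Γ(L, U1)) (y : Γ(L, U2)) (u : Γ(Z, U12))
    (h : res L h1 x = (u • res L h2 y : Γ(L, U12))) :
    res L (hT.trans h1) x = (resO hT u • res L (hT.trans h2) y : Γ(L, T)) := by
  have := congrArg (res L hT) h
  rwa [res_res, res_smul, res_res] at this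

/-- two generators over the same open differ by a unit -/
theorem exists_unit_of_isGen {U : Z.Opens} {g g' : Γ(L, U)} (hg : IsGen L U g) (hg' : IsGen L U g') :
    ∃ u : (Γ(Z, U))ˣ, g = (u.val • g' : Γ(L, U)) := by
  have h1 : (hg'.coef le_rfl g • res L le_rfl g' : Γ(L, U)) = g := hg'.coef_smul le_rfl g
  rw [res_self] at h1
  have hu : IsUnit (hg'.coef le_rfl g) := by
    apply Groth.Agent.Lib.Helper17.InvDescLoc.isUnit_of_isGen_smul hg'
    rw [h1]; exact hg
  exact ⟨hu.unit, h1.symm⟩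

end Trans


section Main

open Groth.Agent.Lib.Helper17 Groth.Agent.Lib.Helper28.PullbackInv

/-- **lifting invertible modules along a closed immersion whose unit kernel has no `H²`** -/
theorem exists_lift [IsClosedImmersion i] (h2 : Subsingleton (Sheaf.H (kernel (UnitsSh.comap i)) 2))
    (L₀ : Z.Modules) (hL₀ : PicF.IsInvertible L₀) :
    ∃ L : X.Modules, PicF.IsInvertible L ∧ Nonempty ((Scheme.Modules.pullback i).obj L ≅ L₀) := by
  -- Step A: a trivialising cover of `X`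
  choose W e hxW he using exists_cover i L₀ hL₀
  -- Step B: transition units
  have hu : ∀ a b : X, ∃ u : (Γ(Z, i ⁻¹ᵁ (W a ⊓ W b)))ˣ,
      res L₀ (i.preimage_mono (inf_le_left : W a ⊓ W b ≤ W a)) (e a) =
        (u.val • res L₀ (i.preimage_mono (inf_le_right : W a ⊓ W b ≤ W b)) (e b) :
          Γ(L₀, i ⁻¹ᵁ (W a ⊓ W b))) :=
    fun a b => exists_unit_of_isGen ((he a).res _) ((he b).res _)
  choose u hu using hu
  let η : Coch (PU i) W := fun a b => ofU (u a b)
  have hη : IsCoc η := by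
    apply isCoc_of_sections
    intro a b c
    apply toU_injective
    apply Units.ext
    rw [toU_add, Units.val_mul, toU_rs_val, toU_rs_val, toU_rs_val]
    have hc3 : i ⁻¹ᵁ (W a ⊓ W b ⊓ W c) ≤ i ⁻¹ᵁ W c := i.preimage_mono inf_le_right
    apply ((he c) _ hc3).1
    have r1 := res_rel (L := L₀) _ _
      (i.preimage_mono (inf_le_left : W a ⊓ W b ⊓ W c ≤ W a ⊓ W b)) _ _ _ (hu a b)
    have r2 := res_rel (L := L₀) _ _
      (i.preimage_mono (inf_le_inf_right (W c) inf_le_right : W a ⊓ W b ⊓ W c ≤ W b ⊓ W c)) _ _ _ (hu b c)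
    have r3 := res_rel (L := L₀) _ _
      (i.preimage_mono (inf_le_inf_right (W c) inf_le_left : W a ⊓ W b ⊓ W c ≤ W a ⊓ W c)) _ _ _ (hu a c)
    show ((_ * _) • res L₀ hc3 (e c) : Γ(L₀, _)) = (_ • res L₀ hc3 (e c) : Γ(L₀, _))
    rw [mul_smul]
    exact (congrArg _ r2.symm).trans (r1.symm.trans r3)
  -- Step D: lift the cocycle
  obtain ⟨V, r, hV, hyV, g, hg, b, hb⟩ := exists_lift_cocycle (SS i) (SS_shortExact i) h2 W
    (fun x => ⟨x, hxW x⟩) η hη
  change Coch (UnitsSh.unitsAb X) V at g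
  change ∀ y, (PU i).obj.obj (op (V y)) at b
  -- Step E: the relation on sections
  have hb' : ∀ y z : X,
      (i.app (V y ⊓ V z)).hom (toUX (g y z)).val *
          resO (i.preimage_mono (inf_le_right : V y ⊓ V z ≤ V z)) (toU (b z)).val =
        resO (i.preimage_mono (inf_le_inf (hV y) (hV z))) (u (r y) (r z)).val *
          resO (i.preimage_mono (inf_le_left : V y ⊓ V z ≤ V y)) (toU (b y)).val := by
    intro y z
    have h1 : (UnitsSh.comap i).hom.app (op (V y ⊓ V z)) (g y z) + rs (PU i) inf_le_right (b z) =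
        rs (PU i) (inf_le_inf (hV y) (hV z)) (η (r y) (r z)) + rs (PU i) inf_le_left (b y) := by
      apply eq_of_gm_eq
      intro x hx
      rw [gm_add, gm_add, gm_rs, gm_rs, gm_rs]
      have := hb y z x hx.1 hx.2
      change gm (PU i) (V y ⊓ V z) x hx ((UnitsSh.comap i).hom.app (op (V y ⊓ V z)) (g y z)) =
        gm (PU i) _ x _ (η (r y) (r z)) + gm (PU i) (V y) x hx.1 (b y) -
          gm (PU i) (V z) x hx.2 (b z) at this
      rw [← sub_eq_iff_eq_add]
      rw [this]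
      abel
    exact congrArg (fun s => (toU s).val) h1
  -- Step F: the module attached to the lifted cocycle
  let γ : ∀ y z : X, Γ(X, V y ⊓ V z) := fun y z => (toUX (g y z)).val
  have hγ : ∀ a b c : X,
      resO (inf_le_inf_right (V c) inf_le_left : V a ⊓ V b ⊓ V c ≤ V a ⊓ V c) (γ a c) =
        resO (inf_le_left : V a ⊓ V b ⊓ V c ≤ V a ⊓ V b) (γ a b) *
          resO (inf_le_inf_right (V c) inf_le_right : V a ⊓ V b ⊓ V c ≤ V b ⊓ V c) (γ b c) := by
    intro a b c
    exact (congrArg (fun s => (toUX s).val) (sections_of_isCoc hg a b c)).symm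
  have hunit : ∀ y z, IsUnit (γ y z) := fun y z => (toUX (g y z)).isUnit
  let L : X.Modules := CocycleMod.L V γ
  have hLgen : ∀ y, IsGen L (V y) (CocycleMod.gen V γ hγ y) := fun y => CocycleMod.isGen_gen V γ hγ hunit y
  have hLinv : PicF.IsInvertible L :=
    isInvertible_of_isGen L (fun x => ⟨V x, CocycleMod.gen V γ hγ x, hyV x, hLgen x⟩)
  refine ⟨L, hLinv, ?_⟩
  -- Step G: compare `i^* L` with `L₀`
  let M : Z.Modules := (Scheme.Modules.pullback i).obj L
  let gM : ∀ y : X, Γ(M, i ⁻¹ᵁ V y) := fun y => pbs i L (V y) (CocycleMod.gen V γ hγ y)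
  have hgM : ∀ y, IsGen M (i ⁻¹ᵁ V y) (gM y) := fun y => isGen_pbs (f := i) (hLgen y)
  let gN : ∀ y : X, Γ(L₀, i ⁻¹ᵁ V y) := fun y =>
    ((toU (b y)).val • res L₀ (i.preimage_mono (hV y)) (e (r y)) : Γ(L₀, i ⁻¹ᵁ V y))
  have hgN : ∀ y, IsGen L₀ (i ⁻¹ᵁ V y) (gN y) := fun y =>
    InvDescLoc.IsGen.smul_unit ((he (r y)).res _) _ (toU (b y)).isUnit
  have hcoc : ∀ y z : X, ∃ c : Γ(Z, i ⁻¹ᵁ V y ⊓ i ⁻¹ᵁ V z),
      res M inf_le_left (gM y) = (c • res M inf_le_right (gM z) : Γ(M, i ⁻¹ᵁ V y ⊓ i ⁻¹ᵁ V z)) ∧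
      res L₀ inf_le_left (gN y) = (c • res L₀ inf_le_right (gN z) : Γ(L₀, i ⁻¹ᵁ V y ⊓ i ⁻¹ᵁ V z)) := by
    intro y z
    refine ⟨(i.app (V y ⊓ V z)).hom (γ y z), ?_, ?_⟩
    · have h1 := CocycleMod.gen_rel V γ hγ y z
      have h2 := congrArg (pbs i L (V y ⊓ V z)) h1
      rw [pbs_smul, pbs_res, pbs_res] at h2
      exact h2
    · have r1 := res_rel (L := L₀) _ _ (i.preimage_mono (inf_le_inf (hV y) (hV z))) _ _ _
        (hu (r y) (r z))
      have key : res L₀ (i.preimage_mono (inf_le_left : V y ⊓ V z ≤ V y))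
          ((toU (b y)).val • res L₀ (i.preimage_mono (hV y)) (e (r y)) : Γ(L₀, i ⁻¹ᵁ V y)) =
        ((i.app (V y ⊓ V z)).hom (γ y z) • res L₀ (i.preimage_mono (inf_le_right : V y ⊓ V z ≤ V z))
          ((toU (b z)).val • res L₀ (i.preimage_mono (hV z)) (e (r z)) : Γ(L₀, i ⁻¹ᵁ V z)) :
            Γ(L₀, i ⁻¹ᵁ (V y ⊓ V z))) := by
        rw [res_smul, res_res, res_smul, res_res, ← mul_smul]
        rw [r1, ← mul_smul, hb' y z, mul_comm]
      exact key
  obtain ⟨ψ, -⟩ := exists_iso_of_cocycle_gen (fun y : X => i ⁻¹ᵁ V y) gM gN hgM hgN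
    (fun z => ⟨i.base z, hyV (i.base z)⟩) hcoc
  exact ⟨ψ⟩

end Main

end Groth.Agent.Lib.Helper17.PicLift
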