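import Groth.Agent.Lib.Helper17.PicLift
import Mathlib
set_option backward.isDefEq.respectTransparency.types false
set_option autoImplicit false
set_option linter.style.haveILetI false
set_option linter.unusedSectionVars false

/-!
# Lifting invertible modules along square-zero thickenings
-/

universe u
open CategoryTheory CategoryTheory.Limits AlgebraicGeometry Opposite TopologicalSpace Abelian

noncomputable section
namespace Groth.Agent.Lib.Helper17.PicLift

open Groth.Agent.Lib.Helper17.USES

variable {Z X : Scheme.{u}} (i : Z ⟶ X)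

theorem exists_lift_of_shortExact [IsClosedImmersion i] {K : CohTop.Ab X.toTopCat}
    (f : K ⟶ UnitsSh.unitsAb X) (w : f ≫ UnitsSh.comap i = 0)
    (hS : (ShortComplex.mk f (UnitsSh.comap i) w).ShortExact)
    (h2 : Subsingleton (Sheaf.H K 2))
    (L₀ : Z.Modules) (hL₀ : PicF.IsInvertible L₀) :
    ∃ L : X.Modules, PicF.IsInvertible L ∧ Nonempty ((Scheme.Modules.pullback i).obj L ≅ L₀) := by
  have e : K ≅ kernel (UnitsSh.comap i) :=
    IsLimit.conePointUniqueUpToIso hS.fIsKernel (limit.isLimit _)
  exact exists_lift i (Groth.Agent.Lib.Helper17.UStep.subsingleton_H_of_iso e 2 h2) L₀ hL₀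

theorem sqZ_of_mul_eq_bot (I : X.IdealSheafData) (hI : I * I = ⊥) : SqZ I.subschemeι := by
  intro U r s hr hs
  have hr' : r ∈ I.ideal U := by
    have : r ∈ I.subschemeι.ker.ideal U := by
      rw [Scheme.Hom.ker_apply, RingHom.mem_ker]; exact hr
    rwa [I.ker_subschemeι] at this
  have hs' : s ∈ I.ideal U := by
    have : s ∈ I.subschemeι.ker.ideal U := by
      rw [Scheme.Hom.ker_apply, RingHom.mem_ker]; exact hs
    rwa [I.ker_subschemeι] at this
  have h1 : r * s ∈ (I * I).ideal U := by
    rw [Scheme.IdealSheafData.ideal_mul]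
    exact Ideal.mul_mem_mul hr' hs'
  rw [hI] at h1
  exact h1

/-- **square-zero thickenings: `H²(X, I) = 0` implies invertible modules lift** -/
theorem exists_lift_of_sq_zero (I : X.IdealSheafData) (hI : I * I = ⊥)
    (h2 : Subsingleton (Coh.HH X (ClSub.idealMod I) 2))
    (L₀ : I.subscheme.Modules) (hL₀ : PicF.IsInvertible L₀) :
    ∃ L : X.Modules, PicF.IsInvertible L ∧
      Nonempty ((Scheme.Modules.pullback I.subschemeι).obj L ≅ L₀) := by
  have hsq := sqZ_of_mul_eq_bot I hI
  exact exists_lift_of_shortExact I.subschemeι (expHom hsq) (expHom_comap hsq) (USES.shortExact hsq) h2 L₀ hL₀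

end Groth.Agent.Lib.Helper17.PicLift
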