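import Groth.Agent.Lib.Helper17.SqZeroB
import Mathlib
set_option backward.isDefEq.respectTransparency.types false
set_option autoImplicit false
universe u
open AlgebraicGeometry CategoryTheory Opposite TopologicalSpace CategoryTheory.Limits

namespace Groth.Agent.Lib.Helper17.SqZero
open Scheme.Modules
open Groth.Agent.Lib.Helper17.PullbackBC Groth.Agent.Lib.Helper17.H0Neg
open Groth.Agent.Lib.Helper28.PullbackInv Groth.Agent.Lib.Helper28.QCohLoc
open Groth.Agent.Lib.Helper28.GenLocus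

variable {X : Scheme.{u}} (I : X.IdealSheafData) (N : X.Modules)

theorem exists_affine_isGen (hN : PicF.IsInvertible N) (U : X.Opens) (pt : X) (hpt : pt ∈ U) :
    ∃ (W : X.Opens) (_ : IsAffineOpen W) (_ : W ≤ U), pt ∈ W ∧ ∃ g : Γ(N, W), IsGen N W g := by
  obtain ⟨W₀, g, hptW₀, hg⟩ := exists_isGen N hN pt
  obtain ⟨_, ⟨W, hW, rfl⟩, hptW, hWle⟩ := X.isBasis_affineOpens.exists_subset_of_mem_open
    (show pt ∈ (U ⊓ W₀ : X.Opens) from ⟨hpt, hptW₀⟩) (U ⊓ W₀).2
  have hWle' : W ≤ U ⊓ W₀ := hWle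
  exact ⟨W, hW, hWle'.trans inf_le_left, hptW, res N (hWle'.trans inf_le_right) g, hg.res _⟩

theorem exists_coef_mem (W : X.affineOpens) (g : Γ(N, W.1)) (hg : IsGen N W.1 g) (m : Γ(N, W.1))
    (hm : pbs I.subschemeι N W.1 m = 0) : ∃ c ∈ I.ideal W, (c • g : Γ(N, W.1)) = m := by
  obtain ⟨c, hc⟩ := (hg W.1 le_rfl).2 m
  simp only [res_self] at hc
  refine ⟨c, ?_, hc⟩
  rw [← hc, pbs_smul] at hm
  have hgen := isGen_pbs (f := I.subschemeι) hg
  have h3 := (hgen (I.subschemeι ⁻¹ᵁ W.1) le_rfl).1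
  simp only [res_self] at h3
  have h4 : (I.subschemeι.app W.1).hom c = 0 := by
    apply h3
    simp only []
    rw [zero_smul]
    exact hm
  rw [← I.ker_subschemeι_app W]
  exact h4

theorem killed (hI : I ^ 2 = ⊥) (hN : PicF.IsInvertible N) (U : X.affineOpens) (a : Γ(X, U.1))
    (ha : a ∈ I.ideal U) (s : Γ(KK I N, U.1)) : (a • s : Γ(KK I N, U.1)) = 0 := by
  apply kernelι_injective I N U.1
  rw [Scheme.Modules.Hom.app_smul, map_zero]
  have hm := un_app_kernel I N U.1 s
  generalize (kernel.ι (un I N)).app U.1 s = m at hm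
  choose W hW hWU hptW g hg using fun pt : U.1 => exists_affine_isGen N hN U.1 pt.1 pt.2
  refine eq_of_locally_eq N W U.1 hWU (fun q hq => Opens.mem_iSup.mpr ⟨⟨q, hq⟩, hptW ⟨q, hq⟩⟩) _ _ (fun pt => ?_)
  rw [res_smul, res_zero]
  obtain ⟨c, hc, hcm⟩ := exists_coef_mem I N ⟨W pt, hW pt⟩ (g pt) (hg pt) (res N (hWU pt) m) (by
    rw [pbs_res, hm]; exact res_zero _ _)
  rw [← hcm, ← mul_smul]
  have h1 : resO (hWU pt) a ∈ I.ideal ⟨W pt, hW pt⟩ :=
    I.ideal_le_comap_ideal (U := ⟨W pt, hW pt⟩) (V := U) (hWU pt) ha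
  have h2 : resO (hWU pt) a * c ∈ (I ^ 2).ideal ⟨W pt, hW pt⟩ := by
    rw [Scheme.IdealSheafData.ideal_pow, Pi.pow_apply, pow_two]
    exact Ideal.mul_mem_mul h1 hc
  rw [hI] at h2
  have h3 : resO (hWU pt) a * c = 0 := h2
  rw [h3, zero_smul]


theorem isQuasicoherent_KK (hN : PicF.IsInvertible N) : (KK I N).IsQuasicoherent := by
  haveI : N.IsQuasicoherent := Groth.Agent.Lib.Helper28.InvQC.isQuasicoherent_of_isInvertible N hN
  haveI : ((Scheme.Modules.pushforward I.subschemeι).obj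
      ((Scheme.Modules.pullback I.subschemeι).obj N)).IsQuasicoherent :=
    isQuasicoherent_pushforward I.subschemeι _
  exact Groth.Agent.Lib.Helper17.CohKer.isQuasicoherent_kernel _

theorem subsingleton_HH_KK (hI : I ^ 2 = ⊥) (hN : PicF.IsInvertible N)
    (ε : (Scheme.Modules.pullback I.subschemeι).obj N ≅ Coh.structureModule I.subscheme)
    (h1 : Subsingleton (Coh.HH I.subscheme
      ((Scheme.Modules.pullback I.subschemeι).obj (ClSub.idealMod I)) 1)) :
    Subsingleton (Coh.HH X (KK I N) 1) := by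
  haveI := isQuasicoherent_KK I N hN
  obtain ⟨a⟩ := nonempty_pullback_KK_iso I N hN ε
  have h2 : Subsingleton (Coh.HH I.subscheme ((Scheme.Modules.pullback I.subschemeι).obj (KK I N)) 1) :=
    Groth.Agent.Lib.Helper4.VanClass.subsingleton_HH_of_iso a.symm 1 h1
  obtain ⟨e, -⟩ := Groth.Agent.Lib.Helper2.Bridge2.exists_natural_equiv I.subschemeι 1
  have h3 : Subsingleton (Coh.HH X ((Scheme.Modules.pushforward I.subschemeι).obj
      ((Scheme.Modules.pullback I.subschemeι).obj (KK I N))) 1) :=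
    (e _ inferInstance).toEquiv.subsingleton
  haveI := Groth.Agent.Lib.Helper17.ClosedUnit.isIso_unit_of_killed I.subschemeι (KK I N)
    (fun U a ha s => killed I N hI hN U a (by rwa [I.ker_subschemeι] at ha) s)
  exact Groth.Agent.Lib.Helper4.VanClass.subsingleton_HH_of_iso
    (asIso ((Scheme.Modules.pullbackPushforwardAdjunction I.subschemeι).unit.app (KK I N))).symm 1 h3

/-- **global sections lift along a square-zero thickening** -/
theorem surjective_pbs_top (hI : I ^ 2 = ⊥) (hN : PicF.IsInvertible N)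
    (ε : (Scheme.Modules.pullback I.subschemeι).obj N ≅ Coh.structureModule I.subscheme)
    (h1 : Subsingleton (Coh.HH I.subscheme
      ((Scheme.Modules.pullback I.subschemeι).obj (ClSub.idealMod I)) 1)) :
    Function.Surjective (pbs I.subschemeι N ⊤) := by
  haveI : N.IsQuasicoherent := Groth.Agent.Lib.Helper28.InvQC.isQuasicoherent_of_isInvertible N hN
  haveI : Epi (un I N) := Groth.Agent.Lib.Helper17.Tow.epi_unit I.subschemeι N
  have hS : (ShortComplex.kernelSequence (un I N)).ShortExact :=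
    ShortComplex.ShortExact.mk' (ShortComplex.kernelSequence_exact _) inferInstance
      (inferInstanceAs (Epi (un I N)))
  exact Groth.Agent.Lib.Helper17.Serre.surjective_app_top_of_H1 _ hS (subsingleton_HH_KK I N hI hN ε h1)


theorem isUnit_of_isUnit_map {R S : Type*} [CommRing R] [CommRing S] (φ : R →+* S)
    (hφ : Function.Surjective φ) (hk : ∀ a b : R, φ a = 0 → φ b = 0 → a * b = 0) (c : R)
    (hc : IsUnit (φ c)) : IsUnit c := by
  obtain ⟨y, hy⟩ := hφ (↑hc.unit⁻¹ : S)
  have h1 : φ (c * y - 1) = 0 := by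
    rw [map_sub, map_mul, map_one, hy, IsUnit.mul_val_inv, sub_self]
  have hz := hk _ _ h1 h1
  exact IsUnit.of_mul_eq_one (y * (2 - c * y)) (by linear_combination (-1 : R) * hz)

/-- **an invertible module on a square-zero thickening which is trivial on the closed subscheme is trivial**,
provided `H¹(X₀, I) = 0` -/
theorem nonempty_iso_structureModule (hI : I ^ 2 = ⊥) (hN : PicF.IsInvertible N)
    (ε : (Scheme.Modules.pullback I.subschemeι).obj N ≅ Coh.structureModule I.subscheme)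
    (h1 : Subsingleton (Coh.HH I.subscheme
      ((Scheme.Modules.pullback I.subschemeι).obj (ClSub.idealMod I)) 1)) :
    Nonempty (N ≅ Coh.structureModule X) := by
  obtain ⟨t, ht⟩ := surjective_pbs_top I N hI hN ε h1 (ε.inv.app ⊤ (oneSec I.subscheme ⊤))
  have hgen0 : IsGen ((Scheme.Modules.pullback I.subschemeι).obj N) ⊤ (pbs I.subschemeι N ⊤ t) := by
    rw [ht]
    exact Groth.Agent.Lib.Helper28.VeryAmpleImm.isGen_app_iso ε.symm (isGen_oneSec ⊤)
  have hgen : IsGen N ⊤ t := by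
    refine Groth.Agent.Lib.Helper17.InvDescLoc.isGen_of_locally t (fun p _ => ?_)
    obtain ⟨W, hW, hWU, hpW, g, hg⟩ := exists_affine_isGen N hN ⊤ p trivial
    refine ⟨W, le_top, hpW, ?_⟩
    obtain ⟨c, hc⟩ := (hg W le_rfl).2 (res N le_top t)
    simp only [res_self] at hc
    rw [← hc]
    refine Groth.Agent.Lib.Helper17.InvDescLoc.IsGen.smul_unit hg c ?_
    have hu : IsUnit ((I.subschemeι.app W).hom c) := by
      refine Groth.Agent.Lib.Helper17.InvDescLoc.isUnit_of_isGen_smul (isGen_pbs (f := I.subschemeι) hg) _ ?_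
      have e1 : ((I.subschemeι.app W).hom c • pbs I.subschemeι N W g :
          Γ((Scheme.Modules.pullback I.subschemeι).obj N, I.subschemeι ⁻¹ᵁ W)) =
          pbs I.subschemeι N W (c • g : Γ(N, W)) := (pbs_smul I.subschemeι N W c g).symm
      rw [e1, hc, pbs_res]
      exact hgen0.res _
    refine isUnit_of_isUnit_map (I.subschemeι.app W).hom (I.subschemeι_app_surjective ⟨W, hW⟩) ?_ c hu
    intro a b ha hb
    have ha' : a ∈ I.ideal ⟨W, hW⟩ := by rw [← I.ker_subschemeι_app ⟨W, hW⟩]; exact ha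
    have hb' : b ∈ I.ideal ⟨W, hW⟩ := by rw [← I.ker_subschemeι_app ⟨W, hW⟩]; exact hb
    have h2 : a * b ∈ (I ^ 2).ideal ⟨W, hW⟩ := by
      rw [Scheme.IdealSheafData.ideal_pow, Pi.pow_apply, pow_two]
      exact Ideal.mul_mem_mul ha' hb'
    rw [hI] at h2
    exact h2
  obtain ⟨ψ, -⟩ := exists_iso_of_cocycle_gen (fun _ : Unit => (⊤ : X.Opens)) (fun _ => t)
    (fun _ => oneSec X ⊤) (fun _ => hgen) (fun _ => isGen_oneSec ⊤) (fun _ => ⟨(), trivial⟩)
    (fun _ _ => ⟨1, by rw [one_smul], by rw [one_smul]⟩)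
  exact ⟨ψ⟩

end Groth.Agent.Lib.Helper17.SqZero
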