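import Groth.Agent.Lib.Helper17.PicLift
import Groth.Agent.Lib.Helper17.H1Coc3
import Groth.Agent.Lib.Helper28.VeryAmpleImm
import Mathlib
set_option backward.isDefEq.respectTransparency.types false
set_option autoImplicit false
set_option linter.style.haveILetI false
set_option linter.unusedSectionVars false

/-!
# Lifting invertible modules along closed immersions: the cocycle data, packaged
-/

universe u
open CategoryTheory CategoryTheory.Limits AlgebraicGeometry Opposite TopologicalSpace Abelian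

noncomputable section
namespace Groth.Agent.Lib.Helper17.PicLift

open Groth.Agent.Lib.Helper6 Groth.Agent.Lib.Helper17.H1Coc
open Groth.Agent.Lib.Helper28 Groth.Agent.Lib.Helper28.QCohLoc Groth.Agent.Lib.Helper28.GenLocus
open Groth.Agent.Lib.Helper17 Groth.Agent.Lib.Helper28.PullbackInv

variable {Z X : Scheme.{u}} (i : Z ⟶ X)

/-- trivialisation data of a module on `Z` over a cover pulled back from `X` -/
structure TrivData (L₀ : Z.Modules) where
  W : X → X.Opens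
  e : ∀ a, Γ(L₀, i ⁻¹ᵁ W a)
  mem : ∀ x, x ∈ W x
  isGen : ∀ a, IsGen L₀ (i ⁻¹ᵁ W a) (e a)
  u : ∀ a b, (Γ(Z, i ⁻¹ᵁ (W a ⊓ W b)))ˣ
  hu : ∀ a b, res L₀ (i.preimage_mono (inf_le_left : W a ⊓ W b ≤ W a)) (e a) =
    ((u a b).val • res L₀ (i.preimage_mono (inf_le_right : W a ⊓ W b ≤ W b)) (e b) :
      Γ(L₀, i ⁻¹ᵁ (W a ⊓ W b)))

theorem nonempty_trivData [IsClosedImmersion i] (L₀ : Z.Modules) (hL₀ : PicF.IsInvertible L₀) :
    Nonempty (TrivData i L₀) := by
  choose W e hxW he using exists_cover i L₀ hL₀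
  have hu : ∀ a b : X, ∃ u : (Γ(Z, i ⁻¹ᵁ (W a ⊓ W b)))ˣ,
      res L₀ (i.preimage_mono (inf_le_left : W a ⊓ W b ≤ W a)) (e a) =
        (u.val • res L₀ (i.preimage_mono (inf_le_right : W a ⊓ W b ≤ W b)) (e b) :
          Γ(L₀, i ⁻¹ᵁ (W a ⊓ W b))) :=
    fun a b => exists_unit_of_isGen ((he a).res _) ((he b).res _)
  choose u hu using hu
  exact ⟨⟨W, e, hxW, he, u, hu⟩⟩

variable {i} {L₀ : Z.Modules}

/-- the unit cocycle of trivialisation data -/
def TrivData.η (D : TrivData i L₀) : Coch (PU i) D.W := fun a b => ofU (D.u a b)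

theorem TrivData.isCoc (D : TrivData i L₀) : IsCoc D.η := by
  apply isCoc_of_sections
  intro a b c
  apply toU_injective
  apply Units.ext
  rw [toU_add, Units.val_mul, toU_rs_val, toU_rs_val, toU_rs_val]
  have hc3 : i ⁻¹ᵁ (D.W a ⊓ D.W b ⊓ D.W c) ≤ i ⁻¹ᵁ D.W c := i.preimage_mono inf_le_right
  apply ((D.isGen c) _ hc3).1
  have r1 := res_rel (L := L₀) _ _
    (i.preimage_mono (inf_le_left : D.W a ⊓ D.W b ⊓ D.W c ≤ D.W a ⊓ D.W b)) _ _ _ (D.hu a b)
  have r2 := res_rel (L := L₀) _ _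
    (i.preimage_mono (inf_le_inf_right (D.W c) inf_le_right : D.W a ⊓ D.W b ⊓ D.W c ≤ D.W b ⊓ D.W c))
      _ _ _ (D.hu b c)
  have r3 := res_rel (L := L₀) _ _
    (i.preimage_mono (inf_le_inf_right (D.W c) inf_le_left : D.W a ⊓ D.W b ⊓ D.W c ≤ D.W a ⊓ D.W c))
      _ _ _ (D.hu a c)
  show ((_ * _) • res L₀ hc3 (D.e c) : Γ(L₀, _)) = (_ • res L₀ hc3 (D.e c) : Γ(L₀, _))
  rw [mul_smul]
  exact (congrArg _ r2.symm).trans (r1.symm.trans r3)

section Lof

variable {V : X → X.Opens} (g : Coch (UnitsSh.unitsAb X) V)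

/-- the functions of a unit cochain -/
def γ (y z : X) : Γ(X, V y ⊓ V z) := (toUX (g y z)).val

theorem γ_isUnit (y z : X) : IsUnit (γ g y z) := (toUX (g y z)).isUnit

variable {g}

theorem γ_coc (hg : IsCoc g) (a b c : X) :
    resO (inf_le_inf_right (V c) inf_le_left : V a ⊓ V b ⊓ V c ≤ V a ⊓ V c) (γ g a c) =
      resO (inf_le_left : V a ⊓ V b ⊓ V c ≤ V a ⊓ V b) (γ g a b) *
        resO (inf_le_inf_right (V c) inf_le_right : V a ⊓ V b ⊓ V c ≤ V b ⊓ V c) (γ g b c) :=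
  (congrArg (fun s => (toUX s).val) (sections_of_isCoc hg a b c)).symm

variable (g) in
/-- the module of a unit cocycle -/
def Lof : X.Modules := CocycleMod.L V (γ g)

/-- its local generators -/
def genOf (hg : IsCoc g) (y : X) : Γ(Lof g, V y) := CocycleMod.gen V (γ g) (γ_coc hg) y

theorem isGen_genOf (hg : IsCoc g) (y : X) : IsGen (Lof g) (V y) (genOf hg y) :=
  CocycleMod.isGen_gen V (γ g) (γ_coc hg) (γ_isUnit g) y

theorem genOf_rel (hg : IsCoc g) (y z : X) :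
    res (Lof g) (inf_le_left : V y ⊓ V z ≤ V y) (genOf hg y) =
      (γ g y z • res (Lof g) (inf_le_right : V y ⊓ V z ≤ V z) (genOf hg z) : Γ(Lof g, V y ⊓ V z)) :=
  CocycleMod.gen_rel V (γ g) (γ_coc hg) y z

theorem isInvertible_Lof (hg : IsCoc g) (hyV : ∀ y, y ∈ V y) : PicF.IsInvertible (Lof g) :=
  isInvertible_of_isGen (Lof g) (fun x => ⟨V x, genOf hg x, hyV x, isGen_genOf hg x⟩)

end Lof

/-- **comparison of the pullback of the module of a lifted cocycle with the original module** -/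
theorem nonempty_pullback_Lof_iso (D : TrivData i L₀) (V : X → X.Opens) (r : X → X)
    (hV : ∀ y, V y ≤ D.W (r y)) (hyV : ∀ y, y ∈ V y)
    (g : Coch (UnitsSh.unitsAb X) V) (hg : IsCoc g) (b : ∀ y, (PU i).obj.obj (op (V y)))
    (hb : ∀ (y z : X) (x : X) (hy : x ∈ V y) (hz : x ∈ V z),
      gm (PU i) (V y ⊓ V z) x ⟨hy, hz⟩ ((UnitsSh.comap i).hom.app (op (V y ⊓ V z)) (g y z)) =
        gm (PU i) (D.W (r y) ⊓ D.W (r z)) x ⟨hV y hy, hV z hz⟩ (D.η (r y) (r z)) +
          gm (PU i) (V y) x hy (b y) - gm (PU i) (V z) x hz (b z)) :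
    Nonempty ((Scheme.Modules.pullback i).obj (Lof g) ≅ L₀) := by
  have hb' : ∀ y z : X,
      (i.app (V y ⊓ V z)).hom (toUX (g y z)).val *
          resO (i.preimage_mono (inf_le_right : V y ⊓ V z ≤ V z)) (toU (b z)).val =
        resO (i.preimage_mono (inf_le_inf (hV y) (hV z))) (D.u (r y) (r z)).val *
          resO (i.preimage_mono (inf_le_left : V y ⊓ V z ≤ V y)) (toU (b y)).val := by
    intro y z
    have h1 : (UnitsSh.comap i).hom.app (op (V y ⊓ V z)) (g y z) + rs (PU i) inf_le_right (b z) =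
        rs (PU i) (inf_le_inf (hV y) (hV z)) (D.η (r y) (r z)) + rs (PU i) inf_le_left (b y) := by
      apply eq_of_gm_eq
      intro x hx
      rw [gm_add, gm_add, gm_rs, gm_rs, gm_rs]
      have := hb y z x hx.1 hx.2
      rw [← sub_eq_iff_eq_add]
      rw [this]
      abel
    exact congrArg (fun s => (toU s).val) h1
  let L : X.Modules := Lof g
  let M : Z.Modules := (Scheme.Modules.pullback i).obj L
  let gM : ∀ y : X, Γ(M, i ⁻¹ᵁ V y) := fun y => pbs i L (V y) (genOf hg y)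
  have hgM : ∀ y, IsGen M (i ⁻¹ᵁ V y) (gM y) := fun y => isGen_pbs (f := i) (isGen_genOf hg y)
  let gN : ∀ y : X, Γ(L₀, i ⁻¹ᵁ V y) := fun y =>
    ((toU (b y)).val • res L₀ (i.preimage_mono (hV y)) (D.e (r y)) : Γ(L₀, i ⁻¹ᵁ V y))
  have hgN : ∀ y, IsGen L₀ (i ⁻¹ᵁ V y) (gN y) := fun y =>
    InvDescLoc.IsGen.smul_unit ((D.isGen (r y)).res _) _ (toU (b y)).isUnit
  have hcoc : ∀ y z : X, ∃ c : Γ(Z, i ⁻¹ᵁ V y ⊓ i ⁻¹ᵁ V z),
      res M inf_le_left (gM y) = (c • res M inf_le_right (gM z) : Γ(M, i ⁻¹ᵁ V y ⊓ i ⁻¹ᵁ V z)) ∧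
      res L₀ inf_le_left (gN y) = (c • res L₀ inf_le_right (gN z) : Γ(L₀, i ⁻¹ᵁ V y ⊓ i ⁻¹ᵁ V z)) := by
    intro y z
    refine ⟨(i.app (V y ⊓ V z)).hom (γ g y z), ?_, ?_⟩
    · have h1 := genOf_rel hg y z
      have h2 := congrArg (pbs i L (V y ⊓ V z)) h1
      rw [pbs_smul, pbs_res, pbs_res] at h2
      exact h2
    · have r1 := res_rel (L := L₀) _ _ (i.preimage_mono (inf_le_inf (hV y) (hV z))) _ _ _
        (D.hu (r y) (r z))
      have key : res L₀ (i.preimage_mono (inf_le_left : V y ⊓ V z ≤ V y))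
          ((toU (b y)).val • res L₀ (i.preimage_mono (hV y)) (D.e (r y)) : Γ(L₀, i ⁻¹ᵁ V y)) =
        ((i.app (V y ⊓ V z)).hom (γ g y z) • res L₀ (i.preimage_mono (inf_le_right : V y ⊓ V z ≤ V z))
          ((toU (b z)).val • res L₀ (i.preimage_mono (hV z)) (D.e (r z)) : Γ(L₀, i ⁻¹ᵁ V z)) :
            Γ(L₀, i ⁻¹ᵁ (V y ⊓ V z))) := by
        rw [res_smul, res_res, res_smul, res_res, ← mul_smul]
        rw [r1, ← mul_smul]
        have := hb' y z
        change (i.app (V y ⊓ V z)).hom (γ g y z) * _ = _ at this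
        rw [this, mul_comm]
      exact key
  obtain ⟨ψ, -⟩ := exists_iso_of_cocycle_gen (fun y : X => i ⁻¹ᵁ V y) gM gN hgM hgN
    (fun z => ⟨i.base z, hyV (i.base z)⟩) hcoc
  exact ⟨ψ⟩

end Groth.Agent.Lib.Helper17.PicLift
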