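import Groth.Agent.Lib.Helper17.PicH1I
import Groth.Agent.Lib.Helper17.LES
import Mathlib
set_option backward.isDefEq.respectTransparency.types false
set_option autoImplicit false
set_option linter.style.haveILetI false
set_option linter.unusedSectionVars false

/-!
# The exact sequence of units, `H¹` and Picard groups attached to a closed immersion
-/

universe u
open CategoryTheory CategoryTheory.Limits AlgebraicGeometry Opposite TopologicalSpace Abelian

noncomputable section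
namespace Groth.Agent.Lib.Helper17.PicSeq

open Groth.Agent.Lib.Helper6 Groth.Agent.Lib.Helper17.H1Coc Groth.Agent.Lib.Helper17.PicLift
open Groth.Agent.Lib.Helper17.PicH1 Groth.Agent.Lib.Helper17.LES

variable {Z X : Scheme.{u}} (i : Z ⟶ X)

/-- `H⁰(X, O_X^×)` is the group of global units -/
def unitsX (x : Sheaf.H (UnitsSh.unitsAb X) 0) : (Γ(X, ⊤))ˣ :=
  toUX (Sheaf.H.equiv₀ (UnitsSh.unitsAb X) hTop x)

/-- the inverse direction -/
def ofUnitsX (v : (Γ(X, ⊤))ˣ) : Sheaf.H (UnitsSh.unitsAb X) 0 :=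
  (Sheaf.H.equiv₀ (UnitsSh.unitsAb X) hTop).symm (ofUX v)

theorem unitsX_ofUnitsX (v : (Γ(X, ⊤))ˣ) : unitsX (ofUnitsX v) = v := by
  unfold unitsX ofUnitsX
  rw [AddEquiv.apply_symm_apply]
  rfl

theorem ofUnitsX_unitsX (x : Sheaf.H (UnitsSh.unitsAb X) 0) : ofUnitsX (unitsX x) = x := by
  unfold unitsX ofUnitsX
  rw [ofUX_toUX, AddEquiv.symm_apply_apply]

theorem unitsX_add (x y : Sheaf.H (UnitsSh.unitsAb X) 0) : unitsX (x + y) = unitsX x * unitsX y := by
  unfold unitsX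
  rw [map_add]
  rfl

/-- `H⁰(X, i_* O_Z^×)` is the group of global units of `Z` -/
def unitsZ (x : Sheaf.H (PU i) 0) : (Γ(Z, ⊤))ˣ :=
  toU (Sheaf.H.equiv₀ (PU i) hTop x)

/-- the inverse direction -/
def ofUnitsZ (v : (Γ(Z, ⊤))ˣ) : Sheaf.H (PU i) 0 :=
  (Sheaf.H.equiv₀ (PU i) hTop).symm (ofU (V := ⊤) v)

theorem unitsZ_ofUnitsZ (v : (Γ(Z, ⊤))ˣ) : unitsZ i (ofUnitsZ i v) = v := by
  unfold unitsZ ofUnitsZ
  rw [AddEquiv.apply_symm_apply]
  rfl

theorem ofUnitsZ_unitsZ (x : Sheaf.H (PU i) 0) : ofUnitsZ i (unitsZ i x) = x := by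
  unfold unitsZ ofUnitsZ
  have : ofU (V := ⊤) (toU (Sheaf.H.equiv₀ (PU i) hTop x)) = Sheaf.H.equiv₀ (PU i) hTop x := rfl
  rw [this, AddEquiv.symm_apply_apply]

theorem ofUnitsZ_mul (v w : (Γ(Z, ⊤))ˣ) : ofUnitsZ i (v * w) = ofUnitsZ i v + ofUnitsZ i w := by
  unfold ofUnitsZ
  rw [← map_add]
  rfl

theorem unitsZ_zero : unitsZ i 0 = 1 := by
  unfold unitsZ
  rw [map_zero]
  rfl

/-- compatibility with the restriction of units -/
theorem unitsZ_map (x : Sheaf.H (UnitsSh.unitsAb X) 0) :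
    unitsZ i (Sheaf.H.map (UnitsSh.comap i) 0 x) = Units.map i.appTop.hom.toMonoidHom (unitsX x) := by
  unfold unitsZ unitsX
  rw [← Sheaf.H.equiv₀_naturality hTop (UnitsSh.comap i) x]
  rfl


section Typed

variable {K : CohTop.Ab X.toTopCat}
  (f : K ⟶ UnitsSh.unitsAb X) (w : f ≫ UnitsSh.comap i = 0)
  (hS : (ShortComplex.mk f (UnitsSh.comap i) w).ShortExact)

/-- the connecting homomorphisms, with explicit types -/
def dd (n : ℕ) : Sheaf.H (PU i) n →+ Sheaf.H K (n + 1) := dH hS n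

theorem dd_map (n : ℕ) (x : Sheaf.H (UnitsSh.unitsAb X) n) :
    dd i f w hS n (Sheaf.H.map (UnitsSh.comap i) n x) = 0 := dH_map_g hS n x

theorem map_dd (n : ℕ) (x : Sheaf.H (PU i) n) :
    Sheaf.H.map f (n + 1) (dd i f w hS n x) = 0 := map_f_dH hS n x

include hS in
theorem map_map (n : ℕ) (x : Sheaf.H K n) :
    Sheaf.H.map (UnitsSh.comap i) n (Sheaf.H.map f n x) = 0 := map_g_map_f hS n x

include hS in
theorem ex_f_g (n : ℕ) (x : Sheaf.H (UnitsSh.unitsAb X) n)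
    (hx : Sheaf.H.map (UnitsSh.comap i) n x = 0) : ∃ y : Sheaf.H K n, Sheaf.H.map f n y = x :=
  exact_f_g hS n x hx

theorem ex_g_d (n : ℕ) (x : Sheaf.H (PU i) n) (hx : dd i f w hS n x = 0) :
    ∃ y : Sheaf.H (UnitsSh.unitsAb X) n, Sheaf.H.map (UnitsSh.comap i) n y = x :=
  exact_g_d hS n x hx

theorem ex_d_f (n : ℕ) (x : Sheaf.H K (n + 1)) (hx : Sheaf.H.map f (n + 1) x = 0) :
    ∃ y : Sheaf.H (PU i) n, dd i f w hS n y = x :=
  exact_d_f hS n x hx

include hS in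
theorem inj_f : Function.Injective (Sheaf.H.map f 0) := by
  haveI : Mono f := hS.mono_f
  exact Ext.postcomp_mk₀_injective_of_mono _ f

end Typed


end Groth.Agent.Lib.Helper17.PicSeq
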