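import Groth.Agent.Lib.Helper17.NDiv
import Groth.Agent.Lib.Helper17.PicLift
import Mathlib
set_option backward.isDefEq.respectTransparency.types false
set_option autoImplicit false
set_option linter.style.haveILetI false
set_option linter.unusedSectionVars false

/-!
# The principal units of a thickening are uniquely `n`-divisible when `n` is invertible
-/

universe u
open CategoryTheory CategoryTheory.Limits AlgebraicGeometry Opposite TopologicalSpace Abelian

noncomputable section
namespace Groth.Agent.Lib.Helper17.ThickDiv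

open Groth.Agent.Lib.Helper17.H1Coc Groth.Agent.Lib.Helper17.PicLift Groth.Agent.Lib.Helper17.NDiv
open Groth.Agent.Lib.Helper28.QCohLoc

variable {X X' : Scheme.{u}} (i : X ⟶ X')

theorem nilK_of_surjective [Surjective i] : UStep.NilK i := by
  intro U r hr
  rw [Scheme.isNilpotent_iff_basicOpen_eq_bot_of_isCompact U.2.isCompact]
  have h1 : i ⁻¹ᵁ X'.basicOpen r = X.basicOpen ((i.app U.1).hom r) := Scheme.preimage_basicOpen i r
  rw [hr, Scheme.basicOpen_zero] at h1
  rw [eq_bot_iff]
  intro y hy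
  obtain ⟨x, rfl⟩ := i.surjective y
  have : x ∈ i ⁻¹ᵁ X'.basicOpen r := hy
  rw [h1] at this
  exact this

theorem nsmul_app {T : TopCat.{u}} {F G : CohTop.Ab T} (f : F ⟶ G) (k : ℕ) (V : Opens T)
    (x : F.obj.obj (op V)) : (k • f).hom.app (op V) x = k • f.hom.app (op V) x := by
  induction k with
  | zero => rw [zero_smul, zero_smul]; rfl
  | succ k ih =>
    rw [succ_nsmul, succ_nsmul, ← ih]
    rfl


theorem eq_one_of_nil_of_pow {R : Type*} [CommRing R] (n : ℕ) (hn : IsUnit (n : R)) (ρ : R)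
    (h : IsNilpotent (ρ - 1)) (hp : ρ ^ n = 1) : ρ = 1 := by
  obtain ⟨r, _, hr⟩ := existsUnique_root n hn (1 : R) (by rw [sub_self]; exact IsNilpotent.zero)
  rw [hr ρ ⟨h, hp⟩, hr 1 ⟨by rw [sub_self]; exact IsNilpotent.zero, one_pow n⟩]

section Affine

variable [IsClosedImmersion i] [Surjective i] (n : ℕ) (hu : IsUnit (n : Γ(X, ⊤)))

include hu in
theorem isUnit_natCast_down (V : X'.Opens) : IsUnit (n : Γ(X, i ⁻¹ᵁ V)) := by
  have := hu.map (X.presheaf.map (homOfLE (le_top : i ⁻¹ᵁ V ≤ ⊤)).op).hom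
  rwa [map_natCast] at this

include i hu in
theorem isUnit_natCast_up (V : X'.Opens) (hV : IsAffineOpen V) : IsUnit (n : Γ(X', V)) := by
  apply UStep.isUnit_of_isUnit_map_nil (i.app V).hom (i.app_surjective V hV)
    (fun a ha => nilK_of_surjective i ⟨V, hV⟩ a ha)
  rw [map_natCast]; exact isUnit_natCast_down i n hu V

include hu in
theorem eq_one_of_pow_eq_one (V : X'.Opens) (hV : IsAffineOpen V) (v : Γ(X', V))
    (h1 : (i.app V).hom v = 1) (hn : v ^ n = 1) : v = 1 :=
  eq_one_of_nil_of_pow n (isUnit_natCast_up i n hu V hV) v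
    (nilK_of_surjective i ⟨V, hV⟩ _ (by rw [map_sub, h1, map_one, sub_self])) hn

include hu in
/-- existence of roots of principal units on affine opens -/
theorem exists_root (V : X'.Opens) (hV : IsAffineOpen V) (v : Γ(X', V))
    (h1 : (i.app V).hom v = 1) : ∃ r : Γ(X', V), IsUnit r ∧ (i.app V).hom r = 1 ∧ r ^ n = v := by
  have hnil : IsNilpotent (v - 1) :=
    nilK_of_surjective i ⟨V, hV⟩ _ (by rw [map_sub, h1, map_one, sub_self])
  obtain ⟨r, ⟨hr1, hr2⟩, -⟩ := existsUnique_root n (isUnit_natCast_up i n hu V hV) v hnil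
  refine ⟨r, ?_, ?_, hr2⟩
  · have := hr1.isUnit_add_one
    rwa [sub_add_cancel] at this
  · apply eq_one_of_nil_of_pow n (isUnit_natCast_down i n hu V)
    · have := hr1.map (i.app V).hom
      rwa [map_sub, map_one] at this
    · rw [← map_pow, hr2, h1]

end Affine


section Sheaf

/-- the sheaf of principal units -/
abbrev K : CohTop.Ab X'.toTopCat := kernel (UnitsSh.comap i)

/-- its inclusion -/
abbrev ιK : K i ⟶ UnitsSh.unitsAb X' := kernel.ι (UnitsSh.comap i)

theorem ιK_injective (V : X'.Opens) : Function.Injective ((ιK i).hom.app (op V)) :=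
  USES.injective_app_of_mono (ιK i) (op V)

theorem comap_ιK (V : X'.Opens) (t : (K i).obj.obj (op V)) :
    (UnitsSh.comap i).hom.app (op V) ((ιK i).hom.app (op V) t) = 0 :=
  congrArg (fun φ => φ.hom.app (op V) t) (kernel.condition (UnitsSh.comap i))

theorem exists_ιK_eq [IsClosedImmersion i] (V : X'.Opens) (s : (UnitsSh.unitsAb X').obj.obj (op V))
    (hs : (UnitsSh.comap i).hom.app (op V) s = 0) : ∃ t, (ιK i).hom.app (op V) t = s :=
  exists_of_g_eq_zero (SS i) (SS_shortExact i) V s hs

theorem toUX_nsmul_val {V : X'.Opens} (s : (UnitsSh.unitsAb X').obj.obj (op V)) (k : ℕ) :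
    (toUX (k • s)).val = (toUX s).val ^ k := by
  have : toUX (k • s) = (toUX s) ^ k := rfl
  rw [this, Units.val_pow_eq_pow_val]

theorem comap_eq_zero_iff {V : X'.Opens} (s : (UnitsSh.unitsAb X').obj.obj (op V)) :
    (UnitsSh.comap i).hom.app (op V) s = 0 ↔ (i.app V).hom (toUX s).val = 1 := by
  constructor
  · intro h
    have := congrArg (fun w => (toU w).val) h
    exact this
  · intro h
    apply toU_injective
    apply Units.ext
    exact h

theorem toUX_eq_zero_iff {V : X'.Opens} (s : (UnitsSh.unitsAb X').obj.obj (op V)) :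
    s = 0 ↔ (toUX s).val = 1 := by
  constructor
  · intro h; rw [h]; rfl
  · intro h
    have : toUX s = 1 := Units.ext h
    exact this

variable [IsClosedImmersion i] [Surjective i] (n : ℕ) (hu : IsUnit (n : Γ(X, ⊤)))

include hu in
theorem mono_nsmul : Mono (n • 𝟙 (K i)) := by
  apply USES.mono_of_injective_app
  intro V
  rw [injective_iff_map_eq_zero]
  intro t ht
  obtain ⟨V⟩ := V
  rw [nsmul_app] at ht
  have ht' : n • t = 0 := ht
  apply ιK_injective i V
  rw [map_zero]
  set s := (ιK i).hom.app (op V) t with hs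
  have hns : n • s = 0 := by rw [hs, ← map_nsmul, ht', map_zero]
  have hcs : (UnitsSh.comap i).hom.app (op V) s = 0 := comap_ιK i V t
  apply eq_of_gm_eq
  intro x hx
  obtain ⟨_, ⟨V', hV', rfl⟩, hxV', hV'V⟩ := X'.isBasis_affineOpens.exists_subset_of_mem_open hx V.2
  have hle : V' ≤ V := hV'V
  rw [← gm_rs (UnitsSh.unitsAb X') hle x hxV' s, ← gm_rs (UnitsSh.unitsAb X') hle x hxV' 0, map_zero]
  congr 1
  rw [toUX_eq_zero_iff]
  apply eq_one_of_pow_eq_one i n hu V' hV'
  · rw [← comap_eq_zero_iff, rs_naturality, hcs, map_zero]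
  · rw [← toUX_nsmul_val, ← map_nsmul, hns, map_zero]
    rfl

include hu in
theorem epi_nsmul : Epi (n • 𝟙 (K i)) := by
  refine (TopCat.Sheaf.isLocallySurjective_iff_epi _).1 ?_
  rw [TopCat.Presheaf.isLocallySurjective_iff]
  intro V t x hx
  obtain ⟨_, ⟨V', hV', rfl⟩, hxV', hV'V⟩ := X'.isBasis_affineOpens.exists_subset_of_mem_open hx V.2
  refine ⟨V', hV'V, ?_, hxV'⟩
  generalize TopCat.Presheaf.restrictOpen t V' hV'V = w
  set s := (ιK i).hom.app (op V') w with hs
  have hcs : (i.app V').hom (toUX s).val = 1 := (comap_eq_zero_iff i s).1 (comap_ιK i V' w)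
  obtain ⟨r, hr, hr1, hrn⟩ := exists_root i n hu V' hV' (toUX s).val hcs
  let σ : (UnitsSh.unitsAb X').obj.obj (op V') :=
    UnitsSh.sectOfUnit (O := X'.presheaf) (U := op V') hr.unit
  have hσ : (UnitsSh.comap i).hom.app (op V') σ = 0 := (comap_eq_zero_iff i σ).2 hr1
  obtain ⟨t', ht'⟩ := exists_ιK_eq i V' σ hσ
  refine ⟨t', ?_⟩
  rw [nsmul_app]
  apply ιK_injective i V'
  change (ιK i).hom.app (op V') (n • t') = s
  rw [map_nsmul, ht']
  have : toUX (n • σ) = toUX s := by
    apply Units.ext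
    rw [toUX_nsmul_val]
    exact hrn
  exact this

include hu in
/-- **multiplication by `n` is an automorphism of the sheaf of principal units of a thickening** -/
theorem isIso_nsmul : IsIso (n • 𝟙 (K i)) := by
  haveI := mono_nsmul i n hu
  haveI := epi_nsmul i n hu
  exact isIso_of_mono_of_epi _

end Sheaf

end Groth.Agent.Lib.Helper17.ThickDiv
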