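import Groth.Agent.Lib.Helper17.PicH1I
import Groth.Agent.Lib.Helper17.PicSeqA
import Groth.Agent.Lib.Helper17.ThickDiv
import Mathlib
set_option backward.isDefEq.respectTransparency.types false
set_option autoImplicit false
set_option linter.style.haveILetI false
set_option linter.unusedSectionVars false

/-!
# Roots of invertible modules along thickenings
-/

universe u
open CategoryTheory CategoryTheory.Limits AlgebraicGeometry Opposite TopologicalSpace Abelian

noncomputable section
namespace Groth.Agent.Lib.Helper17.PicH1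

open Groth.Agent.Lib.Helper6 Groth.Agent.Lib.Helper17.H1Coc Groth.Agent.Lib.Helper17.PicLift
open Groth.Agent.Lib.Helper28 Groth.Agent.Lib.Helper28.QCohLoc Groth.Agent.Lib.Helper28.GenLocus
open Groth.Agent.Lib.Helper17 Groth.Agent.Lib.Helper17.LES Groth.Agent.Lib.Helper17.PicSeq

variable {Z X : Scheme.{u}}

theorem isCls_structureModule : IsCls (Coh.structureModule X) 0 := by
  let D : TD (Coh.structureModule X) :=
    { W := fun _ => ⊤
      e := fun _ => oneSec X ⊤
      mem := fun _ => trivial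
      isGen := fun _ => isGen_oneSec ⊤
      u := fun _ _ => 1
      hu := fun a b => by rw [Units.val_one, one_smul] }
  exact ⟨D, Rep.zero⟩

theorem IsCls.tensorPow {L : X.Modules} {c : Sheaf.H (UnitsSh.unitsAb X) 1} (h : IsCls L c) (n : ℕ) :
    IsCls (CohB1.tensorPow L n) (n • c) := by
  induction n with
  | zero => rw [zero_smul]; exact isCls_structureModule
  | succ n ih => rw [succ_nsmul]; exact ih.tensor h

theorem isClsI_structureModule (i : Z ⟶ X) : IsClsI i (Coh.structureModule Z) 0 := by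
  let D : TrivData i (Coh.structureModule Z) :=
    { W := fun _ => ⊤
      e := fun _ => oneSec Z (i ⁻¹ᵁ ⊤)
      mem := fun _ => trivial
      isGen := fun _ => isGen_oneSec _
      u := fun _ _ => 1
      hu := fun a b => by rw [Units.val_one, one_smul] }
  exact ⟨D, Rep.zero⟩

theorem IsClsI.tensorPow {i : Z ⟶ X} {L : Z.Modules} {c : Sheaf.H (PU i) 1} (h : IsClsI i L c)
    (n : ℕ) : IsClsI i (CohB1.tensorPow L n) (n • c) := by
  induction n with
  | zero => rw [zero_smul]; exact isClsI_structureModule i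
  | succ n ih => rw [succ_nsmul]; exact ih.tensor h

/-- **roots of invertible modules extend along thickenings** -/
theorem exists_root (i : Z ⟶ X) [IsClosedImmersion i] [Surjective i] (n : ℕ)
    (hu : IsUnit (n : Γ(Z, ⊤))) (L : X.Modules) (hL : PicF.IsInvertible L)
    (L' : Z.Modules) (hL' : PicF.IsInvertible L')
    (τ : CohB1.tensorPow L' n ≅ (Scheme.Modules.pullback i).obj L) :
    ∃ M : X.Modules, PicF.IsInvertible M ∧ Nonempty (CohB1.tensorPow M n ≅ L) := by
  obtain ⟨cL, hcL⟩ := exists_isCls L hL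
  obtain ⟨c', hc'⟩ := exists_isClsI (i := i) L' hL'
  have hS : (ShortComplex.mk (kernel.ι (UnitsSh.comap i)) (UnitsSh.comap i)
      (kernel.condition _)).ShortExact := SS_shortExact i
  have hK := ThickDiv.isIso_nsmul i n hu
  have hdiv2 := (NDiv.H_uniquely_divisible (kernel (UnitsSh.comap i)) n hK 2).2
  have hdiv1 := (NDiv.H_uniquely_divisible (kernel (UnitsSh.comap i)) n hK 1).1
  have h1 : n • c' = Sheaf.H.map (UnitsSh.comap i) 1 cL :=
    ((IsClsI.tensorPow hc' n).of_iso τ).unique (hcL.pull i)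
  have hob : dd i _ _ hS 1 c' = 0 := by
    apply hdiv2
    rw [← map_nsmul (dd i _ _ hS 1) n c', h1]
    exact dd_map i _ _ hS 1 cL
  obtain ⟨c₂, hc₂⟩ := ex_g_d i _ _ hS 1 c' hob
  have h4 : Sheaf.H.map (UnitsSh.comap i) 1 (n • c₂ - cL) = 0 := by
    rw [map_sub, map_nsmul (Sheaf.H.map (UnitsSh.comap i) 1) n c₂, hc₂, h1, sub_self]
  obtain ⟨k, hk⟩ := ex_f_g i _ _ hS 1 _ h4
  obtain ⟨k', hkk'⟩ := hdiv1 k
  obtain ⟨M, hM, hcM⟩ := exists_isCls_of_class (c₂ - Sheaf.H.map (kernel.ι (UnitsSh.comap i)) 1 k')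
  refine ⟨M, hM, ?_⟩
  have h5 : n • (c₂ - Sheaf.H.map (kernel.ι (UnitsSh.comap i)) 1 k') = cL := by
    rw [smul_sub, ← map_nsmul (Sheaf.H.map (kernel.ι (UnitsSh.comap i)) 1) n k', hkk', hk]
    abel
  have h6 := hcM.tensorPow n
  rw [h5] at h6
  exact h6.iso_of_eq hcL

end Groth.Agent.Lib.Helper17.PicH1
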