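import Groth.Agent.Lib.Helper17.PicLiftB
import Groth.Agent.Lib.Helper17.ThickDiv
import Groth.Agent.Lib.Helper28.TensorPowGen
import Mathlib
set_option backward.isDefEq.respectTransparency.types false
set_option autoImplicit false
set_option linter.style.haveILetI false
set_option linter.unusedSectionVars false

/-!
# Torsion invertible modules lift along thickenings
-/

universe u
open CategoryTheory CategoryTheory.Limits AlgebraicGeometry Opposite TopologicalSpace Abelian

noncomputable section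
namespace Groth.Agent.Lib.Helper17.PicLift

open Groth.Agent.Lib.Helper6 Groth.Agent.Lib.Helper17.H1Coc
open Groth.Agent.Lib.Helper28 Groth.Agent.Lib.Helper28.QCohLoc Groth.Agent.Lib.Helper28.GenLocus
open Groth.Agent.Lib.Helper17 Groth.Agent.Lib.Helper28.PullbackInv

variable {Z X : Scheme.{u}} {i : Z ⟶ X}

section T1

variable {V : X → X.Opens} {g : Coch (UnitsSh.unitsAb X) V}

/-- if the `n`-th power of a unit cocycle is a coboundary, the `n`-th tensor power of its module is trivial -/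
theorem nonempty_tensorPow_Lof_iso (hg : IsCoc g) (hyV : ∀ y, y ∈ V y) (n : ℕ)
    (d : ∀ y, (UnitsSh.unitsAb X).obj.obj (op (V y)))
    (hd : ∀ (y z : X) (x : X) (hy : x ∈ V y) (hz : x ∈ V z),
      gm (UnitsSh.unitsAb X) (V y ⊓ V z) x ⟨hy, hz⟩ (n • g y z) =
        gm (UnitsSh.unitsAb X) (V y) x hy (d y) - gm (UnitsSh.unitsAb X) (V z) x hz (d z)) :
    Nonempty (CohB1.tensorPow (Lof g) n ≅ Coh.structureModule X) := by
  have hd' : ∀ y z : X, γ g y z ^ n * resO (inf_le_right : V y ⊓ V z ≤ V z) (toUX (d z)).val =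
      resO (inf_le_left : V y ⊓ V z ≤ V y) (toUX (d y)).val := by
    intro y z
    have h1 : n • g y z + rs (UnitsSh.unitsAb X) inf_le_right (d z) =
        rs (UnitsSh.unitsAb X) inf_le_left (d y) := by
      apply eq_of_gm_eq
      intro x hx
      rw [gm_add, gm_rs, gm_rs, hd y z x hx.1 hx.2]
      abel
    have h2 := congrArg (fun s => (toUX s).val) h1
    have h3 : (toUX (n • g y z + rs (UnitsSh.unitsAb X) inf_le_right (d z))).val =
        γ g y z ^ n * resO (inf_le_right : V y ⊓ V z ≤ V z) (toUX (d z)).val := by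
      rw [toUX_add, Units.val_mul, ThickDiv.toUX_nsmul_val, toUX_rs_val]
      rfl
    rw [← h3]
    exact h2
  let M : X.Modules := CohB1.tensorPow (Lof g) n
  let gM : ∀ y : X, Γ(M, V y) := fun y => gpow (Lof g) (genOf hg y) n
  have hgM : ∀ y, IsGen M (V y) (gM y) := fun y => isGen_gpow (isGen_genOf hg y) n
  let gN : ∀ y : X, Γ(Coh.structureModule X, V y) := fun y =>
    ((toUX (d y)).val • oneSec X (V y) : Γ(Coh.structureModule X, V y))
  have hgN : ∀ y, IsGen (Coh.structureModule X) (V y) (gN y) := fun y =>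
    InvDescLoc.IsGen.smul_unit (isGen_oneSec (V y)) _ (toUX (d y)).isUnit
  have hcoc : ∀ y z : X, ∃ c : Γ(X, V y ⊓ V z),
      res M inf_le_left (gM y) = (c • res M inf_le_right (gM z) : Γ(M, V y ⊓ V z)) ∧
      res (Coh.structureModule X) inf_le_left (gN y) =
        (c • res (Coh.structureModule X) inf_le_right (gN z) : Γ(Coh.structureModule X, V y ⊓ V z)) := by
    intro y z
    refine ⟨γ g y z ^ n, ?_, ?_⟩
    · change res (CohB1.tensorPow (Lof g) n) _ (gpow (Lof g) (genOf hg y) n) =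
        (_ • res (CohB1.tensorPow (Lof g) n) _ (gpow (Lof g) (genOf hg z) n) :
          Γ(CohB1.tensorPow (Lof g) n, V y ⊓ V z))
      rw [gpow_res, gpow_res, genOf_rel hg y z, gpow_smul]
    · change res (Coh.structureModule X) _ ((toUX (d y)).val • oneSec X (V y) : Γ(Coh.structureModule X, V y)) =
        (_ • res (Coh.structureModule X) _ ((toUX (d z)).val • oneSec X (V z) : Γ(Coh.structureModule X, V z)) :
          Γ(Coh.structureModule X, V y ⊓ V z))
      rw [res_smul, res_smul, res_oneSec, res_oneSec, ← mul_smul, hd' y z]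
  obtain ⟨ψ, -⟩ := exists_iso_of_cocycle_gen (fun y : X => V y) gM gN hgM hgN
    (fun z => ⟨z, hyV z⟩) hcoc
  exact ⟨ψ⟩

end T1


section T2

open Groth.Agent.Lib.Helper28.VeryAmpleImm

variable {L₀ : Z.Modules}

theorem toU_nsmul_val {V : X.Opens} (s : (PU i).obj.obj (op V)) (k : ℕ) :
    (toU (k • s)).val = (toU s).val ^ k := by
  have : toU (k • s) = (toU s) ^ k := rfl
  rw [this, Units.val_pow_eq_pow_val]

/-- if the `n`-th tensor power of `L₀` is trivial, the `n`-th power of its unit cocycle is a coboundary -/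
theorem TrivData.exists_coboundary_nsmul (D : TrivData i L₀) (n : ℕ)
    (τ : CohB1.tensorPow L₀ n ≅ Coh.structureModule Z) :
    ∃ b : ∀ a, (PU i).obj.obj (op (D.W a)),
      ∀ (a a' : X) (x : X) (ha : x ∈ D.W a) (ha' : x ∈ D.W a'),
        gm (PU i) (D.W a ⊓ D.W a') x ⟨ha, ha'⟩ (n • D.η a a') =
          gm (PU i) (D.W a) x ha (b a) - gm (PU i) (D.W a') x ha' (b a') := by
  have hc : ∀ a : X, ∃ c : (Γ(Z, i ⁻¹ᵁ D.W a))ˣ,
      τ.hom.app (i ⁻¹ᵁ D.W a) (gpow L₀ (D.e a) n) =
        (c.val • oneSec Z (i ⁻¹ᵁ D.W a) : Γ(Coh.structureModule Z, i ⁻¹ᵁ D.W a)) :=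
    fun a => exists_unit_of_isGen (isGen_app_iso τ (isGen_gpow (D.isGen a) n)) (isGen_oneSec _)
  choose c hc using hc
  have hrel : ∀ a a' : X,
      resO (i.preimage_mono (inf_le_left : D.W a ⊓ D.W a' ≤ D.W a)) (c a).val =
        (D.u a a').val ^ n * resO (i.preimage_mono (inf_le_right : D.W a ⊓ D.W a' ≤ D.W a')) (c a').val := by
    intro a a'
    apply ((isGen_oneSec (X := Z) (i ⁻¹ᵁ (D.W a ⊓ D.W a'))) _ le_rfl).1
    show (_ • res _ le_rfl (oneSec Z _) : Γ(Coh.structureModule Z, _)) =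
      (_ • res _ le_rfl (oneSec Z _) : Γ(Coh.structureModule Z, _))
    rw [res_self]
    have h1 := congrArg (res (Coh.structureModule Z)
      (i.preimage_mono (inf_le_left : D.W a ⊓ D.W a' ≤ D.W a))) (hc a)
    have h2 := congrArg (res (Coh.structureModule Z)
      (i.preimage_mono (inf_le_right : D.W a ⊓ D.W a' ≤ D.W a'))) (hc a')
    rw [res_smul, res_oneSec, ← app_res, gpow_res] at h1 h2
    rw [D.hu a a', gpow_smul, Scheme.Modules.Hom.app_smul, h2, ← mul_smul] at h1
    exact h1.symm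
  refine ⟨fun a => ofU (c a), fun a a' x ha ha' => ?_⟩
  have h1 : n • D.η a a' + rs (PU i) inf_le_right (ofU (c a')) = rs (PU i) inf_le_left (ofU (c a)) := by
    apply toU_injective
    apply Units.ext
    rw [toU_add, Units.val_mul, toU_nsmul_val, toU_rs_val, toU_rs_val]
    exact (hrel a a').symm
  have h2 := congrArg (gm (PU i) (D.W a ⊓ D.W a') x ⟨ha, ha'⟩) h1
  rw [gm_add, gm_rs, gm_rs] at h2
  rw [← h2]
  abel

end T2


section T3

variable (i)

/-- **torsion invertible modules lift along thickenings (with the torsion preserved)** -/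
theorem exists_torsion_lift [IsClosedImmersion i] [Surjective i] (n : ℕ) (hu : IsUnit (n : Γ(Z, ⊤)))
    (L₀ : Z.Modules) (hL₀ : PicF.IsInvertible L₀)
    (τ : CohB1.tensorPow L₀ n ≅ Coh.structureModule Z) :
    ∃ L : X.Modules, PicF.IsInvertible L ∧
      Nonempty (CohB1.tensorPow L n ≅ Coh.structureModule X) ∧
      Nonempty ((Scheme.Modules.pullback i).obj L ≅ L₀) := by
  obtain ⟨D⟩ := nonempty_trivData i L₀ hL₀
  have hcov : ∀ x : X, ∃ a, x ∈ D.W a := fun x => ⟨x, D.mem x⟩
  obtain ⟨c₃, hc₃⟩ := exists_rep hcov D.η D.isCoc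
  obtain ⟨b₀, hb₀⟩ := D.exists_coboundary_nsmul n τ
  have hn3 : n • c₃ = 0 := by
    have h1 := hc₃.nsmul n
    have h2 : Rep (G := PU i) (U := D.W) (fun a b => n • D.η a b) 0 :=
      (Rep.zero (G := PU i) (U := D.W)).of_coboundary b₀ (fun a a' x ha ha' => by
        rw [hb₀ a a' x ha ha', gm_zero, zero_add])
    exact Rep.unique hcov h1 h2
  have hS := SS_shortExact i
  have hK := ThickDiv.isIso_nsmul i n hu
  have hdiv2 := (NDiv.H_uniquely_divisible (kernel (UnitsSh.comap i)) n hK 2).2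
  have hdiv1 := (NDiv.H_uniquely_divisible (kernel (UnitsSh.comap i)) n hK 1).1
  have hob : c₃.comp hS.extClass (rfl : 1 + 1 = 2) = 0 := by
    apply hdiv2
    have h := map_nsmul (hS.extClass.postcomp
      ((constantSheaf (Opens.grothendieckTopology X.toTopCat) AddCommGrpCat).obj
        (AddCommGrpCat.of (ULift ℤ))) (rfl : 1 + 1 = 2)) n c₃
    have h' : n • c₃.comp hS.extClass (rfl : 1 + 1 = 2) =
        (n • c₃).comp hS.extClass (rfl : 1 + 1 = 2) := h.symm
    refine h'.trans ?_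
    have h0 : (n • c₃).comp hS.extClass (rfl : 1 + 1 = 2) =
        (0 : Sheaf.H (PU i) 1).comp hS.extClass (rfl : 1 + 1 = 2) := by rw [hn3]
    exact h0.trans (Ext.zero_comp _ 1 hS.extClass 2 (rfl : 1 + 1 = 2))
  obtain ⟨c₂, hc₂'⟩ : ∃ c₂ : Sheaf.H (UnitsSh.unitsAb X) 1,
      Sheaf.H.map (UnitsSh.comap i) 1 c₂ = c₃ := Ext.covariant_sequence_exact₃ _ hS c₃ rfl hob
  have h4 : Sheaf.H.map (UnitsSh.comap i) 1 (n • c₂) = 0 := by
    rw [map_nsmul (Sheaf.H.map (UnitsSh.comap i) 1) n c₂, hc₂', hn3]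
  obtain ⟨k, hk'⟩ : ∃ k : Sheaf.H (kernel (UnitsSh.comap i)) 1,
      Sheaf.H.map (kernel.ι (UnitsSh.comap i)) 1 k = n • c₂ :=
    Ext.covariant_sequence_exact₂ _ hS (n • c₂) h4
  obtain ⟨k', hkk'⟩ := hdiv1 k
  let c₂' := c₂ - Sheaf.H.map (kernel.ι (UnitsSh.comap i)) 1 k'
  have hn2 : n • c₂' = 0 := by
    change n • (c₂ - Sheaf.H.map (kernel.ι (UnitsSh.comap i)) 1 k') = 0
    rw [smul_sub, ← map_nsmul (Sheaf.H.map (kernel.ι (UnitsSh.comap i)) 1) n k', hkk', hk', sub_self]
  have hc₂'' : Sheaf.H.map (UnitsSh.comap i) 1 c₂' = c₃ := by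
    change Sheaf.H.map (UnitsSh.comap i) 1 (c₂ - Sheaf.H.map (kernel.ι (UnitsSh.comap i)) 1 k') = c₃
    rw [map_sub, hc₂', ← Sheaf.H.map_comp_apply, kernel.condition, NDiv.H_map_zero', sub_zero]
  obtain ⟨V, r, hV, hyV, g, hg, hrep⟩ := exists_rep_refinement c₂' D.W hcov
  have h1 := hrep.map (UnitsSh.comap i)
  rw [hc₂''] at h1
  have h3 := hc₃.refine V r hV
  obtain ⟨b, hb⟩ := exists_coboundary_of_rep h1 h3
  have hiso := nonempty_pullback_Lof_iso D V r hV hyV g hg b (fun y z x hy hz => by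
    have := hb y z x hy hz
    rw [gm_rs] at this
    rw [sub_eq_iff_eq_add] at this
    rw [this]
    abel)
  have h5 := hrep.nsmul n
  rw [hn2] at h5
  obtain ⟨d, hd⟩ := h5.exists_coboundary_of_zero
  exact ⟨Lof g, isInvertible_Lof hg hyV, nonempty_tensorPow_Lof_iso hg hyV n d hd, hiso⟩

end T3

end Groth.Agent.Lib.Helper17.PicLift
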