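import Mathlib

/-!
# `N^n ≅ R^n` implies `N^{⊗n} ≅ R` for invertible modules (helper17)
-/

set_option autoImplicit false

namespace Groth.Agent.Lib.Helper17.PicTorsion

open TensorProduct PiTensorProduct

universe u v

variable {R : Type u} [CommRing R] {N : Type v} [AddCommGroup N] [Module R N]

/-- `⨂^(n+1) N ≃ ⨂^n N ⊗ N` -/
noncomputable def succEquiv (n : ℕ) :
    (⨂[R] _ : Fin (n + 1), N) ≃ₗ[R] (⨂[R] _ : Fin n, N) ⊗[R] N :=
  (TensorPower.mulEquiv (R := R) (M := N) (n := n) (m := 1)).symm ≪≫ₗ
    TensorProduct.congr (LinearEquiv.refl R _) (subsingletonEquiv (0 : Fin 1))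

theorem invertible_tensorPower_and_pic [Module.Invertible R N] : ∀ n : ℕ,
    ∃ (_ : Module.Invertible R (⨂[R] _ : Fin n, N)),
      CommRing.Pic.mk R (⨂[R] _ : Fin n, N) = CommRing.Pic.mk R N ^ n := by
  intro n
  induction n with
  | zero =>
    haveI : Module.Invertible R (⨂[R] _ : Fin 0, N) :=
      Module.Invertible.congr (isEmptyEquiv (R := R) (s := fun _ : Fin 0 => N) (Fin 0)).symm
    refine ⟨this, ?_⟩
    rw [pow_zero, CommRing.Pic.mk_eq_one_iff]
    exact ⟨isEmptyEquiv (Fin 0)⟩
  | succ n ih =>
    obtain ⟨h1, h2⟩ := ih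
    haveI : Module.Invertible R (⨂[R] _ : Fin (n + 1), N) :=
      Module.Invertible.congr (succEquiv (R := R) (N := N) n).symm
    refine ⟨this, ?_⟩
    rw [pow_succ, ← h2, ← CommRing.Pic.mk_tensor, CommRing.Pic.mk_eq_mk_iff]
    exact ⟨succEquiv n⟩

section det

variable {n : ℕ} (e : (Fin n → N) ≃ₗ[R] (Fin n → R))

/-- the multilinear determinant `⨂^n N → R` attached to `e : N^n ≃ R^n` -/
noncomputable def detMap : (⨂[R] _ : Fin n, N) →ₗ[R] R :=
  PiTensorProduct.lift ((Matrix.detRowAlternating (n := Fin n) (R := R)).toMultilinearMap.compLinearMap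
    (fun j => (e : (Fin n → N) →ₗ[R] (Fin n → R)) ∘ₗ LinearMap.single R (fun _ => N) j))

lemma detMap_tprod (y : Fin n → N) :
    detMap e (tprod R y) = Matrix.det (Matrix.of fun j i => e (Pi.single j (y j)) i) := by
  simp only [detMap, lift.tprod]
  rfl

variable [Module.Invertible R N]

lemma swap (lam : Module.Dual R N) (x y : N) : lam x • y = lam y • x := by
  have h := Module.Invertible.tmul_comm (R := R) (m₁ := x) (m₂ := y)
  have h2 := congrArg (fun t => TensorProduct.lid R N (LinearMap.rTensor N lam t)) h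
  simpa using h2

lemma pow_mem_range (lam : Module.Dual R N) (x : N) : lam x ^ n ∈ LinearMap.range (detMap e) := by
  classical
  set M : Matrix (Fin n) (Fin n) R := Matrix.of fun j i => e (Pi.single j x) i with hM
  set L : Matrix (Fin n) (Fin n) R := Matrix.of fun i j => lam ((e.symm (Pi.single i 1)) j) with hL
  have hLM : L * M = lam x • (1 : Matrix (Fin n) (Fin n) R) := by
    ext i k
    rw [Matrix.mul_apply]
    have h1 : ∀ j, L i j * M j k = lam x * e (Pi.single j ((e.symm (Pi.single i 1)) j)) k := by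
      intro j
      simp only [hL, hM, Matrix.of_apply]
      have : lam ((e.symm (Pi.single i 1)) j) • x = lam x • (e.symm (Pi.single i 1)) j :=
        swap lam _ _
      have h3 : lam ((e.symm (Pi.single i 1)) j) * e (Pi.single j x) k =
          e (Pi.single j (lam ((e.symm (Pi.single i 1)) j) • x)) k := by
        rw [Pi.single_smul, map_smul]
        rfl
      rw [h3, this, Pi.single_smul, map_smul]
      rfl
    simp_rw [h1]
    rw [← Finset.mul_sum]
    have h4 : ∑ j, e (Pi.single j ((e.symm (Pi.single i 1)) j)) k =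
        e (∑ j, Pi.single j ((e.symm (Pi.single i 1)) j)) k := by
      rw [map_sum, Finset.sum_apply]
    rw [h4, Finset.univ_sum_single, LinearEquiv.apply_symm_apply]
    simp [Matrix.one_apply, Pi.single_apply, eq_comm]
  have hdet : L.det * M.det = lam x ^ n := by
    rw [← Matrix.det_mul, hLM, Matrix.det_smul, Matrix.det_one, mul_one, Fintype.card_fin]
  refine ⟨L.det • tprod R (fun _ => x), ?_⟩
  rw [map_smul, detMap_tprod, smul_eq_mul]
  exact hdet

lemma detMap_surjective : Function.Surjective (detMap e) := by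
  rw [← LinearMap.range_eq_top]
  by_contra hne
  obtain ⟨m, hm, hle⟩ := Ideal.exists_le_maximal (LinearMap.range (detMap e)) hne
  have key : ∀ t : Module.Dual R N ⊗[R] N, contractLeft R N t ∈ m := by
    intro t
    induction t using TensorProduct.induction_on with
    | zero => simp
    | add a b ha hb => rw [map_add]; exact m.add_mem ha hb
    | tmul lam x =>
      rw [contractLeft_apply]
      exact hm.isPrime.mem_of_pow_mem n (hle (pow_mem_range e lam x))
  obtain ⟨t, ht⟩ := (Module.Invertible.bijective (R := R) (M := N)).2 1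
  exact hm.ne_top ((Ideal.eq_top_iff_one m).mpr (ht ▸ key t))

include e in
/-- **`N^n ≅ R^n` implies `N^{⊗n} ≅ R`.** -/
theorem nonempty_tensorPower_equiv : Nonempty ((⨂[R] _ : Fin n, N) ≃ₗ[R] R) := by
  obtain ⟨h1, -⟩ := invertible_tensorPower_and_pic (R := R) (N := N) n
  exact ⟨LinearEquiv.ofBijective (detMap e)
    (Module.Invertible.bijective_of_surjective (detMap_surjective e))⟩

include e in
theorem pic_mk_pow_eq_one : CommRing.Pic.mk R N ^ n = 1 := by
  obtain ⟨h1, h2⟩ := invertible_tensorPower_and_pic (R := R) (N := N) n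
  rw [← h2, CommRing.Pic.mk_eq_one_iff]
  exact nonempty_tensorPower_equiv e

end det

end Groth.Agent.Lib.Helper17.PicTorsion
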