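import Groth.Agent.Lib.Helper17.UFDPic
import Groth.Agent.Lib.Helper28.AmpleIso
import Mathlib
set_option backward.isDefEq.respectTransparency.types false
set_option autoImplicit false
universe u

/-!
# Triviality of the Picard group is invariant under isomorphisms; generators over factorial affine opens
-/

namespace Groth.Agent.Lib.Helper17.PicTransport
open CategoryTheory AlgebraicGeometry
open Groth.Agent.Lib.Helper28 Groth.Agent.Lib.Helper28.QCohLoc Groth.Agent.Lib.Helper28.GenLocus

/-- every invertible module is trivial -/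
def PicTriv (Y : Scheme.{u}) : Prop :=
  ∀ N : Y.Modules, PicF.IsInvertible N → Nonempty (N ≅ Coh.structureModule Y)

theorem picTriv_of_iso {Y Y' : Scheme.{u}} (e : Y ≅ Y') (h : PicTriv Y') : PicTriv Y := by
  intro N hN
  obtain ⟨φ⟩ := h (N.restrict e.inv) (AmpleIso.isInvertible_restrict e.inv N hN)
  refine ⟨(Scheme.Modules.restrictFunctorId.symm.app N) ≪≫
    ((Scheme.Modules.restrictFunctorCongr (f := 𝟙 Y) (g := e.hom ≫ e.inv) e.hom_inv_id.symm).app N) ≪≫
    ((Scheme.Modules.restrictFunctorComp e.hom e.inv).app N) ≪≫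
    ((Scheme.Modules.restrictFunctor e.hom).mapIso φ) ≪≫ Scheme.Modules.restrictUnitIso e.hom⟩

theorem picTriv_spec (B : Type u) [CommRing B] [IsDomain B] [UniqueFactorizationMonoid B] :
    PicTriv (Spec (CommRingCat.of B)) := by
  refine picTriv_of_iso (Spec (CommRingCat.of B)).topIso.symm ?_
  intro N hN
  exact UFDPic.nonempty_iso_structureModule B ⊤ N hN

/-- an invertible module has a generator over every affine open whose coordinate ring is factorial -/
theorem exists_isGen_of_ufd {X : Scheme.{u}} (L : X.Modules) (hL : PicF.IsInvertible L) (U : X.Opens)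
    (B : Type u) [CommRing B] [IsDomain B] [UniqueFactorizationMonoid B]
    (e : (↑U : Scheme.{u}) ≅ Spec (CommRingCat.of B)) :
    ∃ g : Γ(L, U), IsGen L U g := by
  obtain ⟨φ⟩ := picTriv_of_iso e (picTriv_spec B) (L.restrict U.ι) (AmpleIso.isInvertible_restrict U.ι L hL)
  obtain ⟨g, hg⟩ := exists_isGen_of_iso L U φ
  have key : ∀ (W : X.Opens) (hW : W = U) (g : Γ(L, W)), IsGen L W g → ∃ g' : Γ(L, U), IsGen L U g' := by
    intro W hW g₁ hg₁
    subst hW
    exact ⟨g₁, hg₁⟩
  exact key _ (Scheme.Opens.ι_image_top _) g hg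

end Groth.Agent.Lib.Helper17.PicTransport
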