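import Mathlib
set_option autoImplicit false
universe u
open TensorProduct

namespace Groth.Agent.Lib.Helper17.PinchAlg

variable {B B' A : Type u} [CommRing B] [CommRing B'] [CommRing A] [Algebra B B'] [Algebra B A]
  (M : Type u) [AddCommGroup M] [Module B M]

/-- If `B → B'` is surjective with kernel `I` and `B' ⊗_B M = 0` then `M = I M`. -/
theorem smul_top_eq_top_of_subsingleton_tensor (hu : Function.Surjective (algebraMap B B'))
    (hB' : Subsingleton (B' ⊗[B] M)) :
    (RingHom.ker (algebraMap B B')) • (⊤ : Submodule B M) = ⊤ := by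
  set I := RingHom.ker (algebraMap B B') with hI
  have e1 : (B ⧸ I) ≃ₐ[B] B' := Ideal.quotientKerAlgEquivOfSurjective (f := Algebra.ofId B B') hu
  have e2 : ((B ⧸ I) ⊗[B] M) ≃ₗ[B] (B' ⊗[B] M) :=
    TensorProduct.congr e1.toLinearEquiv (LinearEquiv.refl B M)
  have e3 := TensorProduct.quotTensorEquivQuotSMul M I
  have : Subsingleton (M ⧸ (I • ⊤ : Submodule B M)) := (e3.symm.trans e2).toEquiv.subsingleton
  exact Submodule.Quotient.subsingleton_iff.mp this

/-- Pinching: `ker f ∩ I = 0`, `I A = f(I)`, `A ⊗_B M = 0` imply `I M = 0`. -/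
theorem smul_eq_zero_of_subsingleton_tensor
    (h1 : RingHom.ker (algebraMap B A) ⊓ RingHom.ker (algebraMap B B') = ⊥)
    (h2 : ∀ a ∈ Ideal.map (algebraMap B A) (RingHom.ker (algebraMap B B')),
      ∃ i ∈ RingHom.ker (algebraMap B B'), algebraMap B A i = a)
    (hA : Subsingleton (A ⊗[B] M)) (i : B) (hi : i ∈ RingHom.ker (algebraMap B B')) (m : M) :
    i • m = 0 := by
  classical
  set I := RingHom.ker (algebraMap B B') with hI
  -- σ a = the unique element of I mapping to f(i) * a
  have hmem : ∀ a : A, algebraMap B A i * a ∈ Ideal.map (algebraMap B A) I :=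
    fun a => Ideal.mul_mem_right _ _ (Ideal.mem_map_of_mem _ hi)
  choose σ hσI hσ using fun a : A => h2 _ (hmem a)
  have huniq : ∀ x y : B, x ∈ I → y ∈ I → algebraMap B A x = algebraMap B A y → x = y := by
    intro x y hx hy hxy
    have : x - y ∈ RingHom.ker (algebraMap B A) ⊓ I :=
      ⟨show x - y ∈ RingHom.ker (algebraMap B A) by rw [RingHom.mem_ker, map_sub, hxy, sub_self], I.sub_mem hx hy⟩
    rw [h1] at this
    exact sub_eq_zero.mp this
  have hσ_add : ∀ a b, σ (a + b) = σ a + σ b := fun a b =>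
    huniq _ _ (hσI _) (I.add_mem (hσI _) (hσI _)) (by rw [map_add, hσ, hσ, hσ, mul_add])
  have hσ_smul : ∀ (b : B) a, σ (b • a) = b * σ a := fun b a =>
    huniq _ _ (hσI _) (I.mul_mem_left _ (hσI _))
      (by rw [map_mul, hσ, hσ, Algebra.smul_def]; ring)
  let ψ : A →ₗ[B] M →ₗ[B] M :=
    { toFun := fun a => (σ a) • (LinearMap.id : M →ₗ[B] M)
      map_add' := fun a b => by rw [hσ_add, add_smul]
      map_smul' := fun b a => by rw [hσ_smul, mul_smul]; rfl }
  let L : A ⊗[B] M →ₗ[B] M := TensorProduct.lift ψ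
  have h3 : L ((1 : A) ⊗ₜ m) = σ 1 • m := by simp [L, ψ]
  have h4 : σ 1 = i := huniq _ _ (hσI _) hi (by rw [hσ, mul_one])
  have h5 : ((1 : A) ⊗ₜ[B] m) = 0 := Subsingleton.elim _ _
  rw [← h4, ← h3, h5, map_zero]

theorem subsingleton_of_pinch (hu : Function.Surjective (algebraMap B B'))
    (h1 : RingHom.ker (algebraMap B A) ⊓ RingHom.ker (algebraMap B B') = ⊥)
    (h2 : ∀ a ∈ Ideal.map (algebraMap B A) (RingHom.ker (algebraMap B B')),
      ∃ i ∈ RingHom.ker (algebraMap B B'), algebraMap B A i = a)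
    (hB' : Subsingleton (B' ⊗[B] M)) (hA : Subsingleton (A ⊗[B] M)) : Subsingleton M := by
  have h3 := smul_top_eq_top_of_subsingleton_tensor M hu hB'
  refine ⟨fun x y => ?_⟩
  have key : ∀ z : M, z = 0 := by
    intro z
    have hz : z ∈ (RingHom.ker (algebraMap B B')) • (⊤ : Submodule B M) := by rw [h3]; trivial
    refine Submodule.smul_induction_on hz (fun i hi m _ => ?_) (fun a b ha hb => ?_)
    · exact smul_eq_zero_of_subsingleton_tensor M h1 h2 hA i hi m
    · rw [ha, hb, add_zero]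
  rw [key x, key y]

end Groth.Agent.Lib.Helper17.PinchAlg
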