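import Groth.Agent.S14952
import Mathlib

/-!
# Flatness over a pinching (Milnor) square of rings

`A ⟶ A'` surjective with kernel `I`, `A ⟶ B` injective on `I` with `I B = I`: an `A`-module is flat as soon
as its base changes to `A'` and `B` are.  The algebra is helper23's `S14952`; here we only translate the
pinching hypotheses into a fibre square `A = A' ×_{B/IB} B`.
-/

set_option autoImplicit false
universe u
open TensorProduct

namespace Groth.Agent.Lib.Helper17.PinchFlat

variable {A B A' : Type u} [CommRing A] [CommRing B] [CommRing A']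
  (M : Type u) [AddCommGroup M] [Module A M]

theorem flat_of_flat_tensor [Algebra A B] [Algebra A A']
    (hsurj : Function.Surjective (algebraMap A A'))
    (hinj : RingHom.ker (algebraMap A B) ⊓ RingHom.ker (algebraMap A A') = ⊥)
    (hI : ∀ a ∈ Ideal.map (algebraMap A B) (RingHom.ker (algebraMap A A')),
        ∃ i ∈ RingHom.ker (algebraMap A A'), algebraMap A B i = a)
    [Module.Flat A' (A' ⊗[A] M)] [Module.Flat B (B ⊗[A] M)] : Module.Flat A M := by
  set I : Ideal A := RingHom.ker (algebraMap A A') with hIdef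
  set IB : Ideal B := Ideal.map (algebraMap A B) I with hIBdef
  let g : A →+* B ⧸ IB := (Ideal.Quotient.mk IB).comp (algebraMap A B)
  have hg : RingHom.ker (algebraMap A A') ≤ RingHom.ker g := by
    intro a ha
    rw [RingHom.mem_ker, RingHom.comp_apply, Ideal.Quotient.eq_zero_iff_mem]
    exact Ideal.mem_map_of_mem _ ha
  let l : A' →+* B ⧸ IB := (algebraMap A A').liftOfSurjective hsurj ⟨g, hg⟩
  have hl : ∀ a : A, l (algebraMap A A' a) = Ideal.Quotient.mk IB (algebraMap A B a) := fun a =>
    RingHom.liftOfSurjective_comp_apply (algebraMap A A') hsurj ⟨g, hg⟩ a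
  letI algA'Q : Algebra A' (B ⧸ IB) := l.toAlgebra
  haveI : IsScalarTower A A' (B ⧸ IB) := IsScalarTower.of_algebraMap_eq (fun a => (hl a).symm)
  have hsq : EtMil.IsFibreSquare A A' B (B ⧸ IB) := by
    refine ⟨Ideal.Quotient.mk_surjective, fun b a' hba' => ?_⟩
    obtain ⟨a0, rfl⟩ := hsurj b
    have h1 : algebraMap A B a0 - a' ∈ IB := by
      rw [← Ideal.Quotient.eq]
      exact (hl a0).symm.trans hba'
    obtain ⟨i, hi, hi'⟩ := hI _ h1
    refine ⟨a0 - i, ⟨?_, ?_⟩, ?_⟩
    · rw [map_sub, (RingHom.mem_ker).1 hi, sub_zero]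
    · rw [map_sub, hi', sub_sub_cancel]
    · rintro c ⟨hc1, hc2⟩
      have h2 : c - (a0 - i) ∈ RingHom.ker (algebraMap A B) ⊓ RingHom.ker (algebraMap A A') := by
        refine ⟨?_, ?_⟩
        · rw [SetLike.mem_coe, RingHom.mem_ker, map_sub, hc2, map_sub, hi', sub_sub_cancel, sub_self]
        · rw [SetLike.mem_coe, RingHom.mem_ker, map_sub, hc1, map_sub, (RingHom.mem_ker).1 hi, sub_zero,
            sub_self]
      rw [hinj, Ideal.mem_bot, sub_eq_zero] at h2
      exact h2
  exact Groth.Agent.S14952.result A A' B (B ⧸ IB) hsq M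

end Groth.Agent.Lib.Helper17.PinchFlat
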