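import Groth.Agent.S14952
import Groth.Agent.Lib.Helper17.MilnorFin
import Groth.Agent.Lib.Helper17.PinchFlat
import Mathlib

/-!
# Finite presentation of a flat module over a pinching (Milnor) square of rings
-/

set_option autoImplicit false
universe u
open TensorProduct

namespace Groth.Agent.Lib.Helper17.PinchFP

section tor

variable {R : Type u} [CommRing R] {K F M : Type u} [AddCommGroup K] [AddCommGroup F] [AddCommGroup M]
  [Module R K] [Module R F] [Module R M]

/-- `Tor_1(C, M) = 0` for flat `M`: a presentation `0 → K → F → M → 0` with `F`, `M` flat stays left exact after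
`C ⊗ -`. -/
theorem lTensor_injective_of_flat (j : K →ₗ[R] F) (q : F →ₗ[R] M) (hj : Function.Injective j)
    (hjq : Function.Exact j q) (hq : Function.Surjective q) [Module.Flat R F] [Module.Flat R M]
    (C : Type u) [AddCommGroup C] [Module R C] : Function.Injective (j.lTensor C) := by
  let p : (C →₀ R) →ₗ[R] C := Finsupp.linearCombination R id
  have hp : Function.Surjective p := Finsupp.linearCombination_id_surjective R C
  let i : LinearMap.ker p →ₗ[R] (C →₀ R) := (LinearMap.ker p).subtype
  have hip : Function.Exact i p := LinearMap.exact_subtype_ker_map p
  have h1 : Function.Injective (j.lTensor (C →₀ R)) := Module.Flat.lTensor_preserves_injective_linearMap j hj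
  have h2 : Function.Injective (i.rTensor M) :=
    Module.Flat.rTensor_preserves_injective_linearMap i (LinearMap.ker p).injective_subtype
  exact Helper23.MF.balance' (A := LinearMap.ker p) (B := C →₀ R) (C := C) j q i p hjq hq hip hp h1 h2

end tor

variable {A : Type u} [CommRing A] (M : Type u) [AddCommGroup M] [Module A M]

/-- the base change of the kernel of a finite free presentation of a flat module whose base change is finitely
presented is finite -/
theorem finite_tensor_ker (C : Type u) [CommRing C] [Algebra A C] {n : ℕ} (p : (Fin n → A) →ₗ[A] M)
    (hp : Function.Surjective p) [Module.Flat A M] [Module.FinitePresentation C (C ⊗[A] M)] :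
    Module.Finite C (C ⊗[A] (LinearMap.ker p)) := by
  let j : LinearMap.ker p →ₗ[A] (Fin n → A) := (LinearMap.ker p).subtype
  have hjq : Function.Exact j p := LinearMap.exact_subtype_ker_map p
  have hinj : Function.Injective (j.baseChange C) :=
    lTensor_injective_of_flat j p Subtype.val_injective hjq hp C
  have hex : Function.Exact (j.baseChange C) (p.baseChange C) := lTensor_exact C hjq hp
  have hsurj : Function.Surjective (p.baseChange C) := LinearMap.lTensor_surjective C hp
  have hfg : (LinearMap.ker (p.baseChange C)).FG := Module.FinitePresentation.fg_ker _ hsurj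
  have hrange : LinearMap.range (j.baseChange C) = LinearMap.ker (p.baseChange C) :=
    (LinearMap.exact_iff.1 hex).symm
  rw [← hrange] at hfg
  haveI : Module.Finite C (LinearMap.range (j.baseChange C)) := Module.Finite.iff_fg.2 hfg
  exact Module.Finite.equiv (LinearEquiv.ofInjective (j.baseChange C) hinj).symm

variable {B A' : Type u} [CommRing B] [CommRing A']

/-- **finite presentation over a pinching square**: a flat module is finitely presented as soon as its base changes
to `A'` and `B` are -/
theorem fp_of_fp_tensor [Algebra A B] [Algebra A A']
    (hsurj : Function.Surjective (algebraMap A A'))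
    (hinj : RingHom.ker (algebraMap A B) ⊓ RingHom.ker (algebraMap A A') = ⊥)
    (hI : ∀ a ∈ Ideal.map (algebraMap A B) (RingHom.ker (algebraMap A A')),
        ∃ i ∈ RingHom.ker (algebraMap A A'), algebraMap A B i = a)
    [Module.Flat A M]
    [Module.FinitePresentation A' (A' ⊗[A] M)] [Module.FinitePresentation B (B ⊗[A] M)] :
    Module.FinitePresentation A M := by
  haveI : Module.Finite A M := MilnorFin.finite_of_finite_tensor (A := A) (B := B) (A' := A') M hsurj hinj hI
  obtain ⟨n, p, hp⟩ := Module.Finite.exists_fin' A M
  haveI := finite_tensor_ker M A' p hp
  haveI := finite_tensor_ker M B p hp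
  haveI : Module.Finite A (LinearMap.ker p) :=
    MilnorFin.finite_of_finite_tensor (A := A) (B := B) (A' := A') (LinearMap.ker p) hsurj hinj hI
  exact Module.finitePresentation_of_surjective p hp (Module.Finite.iff_fg.1 inferInstance)

end Groth.Agent.Lib.Helper17.PinchFP
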