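import Mathlib

/-!
# Prime valuations on the fraction field of a unique factorisation domain

`v π u : ℤ` for a prime `π` of the UFD `R` and `u` in a fraction field `K`; units of `R[1/g]` inside `K`
(`UnitAway g u`) are the nonzero `u` with `v π u = 0` for all primes `π ∤ g`.  The main result
`exists_common_unit` trivialises a family `k x ∈ K` whose ratios are units away from `f x * f y`.
-/

set_option autoImplicit false

namespace Groth.Agent.Lib.Helper17.UFDVal

variable {R : Type*} [CommRing R] [IsDomain R] [UniqueFactorizationMonoid R]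
variable {K : Type*} [Field K] [Algebra R K] [IsFractionRing R K]

theorem finMult {π : R} (hπ : Prime π) {a : R} (ha : a ≠ 0) : FiniteMultiplicity π a :=
  FiniteMultiplicity.of_not_isUnit hπ.not_unit ha

theorem mult_mul {π : R} (hπ : Prime π) {a b : R} (ha : a ≠ 0) (hb : b ≠ 0) :
    multiplicity π (a * b) = multiplicity π a + multiplicity π b :=
  multiplicity_mul hπ (finMult hπ (mul_ne_zero ha hb))

theorem mult_pow {π : R} (hπ : Prime π) {a : R} (ha : a ≠ 0) (n : ℕ) :
    multiplicity π (a ^ n) = n * multiplicity π a :=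
  (finMult hπ ha).multiplicity_pow hπ

theorem map_ne_zero' {a : R} (ha : a ≠ 0) : algebraMap R K a ≠ 0 := by
  intro h
  apply ha
  apply IsFractionRing.injective R K
  rw [h, map_zero]

/-- the `π`-adic valuation on the fraction field -/
noncomputable def v (π : R) (u : K) : ℤ :=
  (multiplicity π (IsFractionRing.num R u) : ℤ) - (multiplicity π (IsFractionRing.den R u : R) : ℤ)

theorem v_div {π : R} (hπ : Prime π) {a b : R} (ha : a ≠ 0) (hb : b ≠ 0) :
    v π (algebraMap R K a / algebraMap R K b) = (multiplicity π a : ℤ) - multiplicity π b := by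
  set u : K := algebraMap R K a / algebraMap R K b with hudef
  have hu : algebraMap R K (IsFractionRing.num R u) / algebraMap R K (IsFractionRing.den R u : R) = u :=
    IsFractionRing.mk'_num_den' R u
  have hden : (IsFractionRing.den R u : R) ≠ 0 := nonZeroDivisors.coe_ne_zero _
  have hb' : algebraMap R K b ≠ 0 := map_ne_zero' hb
  have hd' : algebraMap R K (IsFractionRing.den R u : R) ≠ 0 := map_ne_zero' hden
  have hcross : a * (IsFractionRing.den R u : R) = IsFractionRing.num R u * b := by
    apply IsFractionRing.injective R K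
    rw [map_mul, map_mul]
    rw [hudef, div_eq_div_iff hd' hb'] at hu
    exact hu.symm
  have hnum : IsFractionRing.num R u ≠ 0 := by
    intro h
    rw [h, zero_mul] at hcross
    exact mul_ne_zero ha hden hcross
  have := congrArg (multiplicity π) hcross
  rw [mult_mul hπ ha hden, mult_mul hπ hnum hb] at this
  unfold v
  omega

theorem v_map {π : R} (hπ : Prime π) {a : R} (ha : a ≠ 0) :
    v π (algebraMap R K a) = multiplicity π a := by
  have := v_div (K := K) hπ ha (one_ne_zero : (1 : R) ≠ 0)
  rw [map_one, div_one] at this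
  rw [this, multiplicity_eq_zero.2 (fun h => hπ.not_unit (isUnit_of_dvd_one h))]
  simp

/-- every nonzero element is a quotient of nonzero elements -/
theorem exists_frac {u : K} (hu : u ≠ 0) : ∃ a b : R, a ≠ 0 ∧ b ≠ 0 ∧ u = algebraMap R K a / algebraMap R K b := by
  refine ⟨IsFractionRing.num R u, IsFractionRing.den R u, ?_, nonZeroDivisors.coe_ne_zero _,
    (IsFractionRing.mk'_num_den' R u).symm⟩
  intro h
  exact hu (IsFractionRing.eq_zero_of_num_eq_zero h)

theorem v_mul {π : R} (hπ : Prime π) {u w : K} (hu : u ≠ 0) (hw : w ≠ 0) :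
    v π (u * w) = v π u + v π w := by
  obtain ⟨a, b, ha, hb, rfl⟩ := exists_frac (R := R) hu
  obtain ⟨c, d, hc, hd, rfl⟩ := exists_frac (R := R) hw
  rw [div_mul_div_comm, ← map_mul, ← map_mul, v_div hπ (mul_ne_zero ha hc) (mul_ne_zero hb hd),
    v_div hπ ha hb, v_div hπ hc hd, mult_mul hπ ha hc, mult_mul hπ hb hd]
  push_cast
  ring

theorem v_one {π : R} (hπ : Prime π) : v π (1 : K) = 0 := by
  have := v_mul (K := K) hπ (one_ne_zero : (1 : K) ≠ 0) one_ne_zero
  rw [one_mul] at this
  omega

theorem v_inv {π : R} (hπ : Prime π) {u : K} (hu : u ≠ 0) : v π u⁻¹ = - v π u := by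
  have := v_mul hπ hu (inv_ne_zero hu)
  rw [mul_inv_cancel₀ hu, v_one hπ] at this
  omega

theorem v_div' {π : R} (hπ : Prime π) {u w : K} (hu : u ≠ 0) (hw : w ≠ 0) :
    v π (u / w) = v π u - v π w := by
  rw [div_eq_mul_inv, v_mul hπ hu (inv_ne_zero hw), v_inv hπ hw]
  ring

theorem v_zpow {π : R} (hπ : Prime π) {u : K} (hu : u ≠ 0) (n : ℤ) : v π (u ^ n) = n * v π u := by
  induction n using Int.induction_on with
  | zero => simp [v_one hπ]
  | succ n ih =>
    rw [zpow_add_one₀ hu, v_mul hπ (zpow_ne_zero _ hu) hu, ih]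
    ring
  | pred n ih =>
    rw [zpow_sub_one₀ hu, v_mul hπ (zpow_ne_zero _ hu) (inv_ne_zero hu), ih, v_inv hπ hu]
    ring

theorem v_congr {π π' : R} (h : Associated π π') (u : K) : v π u = v π' u := by
  unfold v
  rw [multiplicity_eq_of_associated_left h, multiplicity_eq_of_associated_left h]

open scoped Classical in
/-- multiplicity of a prime in a prime -/
theorem mult_prime {π π' : R} (hπ : Prime π) (hπ' : Prime π') :
    multiplicity π π' = if Associated π π' then 1 else 0 := by
  split_ifs with h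
  · rw [← multiplicity_eq_of_associated_right h]
    exact multiplicity_self
  · rw [multiplicity_eq_zero]
    intro hd
    exact h ((hπ.dvd_prime_iff_associated hπ').1 hd)

/-- `u ∈ R[1/g]` -/
def InAway (g : R) (u : K) : Prop := ∃ (a : R) (n : ℕ), u * algebraMap R K (g ^ n) = algebraMap R K a

/-- `u` is a unit of `R[1/g]` -/
def UnitAway (g : R) (u : K) : Prop := u ≠ 0 ∧ InAway g u ∧ InAway g u⁻¹

theorem v_nonneg_of_inAway {π : R} (hπ : Prime π) {g : R} (hg : ¬ π ∣ g) {u : K} (hu : u ≠ 0)
    (h : InAway g u) : 0 ≤ v π u := by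
  obtain ⟨a, n, ha⟩ := h
  have hg0 : g ≠ 0 := fun h0 => hg (h0 ▸ dvd_zero π)
  have hgn : g ^ n ≠ 0 := pow_ne_zero n hg0
  have ha0 : a ≠ 0 := by
    intro h0
    rw [h0, map_zero] at ha
    exact mul_ne_zero hu (map_ne_zero' hgn) ha
  have hu' : u = algebraMap R K a / algebraMap R K (g ^ n) := by
    rw [eq_div_iff (map_ne_zero' hgn)]
    exact ha
  rw [hu', v_div hπ ha0 hgn, mult_pow hπ hg0, multiplicity_eq_zero.2 hg]
  simp

theorem v_eq_zero_of_unitAway {π : R} (hπ : Prime π) {g : R} (hg : ¬ π ∣ g) {u : K} (h : UnitAway g u) :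
    v π u = 0 := by
  have h1 := v_nonneg_of_inAway hπ hg h.1 h.2.1
  have h2 := v_nonneg_of_inAway hπ hg (inv_ne_zero h.1) h.2.2
  rw [v_inv hπ h.1] at h2
  omega

/-- an element all of whose prime factors divide `g` divides a power of `g` -/
theorem dvd_pow_of_primes (g : R) (d : R) (hd : d ≠ 0) (h : ∀ π : R, Prime π → π ∣ d → π ∣ g) :
    ∃ N : ℕ, d ∣ g ^ N := by
  induction d using UniqueFactorizationMonoid.induction_on_prime with
  | h₁ => exact absurd rfl hd
  | h₂ x hx => exact ⟨0, hx.dvd⟩
  | h₃ a p ha hp ih =>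
    obtain ⟨N, hN⟩ := ih ha (fun π hπ hπa => h π hπ (hπa.mul_left p))
    refine ⟨N + 1, ?_⟩
    rw [pow_succ']
    exact mul_dvd_mul (h p hp (dvd_mul_right p a)) hN

theorem inAway_of_v {g : R} (hg : g ≠ 0) {u : K} (hu : u ≠ 0)
    (h : ∀ π : R, Prime π → ¬ π ∣ g → 0 ≤ v π u) : InAway g u := by
  have hden : (IsFractionRing.den R u : R) ≠ 0 := nonZeroDivisors.coe_ne_zero _
  have hnum : IsFractionRing.num R u ≠ 0 := fun h0 => hu (IsFractionRing.eq_zero_of_num_eq_zero h0)
  have hred := IsFractionRing.num_den_reduced R u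
  have hfrac : algebraMap R K (IsFractionRing.num R u) / algebraMap R K (IsFractionRing.den R u : R) = u :=
    IsFractionRing.mk'_num_den' R u
  have hprimes : ∀ π : R, Prime π → π ∣ (IsFractionRing.den R u : R) → π ∣ g := by
    intro π hπ hπd
    by_contra hπg
    have h1 := h π hπ hπg
    have hπn : ¬ π ∣ IsFractionRing.num R u := fun hn => hπ.not_unit (hred hn hπd)
    rw [← hfrac, v_div hπ hnum hden, multiplicity_eq_zero.2 hπn] at h1
    have := multiplicity_pos_of_dvd hπd
    simp at h1
    omega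
  obtain ⟨N, d', hd'⟩ := dvd_pow_of_primes g _ hden hprimes
  refine ⟨IsFractionRing.num R u * d', N, ?_⟩
  have hdK : algebraMap R K (IsFractionRing.den R u : R) ≠ 0 := map_ne_zero' hden
  generalize IsFractionRing.num R u = n at *
  generalize (IsFractionRing.den R u : R) = d at *
  rw [hd', map_mul, map_mul, ← hfrac]
  field_simp

theorem unitAway_of_v {g : R} (hg : g ≠ 0) {u : K} (hu : u ≠ 0)
    (h : ∀ π : R, Prime π → ¬ π ∣ g → v π u = 0) : UnitAway g u := by
  refine ⟨hu, inAway_of_v hg hu (fun π hπ hπg => (h π hπ hπg).ge), inAway_of_v hg (inv_ne_zero hu) ?_⟩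
  intro π hπ hπg
  rw [v_inv hπ hu, h π hπ hπg]
  simp

open scoped Classical in
/-- an element of `K` with prescribed valuations at finitely many pairwise non-associated primes and valuation `0` at
the other primes -/
theorem exists_prod (S : Finset R) (hS : ∀ π ∈ S, Prime π)
    (hSa : ∀ π ∈ S, ∀ π' ∈ S, Associated π π' → π = π') (e : R → ℤ) :
    ∃ c : K, c ≠ 0 ∧ ∀ π' : R, Prime π' →
      (∀ π ∈ S, Associated π' π → v π' c = e π) ∧ ((∀ π ∈ S, ¬ Associated π' π) → v π' c = 0) := by
  induction S using Finset.induction_on with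
  | empty =>
    refine ⟨1, one_ne_zero, fun π' hπ' => ⟨fun π hπ => absurd hπ (Finset.notMem_empty π), fun _ => v_one hπ'⟩⟩
  | insert π₀ T hπ₀T ih =>
    obtain ⟨c, hc0, hc⟩ := ih (fun π hπ => hS π (Finset.mem_insert_of_mem hπ))
      (fun π hπ π' hπ' => hSa π (Finset.mem_insert_of_mem hπ) π' (Finset.mem_insert_of_mem hπ'))
    have hπ₀ : Prime π₀ := hS π₀ (Finset.mem_insert_self _ _)
    have hπ₀K : algebraMap R K π₀ ≠ 0 := map_ne_zero' hπ₀.ne_zero
    refine ⟨c * algebraMap R K π₀ ^ e π₀, mul_ne_zero hc0 (zpow_ne_zero _ hπ₀K), fun π' hπ' => ?_⟩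
    have hval : v π' (c * algebraMap R K π₀ ^ e π₀) =
        v π' c + e π₀ * (if Associated π' π₀ then 1 else 0) := by
      rw [v_mul hπ' hc0 (zpow_ne_zero _ hπ₀K), v_zpow hπ' hπ₀K, v_map hπ' hπ₀.ne_zero, mult_prime hπ' hπ₀]
      split_ifs <;> simp
    constructor
    · intro π hπ hass
      rw [hval]
      rcases Finset.mem_insert.1 hπ with rfl | hπT
      · have h0 : v π' c = 0 := by
          apply (hc π' hπ').2
          intro q hq hq'
          have : π = q := hSa π (Finset.mem_insert_self _ _) q (Finset.mem_insert_of_mem hq) (hass.symm.trans hq')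
          exact hπ₀T (this ▸ hq)
        rw [h0, if_pos hass]
        ring
      · have h1 : v π' c = e π := (hc π' hπ').1 π hπT hass
        have h2 : ¬ Associated π' π₀ := by
          intro h
          have : π = π₀ := hSa π hπ π₀ (Finset.mem_insert_self _ _) (hass.symm.trans h)
          exact hπ₀T (this ▸ hπT)
        rw [h1, if_neg h2]
        ring
    · intro hnone
      rw [hval]
      have h0 : v π' c = 0 :=
        (hc π' hπ').2 (fun q hq => hnone q (Finset.mem_insert_of_mem hq))
      rw [h0, if_neg (hnone π₀ (Finset.mem_insert_self _ _))]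
      ring

open scoped Classical in
/-- normalised version of the main result: the base index has `k o = 1` -/
theorem exists_common_unit_aux {I : Type*} (f : I → R) (hf : ∀ x, f x ≠ 0) (k : I → K) (hk0 : ∀ x, k x ≠ 0)
    (o : I) (ho : k o = 1) (hk : ∀ x y, UnitAway (f x * f y) (k x / k y)) :
    ∃ c : K, c ≠ 0 ∧ ∀ x, UnitAway (f x) (k x / c) := by
  letI : StrongNormalizationMonoid R := UniqueFactorizationMonoid.normalizationMonoid
  -- independence of the chart
  have hind : ∀ π : R, Prime π → ∀ x y, ¬ π ∣ f x → ¬ π ∣ f y → v π (k x) = v π (k y) := by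
    intro π hπ x y hx hy
    have hxy : ¬ π ∣ f x * f y := fun h => (hπ.dvd_or_dvd h).elim hx hy
    have := v_eq_zero_of_unitAway hπ hxy (hk x y)
    rw [v_div' hπ (hk0 x) (hk0 y)] at this
    omega
  let e : R → ℤ := fun π => if h : ∃ x, ¬ π ∣ f x then v π (k h.choose) else 0
  let S : Finset R := (UniqueFactorizationMonoid.normalizedFactors (f o)).toFinset
  have hS : ∀ π ∈ S, Prime π := fun π hπ =>
    UniqueFactorizationMonoid.prime_of_normalized_factor π (Multiset.mem_toFinset.1 hπ)
  have hSa : ∀ π ∈ S, ∀ π' ∈ S, Associated π π' → π = π' := by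
    intro π hπ π' hπ' hass
    rw [← UniqueFactorizationMonoid.normalize_normalized_factor π (Multiset.mem_toFinset.1 hπ),
      ← UniqueFactorizationMonoid.normalize_normalized_factor π' (Multiset.mem_toFinset.1 hπ')]
    exact normalize_eq_normalize hass.dvd hass.symm.dvd
  obtain ⟨c, hc0, hc⟩ := exists_prod (K := K) S hS hSa e
  refine ⟨c, hc0, fun x => unitAway_of_v (hf x) (div_ne_zero (hk0 x) hc0) (fun π' hπ' hπ'x => ?_)⟩
  rw [v_div' hπ' (hk0 x) hc0]
  by_cases hdo : π' ∣ f o
  · obtain ⟨q, hq, hass⟩ := UniqueFactorizationMonoid.exists_mem_normalizedFactors_of_dvd (hf o) hπ'.irreducible hdo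
    have hqS : q ∈ S := Multiset.mem_toFinset.2 hq
    have hqx : ¬ q ∣ f x := fun h => hπ'x (hass.dvd.trans h)
    have hex : ∃ x, ¬ q ∣ f x := ⟨x, hqx⟩
    have h1 : v π' c = e q := (hc π' hπ').1 q hqS hass
    have h2 : e q = v q (k hex.choose) := dif_pos hex
    rw [h1, h2, hind q (hS q hqS) _ x hex.choose_spec hqx, v_congr hass]
    ring
  · have h1 : v π' c = 0 := by
      apply (hc π' hπ').2
      intro q hq hass
      exact hdo (hass.dvd.trans (UniqueFactorizationMonoid.dvd_of_mem_normalizedFactors (Multiset.mem_toFinset.1 hq)))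
    have hxo : ¬ π' ∣ f x * f o := fun h => (hπ'.dvd_or_dvd h).elim hπ'x hdo
    have h2 := v_eq_zero_of_unitAway hπ' hxo (hk x o)
    rw [ho, div_one] at h2
    rw [h1, h2]
    ring

/-- **Main result.** If the ratios `k x / k y` are units of `R[1/(f x * f y)]`, then after dividing by a common `c` all
`k x` become units of `R[1/f x]`. -/
theorem exists_common_unit {I : Type*} (f : I → R) (hf : ∀ x, f x ≠ 0) (k : I → K) (hk0 : ∀ x, k x ≠ 0)
    (o : I) (hk : ∀ x y, UnitAway (f x * f y) (k x / k y)) :
    ∃ c : K, c ≠ 0 ∧ ∀ x, UnitAway (f x) (k x / c) := by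
  obtain ⟨c, hc0, hc⟩ := exists_common_unit_aux f hf (fun x => k x / k o) (fun x => div_ne_zero (hk0 x) (hk0 o)) o
    (div_self (hk0 o)) (fun x y => by
      have : k x / k o / (k y / k o) = k x / k y := by
        field_simp [hk0 o, hk0 y]
      rw [this]
      exact hk x y)
  refine ⟨c * k o, mul_ne_zero hc0 (hk0 o), fun x => ?_⟩
  have : k x / (c * k o) = k x / k o / c := by
    field_simp [hk0 o, hc0]
  rw [this]
  exact hc x

end Groth.Agent.Lib.Helper17.UFDVal
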