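import Groth.Agent.Lib.Helper17.ProjSpaceGamma
import Groth.Agent.Lib.Helper17.UFDVal
import Mathlib
set_option backward.isDefEq.respectTransparency.types false
set_option autoImplicit false
universe u

/-!
# Degree zero fractions of the polynomial ring inside its fraction field
-/

namespace Groth.Agent.Lib.Helper17.PnFrac
open MvPolynomial HomogeneousLocalization
open Groth.Agent.Lib.Helper17.UFDVal

variable {n : ℕ} {R : Type u} [CommRing R] [IsDomain R]

local notation "𝒜" => CohB1.polyGrading n R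
local notation "AA" => MvPolynomial (Fin (n + 1)) R
local notation "KK" => FractionRing (MvPolynomial (Fin (n + 1)) R)

/-- the image of a polynomial in the fraction field -/
noncomputable abbrev em (a : AA) : KK := algebraMap AA KK a

theorem em_ne_zero {a : AA} (ha : a ≠ 0) : em a ≠ 0 :=
  (map_ne_zero_iff _ (IsFractionRing.injective AA KK)).2 ha

theorem em_pow (a : AA) (k : ℕ) : em (a ^ k) = em a ^ k := map_pow _ _ _

theorem em_mul (a b : AA) : em (a * b) = em a * em b := map_mul _ _ _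

theorem em_one : em (1 : AA) = 1 := map_one _

theorem em_injective : Function.Injective (em : AA → KK) := IsFractionRing.injective AA KK

theorem isUnit_em_powers (g : AA) (hg : g ≠ 0) (y : Submonoid.powers g) : IsUnit (em (y : AA)) := by
  obtain ⟨_, k, rfl⟩ := y
  exact IsUnit.mk0 _ (em_ne_zero (pow_ne_zero k hg))

/-- the embedding of the degree zero localization into the fraction field -/
noncomputable def iota (g : AA) (hg : g ≠ 0) : Away 𝒜 g →+* KK :=
  (IsLocalization.lift (M := Submonoid.powers g) (S := Localization.Away g) (g := algebraMap AA KK)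
    (isUnit_em_powers g hg)).comp (algebraMap (Away 𝒜 g) (Localization.Away g))

theorem iota_mk {g : AA} (hg0 : g ≠ 0) {d : ℕ} (hg : g ∈ 𝒜 d) (k : ℕ) (a : AA) (ha : a ∈ 𝒜 (k • d)) :
    iota g hg0 (Away.mk 𝒜 hg k a ha) = em a / em g ^ k := by
  unfold iota
  rw [RingHom.comp_apply, HomogeneousLocalization.algebraMap_apply, Away.val_mk, Localization.mk_eq_mk',
    IsLocalization.lift_mk'_spec]
  show em a = em (g ^ k) * (em a / em g ^ k)
  rw [em_pow, mul_div_cancel₀ _ (pow_ne_zero k (em_ne_zero hg0))]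

theorem iota_injective (g : AA) (hg0 : g ≠ 0) : Function.Injective (iota (n := n) (R := R) g hg0) := by
  unfold iota
  rw [RingHom.coe_comp]
  refine Function.Injective.comp ?_ (HomogeneousLocalization.val_injective _)
  rw [IsLocalization.lift_injective_iff]
  intro x y
  constructor
  · intro h
    obtain ⟨c, hc⟩ := (IsLocalization.eq_iff_exists (Submonoid.powers g) (Localization.Away g)).1 h
    have hc0 : (c : AA) ≠ 0 := by
      obtain ⟨_, k, rfl⟩ := c
      exact pow_ne_zero k hg0
    rw [mul_left_cancel₀ hc0 hc]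
  · intro h
    rw [em_injective h]

theorem iota_awayMap {f g x : AA} {d e : ℕ} (hf : f ∈ 𝒜 d) (hg : g ∈ 𝒜 e) (hx : x = f * g) (hf0 : f ≠ 0)
    (hx0 : x ≠ 0) (t : Away 𝒜 f) : iota x hx0 (awayMap 𝒜 hg hx t) = iota f hf0 t := by
  obtain ⟨k, a, ha, rfl⟩ := Away.mk_surjective 𝒜 hf t
  have hg0 : g ≠ 0 := by
    rintro rfl
    exact hx0 (by rw [hx, mul_zero])
  rw [awayMap_mk, iota_mk hx0, iota_mk hf0]
  subst hx
  rw [div_eq_div_iff (pow_ne_zero k (em_ne_zero hx0)) (pow_ne_zero k (em_ne_zero hf0))]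
  simp only [em_mul, em_pow]
  ring

/-- units of the degree zero localization are units away from `g` -/
theorem unitAway_iota {g : AA} (hg0 : g ≠ 0) {d : ℕ} (hg : g ∈ 𝒜 d) (t : Away 𝒜 g) (ht : IsUnit t) :
    UnitAway g (iota g hg0 t) := by
  have hin : ∀ s : Away 𝒜 g, InAway g (iota g hg0 s) := by
    intro s
    obtain ⟨k, a, ha, rfl⟩ := Away.mk_surjective 𝒜 hg s
    refine ⟨a, k, ?_⟩
    rw [iota_mk hg0, map_pow, div_mul_cancel₀ _ (pow_ne_zero k (em_ne_zero hg0))]
  obtain ⟨t', htt'⟩ := ht.exists_right_inv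
  have h1 : iota g hg0 t * iota g hg0 t' = 1 := by rw [← map_mul, htt', map_one]
  refine ⟨left_ne_zero_of_mul_eq_one h1, hin t, ?_⟩
  rw [(eq_inv_of_mul_eq_one_right h1).symm]
  exact hin t'

theorem X_mul_X_mem (i j : Fin (n + 1)) : (X i * X j : AA) ∈ 𝒜 2 :=
  SetLike.mul_mem_graded (ProjSpaceGamma.hX n R i) (ProjSpaceGamma.hX n R j)

theorem X_mul_X_ne_zero (i j : Fin (n + 1)) : (X i * X j : AA) ≠ 0 := mul_ne_zero (X_ne_zero i) (X_ne_zero j)

theorem X_mul_X_pow (i j : Fin (n + 1)) (N : ℕ) :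
    ((X i * X j : AA)) ^ N = monomial (N • (Finsupp.single i 1 + Finsupp.single j 1)) 1 := by
  simp [X, monomial_mul, monomial_pow]

theorem monomial_two (i j : Fin (n + 1)) (α β : ℕ) (c : R) :
    (monomial (Finsupp.single i α + Finsupp.single j β) c : AA) = C c * X i ^ α * X j ^ β := by
  rw [C_mul_X_pow_eq_monomial, X_pow_eq_monomial, monomial_mul, mul_one]

/-- **the units of the coordinate ring of `D₊(X i X j)`** -/
theorem unit_structure {i j : Fin (n + 1)} (hij : i ≠ j) (t : Away 𝒜 (X i * X j : AA)) (ht : IsUnit t) :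
    ∃ (c : R) (_ : IsUnit c) (d : ℤ),
      iota _ (X_mul_X_ne_zero i j) t = em (C c) * (em (X i) / em (X j)) ^ d := by
  classical
  obtain ⟨t', htt'⟩ := ht.exists_right_inv
  obtain ⟨k, a, ha, rfl⟩ := Away.mk_surjective 𝒜 (X_mul_X_mem i j) t
  obtain ⟨l, b, hb, rfl⟩ := Away.mk_surjective 𝒜 (X_mul_X_mem i j) t'
  have hg0 := X_mul_X_ne_zero (R := R) i j
  have hgK : em (X i * X j : AA) ≠ 0 := em_ne_zero hg0
  have h1 := congrArg (iota _ hg0) htt'
  rw [map_mul, iota_mk hg0, iota_mk hg0, map_one, div_mul_div_comm, ← pow_add,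
    div_eq_one_iff_eq (pow_ne_zero _ hgK), ← em_mul, ← em_pow] at h1
  have hab : a * b = (X i * X j : AA) ^ (k + l) := em_injective h1
  have ha0 : a ≠ 0 := by
    rintro rfl
    rw [zero_mul] at hab
    exact pow_ne_zero _ hg0 hab.symm
  -- `a` divides a monomial
  have hdvd : a ∣ monomial ((k + l) • (Finsupp.single i 1 + Finsupp.single j 1)) (1 : R) * 1 := by
    rw [mul_one, ← X_mul_X_pow, ← hab]
    exact dvd_mul_right a b
  obtain ⟨m, r, hm, hr, hamr⟩ := dvd_monomial_mul_iff_exists.1 hdvd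
  obtain ⟨c, hc, rfl⟩ := (isUnit_iff_eq_C_of_isReduced).1 (isUnit_of_dvd_one hr)
  have hc0 : c ≠ 0 := hc.ne_zero
  have ham : a = monomial m c := by
    rw [hamr, mul_comm, C_mul_monomial, mul_one]
  -- the support of `m`
  have hm' : m = Finsupp.single i (m i) + Finsupp.single j (m j) := by
    ext x
    rw [Finsupp.add_apply, Finsupp.single_apply, Finsupp.single_apply]
    by_cases hxi : i = x
    · subst hxi
      rw [if_pos rfl, if_neg hij.symm, add_zero]
    · by_cases hxj : j = x
      · subst hxj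
        rw [if_neg hxi, if_pos rfl, zero_add]
      · rw [if_neg hxi, if_neg hxj, add_zero]
        have := hm x
        simp only [Finsupp.smul_apply, Finsupp.add_apply, Finsupp.single_apply, if_neg hxi, if_neg hxj,
          add_zero, smul_zero] at this
        omega
  -- the degree of `m`
  have hdeg : m i + m j = k • 2 := by
    have hcoef : coeff m a ≠ 0 := by rw [ham, coeff_monomial, if_pos rfl]; exact hc0
    have h2 : Finsupp.weight (1 : Fin (n + 1) → ℕ) m = k • 2 := ha hcoef
    rw [hm', map_add, Finsupp.weight_single, Finsupp.weight_single] at h2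
    simpa using h2
  have hxi : em (X i : AA) ≠ 0 := em_ne_zero (X_ne_zero i)
  have hxj : em (X j : AA) ≠ 0 := em_ne_zero (X_ne_zero j)
  generalize m i = α at hm' hdeg
  generalize m j = β at hm' hdeg
  subst hm'
  refine ⟨c, hc, (α : ℤ) - k, ?_⟩
  rw [iota_mk hg0, ham, monomial_two, em_mul, em_mul, em_pow, em_pow, em_mul, div_zpow,
    zpow_sub₀ hxi, zpow_natCast, zpow_natCast]
  have e2 : (α : ℤ) - k = k - β := by
    simp only [smul_eq_mul] at hdeg
    omega
  have e3 : em (X j : AA) ^ ((α : ℤ) - k) = em (X j) ^ k / em (X j) ^ β := by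
    rw [e2, zpow_sub₀ hxj, zpow_natCast, zpow_natCast]
  rw [e3]
  field_simp
  ring

/-- **the units of the coordinate ring of `D₊(X i)` are the constants** -/
theorem unit_structure_one (i : Fin (n + 1)) (t : Away 𝒜 (X i : AA)) (ht : IsUnit t) :
    ∃ (c : R) (_ : IsUnit c), iota _ (X_ne_zero i) t = em (C c) := by
  classical
  have hXi := ProjSpaceGamma.hX n R i
  obtain ⟨t', htt'⟩ := ht.exists_right_inv
  obtain ⟨k, a, ha, rfl⟩ := Away.mk_surjective 𝒜 hXi t
  obtain ⟨l, b, hb, rfl⟩ := Away.mk_surjective 𝒜 hXi t'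
  have hg0 := X_ne_zero (R := R) i
  have hgK : em (X i : AA) ≠ 0 := em_ne_zero hg0
  have h1 := congrArg (iota _ hg0) htt'
  rw [map_mul, iota_mk hg0, iota_mk hg0, map_one, div_mul_div_comm, ← pow_add,
    div_eq_one_iff_eq (pow_ne_zero _ hgK), ← em_mul, ← em_pow] at h1
  have hab : a * b = (X i : AA) ^ (k + l) := em_injective h1
  have hdvd : a ∣ monomial (Finsupp.single i (k + l)) (1 : R) * 1 := by
    rw [mul_one, ← X_pow_eq_monomial, ← hab]
    exact dvd_mul_right a b
  obtain ⟨m, r, hm, hr, hamr⟩ := dvd_monomial_mul_iff_exists.1 hdvd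
  obtain ⟨c, hc, rfl⟩ := (isUnit_iff_eq_C_of_isReduced).1 (isUnit_of_dvd_one hr)
  have hc0 : c ≠ 0 := hc.ne_zero
  have ham : a = monomial m c := by
    rw [hamr, mul_comm, C_mul_monomial, mul_one]
  have hm' : m = Finsupp.single i (m i) := by
    ext x
    rw [Finsupp.single_apply]
    by_cases hxi : i = x
    · subst hxi
      rw [if_pos rfl]
    · rw [if_neg hxi]
      have := hm x
      simp only [Finsupp.single_apply, if_neg hxi] at this
      omega
  have hdeg : m i = k • 1 := by
    have hcoef : coeff m a ≠ 0 := by rw [ham, coeff_monomial, if_pos rfl]; exact hc0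
    have h2 : Finsupp.weight (1 : Fin (n + 1) → ℕ) m = k • 1 := ha hcoef
    rw [hm', Finsupp.weight_single] at h2
    simpa using h2
  refine ⟨c, hc, ?_⟩
  rw [iota_mk hg0, ham, hm', hdeg, ← C_mul_X_pow_eq_monomial, em_mul, em_pow]
  simp only [smul_eq_mul, mul_one]
  rw [mul_div_assoc, div_self (pow_ne_zero k hgK), mul_one]

section val

variable [UniqueFactorizationMonoid R]

theorem vX_X (k l : Fin (n + 1)) : v (X k : AA) (em (X l : AA)) = if k = l then 1 else 0 := by
  classical
  rw [em, v_map X_prime (X_ne_zero l), mult_prime X_prime X_prime]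
  by_cases hkl : k = l
  · subst hkl
    simp
  · rw [if_neg hkl, if_neg]
    · rfl
    · intro h
      exact hkl (X_dvd_X.1 h.dvd)

theorem vX_C (k : Fin (n + 1)) {c : R} (hc : c ≠ 0) : v (X k : AA) (em (C c : AA)) = 0 := by
  have hC : (C c : AA) ≠ 0 := by
    intro h
    exact hc (C_injective _ _ (by rw [h, C_0]))
  rw [em, v_map X_prime hC]
  have : multiplicity (X k : AA) (C c) = 0 := by
    rw [multiplicity_eq_zero]
    rintro ⟨q, hq⟩
    have := congrArg constantCoeff hq
    simp at this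
    exact hc this
  rw [this]
  rfl

theorem vX_ratio {o i : Fin (n + 1)} (hio : i ≠ o) (d : ℤ) :
    v (X o : AA) ((em (X i : AA) / em (X o : AA)) ^ d) = -d := by
  have hxi : em (X i : AA) ≠ 0 := em_ne_zero (X_ne_zero i)
  have hxo : em (X o : AA) ≠ 0 := em_ne_zero (X_ne_zero o)
  rw [v_zpow X_prime (div_ne_zero hxi hxo), v_div' X_prime hxi hxo, vX_X, vX_X, if_neg (Ne.symm hio), if_pos rfl]
  ring

/-- comparison of exponents on a triple overlap -/
theorem exp_eq_of_unit {i j o : Fin (n + 1)} (hio : i ≠ o) (hjo : j ≠ o) (w : Away 𝒜 (X i * X j : AA))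
    (hw : IsUnit w) (di dj : ℤ)
    (h : iota _ (X_mul_X_ne_zero i j) w =
      (em (X i : AA) / em (X o : AA)) ^ di / (em (X j : AA) / em (X o : AA)) ^ dj) : di = dj := by
  have hxi : em (X i : AA) ≠ 0 := em_ne_zero (X_ne_zero i)
  have hxj : em (X j : AA) ≠ 0 := em_ne_zero (X_ne_zero j)
  have hxo : em (X o : AA) ≠ 0 := em_ne_zero (X_ne_zero o)
  have hU := unitAway_iota (X_mul_X_ne_zero i j) (X_mul_X_mem i j) w hw
  have hnd : ¬ (X o : AA) ∣ X i * X j := by
    intro hd
    rcases (X_prime (R := R) (i := o)).dvd_or_dvd hd with h1 | h1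
    · exact hio (X_dvd_X.1 h1).symm
    · exact hjo (X_dvd_X.1 h1).symm
  have h0 := v_eq_zero_of_unitAway (X_prime (R := R) (i := o)) hnd hU
  rw [h, v_div' X_prime (zpow_ne_zero _ (div_ne_zero hxi hxo)) (zpow_ne_zero _ (div_ne_zero hxj hxo)),
    vX_ratio hio, vX_ratio hjo] at h0
  omega

end val

end Groth.Agent.Lib.Helper17.PnFrac
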