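import Groth.Agent.Lib.Helper17.PnTwist
import Groth.Agent.Lib.Helper17.PnUFD
import Groth.Agent.Lib.Helper17.PicTransport
import Groth.Agent.Lib.Helper17.InvDescLoc
import Groth.Agent.Lib.Helper28.GenIso
import Mathlib
set_option backward.isDefEq.respectTransparency.types false
set_option autoImplicit false
universe u

/-!
# The Picard group of projective space over a factorial ring
-/

namespace Groth.Agent.Lib.Helper17.PnPic
open CategoryTheory AlgebraicGeometry MvPolynomial HomogeneousLocalization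
open Groth.Agent.Lib.Helper17.PnFrac Groth.Agent.Lib.Helper17.PnSec Groth.Agent.Lib.Helper17.PnTwist
open Groth.Agent.Lib.Helper17.InvDescLoc
open Groth.Agent.Lib.Helper28 Groth.Agent.Lib.Helper28.QCohLoc Groth.Agent.Lib.Helper28.GenLocus

variable {n : ℕ} {R : Type u} [CommRing R] [IsDomain R]

local notation "𝒜" => CohB1.polyGrading n R
local notation "AA" => MvPolynomial (Fin (n + 1)) R
local notation "KK" => FractionRing (MvPolynomial (Fin (n + 1)) R)

/-- the standard opens -/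
noncomputable abbrev U (i : Fin (n + 1)) : (Proj 𝒜).Opens := Proj.basicOpen 𝒜 (X i : AA)

/-- their pairwise intersections -/
noncomputable abbrev V (i j : Fin (n + 1)) : (Proj 𝒜).Opens := Proj.basicOpen 𝒜 (X i * X j : AA)

/-- triple intersections with the reference chart -/
noncomputable abbrev T (o i j : Fin (n + 1)) : (Proj 𝒜).Opens := Proj.basicOpen 𝒜 (X i * X j * X o : AA)

theorem hX (i : Fin (n + 1)) : (X i : AA) ∈ 𝒜 1 := ProjSpaceGamma.hX n R i

theorem hT1 (o i j : Fin (n + 1)) : T (R := R) o i j ≤ V i j := Proj.basicOpen_mono _ _ _ ⟨_, rfl⟩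

theorem hT2 (o i j : Fin (n + 1)) : T (R := R) o i j ≤ V i o :=
  Proj.basicOpen_mono _ _ _ ⟨X j, by ring⟩

theorem hT3 (o i j : Fin (n + 1)) : T (R := R) o i j ≤ V j o :=
  Proj.basicOpen_mono _ _ _ ⟨X i, by ring⟩

theorem X3_mem (o i j : Fin (n + 1)) : (X i * X j * X o : AA) ∈ 𝒜 (2 + 1) :=
  SetLike.mul_mem_graded (X_mul_X_mem i j) (hX o)

theorem X3_ne_zero (o i j : Fin (n + 1)) : (X i * X j * X o : AA) ≠ 0 :=
  mul_ne_zero (X_mul_X_ne_zero i j) (X_ne_zero o)

/-- functions on `V i j` in the fraction field -/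
noncomputable abbrev φV (i j : Fin (n + 1)) : Γ(Proj 𝒜, V (R := R) i j) →+* KK :=
  phi (X_mul_X_mem i j) two_pos (X_mul_X_ne_zero i j)

/-- functions on `T o i j` in the fraction field -/
noncomputable abbrev φT (o i j : Fin (n + 1)) : Γ(Proj 𝒜, T (R := R) o i j) →+* KK :=
  phi (X3_mem o i j) (by omega) (X3_ne_zero o i j)

theorem φT_res1 (o i j : Fin (n + 1)) (s : Γ(Proj 𝒜, V (R := R) i j)) :
    φT o i j (resO (hT1 o i j) s) = φV i j s :=
  phi_res (X_mul_X_mem i j) two_pos (hX o) rfl (X_mul_X_ne_zero i j) (X3_ne_zero o i j) (X3_mem o i j) s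

theorem φT_res2 (o i j : Fin (n + 1)) (s : Γ(Proj 𝒜, V (R := R) i o)) :
    φT o i j (resO (hT2 o i j) s) = φV i o s :=
  phi_res (X_mul_X_mem i o) two_pos (hX j) (by ring) (X_mul_X_ne_zero i o) (X3_ne_zero o i j) (X3_mem o i j) s

theorem φT_res3 (o i j : Fin (n + 1)) (s : Γ(Proj 𝒜, V (R := R) j o)) :
    φT o i j (resO (hT3 o i j) s) = φV j o s :=
  phi_res (X_mul_X_mem j o) two_pos (hX i) (by ring) (X_mul_X_ne_zero j o) (X3_ne_zero o i j) (X3_mem o i j) s

theorem φV_kap_left (i j : Fin (n + 1)) (c : R) :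
    φV i j (resO (hVl i j) (kap (hX i) c)) = em (C c) := by
  have := phi_res (hX i) one_pos (hX j) rfl (X_ne_zero i) (X_mul_X_ne_zero i j)
    (SetLike.mul_mem_graded (hX i) (hX j)) (kap (hX i) c)
  rw [phi_kap] at this
  exact this

theorem hcovU (x : Proj 𝒜) : ∃ i : Fin (n + 1), x ∈ U (R := R) i := by
  have h : x ∈ (⨆ i, ProjSpaceGamma.U n R i) := by rw [ProjSpaceGamma.iSup_U]; trivial
  exact TopologicalSpace.Opens.mem_iSup.1 h

theorem hleV (i j : Fin (n + 1)) : U (R := R) i ⊓ U j ≤ V i j := by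
  rw [V, Proj.basicOpen_mul]

/-- **every invertible module on projective space over a factorial ring is a twisting sheaf** -/
theorem main [UniqueFactorizationMonoid R] (L : (Proj 𝒜).Modules) (hL : PicF.IsInvertible L) :
    ∃ d : ℤ, Nonempty (L ≅ Twist.twist 𝒜 d) := by
  classical
  -- generators on the standard charts
  have hgen : ∀ i : Fin (n + 1), ∃ g : Γ(L, U (R := R) i), IsGen L (U i) g := by
    intro i
    haveI := PnUFD.isDomain_away n R i
    haveI := PnUFD.ufm_away n R i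
    exact PicTransport.exists_isGen_of_ufd L hL (U i) (Away 𝒜 (X i : AA))
      (Proj.basicOpenIsoSpec 𝒜 (X i : AA) (hX i) one_pos)
  choose s hs using hgen
  let o : Fin (n + 1) := 0
  -- coefficients with respect to the reference chart
  have hb : ∀ i, ∃ b : Γ(Proj 𝒜, V (R := R) i o),
      res L (hVl i o) (s i) = (b • res L (hVr i o) (s o) : Γ(L, V i o)) :=
    fun i => ((hs o (V i o) (hVr i o)).2 _).imp fun b hb => hb.symm
  choose b hb using hb
  have hbu : ∀ i, IsUnit (b i) := fun i =>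
    isUnit_of_isGen_smul ((hs o).res (hVr i o)) (b i) (by rw [← hb i]; exact (hs i).res (hVl i o))
  have hcd : ∀ i, ∃ (c : Rˣ) (d : ℤ),
      φV i o (b i) = em (C (c : R)) * (em (X i : AA) / em (X o : AA)) ^ d := by
    intro i
    by_cases hio : i = o
    · refine ⟨1, 0, ?_⟩
      have h1 : b i = 1 := by
        have hbi := hb i
        rw [hio] at hbi ⊢
        apply (hs o (V o o) (hVr o o)).1
        show (b o • res L (hVr o o) (s o) : Γ(L, V o o)) = ((1 : Γ(Proj 𝒜, V (R := R) o o)) • res L (hVr o o) (s o) : Γ(L, V o o))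
        rw [one_smul, ← hbi]
      rw [h1, map_one, zpow_zero, mul_one, Units.val_one, C_1, em_one]
    · exact unit_structure_phi hio (b i) (hbu i)
  choose c d hcd using hcd
  -- normalized generators
  obtain ⟨s', hs'def⟩ : ∃ s' : ∀ i, Γ(L, U (R := R) i),
      ∀ i, s' i = (kap (hX i) (((c i)⁻¹ : Rˣ) : R) • s i : Γ(L, U i)) := ⟨_, fun _ => rfl⟩
  have hs' : ∀ i, IsGen L (U i) (s' i) := fun i => by
    rw [hs'def i]
    exact IsGen.smul_unit (hs i) _ (isUnit_kap (hX i) one_pos (X_ne_zero i) (c i)⁻¹)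
  obtain ⟨b'', hb''def⟩ : ∃ b'' : ∀ i, Γ(Proj 𝒜, V (R := R) i o),
      ∀ i, b'' i = resO (hVl i o) (kap (hX i) (((c i)⁻¹ : Rˣ) : R)) * b i := ⟨_, fun _ => rfl⟩
  have hb'' : ∀ i, res L (hVl i o) (s' i) = (b'' i • res L (hVr i o) (s o) : Γ(L, V i o)) := by
    intro i
    rw [hs'def i, hb''def i, res_smul, hb i, ← mul_smul]
  have hφb : ∀ i, φV i o (b'' i) = (em (X i : AA) / em (X o : AA)) ^ d i := by
    intro i
    rw [hb''def i, map_mul, φV_kap_left, hcd i, ← mul_assoc, ← em_mul, ← C_mul, Units.inv_mul, C_1, em_one,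
      one_mul]
  -- the transition functions of the normalized generators
  have hw : ∀ i j, ∃ w : Γ(Proj 𝒜, V (R := R) i j),
      res L (hVl i j) (s' i) = (w • res L (hVr i j) (s' j) : Γ(L, V i j)) :=
    fun i j => ((hs' j (V i j) (hVr i j)).2 _).imp fun w hw => hw.symm
  choose w hw using hw
  have hwu : ∀ i j, IsUnit (w i j) := fun i j =>
    isUnit_of_isGen_smul ((hs' j).res (hVr i j)) (w i j) (by rw [← hw i j]; exact (hs' i).res (hVl i j))
  have hcoc : ∀ i j, φV i o (b'' i) = φV i j (w i j) * φV j o (b'' j) := by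
    intro i j
    rw [← φT_res2 o i j, ← φT_res1 o i j, ← φT_res3 o i j, ← map_mul]
    congr 1
    have hTo : T (R := R) o i j ≤ U o := (hT2 o i j).trans (hVr i o)
    apply (hs o (T o i j) hTo).1
    show (resO (hT2 o i j) (b'' i) • res L hTo (s o) : Γ(L, T o i j)) =
      ((resO (hT1 o i j) (w i j) * resO (hT3 o i j) (b'' j)) • res L hTo (s o) : Γ(L, T o i j))
    have h1 := congrArg (res L (hT2 o i j)) (hb'' i)
    have h2 := congrArg (res L (hT3 o i j)) (hb'' j)
    have h3 := congrArg (res L (hT1 o i j)) (hw i j)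
    rw [res_smul, res_res, res_res] at h1 h2 h3
    rw [mul_smul, ← h2, ← h3, h1]
  have hx0 : ∀ i : Fin (n + 1), em (X i : AA) ≠ 0 := fun i => em_ne_zero (X_ne_zero i)
  -- the exponents agree
  have hdd : ∀ i j, i ≠ o → j ≠ o → d i = d j := by
    intro i j hio hjo
    refine exp_eq_of_unit_phi hio hjo (w i j) (hwu i j) (d i) (d j) ?_
    have h1 := hcoc i j
    rw [hφb i, hφb j] at h1
    rw [h1, mul_div_assoc, div_self (zpow_ne_zero _ (div_ne_zero (hx0 j) (hx0 o))), mul_one]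
  obtain ⟨dd, hd_eq⟩ : ∃ dd : ℤ, ∀ i, i ≠ o → d i = dd := by
    by_cases h : ∃ i : Fin (n + 1), i ≠ o
    · obtain ⟨i₀, hi₀⟩ := h
      exact ⟨d i₀, fun i hio => hdd i i₀ hio hi₀⟩
    · exact ⟨0, fun i hio => (h ⟨i, hio⟩).elim⟩
  have hφb' : ∀ i, φV i o (b'' i) = (em (X i : AA) / em (X o : AA)) ^ dd := by
    intro i
    rw [hφb i]
    by_cases hio : i = o
    · rw [hio, div_self (hx0 o), one_zpow, one_zpow]
    · rw [hd_eq i hio]
  have hw_eq : ∀ i j, w i j = rho i j dd.toNat (-dd).toNat := by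
    intro i j
    apply phi_injective (X_mul_X_mem i j) two_pos (X_mul_X_ne_zero i j)
    rw [phi_rho, Int.toNat_sub_toNat_neg]
    have h1 := hcoc i j
    rw [hφb' i, hφb' j] at h1
    have h2 : φV i j (w i j) =
        (em (X i : AA) / em (X o : AA)) ^ dd / (em (X j : AA) / em (X o : AA)) ^ dd := by
      rw [h1, mul_div_assoc, div_self (zpow_ne_zero _ (div_ne_zero (hx0 j) (hx0 o))), mul_one]
    rw [h2, ← div_zpow, div_div_div_cancel_right₀ (hx0 o)]
  -- glue
  have hcocyc : ∀ i j, ∃ u : Γ(Proj 𝒜, U (R := R) i ⊓ U j),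
      res L inf_le_left (s' i) = (u • res L inf_le_right (s' j) : Γ(L, U i ⊓ U j)) ∧
      res (Twist.twist 𝒜 dd) inf_le_left (TwistMul.gen 𝒜 (hX i) dd) =
        (u • res (Twist.twist 𝒜 dd) inf_le_right (TwistMul.gen 𝒜 (hX j) dd) :
          Γ(Twist.twist 𝒜 dd, U i ⊓ U j)) := by
    intro i j
    refine ⟨resO (hleV i j) (rho i j dd.toNat (-dd).toNat), ?_, ?_⟩
    · have h1 := congrArg (res L (hleV i j)) (hw i j)
      rw [res_smul, res_res, res_res, hw_eq i j] at h1
      exact h1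
    · have h1 := congrArg (res (Twist.twist 𝒜 dd) (hleV i j)) (gen_transition (R := R) i j dd)
      rw [res_smul, res_res, res_res] at h1
      exact h1
  obtain ⟨ψ, -⟩ := exists_iso_of_cocycle_gen (M := L) (N := Twist.twist 𝒜 dd) (fun i => U (R := R) i) s'
    (fun i => TwistMul.gen 𝒜 (hX i) dd) hs' (fun i => isGen_gen 𝒜 (hX i) dd) hcovU hcocyc
  exact ⟨dd, ⟨ψ⟩⟩

end Groth.Agent.Lib.Helper17.PnPic
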