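import Groth.Agent.Lib.Helper17.PnPic
import Groth.Agent.S0232
import Mathlib
set_option backward.isDefEq.respectTransparency.types false
set_option autoImplicit false
universe u

/-!
# The twisting sheaves on projective space of positive dimension are pairwise non-isomorphic
-/

namespace Groth.Agent.Lib.Helper17.PnPicUniq
open CategoryTheory AlgebraicGeometry MvPolynomial HomogeneousLocalization
open Groth.Agent.Lib.Helper17.UFDVal
open Groth.Agent.Lib.Helper17.PnFrac Groth.Agent.Lib.Helper17.PnSec Groth.Agent.Lib.Helper17.PnTwist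
open Groth.Agent.Lib.Helper17.PnPic
open Groth.Agent.Lib.Helper17.InvDescLoc
open Groth.Agent.Lib.Helper28 Groth.Agent.Lib.Helper28.QCohLoc Groth.Agent.Lib.Helper28.GenLocus

variable {n : ℕ} {R : Type u} [CommRing R] [IsDomain R]

local notation "𝒜" => CohB1.polyGrading n R
local notation "AA" => MvPolynomial (Fin (n + 1)) R
local notation "KK" => FractionRing (MvPolynomial (Fin (n + 1)) R)

/-- functions on `U i` in the fraction field -/
noncomputable abbrev φU (i : Fin (n + 1)) : Γ(Proj 𝒜, U (R := R) i) →+* KK :=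
  phi (hX i) one_pos (X_ne_zero i)

theorem φV_res_left (i j : Fin (n + 1)) (s : Γ(Proj 𝒜, U (R := R) i)) :
    φV i j (resO (hVl i j) s) = φU i s :=
  phi_res (hX i) one_pos (hX j) rfl (X_ne_zero i) (X_mul_X_ne_zero i j)
    (SetLike.mul_mem_graded (hX i) (hX j)) s

theorem φV_res_right (i j : Fin (n + 1)) (s : Γ(Proj 𝒜, U (R := R) j)) :
    φV i j (resO (hVr i j) s) = φU j s :=
  phi_res (hX j) one_pos (hX i) (mul_comm _ _) (X_ne_zero j) (X_mul_X_ne_zero i j)
    (SetLike.mul_mem_graded (hX i) (hX j)) s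

theorem unit_structure_one_phi (i : Fin (n + 1)) (s : Γ(Proj 𝒜, U (R := R) i)) (hs : IsUnit s) :
    ∃ (c : R) (_ : IsUnit c), φU i s = em (C c) :=
  unit_structure_one i ((Proj.basicOpenIsoAway 𝒜 _ (hX i) one_pos).inv.hom s)
    (hs.map (Proj.basicOpenIsoAway 𝒜 _ (hX i) one_pos).inv.hom)

/-- **`O(d) ≅ O(e)` on projective space of positive dimension forces `d = e`** -/
theorem twist_injective [UniqueFactorizationMonoid R] (hn : 1 ≤ n) (d e : ℤ)
    (ψ : Twist.twist 𝒜 d ≅ Twist.twist 𝒜 e) : d = e := by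
  let i : Fin (n + 1) := ⟨1, by omega⟩
  let j : Fin (n + 1) := 0
  have hij : i ≠ j := by
    intro h
    have := congrArg Fin.val h
    simp [i, j] at this
  -- the images of the standard generators
  have hv : ∀ k : Fin (n + 1), ∃ v : Γ(Proj 𝒜, U (R := R) k), IsUnit v ∧
      ψ.hom.app (U k) (TwistMul.gen 𝒜 (hX k) d) =
        (v • TwistMul.gen 𝒜 (hX k) e : Γ(Twist.twist 𝒜 e, U k)) := by
    intro k
    have hg1 : IsGen (Twist.twist 𝒜 e) (U k) (ψ.hom.app (U k) (TwistMul.gen 𝒜 (hX k) d)) :=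
      Groth.Agent.S0232.isGen_of_iso ψ (isGen_gen 𝒜 (hX k) d)
    have hg2 := isGen_gen 𝒜 (hX (R := R) k) e
    obtain ⟨v₀, hv₀⟩ := (hg2 (U k) le_rfl).2 (ψ.hom.app (U k) (TwistMul.gen 𝒜 (hX k) d))
    rw [res_self] at hv₀
    have hv₁ : (v₀ • TwistMul.gen 𝒜 (hX k) e : Γ(Twist.twist 𝒜 e, U k)) =
        ψ.hom.app (U k) (TwistMul.gen 𝒜 (hX k) d) := hv₀
    refine ⟨v₀, isUnit_of_isGen_smul hg2 v₀ ?_, hv₁.symm⟩
    rw [hv₁]
    exact hg1
  choose vv hvu hv using hv
  -- compare on the overlap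
  have key : resO (hVl i j) (vv i) * rho (n := n) (R := R) i j e.toNat (-e).toNat =
      rho i j d.toNat (-d).toNat * resO (hVr i j) (vv j) := by
    have hg2 := isGen_gen 𝒜 (hX (R := R) j) e
    apply (hg2 (V i j) (hVr i j)).1
    show ((resO (hVl i j) (vv i) * rho (n := n) (R := R) i j e.toNat (-e).toNat) •
        res (Twist.twist 𝒜 e) (hVr i j) (TwistMul.gen 𝒜 (hX j) e) : Γ(Twist.twist 𝒜 e, V i j)) =
      ((rho i j d.toNat (-d).toNat * resO (hVr i j) (vv j)) •
        res (Twist.twist 𝒜 e) (hVr i j) (TwistMul.gen 𝒜 (hX j) e) : Γ(Twist.twist 𝒜 e, V i j))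
    rw [mul_smul, ← gen_transition (R := R) i j e, ← res_smul, ← hv i, mul_smul, ← res_smul, ← hv j,
      ← app_res, ← app_res, gen_transition (R := R) i j d, Scheme.Modules.Hom.app_smul]
  obtain ⟨ci, hci, hφi⟩ := unit_structure_one_phi i (vv i) (hvu i)
  obtain ⟨cj, hcj, hφj⟩ := unit_structure_one_phi j (vv j) (hvu j)
  have h1 := congrArg (φV i j) key
  rw [map_mul, map_mul, φV_res_left, φV_res_right, hφi, hφj, phi_rho, phi_rho, Int.toNat_sub_toNat_neg,
    Int.toNat_sub_toNat_neg] at h1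
  have hxi : em (X i : AA) ≠ 0 := em_ne_zero (X_ne_zero i)
  have hxj : em (X j : AA) ≠ 0 := em_ne_zero (X_ne_zero j)
  have hci0 : em (C ci : AA) ≠ 0 := em_ne_zero (fun h => hci.ne_zero (C_injective _ _ (by rw [h, C_0])))
  have hcj0 : em (C cj : AA) ≠ 0 := em_ne_zero (fun h => hcj.ne_zero (C_injective _ _ (by rw [h, C_0])))
  have h2 := congrArg (v (X j : AA)) h1
  rw [v_mul X_prime hci0 (zpow_ne_zero _ (div_ne_zero hxi hxj)),
    v_mul X_prime (zpow_ne_zero _ (div_ne_zero hxi hxj)) hcj0, vX_C j hci.ne_zero, vX_C j hcj.ne_zero,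
    vX_ratio hij, vX_ratio hij] at h2
  omega

end Groth.Agent.Lib.Helper17.PnPicUniq
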