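import Groth.Agent.Lib.Helper17.PnFrac
import Groth.Agent.Lib.Helper28.ProjFrac
import Mathlib
set_option backward.isDefEq.respectTransparency.types false
set_option autoImplicit false
universe u

/-!
# Functions on the standard opens of projective space inside the fraction field of the polynomial ring
-/

namespace Groth.Agent.Lib.Helper17.PnSec
open CategoryTheory AlgebraicGeometry MvPolynomial HomogeneousLocalization
open Groth.Agent.Lib.Helper17.UFDVal Groth.Agent.Lib.Helper17.PnFrac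
open Groth.Agent.Lib.Helper28 Groth.Agent.Lib.Helper28.QCohLoc

variable {n : ℕ} {R : Type u} [CommRing R] [IsDomain R]

local notation "𝒜" => CohB1.polyGrading n R
local notation "AA" => MvPolynomial (Fin (n + 1)) R
local notation "KK" => FractionRing (MvPolynomial (Fin (n + 1)) R)

/-- functions on `D₊(g)` as elements of the fraction field -/
noncomputable def phi {g : AA} {d : ℕ} (hg : g ∈ 𝒜 d) (hd : 0 < d) (hg0 : g ≠ 0) :
    Γ(Proj 𝒜, Proj.basicOpen 𝒜 g) →+* KK :=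
  (iota g hg0).comp (Proj.basicOpenIsoAway 𝒜 g hg hd).inv.hom

theorem inv_awayToSection {g : AA} {d : ℕ} (hg : g ∈ 𝒜 d) (hd : 0 < d) (t : Away 𝒜 g) :
    (Proj.basicOpenIsoAway 𝒜 g hg hd).inv.hom (Proj.awayToSection 𝒜 g t) = t := by
  have := (Proj.basicOpenIsoAway 𝒜 g hg hd).hom_inv_id_apply t
  rw [Proj.basicOpenIsoAway_hom] at this
  exact this

theorem awayToSection_inv {g : AA} {d : ℕ} (hg : g ∈ 𝒜 d) (hd : 0 < d) (s : Γ(Proj 𝒜, Proj.basicOpen 𝒜 g)) :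
    Proj.awayToSection 𝒜 g ((Proj.basicOpenIsoAway 𝒜 g hg hd).inv.hom s) = s := by
  have := (Proj.basicOpenIsoAway 𝒜 g hg hd).inv_hom_id_apply s
  rw [Proj.basicOpenIsoAway_hom] at this
  exact this

theorem phi_awayToSection {g : AA} {d : ℕ} (hg : g ∈ 𝒜 d) (hd : 0 < d) (hg0 : g ≠ 0) (t : Away 𝒜 g) : phi hg hd hg0 (Proj.awayToSection 𝒜 g t) = iota g hg0 t := by
  unfold phi
  rw [RingHom.comp_apply, inv_awayToSection]

theorem phi_injective {g : AA} {d : ℕ} (hg : g ∈ 𝒜 d) (hd : 0 < d) (hg0 : g ≠ 0) : Function.Injective (phi hg hd hg0) := by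
  unfold phi
  rw [RingHom.coe_comp]
  refine (iota_injective g hg0).comp ?_
  exact (ConcreteCategory.bijective_of_isIso (Proj.basicOpenIsoAway 𝒜 g hg hd).inv).1

theorem exists_phi_eq {g : AA} {d : ℕ} (hg : g ∈ 𝒜 d) (hd : 0 < d) (hg0 : g ≠ 0) (t : Away 𝒜 g) : ∃ s : Γ(Proj 𝒜, Proj.basicOpen 𝒜 g), phi hg hd hg0 s = iota g hg0 t :=
  ⟨Proj.awayToSection 𝒜 g t, phi_awayToSection hg hd hg0 t⟩

theorem unitAway_phi {g : AA} {d : ℕ} (hg : g ∈ 𝒜 d) (hd : 0 < d) (hg0 : g ≠ 0) (s : Γ(Proj 𝒜, Proj.basicOpen 𝒜 g)) (hs : IsUnit s) : UnitAway g (phi hg hd hg0 s) := by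
  unfold phi
  rw [RingHom.comp_apply]
  exact unitAway_iota hg0 hg _ (hs.map (Proj.basicOpenIsoAway 𝒜 g hg hd).inv.hom)

/-- compatibility with restrictions -/
theorem phi_res {f g x : AA} {d e : ℕ} (hf : f ∈ 𝒜 d) (hd : 0 < d) (hg : g ∈ 𝒜 e) (hx : x = f * g) (hf0 : f ≠ 0)
    (hx0 : x ≠ 0) (hxm : x ∈ 𝒜 (d + e)) (s : Γ(Proj 𝒜, Proj.basicOpen 𝒜 f)) :
    phi hxm (by omega) hx0 (resO (Proj.basicOpen_mono _ _ _ ⟨_, hx⟩) s) = phi hf hd hf0 s := by
  obtain ⟨t, rfl⟩ : ∃ t, Proj.awayToSection 𝒜 f t = s := ⟨_, awayToSection_inv hf hd s⟩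
  have h1 := ProjSpaceGamma.res_awayToSection n R hg hx t
  have h2 : resO (Proj.basicOpen_mono _ _ _ ⟨_, hx⟩) (Proj.awayToSection 𝒜 f t) =
      Proj.awayToSection 𝒜 x (awayMap 𝒜 hg hx t) := h1
  rw [h2, phi_awayToSection, phi_awayToSection, iota_awayMap hf hg hx hf0 hx0]

/-- the constant functions -/
noncomputable def kap {g : AA} {d : ℕ} (hg : g ∈ 𝒜 d) (c : R) : Γ(Proj 𝒜, Proj.basicOpen 𝒜 g) :=
  Proj.awayToSection 𝒜 g (Away.mk 𝒜 hg 0 (C c) (by rw [zero_smul]; exact isHomogeneous_C _ c))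

theorem phi_kap {g : AA} {d : ℕ} (hg : g ∈ 𝒜 d) (hd : 0 < d) (hg0 : g ≠ 0) (c : R) :
    phi hg hd hg0 (kap hg c) = em (C c) := by
  unfold kap
  rw [phi_awayToSection, iota_mk hg0, pow_zero, div_one]

theorem isUnit_kap {g : AA} {d : ℕ} (hg : g ∈ 𝒜 d) (hd : 0 < d) (hg0 : g ≠ 0) (c : Rˣ) :
    IsUnit (kap hg (c : R)) := by
  refine IsUnit.of_mul_eq_one (kap hg ((c⁻¹ : Rˣ) : R)) ?_
  apply phi_injective hg hd hg0
  rw [map_mul, phi_kap, phi_kap, map_one, ← em_mul, ← C_mul, Units.mul_inv, C_1, em_one]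

/-- the function `(X i / X j) ^ (p - q)` on `D₊(X i X j)` -/
noncomputable def rho (i j : Fin (n + 1)) (p q : ℕ) : Γ(Proj 𝒜, Proj.basicOpen 𝒜 (X i * X j : AA)) :=
  Proj.awayToSection 𝒜 (X i * X j : AA) (Away.mk 𝒜 (X_mul_X_mem i j) (p + q) (X i ^ (2 * p) * X j ^ (2 * q)) (by
    have h1 : (X i ^ (2 * p) : AA) ∈ 𝒜 (2 * p) := by
      simpa using SetLike.pow_mem_graded (2 * p) (ProjSpaceGamma.hX n R i)
    have h2 : (X j ^ (2 * q) : AA) ∈ 𝒜 (2 * q) := by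
      simpa using SetLike.pow_mem_graded (2 * q) (ProjSpaceGamma.hX n R j)
    have h3 := SetLike.mul_mem_graded h1 h2
    have e : (p + q) • 2 = 2 * p + 2 * q := by simp only [smul_eq_mul]; ring
    rw [e]
    exact h3))

theorem val_rho (i j : Fin (n + 1)) (p q : ℕ) (x : Proj.basicOpen 𝒜 (X i * X j : AA)) :
    (GrTildeQC.valO 𝒜 (rho i j p q) x).val =
      Localization.mk (X i ^ (2 * p) * X j ^ (2 * q) : AA)
        ⟨(X i * X j : AA) ^ (p + q), GrSectMod.pow_nin 𝒜 (p + q) x⟩ := rfl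

theorem phi_rho (i j : Fin (n + 1)) (p q : ℕ) :
    phi (X_mul_X_mem i j) two_pos (X_mul_X_ne_zero i j) (rho i j p q) =
      (em (X i : AA) / em (X j : AA)) ^ ((p : ℤ) - q) := by
  have hxi : em (X i : AA) ≠ 0 := em_ne_zero (X_ne_zero i)
  have hxj : em (X j : AA) ≠ 0 := em_ne_zero (X_ne_zero j)
  unfold rho
  rw [phi_awayToSection, iota_mk (X_mul_X_ne_zero i j), em_mul, em_pow, em_pow, em_mul,
    zpow_sub₀ (div_ne_zero hxi hxj), zpow_natCast, zpow_natCast, div_pow, div_pow, div_div_div_eq,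
    div_eq_div_iff (pow_ne_zero _ (mul_ne_zero hxi hxj)) (mul_ne_zero (pow_ne_zero _ hxj) (pow_ne_zero _ hxi))]
  ring

/-- the units on `D₊(X i X j)` -/
theorem unit_structure_phi {i j : Fin (n + 1)} (hij : i ≠ j)
    (s : Γ(Proj 𝒜, Proj.basicOpen 𝒜 (X i * X j : AA))) (hs : IsUnit s) :
    ∃ (c : Rˣ) (d : ℤ), phi (X_mul_X_mem i j) two_pos (X_mul_X_ne_zero i j) s =
      em (C (c : R)) * (em (X i : AA) / em (X j : AA)) ^ d := by
  obtain ⟨c, hc, d, h⟩ := unit_structure hij ((Proj.basicOpenIsoAway 𝒜 _ (X_mul_X_mem i j) two_pos).inv.hom s)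
    (hs.map (Proj.basicOpenIsoAway 𝒜 _ (X_mul_X_mem i j) two_pos).inv.hom)
  exact ⟨hc.unit, d, h⟩

/-- comparison of exponents -/
theorem exp_eq_of_unit_phi [UniqueFactorizationMonoid R] {i j o : Fin (n + 1)} (hio : i ≠ o) (hjo : j ≠ o)
    (w : Γ(Proj 𝒜, Proj.basicOpen 𝒜 (X i * X j : AA))) (hw : IsUnit w) (di dj : ℤ)
    (h : phi (X_mul_X_mem i j) two_pos (X_mul_X_ne_zero i j) w =
      (em (X i : AA) / em (X o : AA)) ^ di / (em (X j : AA) / em (X o : AA)) ^ dj) : di = dj :=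
  exp_eq_of_unit hio hjo ((Proj.basicOpenIsoAway 𝒜 _ (X_mul_X_mem i j) two_pos).inv.hom w)
    (hw.map (Proj.basicOpenIsoAway 𝒜 _ (X_mul_X_mem i j) two_pos).inv.hom) di dj h

end Groth.Agent.Lib.Helper17.PnSec
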