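import Groth.Agent.Lib.Helper17.PnSec
import Groth.Agent.Lib.Helper28.TwistInv
import Groth.Agent.Lib.Helper28.GrTwistGenVal
import Mathlib
set_option backward.isDefEq.respectTransparency.types false
set_option autoImplicit false
universe u

/-!
# The standard generators of `O(m)` on projective space and their transition functions
-/

namespace Groth.Agent.Lib.Helper17.PnTwist
open CategoryTheory AlgebraicGeometry MvPolynomial HomogeneousLocalization
open Groth.Agent.Lib.Helper17.PnFrac Groth.Agent.Lib.Helper17.PnSec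
open Groth.Agent.Lib.Helper28 Groth.Agent.Lib.Helper28.QCohLoc Groth.Agent.Lib.Helper28.GenLocus

section general

variable {R A : Type u} [CommRing R] [CommRing A] [Algebra R A] (𝒜 : ℕ → Submodule R A) [GradedAlgebra 𝒜]

/-- `f^m` generates `O(m)` over `D₊(f)` -/
theorem isGen_gen {f : A} (hf : f ∈ 𝒜 1) (m : ℤ) :
    IsGen (Twist.twist 𝒜 m) (Proj.basicOpen 𝒜 f) (TwistMul.gen 𝒜 hf m) := by
  refine GrTwistGenVal.isGen_of_bijective_on_basis (Twist.twist 𝒜 m) (Proj.basicOpen 𝒜 f) (TwistMul.gen 𝒜 hf m)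
    (fun W => ∃ (h : A) (e : ℕ), 0 < e ∧ h ∈ 𝒜 e ∧ W = Proj.basicOpen 𝒜 (f * h)) ?_ ?_
  · intro V x hxV hVU
    obtain ⟨e, h, he, hh, hhx, hhV⟩ := GrSectComap.exists_pos_basicOpen 𝒜 V x hxV
    refine ⟨Proj.basicOpen 𝒜 (f * h), ⟨h, e, he, hh, rfl⟩, ?_, ?_⟩
    · rw [Proj.basicOpen_mul]
      exact ⟨hVU hxV, (Proj.mem_basicOpen 𝒜 h x).2 hhx⟩
    · intro y hy
      rw [Proj.basicOpen_mul] at hy
      exact hhV y ((Proj.mem_basicOpen 𝒜 h y).1 hy.2)
  · rintro W hW ⟨h, e, he, hh, rfl⟩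
    exact TwistInv.smul_genW_bijective 𝒜 hf he hh m

end general

variable {n : ℕ} {R : Type u} [CommRing R] [IsDomain R]

local notation "𝒜" => CohB1.polyGrading n R
local notation "AA" => MvPolynomial (Fin (n + 1)) R

theorem hVl (i j : Fin (n + 1)) : Proj.basicOpen 𝒜 (X i * X j : AA) ≤ Proj.basicOpen 𝒜 (X i : AA) :=
  Proj.basicOpen_mono _ _ _ ⟨_, rfl⟩

theorem hVr (i j : Fin (n + 1)) : Proj.basicOpen 𝒜 (X i * X j : AA) ≤ Proj.basicOpen 𝒜 (X j : AA) :=
  Proj.basicOpen_mono _ _ _ ⟨_, mul_comm _ _⟩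

/-- the transition functions of the standard generators of `O(m)` -/
theorem gen_transition (i j : Fin (n + 1)) (m : ℤ) :
    res (Twist.twist 𝒜 m) (hVl i j) (TwistMul.gen 𝒜 (ProjSpaceGamma.hX n R i) m) =
      (rho (n := n) (R := R) i j m.toNat (-m).toNat • res (Twist.twist 𝒜 m) (hVr i j) (TwistMul.gen 𝒜 (ProjSpaceGamma.hX n R j) m) :
        Γ(Twist.twist 𝒜 m, Proj.basicOpen 𝒜 (X i * X j : AA))) := by
  apply TwistQC.ext_val
  intro x
  rw [TwistQC.val_smul, TwistQC.val_res, TwistQC.val_res, TwistMul.val_gen, TwistMul.val_gen, val_rho,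
    Localization.mk_mul, Localization.mk_eq_mk_iff, Localization.r_iff_exists]
  refine ⟨1, ?_⟩
  simp only [OneMemClass.coe_one, one_mul, Submonoid.coe_mul]
  ring

end Groth.Agent.Lib.Helper17.PnTwist
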