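import Groth.Prelude.Def_OmegaPn
import Groth.Agent.S0440
import Groth.Agent.Lib.Helper17.ModPullback
import Groth.Agent.Lib.Helper28.QCohPush
import Mathlib
set_option backward.isDefEq.respectTransparency.types false
set_option autoImplicit false
universe u
open CategoryTheory CategoryTheory.Limits AlgebraicGeometry TopologicalSpace Opposite
noncomputable section
namespace Groth.Agent.Lib.Helper17.PrinPartAff

variable {X S : Scheme.{u}} (f : X ⟶ S)

instance isClosedImmersion_toInfNbhd {X Y : Scheme.{u}} (i : Y ⟶ X) [IsClosedImmersion i] (n : ℕ) :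
    IsClosedImmersion (PrinPart.toInfNbhd i n) := by
  unfold PrinPart.toInfNbhd
  infer_instance

instance isClosedImmersion_toNbhd (n : ℕ) : IsClosedImmersion (PrinPart.toNbhd f n) :=
  isClosedImmersion_toInfNbhd _ n

/-- a morphism with a section which is a surjective closed immersion is affine -/
theorem isAffineHom_of_section {P X : Scheme.{u}} (p : P ⟶ X) (t : X ⟶ P) [IsClosedImmersion t]
    (ht : Function.Surjective t) (h : t ≫ p = 𝟙 X) : IsAffineHom p := by
  refine ⟨fun U hU => ?_⟩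
  have hpre : t ⁻¹ᵁ (p ⁻¹ᵁ U) = U := by
    rw [← Scheme.Hom.comp_preimage, h]; rfl
  haveI : IsAffine (↑(t ⁻¹ᵁ (p ⁻¹ᵁ U)) : Scheme.{u}) := by
    rw [hpre]; exact hU
  have hsurj : Function.Surjective (t ∣_ (p ⁻¹ᵁ U)) := by
    rintro ⟨z, hz⟩
    obtain ⟨x, rfl⟩ := ht z
    exact ⟨⟨x, hz⟩, Subtype.ext (morphismRestrict_base_coe t (p ⁻¹ᵁ U) ⟨x, hz⟩)⟩
  exact Groth.Agent.S0440.result (t ∣_ (p ⁻¹ᵁ U)) hsurj

instance isAffineHom_pr1 (n : ℕ) : IsAffineHom (PrinPart.pr1 f n) :=
  isAffineHom_of_section _ (PrinPart.toNbhd f n) (PrinPart.toInfNbhd_surjective _ n) (PrinPart.toNbhd_pr1 f n)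

instance isAffineHom_pr2 (n : ℕ) : IsAffineHom (PrinPart.pr2 f n) :=
  isAffineHom_of_section _ (PrinPart.toNbhd f n) (PrinPart.toInfNbhd_surjective _ n) (PrinPart.toNbhd_pr2 f n)

theorem isQuasicoherent_PMod (n : ℕ) (F : X.Modules) [F.IsQuasicoherent] :
    (PrinPart.PMod f n F).IsQuasicoherent := by
  unfold PrinPart.PMod
  exact Groth.Agent.Lib.Helper28.QCohLoc.isQuasicoherent_pushforward _ _

end Groth.Agent.Lib.Helper17.PrinPartAff
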