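import Mathlib.AlgebraicGeometry.ProjectiveSpectrum.Basic
import Mathlib.AlgebraicGeometry.ProjectiveSpectrum.Functor
import Mathlib.RingTheory.GradedAlgebra.Radical

set_option autoImplicit false
universe u

namespace Groth.Agent.Lib.Helper17

open AlgebraicGeometry

variable {R A : Type u} [CommRing R] [CommRing A] [Algebra R A] (𝒜 : ℕ → Submodule R A) [GradedAlgebra 𝒜]

/-- Projective Nullstellensatz, pointwise form. -/
theorem exists_point_of_not_mem_radical (I : Ideal A) (hI : I.IsHomogeneous 𝒜) (f : A)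
    (hf : f ∈ (HomogeneousIdeal.irrelevant 𝒜).toIdeal) (hfI : f ∉ I.radical) :
    ∃ x : ProjectiveSpectrum 𝒜, I ≤ x.asHomogeneousIdeal.toIdeal ∧ f ∉ x.asHomogeneousIdeal := by
  rw [hI.radical_eq, Ideal.mem_sInf] at hfI
  push Not at hfI
  obtain ⟨J, ⟨hJh, hIJ, hJp⟩, hfJ⟩ := hfI
  refine ⟨⟨⟨J, hJh⟩, hJp, fun hle => hfJ (hle hf)⟩, hIJ, hfJ⟩

/-- A non-nilpotent element of the irrelevant ideal is nonzero at some point of Proj. -/
theorem exists_point_of_not_isNilpotent (f : A)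
    (hf : f ∈ (HomogeneousIdeal.irrelevant 𝒜).toIdeal) (hfn : ¬ IsNilpotent f) :
    ∃ x : ProjectiveSpectrum 𝒜, f ∉ x.asHomogeneousIdeal := by
  obtain ⟨x, -, hx⟩ := exists_point_of_not_mem_radical 𝒜 ⊥ (Ideal.IsHomogeneous.bot 𝒜) f hf
    (by
      change f ∉ nilradical A
      rwa [mem_nilradical])
  exact ⟨x, hx⟩

/-- A graded ring hom maps the irrelevant ideal into the irrelevant ideal. -/
theorem map_mem_irrelevant {B : Type u} [CommRing B] [Algebra R B] (ℬ : ℕ → Submodule R B)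
    [GradedAlgebra ℬ] (φ : 𝒜 →+*ᵍ ℬ) (a : A)
    (ha : a ∈ (HomogeneousIdeal.irrelevant 𝒜).toIdeal) :
    φ a ∈ (HomogeneousIdeal.irrelevant ℬ).toIdeal := by
  change GradedRing.proj 𝒜 0 a = 0 at ha
  change GradedRing.proj ℬ 0 (φ a) = 0
  rw [GradedRing.proj_apply] at ha ⊢
  rw [← GradedRingHom.map_directSumDecompose 𝒜 ℬ φ, ha, map_zero]

end Groth.Agent.Lib.Helper17
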