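import Mathlib.AlgebraicGeometry.ProjectiveSpectrum.Basic
import Mathlib.AlgebraicGeometry.ProjectiveSpectrum.Functor
import Mathlib.AlgebraicGeometry.Morphisms.ClosedImmersion

set_option autoImplicit false
universe u

namespace Groth.Agent.Lib.Helper17

open AlgebraicGeometry CategoryTheory

variable {R A : Type u} [CommRing R] [CommRing A] [Algebra R A] (𝒜 : ℕ → Submodule R A) [GradedAlgebra 𝒜]
variable {B : Type u} [CommRing B] [Algebra R B] (ℬ : ℕ → Submodule R B) [GradedAlgebra ℬ]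

theorem away_map_surjective (φ : 𝒜 →+*ᵍ ℬ) (hsurj : Function.Surjective φ) {s : A} {d : ℕ}
    (hs : s ∈ 𝒜 d) : Function.Surjective (HomogeneousLocalization.Away.map φ s) := by
  intro y
  obtain ⟨n, b, hb, rfl⟩ := HomogeneousLocalization.Away.mk_surjective ℬ (φ.map_mem hs) y
  obtain ⟨a, rfl⟩ := hsurj b
  refine ⟨HomogeneousLocalization.Away.mk 𝒜 hs n (DirectSum.decompose 𝒜 a (n • d))
    (SetLike.coe_mem _), ?_⟩
  rw [HomogeneousLocalization.Away.map_mk]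
  congr 1
  rw [GradedRingHom.map_directSumDecompose 𝒜 ℬ φ, DirectSum.decompose_of_mem_same ℬ hb]

theorem appLE_basicOpen_surjective (φ : 𝒜 →+*ᵍ ℬ) (hsurj : Function.Surjective φ)
    (hφ : HomogeneousIdeal.irrelevant ℬ ≤ (HomogeneousIdeal.irrelevant 𝒜).map φ)
    {s : A} {d : ℕ} (hd : 0 < d) (hs : s ∈ 𝒜 d) :
    Function.Surjective ((Proj.map φ hφ).appLE (Proj.basicOpen 𝒜 s) (Proj.basicOpen ℬ (φ s))
      (by rfl)) := by
  have h := Proj.awayToSection_comp_appLE φ hφ hs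
  have h1 : Function.Surjective (Proj.awayToSection ℬ (φ s)) := by
    have : IsIso (Proj.awayToSection ℬ (φ s)) :=
      (Proj.basicOpenIsoAway ℬ (φ s) (φ.map_mem hs) hd).isIso_hom
    exact (ConcreteCategory.bijective_of_isIso _).2
  intro y
  obtain ⟨x, rfl⟩ := h1 y
  obtain ⟨w, rfl⟩ := away_map_surjective 𝒜 ℬ φ hsurj hs x
  refine ⟨Proj.awayToSection 𝒜 s w, ?_⟩
  have := congrArg (fun g => g w) h
  simpa using this

theorem exists_basicOpen_mem (x : Proj 𝒜) :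
    ∃ (s : A) (d : ℕ), 0 < d ∧ s ∈ 𝒜 d ∧ x ∈ Proj.basicOpen 𝒜 s := by
  obtain ⟨⟨⟨d, hd⟩, ⟨s, hs⟩⟩, y, hy⟩ := (Proj.affineOpenCover 𝒜).openCover.exists_eq x
  refine ⟨s, d, hd, hs, ?_⟩
  rw [← Proj.opensRange_awayι 𝒜 _ hs hd]
  exact ⟨y, hy⟩

theorem isClosedImmersion_morphismRestrict_basicOpen (φ : 𝒜 →+*ᵍ ℬ)
    (hsurj : Function.Surjective φ)
    (hφ : HomogeneousIdeal.irrelevant ℬ ≤ (HomogeneousIdeal.irrelevant 𝒜).map φ)
    {s : A} {d : ℕ} (hd : 0 < d) (hs : s ∈ 𝒜 d) :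
    IsClosedImmersion (Proj.map φ hφ ∣_ Proj.basicOpen 𝒜 s) := by
  have hU : IsAffineOpen (Proj.basicOpen 𝒜 s) := Proj.isAffineOpen_basicOpen 𝒜 _ hs hd
  have hV : IsAffineOpen (Proj.map φ hφ ⁻¹ᵁ Proj.basicOpen 𝒜 s) := by
    rw [Proj.map_preimage_basicOpen]
    exact Proj.isAffineOpen_basicOpen ℬ _ (φ.map_mem hs) hd
  have : IsAffine (Proj.basicOpen 𝒜 s).toScheme := hU
  have : IsAffine (Proj.map φ hφ ⁻¹ᵁ Proj.basicOpen 𝒜 s).toScheme := hV
  apply IsClosedImmersion.of_surjective_of_isAffine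
  rw [Scheme.Hom.appTop, morphismRestrict_app']
  refine (Scheme.Hom.appLE_congr (Proj.map φ hφ) _ (U' := Proj.basicOpen 𝒜 s)
    (V' := Proj.basicOpen ℬ (φ s)) (by simp) (by simp)
    (fun f => Function.Surjective f)).mpr ?_
  exact appLE_basicOpen_surjective 𝒜 ℬ φ hsurj hφ hd hs

end Groth.Agent.Lib.Helper17
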