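import Mathlib.RingTheory.Finiteness.Descent
import Mathlib.RingTheory.Flat.EquationalCriterion
import Mathlib.RingTheory.Flat.FaithfullyFlat.Basic
import Mathlib.Algebra.Module.FinitePresentation
import Mathlib.RingTheory.TensorProduct.Finite

set_option autoImplicit false
universe u v w

namespace Groth.Agent.Lib.Helper17.ProjDescent

open TensorProduct

variable (R : Type u) [CommRing R] (S : Type v) [CommRing S] [Algebra R S]
  [Module.FaithfullyFlat R S] (B : Type w) [AddCommGroup B] [Module R B]

/-- finite presentation descends along faithfully flat base change -/
theorem finitePresentation_of_baseChange [Module.FinitePresentation S (S ⊗[R] B)] :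
    Module.FinitePresentation R B := by
  have hfin : Module.Finite R B := Module.Finite.of_finite_tensorProduct_of_faithfullyFlat S
  obtain ⟨n, π, hπ⟩ := Module.Finite.exists_fin' R B
  let K := LinearMap.ker π
  have hπS : Function.Surjective (π.baseChange S) := LinearMap.lTensor_surjective S hπ
  have hkerfg : (LinearMap.ker (π.baseChange S)).FG :=
    Module.FinitePresentation.fg_ker (π.baseChange S) hπS
  have hex : Function.Exact (K.subtype.lTensor S) (π.lTensor S) :=
    Module.Flat.lTensor_exact S (LinearMap.exact_subtype_ker_map π)
  have hinj : Function.Injective (K.subtype.baseChange S) :=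
    Module.Flat.lTensor_preserves_injective_linearMap K.subtype K.injective_subtype
  have hrange : LinearMap.range (K.subtype.baseChange S) = LinearMap.ker (π.baseChange S) := by
    ext z
    rw [LinearMap.mem_ker, LinearMap.mem_range]
    exact (hex z).symm
  have h1 : Module.Finite S (LinearMap.range (K.subtype.baseChange S)) := by
    rw [hrange]
    exact Module.Finite.iff_fg.mpr hkerfg
  have h2 : Module.Finite S (S ⊗[R] K) :=
    Module.Finite.equiv (LinearEquiv.ofInjective (K.subtype.baseChange S) hinj).symm
  have h3 : Module.Finite R K := Module.Finite.of_finite_tensorProduct_of_faithfullyFlat S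
  exact Module.finitePresentation_of_surjective π hπ (Module.Finite.iff_fg.mp h3)

/-- finite projective descends along faithfully flat base change -/
theorem finite_projective_of_baseChange [Module.Finite S (S ⊗[R] B)]
    [Module.Projective S (S ⊗[R] B)] : Module.Finite R B ∧ Module.Projective R B := by
  have : Module.FinitePresentation S (S ⊗[R] B) := Module.finitePresentation_of_projective S _
  have hfp : Module.FinitePresentation R B := finitePresentation_of_baseChange R S B
  have hflat : Module.Flat R B := Module.Flat.of_flat_tensorProduct R B S
  exact ⟨inferInstance, Module.Flat.projective_of_finitePresentation⟩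

end Groth.Agent.Lib.Helper17.ProjDescent
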