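import Groth.Agent.Lib.Helper17.Proj
import Mathlib.AlgebraicGeometry.Properties

set_option autoImplicit false
universe u

namespace Groth.Agent.Lib.Helper17

open AlgebraicGeometry

variable {R A : Type u} [CommRing R] [CommRing A] [Algebra R A] (𝒜 : ℕ → Submodule R A) [GradedAlgebra 𝒜]

/-- If the irrelevant ideal has no nonzero nilpotents then the degree-zero localizations at
homogeneous elements of positive degree are reduced. -/
theorem isReduced_away_of_essentially_reduced
    (hred : ∀ f ∈ (HomogeneousIdeal.irrelevant 𝒜).toIdeal, IsNilpotent f → f = 0)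
    {f : A} {d : ℕ} (hd : 0 < d) (hf : f ∈ 𝒜 d) :
    IsReduced (HomogeneousLocalization.Away 𝒜 f) := by
  refine ⟨fun x hx => ?_⟩
  obtain ⟨n, a, ha, rfl⟩ := HomogeneousLocalization.Away.mk_surjective 𝒜 hf x
  obtain ⟨k, hk⟩ := hx
  have hk' := congrArg HomogeneousLocalization.val hk
  rw [HomogeneousLocalization.val_pow, HomogeneousLocalization.Away.val_mk,
    HomogeneousLocalization.val_zero, Localization.mk_pow, Localization.mk_eq_mk',
    IsLocalization.mk'_eq_zero_iff] at hk'
  obtain ⟨⟨_, m, rfl⟩, hm⟩ := hk'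
  dsimp only at hm
  have hfa : f * a ∈ (HomogeneousIdeal.irrelevant 𝒜).toIdeal :=
    Ideal.mul_mem_right _ _ (HomogeneousIdeal.mem_irrelevant_of_mem 𝒜 hd hf)
  have hnil : IsNilpotent (f * a) := by
    refine ⟨m + k, ?_⟩
    rw [mul_pow, pow_add, pow_add a]
    calc f ^ m * f ^ k * (a ^ m * a ^ k) = f ^ k * a ^ m * (f ^ m * a ^ k) := by ring
      _ = 0 := by rw [hm, mul_zero]
  have h0 := hred _ hfa hnil
  apply HomogeneousLocalization.val_injective
  rw [HomogeneousLocalization.Away.val_mk, HomogeneousLocalization.val_zero,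
    Localization.mk_eq_mk', IsLocalization.mk'_eq_zero_iff]
  exact ⟨⟨f, 1, pow_one f⟩, h0⟩

end Groth.Agent.Lib.Helper17
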