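import Groth.Agent.Lib.Helper17.QCAlgGen
import Mathlib
set_option backward.isDefEq.respectTransparency.types false
set_option autoImplicit false
universe u

namespace Groth.Agent.Lib.Helper17.QCAlgSub
open CategoryTheory CategoryTheory.Limits Opposite TopologicalSpace AlgebraicGeometry
open Groth.Agent.Lib.Helper28.QCohLoc Groth.Agent.Lib.Helper17.QCAlgGen

variable {X : Scheme.{u}} {B : RelSpec.QCAlg X} {E : X.Modules} (j : E ⟶ B.toModule)

theorem resB_resB {U V W : X.Opens} (h : V ≤ U) (h' : W ≤ V) (b : B.presheaf.obj (op U)) :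
    resB B h' (resB B h b) = resB B (h'.trans h) b := by
  have := congrArg (fun φ => φ.hom b) (B.presheaf.map_comp (homOfLE h).op (homOfLE h').op)
  exact this.symm

theorem resB_self {U : X.Opens} (b : B.presheaf.obj (op U)) : resB B (le_refl U) b = b := by
  have h : (homOfLE (le_refl U)).op = 𝟙 (op U) := rfl
  have := congrArg (fun φ => φ.hom b) (B.presheaf.map_id (op U))
  unfold resB
  rw [h]
  exact this

/-- `b` is locally (on affine opens) in the subring generated by the image of `E`. -/
def LocMem {V : X.Opens} (b : B.presheaf.obj (op V)) : Prop :=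
  ∀ x ∈ V, ∃ (W : X.Opens) (h : W ≤ V), IsAffineOpen W ∧ x ∈ W ∧
    resB B h b ∈ Subring.closure (genSet j W)

theorem LocMem.shrink {V : X.Opens} {b : B.presheaf.obj (op V)} (hb : LocMem j b) {x : X} (hx : x ∈ V)
    (T : X.Opens) (hxT : x ∈ T) :
    ∃ (W : X.Opens) (h : W ≤ V), IsAffineOpen W ∧ x ∈ W ∧ W ≤ T ∧
      resB B h b ∈ Subring.closure (genSet j W) := by
  obtain ⟨W, h, hW, hxW, hmem⟩ := hb x hx
  obtain ⟨_, ⟨W', hW', rfl⟩, hxW', hW'le⟩ :=
    X.isBasis_affineOpens.exists_subset_of_mem_open (show x ∈ ((W ⊓ T : X.Opens) : Set X) from ⟨hxW, hxT⟩)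
      (W ⊓ T).isOpen
  have h1 : W' ≤ W := fun y hy => (hW'le hy).1
  have h2 : W' ≤ T := fun y hy => (hW'le hy).2
  refine ⟨W', h1.trans h, hW', hxW', h2, ?_⟩
  rw [← resB_resB h h1]
  exact resB_mem_closure j h1 _ hmem

theorem locMem_of_mem_closure {V : X.Opens} (hV : IsAffineOpen V) {b : B.presheaf.obj (op V)}
    (hb : b ∈ Subring.closure (genSet j V)) : LocMem j b := by
  intro x hx
  exact ⟨V, le_rfl, hV, hx, by rw [resB_self]; exact hb⟩

theorem LocMem.res {V V' : X.Opens} (h : V' ≤ V) {b : B.presheaf.obj (op V)} (hb : LocMem j b) :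
    LocMem j (resB B h b) := by
  intro x hx
  obtain ⟨W, hWV, hW, hxW, hWT, hmem⟩ := hb.shrink j (h hx) V' hx
  refine ⟨W, hWT, hW, hxW, ?_⟩
  rw [resB_resB]
  exact hmem

/-- the subring of sections locally generated by the image of `E`. -/
def subB (V : X.Opens) : Subring (B.presheaf.obj (op V)) where
  carrier := {b | LocMem j b}
  mul_mem' := by
    intro a b ha hb x hx
    obtain ⟨W, h, hW, hxW, hmem⟩ := ha x hx
    obtain ⟨W', h', hW', hxW', hle, hmem'⟩ := hb.shrink j hx W hxW
    refine ⟨W', h', hW', hxW', ?_⟩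
    rw [map_mul]
    refine Subring.mul_mem _ ?_ hmem'
    rw [← resB_resB h hle]
    exact resB_mem_closure j hle _ hmem
  one_mem' := by
    intro x hx
    obtain ⟨_, ⟨W, hW, rfl⟩, hxW, hWle⟩ :=
      X.isBasis_affineOpens.exists_subset_of_mem_open hx V.isOpen
    exact ⟨W, hWle, hW, hxW, by rw [map_one]; exact Subring.one_mem _⟩
  add_mem' := by
    intro a b ha hb x hx
    obtain ⟨W, h, hW, hxW, hmem⟩ := ha x hx
    obtain ⟨W', h', hW', hxW', hle, hmem'⟩ := hb.shrink j hx W hxW
    refine ⟨W', h', hW', hxW', ?_⟩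
    rw [map_add]
    refine Subring.add_mem _ ?_ hmem'
    rw [← resB_resB h hle]
    exact resB_mem_closure j hle _ hmem
  zero_mem' := by
    intro x hx
    obtain ⟨_, ⟨W, hW, rfl⟩, hxW, hWle⟩ :=
      X.isBasis_affineOpens.exists_subset_of_mem_open hx V.isOpen
    exact ⟨W, hWle, hW, hxW, by rw [map_zero]; exact Subring.zero_mem _⟩
  neg_mem' := by
    intro a ha x hx
    obtain ⟨W, h, hW, hxW, hmem⟩ := ha x hx
    exact ⟨W, h, hW, hxW, by rw [map_neg]; exact Subring.neg_mem _ hmem⟩

theorem mem_subB {V : X.Opens} (b : B.presheaf.obj (op V)) : b ∈ subB j V ↔ LocMem j b := Iff.rfl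


theorem mem_closure_of_span [E.IsQuasicoherent] {U : X.Opens} (hU : IsAffineOpen U)
    (y : B.presheaf.obj (op U)) (s : Set Γ(X, U)) (hs : Ideal.span s = ⊤)
    (h : ∀ r ∈ s, resB B (X.basicOpen_le r) y ∈ Subring.closure (genSet j (X.basicOpen r))) :
    y ∈ Subring.closure (genSet j U) := by
  have : (show Γ(B.toModule, U) from y) ∈ genSub j U := by
    refine Submodule.mem_of_span_eq_top_of_smul_pow_mem (genSub j U) s hs _ ?_
    intro r
    obtain ⟨N, a, ha, e⟩ := exists_pow_mul_eq_resB_mem j hU r.1 (resB B (X.basicOpen_le r.1) y)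
      (h r.1 r.2)
    have h0 : res B.toModule (X.basicOpen_le r.1)
        (show Γ(B.toModule, U) from (a - strB B U r.1 ^ N * y)) = 0 := by
      change resB B (X.basicOpen_le r.1) (a - strB B U r.1 ^ N * y) = 0
      rw [map_sub, map_mul, map_pow, e, ← strB_resO, sub_self]
    obtain ⟨M, hM⟩ := (isLocOn_toModule B hU).inj r.1 _ h0
    have hM' : strB B U r.1 ^ M * (a - strB B U r.1 ^ N * y) = 0 := by
      rw [← map_pow]
      exact hM
    refine ⟨M + N, ?_⟩
    change strB B U (r.1 ^ (M + N)) * y ∈ Subring.closure (genSet j U)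
    have h3 : strB B U (r.1 ^ (M + N)) * y = strB B U r.1 ^ M * a := by
      rw [mul_sub, sub_eq_zero] at hM'
      rw [hM', map_pow, pow_add, mul_assoc]
    rw [h3]
    exact Subring.mul_mem _ (Subring.pow_mem _ (strB_mem j U r.1) _) ha
  exact this

theorem resB_congr {U U' : X.Opens} (e : U = U') {V : X.Opens} (h : U ≤ V) (h' : U' ≤ V)
    (b : B.presheaf.obj (op V)) (hb : resB B h' b ∈ Subring.closure (genSet j U')) :
    resB B h b ∈ Subring.closure (genSet j U) := by
  subst e
  exact hb

/-- over an affine open, the locally generated sections are the generated ones. -/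
theorem mem_subB_iff_of_isAffineOpen [E.IsQuasicoherent] {U : X.Opens} (hU : IsAffineOpen U)
    (b : B.presheaf.obj (op U)) : b ∈ subB j U ↔ b ∈ Subring.closure (genSet j U) := by
  refine ⟨fun hb => ?_, fun hb => locMem_of_mem_closure j hU hb⟩
  refine mem_closure_of_span j hU b
    {f | resB B (X.basicOpen_le f) b ∈ Subring.closure (genSet j (X.basicOpen f))} ?_ (fun r hr => hr)
  rw [← IsAffineOpen.self_le_iSup_basicOpen_iff hU]
  intro x hx
  obtain ⟨W, hWU, hW, hxW, hmem⟩ := hb x hx
  obtain ⟨f, g, hfg, hxf⟩ := exists_basicOpen_le_affine_inter hU hW x ⟨hx, hxW⟩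
  refine Opens.mem_iSup.2 ⟨⟨f, ?_⟩, hxf⟩
  refine resB_congr j hfg (X.basicOpen_le f) ((X.basicOpen_le g).trans hWU) b ?_
  rw [← resB_resB hWU (X.basicOpen_le g)]
  exact resB_mem_closure j _ _ hmem


/-- restriction between the subrings -/
noncomputable def subRes {V V' : X.Opens} (h : V' ≤ V) : subB j V →+* subB j V' :=
  (resB B h).restrict (subB j V) (subB j V') fun _ hb => LocMem.res j h hb

/-- the presheaf of sub-rings generated by `E` -/
noncomputable def subPresheaf : TopCat.Presheaf CommRingCat.{u} X.carrier where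
  obj V := CommRingCat.of (subB j V.unop)
  map {V V'} i := CommRingCat.ofHom (subRes j (leOfHom i.unop))
  map_id V := by
    ext b
    exact resB_self b.1
  map_comp {V V' V''} i i' := by
    ext b
    exact (resB_resB (leOfHom i.unop) (leOfHom i'.unop) b.1).symm

theorem subPresheaf_map_val {V V' : X.Opens} (h : V' ≤ V) (b : subB j V) :
    (((subPresheaf j).map (homOfLE h).op).hom b).1 = resB B h b.1 := rfl

theorem isSheaf_subPresheaf : (subPresheaf j).IsSheaf := by
  rw [TopCat.Presheaf.isSheaf_iff_isSheafUniqueGluing]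
  intro ι U sf hsf
  have hcompat : TopCat.Presheaf.IsCompatible B.presheaf U (fun i => (sf i).1) := by
    intro i i'
    exact congrArg Subtype.val (hsf i i')
  obtain ⟨s, hs, huniq⟩ := B.isSheaf.isSheafUniqueGluing U (fun i => (sf i).1) hcompat
  have hmem : s ∈ subB j (iSup U) := by
    intro x hx
    obtain ⟨i, hxi⟩ := Opens.mem_iSup.1 hx
    obtain ⟨W, hW, hWa, hxW, hm⟩ := (sf i).2 x hxi
    refine ⟨W, hW.trans (le_iSup U i), hWa, hxW, ?_⟩
    have h1 : resB B (le_iSup U i) s = (sf i).1 := hs i
    rw [← resB_resB (le_iSup U i) hW, h1]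
    exact hm
  refine ⟨⟨s, hmem⟩, fun i => Subtype.ext (hs i), ?_⟩
  intro t ht
  apply Subtype.ext
  exact huniq t.1 fun i => congrArg Subtype.val (ht i)

theorem strB_locMem (V : X.Opens) (r : Γ(X, V)) : strB B V r ∈ subB j V := by
  intro x hx
  obtain ⟨_, ⟨W, hW, rfl⟩, hxW, hWle⟩ :=
    X.isBasis_affineOpens.exists_subset_of_mem_open hx V.isOpen
  refine ⟨W, hWle, hW, hxW, ?_⟩
  rw [← strB_resO]
  exact strB_mem j W _

/-- the structure map of the subalgebra -/
noncomputable def subStr : X.presheaf ⟶ subPresheaf j where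
  app V := CommRingCat.ofHom ((strB B V.unop).codRestrict (subB j V.unop) (strB_locMem j V.unop))
  naturality {V V'} i := by
    ext r
    apply Subtype.ext
    exact congrArg (fun ψ => ψ.hom r) (B.str.naturality i)

theorem subStr_app_val (V : X.Opens) (r : Γ(X, V)) :
    (((subStr j).app (op V)).hom r).1 = strB B V r := rfl


theorem isQC_sub [E.IsQuasicoherent] : RelSpec.IsQC (subPresheaf j) (subStr j) := by
  intro U hU r
  letI := ((subPresheaf j).map (homOfLE (X.basicOpen_le r)).op).hom.toAlgebra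
  change IsLocalization (Submonoid.powers (((subStr j).app (op U)).hom r))
    ((subPresheaf j).obj (op (X.basicOpen r)))
  rw [isLocalization_iff]
  refine ⟨?_, ?_, ?_⟩
  · rintro ⟨_, n, rfl⟩
    obtain ⟨u, hu⟩ := isUnit_ur r
    have hu' : resO (X.basicOpen_le r) r = (u : Γ(X, X.basicOpen r)) := hu.symm
    refine IsUnit.of_mul_eq_one
      (⟨strB B (X.basicOpen r) ((↑(u⁻¹ ^ n) : Γ(X, X.basicOpen r))), strB_locMem j _ _⟩ :
        subB j (X.basicOpen r)) ?_
    apply Subtype.ext
    change resB B (X.basicOpen_le r) (strB B U r ^ n) * strB B (X.basicOpen r) _ = 1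
    rw [map_pow, ← strB_resO, hu', ← map_pow, ← map_mul, ← Units.val_pow_eq_pow_val, ← Units.val_mul,
      ← mul_pow, mul_inv_cancel, one_pow, Units.val_one, map_one]
  · rintro ⟨z₀, hz⟩
    have hz' := (mem_subB_iff_of_isAffineOpen j (hU.basicOpen r) z₀).1 hz
    obtain ⟨N, a, ha, e⟩ := exists_pow_mul_eq_resB_mem j hU r z₀ hz'
    refine ⟨(⟨a, locMem_of_mem_closure j hU ha⟩, ⟨_, N, rfl⟩), ?_⟩
    apply Subtype.ext
    change z₀ * resB B (X.basicOpen_le r) (strB B U r ^ N) = resB B (X.basicOpen_le r) a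
    rw [e, map_pow, ← strB_resO, mul_comm]
  · intro a a' h
    have h1 : resB B (X.basicOpen_le r) a.1 = resB B (X.basicOpen_le r) a'.1 :=
      congrArg Subtype.val h
    have h0 : res B.toModule (X.basicOpen_le r) (show Γ(B.toModule, U) from (a.1 - a'.1)) = 0 := by
      change resB B (X.basicOpen_le r) (a.1 - a'.1) = 0
      rw [map_sub, h1, sub_self]
    obtain ⟨n, hn⟩ := (isLocOn_toModule B hU).inj r _ h0
    have hn' : strB B U r ^ n * (a.1 - a'.1) = 0 := by
      rw [← map_pow]
      exact hn
    refine ⟨⟨_, n, rfl⟩, ?_⟩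
    apply Subtype.ext
    change strB B U r ^ n * a.1 = strB B U r ^ n * a'.1
    rw [mul_sub, sub_eq_zero] at hn'
    exact hn'

/-- the sub-algebra of `B` generated by the image of `E`. -/
noncomputable def subAlg [E.IsQuasicoherent] : RelSpec.QCAlg X where
  presheaf := subPresheaf j
  isSheaf := isSheaf_subPresheaf j
  str := subStr j
  isQC := isQC_sub j

/-- the inclusion of the sub-algebra -/
noncomputable def subAlgι [E.IsQuasicoherent] : subAlg j ⟶ B where
  hom :=
    { app := fun V => CommRingCat.ofHom (subB j V.unop).subtype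
      naturality := fun _ _ _ => rfl }
  comm := rfl

theorem subAlgι_injective [E.IsQuasicoherent] (V : X.Opens) :
    Function.Injective ((subAlgι j).hom.app (op V)).hom := Subtype.val_injective


section finiteType
open Groth.Agent.Lib.Helper28.FinType

variable [E.IsQuasicoherent]

/-- the generator of the sub-algebra attached to a section of `E` -/
noncomputable def genOf {V : X.Opens} (hV : IsAffineOpen V) (e : Γ(E, V)) : subB j V :=
  ⟨jB j V e, locMem_of_mem_closure j hV (jB_mem j V e)⟩

theorem finiteType_subAlg [SheafOfModules.IsFiniteType.{u} (R := X.ringCatSheaf) E] {V : X.Opens}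
    (hV : IsAffineOpen V) : ((subAlg j).str.app (op V)).hom.FiniteType := by
  classical
  haveI := finite_of_isAffineOpen E hV
  obtain ⟨t, ht⟩ := (Module.Finite.fg_top : (⊤ : Submodule Γ(X, V) Γ(E, V)).FG)
  letI alg : Algebra Γ(X, V) (subB j V) := ((subAlg j).str.app (op V)).hom.toAlgebra
  change Algebra.FiniteType Γ(X, V) (subB j V)
  refine ⟨⟨t.image (genOf j hV), ?_⟩⟩
  set A : Subalgebra Γ(X, V) (subB j V) :=
    Algebra.adjoin Γ(X, V) (↑(t.image (genOf j hV)) : Set (subB j V)) with hA
  have halg : ∀ r : Γ(X, V), (algebraMap Γ(X, V) (subB j V) r) = ⟨strB B V r, strB_locMem j V r⟩ :=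
    fun r => rfl
  have hgen : ∀ e : Γ(E, V), genOf j hV e ∈ A := by
    intro e
    have he : e ∈ Submodule.span Γ(X, V) (t : Set Γ(E, V)) := by rw [ht]; trivial
    induction he using Submodule.span_induction with
    | mem x hx =>
      exact Algebra.subset_adjoin (Finset.mem_coe.2 (Finset.mem_image_of_mem _ (Finset.mem_coe.1 hx)))
    | zero =>
      have : genOf j hV (0 : Γ(E, V)) = 0 := Subtype.ext (map_zero _)
      rw [this]
      exact A.zero_mem
    | add x y _ _ hx hy =>
      have : genOf j hV (x + y) = genOf j hV x + genOf j hV y := Subtype.ext (map_add _ _ _)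
      rw [this]
      exact A.add_mem hx hy
    | smul c x _ hx =>
      have : genOf j hV (c • x) = algebraMap Γ(X, V) (subB j V) c * genOf j hV x := by
        rw [halg]
        exact Subtype.ext (jB_smul j V c x)
      rw [this]
      exact A.mul_mem (A.algebraMap_mem c) hx
  have key : ∀ b : B.presheaf.obj (op V), b ∈ Subring.closure (genSet j V) →
      ∀ hb : b ∈ subB j V, (⟨b, hb⟩ : subB j V) ∈ A := by
    intro b hb'
    induction hb' using Subring.closure_induction with
    | mem x hx =>
      intro hb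
      rcases hx with ⟨r, rfl⟩ | ⟨e, rfl⟩
      · exact A.algebraMap_mem r
      · exact hgen e
    | zero => intro hb; exact A.zero_mem
    | one => intro hb; exact A.one_mem
    | add x y hx hy ihx ihy =>
      intro hb
      have hxm := (mem_subB_iff_of_isAffineOpen j hV x).2 hx
      have hym := (mem_subB_iff_of_isAffineOpen j hV y).2 hy
      exact A.add_mem (ihx hxm) (ihy hym)
    | neg x hx ihx =>
      intro hb
      have hxm := (mem_subB_iff_of_isAffineOpen j hV x).2 hx
      exact A.neg_mem (ihx hxm)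
    | mul x y hx hy ihx ihy =>
      intro hb
      have hxm := (mem_subB_iff_of_isAffineOpen j hV x).2 hx
      have hym := (mem_subB_iff_of_isAffineOpen j hV y).2 hy
      exact A.mul_mem (ihx hxm) (ihy hym)
  rw [eq_top_iff]
  rintro ⟨b, hb⟩ -
  exact key b ((mem_subB_iff_of_isAffineOpen j hV b).1 hb) hb

end finiteType

end Groth.Agent.Lib.Helper17.QCAlgSub
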