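import Groth.Agent.Lib.Helper17.RelAffine
import Groth.Agent.Lib.Helper6.RDShift
import Groth.Agent.Lib.Helper6.RDAcyc
import Groth.Agent.Lib.Helper6.CohTopLeray
import Mathlib
set_option backward.isDefEq.respectTransparency.types false
set_option autoImplicit false
universe u
open CategoryTheory CategoryTheory.Limits Opposite TopologicalSpace AlgebraicGeometry

namespace Groth.Agent.Lib.Helper17.RComp
open Groth.Agent.Lib.Helper6 Groth.Agent.Lib.Helper6.DeltaCompare CohTop

attribute [local instance] HasDerivedCategory.standard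

variable {X Y Z : TopCat.{u}} (f : X ⟶ Y) (g : Y ⟶ Z)

/-- `(g ∘ f)_* ≅ g_* ∘ f_*` -/
noncomputable def pushCompIso : CohTop.push (f ≫ g) ≅ CohTop.push f ⋙ CohTop.push g :=
  NatIso.ofComponents (fun F => Iso.refl _)

/-- `R^0 (g f)_* ≅ f_* ⋙ R^0 g_*` -/
noncomputable def θ : CohTop.Rpush (f ≫ g) 0 ≅ CohTop.push f ⋙ CohTop.Rpush g 0 :=
  Functor.rightDerivedZeroIsoSelf (CohTop.push (f ≫ g)) ≪≫ pushCompIso f g ≪≫
    Functor.isoWhiskerLeft (CohTop.push f) (Functor.rightDerivedZeroIsoSelf (CohTop.push g)).symm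

theorem nonempty_Rpush_comp_iso_of_acyc (F : Ab X) (hF : RDAcyc.Acyc (CohTop.push f) F) (p : ℕ) :
    Nonempty ((CohTop.Rpush (f ≫ g) p).obj F ≅ (CohTop.Rpush g p).obj ((CohTop.push f).obj F)) :=
  delta_compare (fun n => CohTop.Rpush (f ≫ g) n) (fun n => CohTop.push f ⋙ CohTop.Rpush g n)
    (θ f g) (fun G => RDAcyc.Acyc (CohTop.push f) G) (fun G hG => by
      have hE := ExtAcyc.sesUnder_shortExact G
      have hI : Injective (ExtAcyc.sesUnder G).X₂ := inferInstance
      have hI' : Injective ((CohTop.push f).obj (ExtAcyc.sesUnder G).X₂) :=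
        CohTopPush.push_injective f _
      refine ⟨_, _, (ExtAcyc.sesUnder G).f, (ExtAcyc.sesUnder G).g,
        RDAcyc.acyc_X₃ (CohTop.push f) hE hG (Leray.acyc_of_injective _ _),
        RDShift.hasShift_rightDerived _ _ hE
          (fun n => Functor.isZero_rightDerived_obj_injective_succ _ n _),
        RDShift.hasShift_comp_rightDerived (CohTop.push g) (CohTop.push f) _
          (RDAcyc.map_shortExact (CohTop.push f) hE
            (RDAcyc.epi_map_g_of_acyc_X₁ (CohTop.push f) hE hG))
          (fun n => Functor.isZero_rightDerived_obj_injective_succ _ n _)⟩) p F hF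

end Groth.Agent.Lib.Helper17.RComp
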