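import Groth.Agent.Lib.Helper7.CSAReducedNorm
import Mathlib

/-!
# The reduced norm of a central simple algebra as a monoid hom (helper17)

Built on helper7's CSA library (splitting fields, Skolem–Noether, Galois twist).
-/

set_option autoImplicit false

namespace Groth.Agent.Lib.Helper17.ReducedNorm

open TensorProduct Groth.Agent.Lib.Helper7.CSA

universe u v

section

variable {K : Type u} [Field K] {N : Type u} [Field N] [Algebra K N]
  {A : Type v} [Ring A] [Algebra K A] {n : ℕ}

/-- Galois invariance of `det (e (1 ⊗ d))`. -/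
theorem det_fixed (hn : n ≠ 0) (e : N ⊗[K] A ≃ₐ[N] Matrix (Fin n) (Fin n) N)
    (σ : N ≃ₐ[K] N) (d : A) : σ (e (1 ⊗ₜ d)).det = (e (1 ⊗ₜ d)).det := by
  classical
  haveI : Nonempty (Fin n) := ⟨⟨0, Nat.pos_of_ne_zero hn⟩⟩
  haveI : IsSimpleRing (N ⊗[K] A) := IsSimpleRing.of_ringEquiv e.symm.toRingEquiv inferInstance
  obtain ⟨u, hu⟩ := skolem_noether N (Matrix (Fin n) (Fin n) N) (N ⊗[K] A) (twist e σ) e.toAlgHom
  have h1 := hu (1 ⊗ₜ d)
  rw [twist_tmul, map_one] at h1
  have h2 : σ (e (1 ⊗ₜ d)).det = ((e (1 ⊗ₜ d)).map σ).det := by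
    have := RingHom.map_det (σ : N →+* N) (e (1 ⊗ₜ d))
    simpa using this
  rw [h2, h1]
  exact Matrix.det_units_conj u _

end

variable (K : Type u) [Field K] (A : Type v) [Ring A] [Algebra K A] [Algebra.IsCentral K A]
  [IsSimpleRing A] [FiniteDimensional K A]

/-- **The reduced norm**: a multiplicative map `A → K` restricting to `c ↦ c ^ n` on `K`,
where `dim_K A = n ^ 2`. -/
theorem exists_nrd (n : ℕ) (hn : Module.finrank K A = n ^ 2) :
    ∃ nrd : A →* K, ∀ c : K, nrd (algebraMap K A c) = c ^ n := by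
  classical
  obtain ⟨k', _, _, hfin, hsep, hsplit⟩ := exists_finite_separable_splitting K A
  obtain ⟨N, _, _, hNfin, hNgal, ⟨φ⟩⟩ := exists_galois_over K k'
  obtain ⟨n', hn', ⟨e⟩⟩ := splits_of_algHom K A k' N φ hsplit
  have hdim : n' = n := by
    have h1 : Module.finrank N (N ⊗[K] A) = Module.finrank K A := Module.finrank_baseChange
    have h2 : Module.finrank N (N ⊗[K] A) = n' * n' := by
      rw [e.toLinearEquiv.finrank_eq, Module.finrank_matrix]; simp
    rw [h1, hn, ← pow_two] at h2
    exact (Nat.pow_left_injective (by norm_num : 2 ≠ 0) h2).symm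
  subst hdim
  have hmem : ∀ d : A, (e (1 ⊗ₜ d)).det ∈ Set.range (algebraMap K N) := by
    intro d
    apply (IsGalois.mem_range_algebraMap_iff_fixed _).2
    intro σ
    exact det_fixed hn' e σ d
  choose f hf using hmem
  have hinj : Function.Injective (algebraMap K N) := (algebraMap K N).injective
  refine ⟨⟨⟨f, ?_⟩, ?_⟩, ?_⟩
  · apply hinj
    rw [hf, map_one]
    have : ((1 : N) ⊗ₜ[K] (1 : A)) = 1 := rfl
    rw [this, map_one, Matrix.det_one]
  · intro a b
    apply hinj
    rw [map_mul, hf, hf, hf, ← Matrix.det_mul, ← map_mul, Algebra.TensorProduct.tmul_mul_tmul,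
      one_mul]
  · intro c
    apply hinj
    show algebraMap K N (f (algebraMap K A c)) = _
    rw [hf, map_pow]
    have h1 : ((1 : N) ⊗ₜ[K] (algebraMap K A c)) = algebraMap K N c • (1 : N ⊗[K] A) := by
      rw [Algebra.algebraMap_eq_smul_one, TensorProduct.tmul_smul, algebraMap_smul]
      rfl
    rw [h1, map_smul, map_one, Matrix.det_smul, Matrix.det_one, mul_one, Fintype.card_fin]

end Groth.Agent.Lib.Helper17.ReducedNorm
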