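import Groth.Agent.S0034
import Groth.Agent.Lib.Helper17.FlatBCH4
import Groth.Agent.Lib.Helper17.PbDict
import Groth.Agent.Lib.Helper17.CohKer
import Groth.Agent.Lib.Helper17.FinTypePushPull
import Groth.Agent.Lib.Helper17.ModPullback
import Groth.Agent.Lib.Helper28.QCohPush
import Mathlib
set_option backward.isDefEq.respectTransparency.types false
set_option autoImplicit false
universe u
open AlgebraicGeometry CategoryTheory CategoryTheory.Limits Opposite TopologicalSpace Abelian

noncomputable section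

namespace Groth.Agent.Lib.Helper17.Rees1

open Groth.Agent.Lib.Helper28.PullbackInv Groth.Agent.Lib.Helper28.QCohLoc

variable {X X' X'' : Scheme.{u}} (π : X' ⟶ X) (j : X'' ⟶ X') (F : X.Modules)

/-- `π^* F` -/
abbrev G : X'.Modules := (Scheme.Modules.pullback π).obj F

/-- `(j ≫ π)^* F` -/
abbrev Ht : X''.Modules := (Scheme.Modules.pullback (j ≫ π)).obj F

/-- `j_* (j ≫ π)^* F` -/
abbrev GG : X'.Modules := (Scheme.Modules.pushforward j).obj (Ht π j F)

/-- `F ⟶ π_* j_* (j ≫ π)^* F` -/
def θ : F ⟶ (Scheme.Modules.pushforward π).obj (GG π j F) :=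
  (Scheme.Modules.pullbackPushforwardAdjunction (j ≫ π)).unit.app F ≫
    (Scheme.Modules.pushforwardComp j π).inv.app (Ht π j F)

theorem θ_app (U : X.Opens) (n : Γ(F, U)) :
    (θ π j F).app U n = pbs (j ≫ π) F U n := rfl

/-- `π^* F ⟶ j_* (j ≫ π)^* F` -/
def η : G π F ⟶ GG π j F := pbLift π (θ π j F)

theorem η_pbs (U : X.Opens) (n : Γ(F, U)) :
    (η π j F).app (π ⁻¹ᵁ U) (pbs π F U n) = pbs (j ≫ π) F U n :=
  (pbLift_pbs π (θ π j F) U n).trans (θ_app π j F U n)

/-- the "Rees module" `F'`: the image of `π^* F ⟶ j_* (j ≫ π)^* F` -/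
def F' : X'.Modules := Abelian.image (η π j F)

/-- `π^* F ↠ F'` -/
def q : G π F ⟶ F' π j F := Abelian.factorThruImage (η π j F)

/-- `F' ↪ j_* (j ≫ π)^* F` -/
def i : F' π j F ⟶ GG π j F := Abelian.image.ι (η π j F)

instance : Epi (q π j F) := inferInstanceAs (Epi (Abelian.factorThruImage (η π j F)))
instance : Mono (i π j F) := inferInstanceAs (Mono (Abelian.image.ι (η π j F)))

@[reassoc]
theorem q_i : q π j F ≫ i π j F = η π j F := Abelian.image.fac (η π j F)

instance isQuasicoherent_GG [F.IsQuasicoherent] [QuasiCompact j] [QuasiSeparated j] :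
    (GG π j F).IsQuasicoherent :=
  isQuasicoherent_pushforward j (Ht π j F)

instance isQuasicoherent_F' [F.IsQuasicoherent] [QuasiCompact j] [QuasiSeparated j] :
    (F' π j F).IsQuasicoherent := by
  haveI := Groth.Agent.Lib.Helper17.CohKer.isQuasicoherent_cokernel (η π j F)
  exact Groth.Agent.Lib.Helper17.CohKer.isQuasicoherent_kernel (cokernel.π (η π j F))

theorem isFiniteType_F' [F.IsQuasicoherent]
    [SheafOfModules.IsFiniteType.{u} (R := X.ringCatSheaf) F] :
    SheafOfModules.IsFiniteType.{u} (R := X'.ringCatSheaf) (F' π j F) := by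
  haveI := Groth.Agent.Lib.Helper17.FinTypePushPull.isFiniteType_pullback π F
  exact Groth.Agent.Lib.Helper17.CohKer.isFiniteType_of_epi (q π j F)

theorem isCoh_F' (hF : Coh.IsCoh F) [QuasiCompact j] [QuasiSeparated j] : Coh.IsCoh (F' π j F) := by
  haveI : F.IsQuasicoherent := hF.1
  haveI : SheafOfModules.IsFiniteType.{u} (R := X.ringCatSheaf) F := hF.2
  exact ⟨isQuasicoherent_F' π j F, isFiniteType_F' π j F⟩

end Groth.Agent.Lib.Helper17.Rees1
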