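import Groth.Agent.Lib.Helper17.Rees1
import Groth.Prelude.Def_ega3
import Groth.Prelude.Def_KLin
import Mathlib
set_option backward.isDefEq.respectTransparency.types false
set_option autoImplicit false
universe u
open AlgebraicGeometry CategoryTheory CategoryTheory.Limits Opposite TopologicalSpace Abelian

noncomputable section

namespace Groth.Agent.Lib.Helper17.Rees2

open Groth.Agent.Lib.Helper28.PullbackInv Groth.Agent.Lib.Helper28.QCohLoc
open Groth.Agent.Lib.Helper17.Rees1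

/-- multiplication by a global function on a direct image -/
theorem smulModΓ_pushforward {Y Z : Scheme.{u}} (g : Y ⟶ Z) (N : Y.Modules) (r : Coh.Γtop Z) :
    Formal.smulModΓ ((Scheme.Modules.pushforward g).obj N) r =
      (Scheme.Modules.pushforward g).map (Formal.smulModΓ N (g.appTop.hom r)) := by
  refine Scheme.Modules.hom_ext _ _ fun U => ?_
  ext m
  change (Formal.smulModΓ ((Scheme.Modules.pushforward g).obj N) r).app U m =
    (Formal.smulModΓ N (g.appTop.hom r)).app (g ⁻¹ᵁ U) m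
  rw [KLin.smulModΓ_app_apply, KLin.smulModΓ_app_apply]
  change (g.app U).hom (Z.presheaf.map (homOfLE (le_top : U ≤ ⊤)).op r) • (show Γ(N, g ⁻¹ᵁ U) from m) = _
  congr 1
  exact congrArg (fun φ => φ.hom r) (g.naturality (homOfLE (le_top : U ≤ ⊤)).op)

variable {A B T : Type u} [CommRing A] [CommRing B] [CommRing T] [Algebra A B] [Algebra B T]
  [Algebra A T] [IsScalarTower A B T]
variable {X X' X'' : Scheme.{u}} [X.Over (Spec (CommRingCat.of A))]
  [X'.Over (Spec (CommRingCat.of B))] [X''.Over (Spec (CommRingCat.of T))]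
variable (π : X' ⟶ X) (j : X'' ⟶ X') (F : X.Modules)

/-- `𝒫 = π_* F'` -/
abbrev P : X.Modules := (Scheme.Modules.pushforward π).obj (F' π j F)

/-- `𝒬 = π_* j_* (j ≫ π)^* F` -/
abbrev Q : X.Modules := (Scheme.Modules.pushforward π).obj (GG π j F)

/-- `𝒫 ↪ 𝒬` -/
def ιP : P π j F ⟶ Q π j F := (Scheme.Modules.pushforward π).map (i π j F)

instance : Mono (ιP π j F) := by
  haveI : (Scheme.Modules.pushforward π).PreservesMonomorphisms :=
    Functor.preservesMonomorphisms_of_adjunction (Scheme.Modules.pullbackPushforwardAdjunction π)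
  exact inferInstanceAs (Mono ((Scheme.Modules.pushforward π).map (i π j F)))

/-- `F ⟶ 𝒫` -/
def κ : F ⟶ P π j F :=
  (Scheme.Modules.pullbackPushforwardAdjunction π).unit.app F ≫
    (Scheme.Modules.pushforward π).map (q π j F)

theorem κ_ιP : κ π j F ≫ ιP π j F = θ π j F := by
  unfold κ ιP
  rw [Category.assoc, ← Functor.map_comp, q_i]
  have h : (Scheme.Modules.pullbackPushforwardAdjunction π).homEquiv F _ (η π j F) = θ π j F :=
    Equiv.apply_symm_apply _ _
  rw [Adjunction.homEquiv_unit] at h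
  exact h

/-- the action of global functions of `X'` on `𝒫` -/
def ρ (r : Coh.Γtop X') : P π j F ⟶ P π j F :=
  (Scheme.Modules.pushforward π).map (Formal.smulModΓ (F' π j F) r)

/-- the action of global functions of `X''` on `𝒬` -/
def σ (e : Coh.Γtop X'') : Q π j F ⟶ Q π j F :=
  (Scheme.Modules.pushforward π).map
    ((Scheme.Modules.pushforward j).map (Formal.smulModΓ (Ht π j F) e))

theorem ρ_mul (r s : Coh.Γtop X') : ρ π j F (r * s) = ρ π j F r ≫ ρ π j F s := by
  unfold ρ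
  rw [KLin.smulModΓ_mul, Functor.map_comp]

theorem σ_mul (r s : Coh.Γtop X'') : σ π j F (r * s) = σ π j F r ≫ σ π j F s := by
  unfold σ
  rw [KLin.smulModΓ_mul, Functor.map_comp, Functor.map_comp]

theorem ρ_ιP (r : Coh.Γtop X') :
    ρ π j F r ≫ ιP π j F = ιP π j F ≫ σ π j F (j.appTop.hom r) := by
  unfold ρ ιP σ
  rw [← Functor.map_comp, ← Functor.map_comp, ← smulModΓ_pushforward, KLin.comp_smulModΓ]

theorem θ_σ (s : Coh.Γtop X) :
    θ π j F ≫ σ π j F ((j ≫ π).appTop.hom s) = Formal.smulModΓ F s ≫ θ π j F := by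
  rw [← KLin.comp_smulModΓ]
  congr 1
  unfold σ
  have h1 : (j ≫ π).appTop.hom s = j.appTop.hom (π.appTop.hom s) := by
    rw [Scheme.Hom.comp_appTop]; rfl
  rw [h1, ← smulModΓ_pushforward j, ← smulModΓ_pushforward π]

/-- `∐_{b ∈ J} F ↠ J · F` -/
def fti (J : Ideal A) (F : X.Modules) : (∐ fun _ : J => F) ⟶ CohIII.idealMul J F :=
  factorThruImage (Formal.smulFamily J F)

instance (J : Ideal A) (F : X.Modules) : Epi (fti J F) :=
  inferInstanceAs (Epi (factorThruImage (Formal.smulFamily J F)))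

instance (J : Ideal A) (F : X.Modules) : StrongEpi (fti J F) := strongEpi_of_epi _

@[reassoc]
theorem fti_ι (J : Ideal A) (F : X.Modules) : fti J F ≫ CohIII.idealMulι J F = Formal.smulFamily J F :=
  Limits.image.fac (Formal.smulFamily J F)

@[reassoc]
theorem fti_mulMap (I₁ J : Ideal A) (F : X.Modules) (a : I₁) (b : J) :
    Sigma.ι (fun _ : J => F) b ≫ fti J F ≫ CohIII.mulMap I₁ J F a =
      Sigma.ι (fun _ : ↥(I₁ * J) => F) ⟨(a : A) * b, Ideal.mul_mem_mul a.2 b.2⟩ ≫ fti (I₁ * J) F := by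
  have h1 : fti J F ≫ CohIII.mulMap I₁ J F a = (CohIII.mulSq I₁ J F a).left ≫ fti (I₁ * J) F :=
    Limits.image.factor_map (CohIII.mulSq I₁ J F a)
  have h2 : Sigma.ι (fun _ : J => F) b ≫ (CohIII.mulSq I₁ J F a).left =
      Sigma.ι (fun _ : ↥(I₁ * J) => F) ⟨(a : A) * b, Ideal.mul_mem_mul a.2 b.2⟩ := by
    change Sigma.ι (fun _ : J => F) b ≫ Sigma.map' _ _ = _
    rw [Sigma.ι_comp_map', Category.id_comp]
  rw [h1, ← Category.assoc, h2]

section u

variable (hιπ : ∀ a : A, π.appTop.hom (Coh.toGlobal (X ↘ Spec (CommRingCat.of A)) a) =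
  Coh.toGlobal (X' ↘ Spec (CommRingCat.of B)) (algebraMap A B a))
variable (hιj : ∀ b : B, j.appTop.hom (Coh.toGlobal (X' ↘ Spec (CommRingCat.of B)) b) =
  Coh.toGlobal (X'' ↘ Spec (CommRingCat.of T)) (algebraMap B T b))

include hιπ hιj in
theorem comp_appTop_toGlobal (a : A) :
    (j ≫ π).appTop.hom (Coh.toGlobal (X ↘ Spec (CommRingCat.of A)) a) =
      Coh.toGlobal (X'' ↘ Spec (CommRingCat.of T)) (algebraMap A T a) := by
  have h1 : (j ≫ π).appTop.hom (Coh.toGlobal (X ↘ Spec (CommRingCat.of A)) a) =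
      j.appTop.hom (π.appTop.hom (Coh.toGlobal (X ↘ Spec (CommRingCat.of A)) a)) := by
    rw [Scheme.Hom.comp_appTop]; rfl
  rw [h1, hιπ, hιj, ← IsScalarTower.algebraMap_apply]

variable (J : Ideal A) (c : J → B) (e : T)

/-- the components `F ⟶ 𝒫` -/
def φc (b : J) : F ⟶ P π j F :=
  κ π j F ≫ ρ π j F (Coh.toGlobal (X' ↘ Spec (CommRingCat.of B)) (c b))

/-- `θ` followed by multiplication by `e` -/
def θe : F ⟶ Q π j F := θ π j F ≫ σ π j F (Coh.toGlobal (X'' ↘ Spec (CommRingCat.of T)) e)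

variable (hc : ∀ b : J, algebraMap B T (c b) = algebraMap A T (b : A) * e)

include hιπ hιj hc in
theorem φc_ιP (b : J) :
    φc π j F J c b ≫ ιP π j F = Formal.smulMod A F (b : A) ≫ θe π j F e := by
  unfold φc θe
  rw [Category.assoc, ρ_ιP, ← Category.assoc, κ_ιP, hιj, hc, map_mul, σ_mul, ← Category.assoc,
    ← comp_appTop_toGlobal π j hιπ hιj, θ_σ, Category.assoc]
  rfl

include hιπ hιj hc in
theorem desc_ιP :
    Sigma.desc (φc π j F J c) ≫ ιP π j F = Formal.smulFamily J F ≫ θe π j F e := by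
  apply Sigma.hom_ext
  intro b
  rw [Sigma.ι_desc_assoc, φc_ιP π j F hιπ hιj J c e hc]
  unfold Formal.smulFamily
  rw [Sigma.ι_desc_assoc]

include hιπ hιj hc in
theorem commSq_u :
    CommSq (Sigma.desc (φc π j F J c)) (fti J F) (ιP π j F)
      (CohIII.idealMulι J F ≫ θe π j F e) :=
  ⟨by rw [desc_ιP π j F hιπ hιj J c e hc, fti_ι_assoc]⟩

/-- the map `J · F ⟶ 𝒫` -/
def uu : CohIII.idealMul J F ⟶ P π j F :=
  (commSq_u π j F hιπ hιj J c e hc).lift

@[reassoc]
theorem fac_uu : fti J F ≫ uu π j F hιπ hιj J c e hc =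
    Sigma.desc (φc π j F J c) :=
  (commSq_u π j F hιπ hιj J c e hc).fac_left

@[reassoc]
theorem uu_ιP : uu π j F hιπ hιj J c e hc ≫ ιP π j F = CohIII.idealMulι J F ≫ θe π j F e :=
  (commSq_u π j F hιπ hιj J c e hc).fac_right

@[reassoc]
theorem ι_fac_uu (b : J) :
    Sigma.ι (fun _ : J => F) b ≫ fti J F ≫ uu π j F hιπ hιj J c e hc =
      φc π j F J c b := by
  rw [fac_uu, Sigma.ι_desc]

/-- **equivariance**: multiplication by `a ∈ I₁` corresponds to the action of `β` -/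
theorem uu_ρ (I₁ : Ideal A) (c' : ↥(I₁ * J) → B) (e' : T)
    (hc' : ∀ b : ↥(I₁ * J), algebraMap B T (c' b) = algebraMap A T (b : A) * e')
    (a : I₁) (β : B)
    (hβ : ∀ b : J, c' ⟨(a : A) * b, Ideal.mul_mem_mul a.2 b.2⟩ = β * c b) :
    uu π j F hιπ hιj J c e hc ≫ ρ π j F (Coh.toGlobal (X' ↘ Spec (CommRingCat.of B)) β) =
      CohIII.mulMap I₁ J F a ≫ uu π j F hιπ hιj (I₁ * J) c' e' hc' := by
  refine (cancel_epi (fti J F)).1 ?_
  apply Sigma.hom_ext
  intro b
  rw [ι_fac_uu_assoc, fti_mulMap_assoc, ι_fac_uu]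
  unfold φc
  rw [Category.assoc, ← ρ_mul, hβ, mul_comm β (c b), map_mul]

end u

end Groth.Agent.Lib.Helper17.Rees2
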