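import Groth.Agent.Lib.Helper17.Rees2
import Groth.Agent.Lib.Helper17.AffineSurj
import Mathlib
set_option backward.isDefEq.respectTransparency.types false
set_option autoImplicit false
universe u
open AlgebraicGeometry CategoryTheory CategoryTheory.Limits Opposite TopologicalSpace Abelian TensorProduct

noncomputable section

namespace Groth.Agent.Lib.Helper17.Rees3

open Groth.Agent.Lib.Helper28.PullbackInv Groth.Agent.Lib.Helper28.QCohLoc
open Groth.Agent.Lib.Helper17.Rees1 Groth.Agent.Lib.Helper17.Rees2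
open Groth.Agent.Lib.Helper17.FlatBCH1 Groth.Agent.Lib.Helper17.FlatBCH2 Groth.Agent.Lib.Helper17.FlatBCH4

variable {A B T : Type u} [CommRing A] [CommRing B] [CommRing T] [Algebra A B] [Algebra B T]
  [Algebra A T] [IsScalarTower A B T]
variable {X X' X'' : Scheme.{u}} [X.Over (Spec (CommRingCat.of A))]
  [X'.Over (Spec (CommRingCat.of B))] [X''.Over (Spec (CommRingCat.of T))]
variable (π : X' ⟶ X) (j : X'' ⟶ X') (F : X.Modules)
variable (hπ : IsPullback π (X' ↘ Spec (CommRingCat.of B)) (X ↘ Spec (CommRingCat.of A))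
  (Spec.map (CommRingCat.ofHom (algebraMap A B))))

/-- `(ρ r)(κ n)` on sections -/
theorem ρ_κ_app (r : Coh.Γtop X') (U : X.Opens) (n : Γ(F, U)) :
    (ρ π j F r).app U ((κ π j F).app U n) =
      ((show Γ(X', π ⁻¹ᵁ U) from Coh.resTop X' (op (π ⁻¹ᵁ U)) r) •
        (q π j F).app (π ⁻¹ᵁ U) (pbs π F U n) : Γ(F' π j F, π ⁻¹ᵁ U)) := by
  change (Formal.smulModΓ (F' π j F) r).app (π ⁻¹ᵁ U) ((q π j F).app (π ⁻¹ᵁ U) (pbs π F U n)) = _
  rw [KLin.smulModΓ_app_apply]
  rfl

include hπ in
/-- sections of `𝒫` over an affine open are sums of `(ρ β)(κ n)` -/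
theorem mem_closure_of_isAffineOpen [F.IsQuasicoherent] [QuasiCompact j] [QuasiSeparated j]
    {U : X.Opens} (hU : IsAffineOpen U) (y : Γ(P π j F, U)) :
    y ∈ AddSubgroup.closure {z : Γ(P π j F, U) | ∃ (β : B) (n : Γ(F, U)),
      z = (ρ π j F (Coh.toGlobal (X' ↘ Spec (CommRingCat.of B)) β)).app U ((κ π j F).app U n)} := by
  haveI : IsAffineHom π := MorphismProperty.of_isPullback (P := @IsAffineHom) hπ.flip inferInstance
  have hU' : IsAffineOpen (π ⁻¹ᵁ U) := hU.preimage π
  -- lift through `q`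
  let S : ShortComplex X'.Modules := ShortComplex.mk (kernel.ι (q π j F)) (q π j F) (kernel.condition _)
  have hS : S.ShortExact :=
    { exact := ShortComplex.exact_kernel (q π j F)
      mono_f := inferInstanceAs (Mono (kernel.ι (q π j F)))
      epi_g := inferInstanceAs (Epi (q π j F)) }
  haveI : S.X₁.IsQuasicoherent := Groth.Agent.Lib.Helper17.CohKer.isQuasicoherent_kernel (q π j F)
  have key : ∀ t : B ⊗[A] SecA (Coh.toGlobal (X ↘ Spec (CommRingCat.of A))) F U,
      (q π j F).app (π ⁻¹ᵁ U) (vU π (Coh.toGlobal (X' ↘ Spec (CommRingCat.of B)))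
        (Groth.Agent.S0034.hι A B X X' π hπ) F U t) ∈
      AddSubgroup.closure {z : Γ(P π j F, U) | ∃ (β : B) (n : Γ(F, U)),
        z = (ρ π j F (Coh.toGlobal (X' ↘ Spec (CommRingCat.of B)) β)).app U ((κ π j F).app U n)} := by
    intro t
    induction t using TensorProduct.induction_on with
    | zero =>
      rw [map_zero, map_zero]
      exact zero_mem _
    | tmul β n =>
      apply AddSubgroup.subset_closure
      refine ⟨β, n, ?_⟩
      rw [vU_tmul, Scheme.Modules.Hom.app_smul, ρ_κ_app]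
      rfl
    | add s t hs ht =>
      rw [map_add, map_add]
      exact add_mem hs ht
  obtain ⟨z, hz⟩ := Groth.Agent.Lib.Helper17.AffineSurj.surjective_app_of_shortExact S hS hU'
    (show Γ(F' π j F, π ⁻¹ᵁ U) from y)
  obtain ⟨t, rfl⟩ := (vU_bijective π (Coh.toGlobal (X ↘ Spec (CommRingCat.of A)))
    (Coh.toGlobal (X' ↘ Spec (CommRingCat.of B))) F (Groth.Agent.S0034.hι A B X X' π hπ) hU hU'
    (Groth.Agent.S0034.hpo A B X X' π hπ U hU)).2 z
  have hy : y = (q π j F).app (π ⁻¹ᵁ U) (vU π (Coh.toGlobal (X' ↘ Spec (CommRingCat.of B)))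
      (Groth.Agent.S0034.hι A B X X' π hπ) F U t) := hz.symm
  rw [hy]
  exact key t

section retraction

variable (hjπ : IsPullback (j ≫ π) (X'' ↘ Spec (CommRingCat.of T)) (X ↘ Spec (CommRingCat.of A))
  (Spec.map (CommRingCat.ofHom (algebraMap A T))))
variable (lam : T →ₗ[A] A) [F.IsQuasicoherent] [IsAffineHom (j ≫ π)]

/-- the retraction `𝒫 ⟶ F` of abelian sheaves attached to a functional `λ : T → A` -/
def rr : Coh.toAb (P π j F) ⟶ Coh.toAb F :=
  (SheafOfModules.toSheaf X.ringCatSheaf).map (ιP π j F) ≫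
    (SheafOfModules.toSheaf X.ringCatSheaf).map
      ((Scheme.Modules.pushforwardComp j π).hom.app (Ht π j F)) ≫
    ell (j ≫ π) (Coh.toGlobal (X ↘ Spec (CommRingCat.of A)))
      (Coh.toGlobal (X'' ↘ Spec (CommRingCat.of T))) F
      (Groth.Agent.S0034.hι A T X X'' (j ≫ π) hjπ) lam
      (Groth.Agent.S0034.hpo A T X X'' (j ≫ π) hjπ)

omit [F.IsQuasicoherent] [IsAffineHom (j ≫ π)] [IsScalarTower A B T] [Algebra A B] [Algebra B T]
  [X'.Over (Spec (CommRingCat.of B))] in
theorem θe_eq (e : T) :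
    (SheafOfModules.toSheaf X.ringCatSheaf).map
        (θe π j F e ≫ (Scheme.Modules.pushforwardComp j π).hom.app (Ht π j F)) =
      uM (j ≫ π) F ≫ (actPush (j ≫ π) (Coh.toGlobal (X'' ↘ Spec (CommRingCat.of T)))
        ((Scheme.Modules.pullback (j ≫ π)).obj F)).act e := by
  ext U m
  rfl

variable (hιπ : ∀ a : A, π.appTop.hom (Coh.toGlobal (X ↘ Spec (CommRingCat.of A)) a) =
  Coh.toGlobal (X' ↘ Spec (CommRingCat.of B)) (algebraMap A B a))
variable (hιj : ∀ b : B, j.appTop.hom (Coh.toGlobal (X' ↘ Spec (CommRingCat.of B)) b) =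
  Coh.toGlobal (X'' ↘ Spec (CommRingCat.of T)) (algebraMap B T b))
variable (J : Ideal A) (c : J → B) (e : T)
  (hc : ∀ b : J, algebraMap B T (c b) = algebraMap A T (b : A) * e)

theorem uu_rr :
    (SheafOfModules.toSheaf X.ringCatSheaf).map (uu π j F hιπ hιj J c e hc) ≫ rr π j F hjπ lam =
      (SheafOfModules.toSheaf X.ringCatSheaf).map (CohIII.idealMulι J F) ≫
        Coh.smulAb F (Coh.toGlobal (X ↘ Spec (CommRingCat.of A)) (lam e)) := by
  unfold rr
  have h1 : (SheafOfModules.toSheaf X.ringCatSheaf).map (uu π j F hιπ hιj J c e hc) ≫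
      (SheafOfModules.toSheaf X.ringCatSheaf).map (ιP π j F) ≫
      (SheafOfModules.toSheaf X.ringCatSheaf).map
        ((Scheme.Modules.pushforwardComp j π).hom.app (Ht π j F)) =
      (SheafOfModules.toSheaf X.ringCatSheaf).map (CohIII.idealMulι J F) ≫
      (SheafOfModules.toSheaf X.ringCatSheaf).map
        (θe π j F e ≫ (Scheme.Modules.pushforwardComp j π).hom.app (Ht π j F)) := by
    have h0 := congrArg (fun φ => (SheafOfModules.toSheaf X.ringCatSheaf).map
      (φ ≫ (Scheme.Modules.pushforwardComp j π).hom.app (Ht π j F))) (uu_ιP π j F hιπ hιj J c e hc)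
    simp only [Functor.map_comp] at h0
    simp only [Functor.map_comp]
    exact h0
  rw [← Category.assoc, ← Category.assoc, Category.assoc ((SheafOfModules.toSheaf X.ringCatSheaf).map
    (uu π j F hιπ hιj J c e hc)), h1, θe_eq, Category.assoc, Category.assoc]
  congr 1
  exact comp_ell (j ≫ π) (Coh.toGlobal (X ↘ Spec (CommRingCat.of A)))
    (Coh.toGlobal (X'' ↘ Spec (CommRingCat.of T))) F
    (Groth.Agent.S0034.hι A T X X'' (j ≫ π) hjπ) lam
    (Groth.Agent.S0034.hpo A T X X'' (j ≫ π) hjπ) e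

/-- on sections -/
theorem uu_rr_app (U : X.Opens) (s : Γ(CohIII.idealMul J F, U)) :
    (rr π j F hjπ lam).hom.app (op U) ((uu π j F hιπ hιj J c e hc).app U s) =
      (Coh.smulAb F (Coh.toGlobal (X ↘ Spec (CommRingCat.of A)) (lam e))).hom.app (op U)
        ((CohIII.idealMulι J F).app U s) := by
  have h := congrArg (fun φ => φ.hom.app (op U) s) (uu_rr π j F hjπ lam hιπ hιj J c e hc)
  exact h

end retraction

end Groth.Agent.Lib.Helper17.Rees3
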