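import Groth.Agent.Lib.Helper17.SigmaH
import Groth.Agent.Lib.Helper27.ExtFiltTop3
import Groth.Agent.Lib.Helper17.HCompare
import Groth.Agent.Lib.Helper17.FlatBCH1
import Groth.Agent.Lib.Helper1.RestrExact
import Mathlib
set_option backward.isDefEq.respectTransparency.types false
set_option autoImplicit false
universe u
open AlgebraicGeometry CategoryTheory CategoryTheory.Limits Opposite TopologicalSpace Abelian

noncomputable section

namespace Groth.Agent.Lib.Helper17.SigmaHH

open Groth.Agent.Lib.Helper17.SigmaH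

/-- the functor `F ↦ H^q(U, F)` -/
abbrev Hf (X : TopCat.{u}) (q : ℕ) (U : Opens X) : CohTop.Ab X ⥤ AddCommGrpCat.{u} :=
  (Sheaf.cohomologyPresheafFunctor (Opens.grothendieckTopology X) q).flip.obj (op U)

instance (X : TopCat.{u}) (q : ℕ) (U : Opens X) : (Hf X q U).Additive where
  map_add {F G f g} := by
    exact (extFunctorObj ((yoneda ⋙ (Functor.whiskeringRight _ _ _).obj
      AddCommGrpCat.free ⋙ presheafToSheaf _ _).obj U) q).map_add

variable (X : Scheme.{u})

/-- `M ↦ H^q(U, M)` on modules -/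
abbrev HfM (q : ℕ) (U : X.Opens) : X.Modules ⥤ AddCommGrpCat.{u} :=
  SheafOfModules.toSheaf.{u} X.ringCatSheaf ⋙ Hf X.toTopCat q U

instance (q : ℕ) (U : X.Opens) : (HfM X q U).Additive :=
  inferInstanceAs (SheafOfModules.toSheaf.{u} X.ringCatSheaf ⋙ Hf X.toTopCat q U).Additive

theorem HfM_map_apply (q : ℕ) (U : X.Opens) {M N : X.Modules} (φ : M ⟶ N)
    (x : CohTop.HU (Coh.toAb M) q U) :
    ((HfM X q U).map φ).hom x = x.comp (Ext.mk₀ ((SheafOfModules.toSheaf.{u} X.ringCatSheaf).map φ))
      (add_zero q) := rfl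

/-- every class in `H^q(U, ∐ G)` over a compact quasi-separated open is a finite sum of classes coming
from the summands -/
theorem exists_finset_sum_HU [PrespectralSpace X] {U : X.Opens} (hc : IsCompact (U : Set X))
    (hqs : IsQuasiSeparated (U : Set X)) {α : Type u} (G : α → SheafOfModules.{u} X.ringCatSheaf) (q : ℕ)
    (x : (HfM X q U).obj (∐ G)) :
    ∃ (s : Finset α) (y : ∀ a, (HfM X q U).obj (G a)),
      x = ∑ a ∈ s, ((HfM X q U).map (Sigma.ι G a)).hom (y a) := by
  haveI : PreservesColimitsOfShape (Finset (Discrete α)) (SheafOfModules.toSheaf.{u} X.ringCatSheaf) :=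
    Groth.Agent.Lib.Helper1.RestrExact.toSheaf_preservesColimitsOfShape _ _
  haveI : PreservesColimit (CoproductsFromFiniteFiltered.liftToFinsetObj (Discrete.functor G))
      (SheafOfModules.toSheaf.{u} X.ringCatSheaf ⋙ Hf X.toTopCat q U) := by
    haveI : PrespectralSpace X.toTopCat := inferInstanceAs (PrespectralSpace X)
    haveI := Groth.Agent.Lib.Helper27.ExtFilt.preservesColimit_of_isQuasiSeparated
      (X := X.toTopCat) U hc hqs q
      (CoproductsFromFiniteFiltered.liftToFinsetObj (Discrete.functor G) ⋙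
        SheafOfModules.toSheaf.{u} X.ringCatSheaf)
    haveI h2 : PreservesColimit (CoproductsFromFiniteFiltered.liftToFinsetObj (Discrete.functor G))
      (SheafOfModules.toSheaf.{u} X.ringCatSheaf) := inferInstance
    exact Limits.comp_preservesColimit _ _
  exact exists_finset_sum (SheafOfModules.toSheaf.{u} X.ringCatSheaf ⋙ Hf X.toTopCat q U) G x

open Groth.Agent.Lib.Helper17.HCompare Groth.Agent.Lib.Helper6.SheafCoh in
/-- every class in `H^q(X, ∐ G)` is a finite sum of classes coming from the summands -/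
theorem exists_finset_sum_HH [CompactSpace X] [QuasiSeparatedSpace X] {α : Type u}
    (G : α → SheafOfModules.{u} X.ringCatSheaf) (q : ℕ) (x : Coh.HH X (∐ G) q) :
    ∃ (s : Finset α) (y : ∀ a, Coh.HH X (G a) q),
      x = ∑ a ∈ s, Sheaf.H.map ((SheafOfModules.toSheaf.{u} X.ringCatSheaf).map (Sigma.ι G a)) q (y a) := by
  haveI : PrespectralSpace X := inferInstance
  obtain ⟨s, y, hy⟩ := exists_finset_sum_HU X (U := ⊤) isCompact_univ isQuasiSeparated_univ G q
    (topHEquiv (Coh.toAb (∐ G)) q x)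
  refine ⟨s, fun a => (topHEquiv (Coh.toAb (G a)) q).symm (y a), ?_⟩
  apply (topHEquiv (Coh.toAb (∐ G)) q).injective
  refine hy.trans (Eq.trans ?_ (map_sum (topHEquiv (Coh.toAb (∐ G)) q) _ s).symm)
  refine Finset.sum_congr rfl (fun a _ => ?_)
  have hnat : ∀ z : Coh.HH X (G a) q,
      topHEquiv (Coh.toAb (∐ G)) q
        (Sheaf.H.map ((SheafOfModules.toSheaf.{u} X.ringCatSheaf).map (Sigma.ι G a)) q z) =
      ((SheafOfModules.toSheaf.{u} X.ringCatSheaf ⋙ Hf X.toTopCat q ⊤).map (Sigma.ι G a)).hom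
        (topHEquiv (Coh.toAb (G a)) q z) := by
    intro z
    change (Ext.mk₀ (zzIso (Opens.grothendieckTopology X.toTopCat) isTerminalTop).inv).comp
        (z.comp (Ext.mk₀ ((SheafOfModules.toSheaf.{u} X.ringCatSheaf).map (Sigma.ι G a))) (add_zero q))
        (zero_add q) =
      ((Ext.mk₀ (zzIso (Opens.grothendieckTopology X.toTopCat) isTerminalTop).inv).comp z
        (zero_add q)).comp
        (Ext.mk₀ ((SheafOfModules.toSheaf.{u} X.ringCatSheaf).map (Sigma.ι G a))) (add_zero q)
    exact (Ext.comp_assoc _ _ _ (zero_add q) (add_zero q) (by omega)).symm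
  exact ((hnat _).trans (congrArg _ (AddEquiv.apply_symm_apply _ _))).symm

open Groth.Agent.Lib.Helper6.SheafCoh Groth.Agent.Lib.Helper17.FlatBCH1 in
/-- every section of `∐ G` over a compact quasi-separated open is a finite sum of sections of the
summands -/
theorem exists_finset_sum_sections [PrespectralSpace X] {U : X.Opens} (hc : IsCompact (U : Set X))
    (hqs : IsQuasiSeparated (U : Set X)) {α : Type u} (G : α → SheafOfModules.{u} X.ringCatSheaf)
    (x : (∐ G).val.obj (op U)) :
    ∃ (s : Finset α) (y : ∀ a, (G a).val.obj (op U)),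
      x = ∑ a ∈ s, ((Sigma.ι G a).val.app (op U)).hom (y a) := by
  obtain ⟨s, y, hy⟩ := exists_finset_sum_HU X hc hqs G 0
    ((H'equiv₀ (Opens.grothendieckTopology X) (Coh.toAb (∐ G)) U).symm x)
  refine ⟨s, fun a => H'equiv₀ (Opens.grothendieckTopology X) (Coh.toAb (G a)) U (y a), ?_⟩
  have h1 := congrArg (H'equiv₀ (Opens.grothendieckTopology X) (Coh.toAb (∐ G)) U) hy
  rw [AddEquiv.apply_symm_apply] at h1
  refine h1.trans ((map_sum (H'equiv₀ (Opens.grothendieckTopology X) (Coh.toAb (∐ G)) U) _ s).trans ?_)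
  refine Finset.sum_congr rfl (fun a _ => ?_)
  exact H'equiv₀_comp (T := X.toTopCat)
    ((SheafOfModules.toSheaf.{u} X.ringCatSheaf).map (Sigma.ι G a)) U (y a)

end Groth.Agent.Lib.Helper17.SigmaHH
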