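import Groth.Agent.Lib.Helper17.Rees3
import Groth.Agent.Lib.Helper17.SigmaHH
import Groth.Agent.Lib.Helper28.TensorIso
import Mathlib
set_option backward.isDefEq.respectTransparency.types false
set_option autoImplicit false
universe u
open AlgebraicGeometry CategoryTheory CategoryTheory.Limits Opposite TopologicalSpace Abelian TensorProduct
open Polynomial

noncomputable section

namespace Groth.Agent.Lib.Helper17.Rees4

open Groth.Agent.Lib.Helper28.PullbackInv Groth.Agent.Lib.Helper28.QCohLoc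
open Groth.Agent.Lib.Helper17.Rees1 Groth.Agent.Lib.Helper17.Rees2 Groth.Agent.Lib.Helper17.Rees3

variable {A : Type u} [CommRing A] (I : Ideal A)

/-- the Rees algebra as a type -/
abbrev RB : Type u := ↥(reesAlgebra I)

/-- the variable of the polynomial ring -/
abbrev tt (A : Type u) [CommRing A] : A[X] := Polynomial.X

variable {X X' X'' : Scheme.{u}} [X.Over (Spec (CommRingCat.of A))]
  [X'.Over (Spec (CommRingCat.of (RB I)))] [X''.Over (Spec (CommRingCat.of A[X]))]
variable (π : X' ⟶ X) (j : X'' ⟶ X') (F : X.Modules)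
variable (hπ : IsPullback π (X' ↘ Spec (CommRingCat.of (RB I))) (X ↘ Spec (CommRingCat.of A))
  (Spec.map (CommRingCat.ofHom (algebraMap A (RB I)))))
variable (hj : IsPullback j (X'' ↘ Spec (CommRingCat.of A[X])) (X' ↘ Spec (CommRingCat.of (RB I)))
  (Spec.map (CommRingCat.ofHom (algebraMap (RB I) A[X]))))

include hπ hj in
theorem isPullback_comp : IsPullback (j ≫ π) (X'' ↘ Spec (CommRingCat.of A[X]))
    (X ↘ Spec (CommRingCat.of A)) (Spec.map (CommRingCat.ofHom (algebraMap A A[X]))) := by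
  have h := hj.paste_horiz hπ
  have e : Spec.map (CommRingCat.ofHom (algebraMap (RB I) A[X])) ≫
      Spec.map (CommRingCat.ofHom (algebraMap A (RB I))) =
      Spec.map (CommRingCat.ofHom (algebraMap A A[X])) := by
    rw [← Spec.map_comp]
    rfl
  rw [e] at h
  exact h

/-- the monomial `b t^n` of the Rees algebra -/
def cJ (J : Ideal A) (n : ℕ) (h : J ≤ I ^ n) : J → RB I :=
  fun b => ⟨monomial n (b : A), reesAlgebra.monomial_mem.2 (h b.2)⟩

theorem hcJ (J : Ideal A) (n : ℕ) (h : J ≤ I ^ n) (b : J) :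
    algebraMap (RB I) A[X] (cJ I J n h b) = algebraMap A A[X] (b : A) * tt A ^ n := by
  change monomial n (b : A) = C (b : A) * Polynomial.X ^ n
  rw [C_mul_X_pow_eq_monomial]

/-- the map `J · F ⟶ 𝒫` in degree `n` -/
def U (J : Ideal A) (n : ℕ) (h : J ≤ I ^ n) : CohIII.idealMul J F ⟶ P π j F :=
  uu π j F (Groth.Agent.S0034.hι A (RB I) X X' π hπ) (Groth.Agent.S0034.hι (RB I) A[X] X' X'' j hj)
    J (cJ I J n h) (tt A ^ n) (hcJ I J n h)

omit [X.Over (Spec (CommRingCat.of A))] in
/-- sections of a coproduct over a compact quasi-separated open, `X.Modules` version -/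
theorem exists_finset_sum_sections' {U : X.Opens} (hc : IsCompact (U : Set X))
    (hqs : IsQuasiSeparated (U : Set X)) {α : Type u} (G : α → X.Modules) (x : Γ(∐ G, U)) :
    ∃ (s : Finset α) (y : ∀ a, Γ(G a, U)), x = ∑ a ∈ s, (Sigma.ι G a).app U (y a) :=
  Groth.Agent.Lib.Helper17.SigmaHH.exists_finset_sum_sections X hc hqs G x

omit [X.Over (Spec (CommRingCat.of A))] [X'.Over (Spec (CommRingCat.of (RB I)))]
  [X''.Over (Spec (CommRingCat.of A[X]))] in
theorem ρ_add (r s : Coh.Γtop X') : ρ π j F (r + s) = ρ π j F r + ρ π j F s := by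
  unfold ρ
  rw [KLin.smulModΓ_add, Functor.map_add]

omit [X.Over (Spec (CommRingCat.of A))] [X'.Over (Spec (CommRingCat.of (RB I)))]
  [X''.Over (Spec (CommRingCat.of A[X]))] in
theorem ρ_zero : ρ π j F 0 = 0 := by
  unfold ρ
  rw [KLin.smulModΓ_zero, Functor.map_zero]

omit [X.Over (Spec (CommRingCat.of A))] [X'.Over (Spec (CommRingCat.of (RB I)))]
  [X''.Over (Spec (CommRingCat.of A[X]))] in
theorem ρ_sum {ι : Type*} (s : Finset ι) (r : ι → Coh.Γtop X') :
    ρ π j F (∑ a ∈ s, r a) = ∑ a ∈ s, ρ π j F (r a) := by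
  classical
  induction s using Finset.induction_on with
  | empty => simp [ρ_zero]
  | insert a s ha ih => rw [Finset.sum_insert ha, Finset.sum_insert ha, ρ_add, ih]

/-- an element of the Rees algebra is the sum of its monomials -/
theorem rees_eq_sum (β : RB I) :
    β = ∑ k ∈ β.1.support, cJ I (I ^ k) k le_rfl ⟨β.1.coeff k, β.2 k⟩ := by
  apply Subtype.ext
  rw [AddSubmonoidClass.coe_finset_sum]
  exact β.1.as_sum_support

/-- equivariance of the maps `U` -/
theorem U_ρ (J : Ideal A) (n : ℕ) (h : J ≤ I ^ n) (r : ℕ) (a : ↥(I ^ r))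
    (h' : I ^ r * J ≤ I ^ (r + n)) :
    U I π j F hπ hj J n h ≫ ρ π j F (Coh.toGlobal (X' ↘ Spec (CommRingCat.of (RB I)))
        (cJ I (I ^ r) r le_rfl a)) =
      CohIII.mulMap (I ^ r) J F a ≫ U I π j F hπ hj (I ^ r * J) (r + n) h' := by
  refine uu_ρ π j F _ _ J (cJ I J n h) (tt A ^ n) (hcJ I J n h) (I ^ r) (cJ I (I ^ r * J) (r + n) h')
    (tt A ^ (r + n)) (hcJ I (I ^ r * J) (r + n) h') a (cJ I (I ^ r) r le_rfl a) ?_
  intro b
  apply Subtype.ext
  change monomial (r + n) ((a : A) * (b : A)) = monomial r (a : A) * monomial n (b : A)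
  rw [monomial_mul_monomial]

/-- the comparison `∐ₙ Iⁿ F ⟶ 𝒫` -/
def ψ : (∐ fun n : ULift.{u} ℕ => CohIII.idealMul (I ^ n.down) F) ⟶ P π j F :=
  Sigma.desc fun n => U I π j F hπ hj (I ^ n.down) n.down le_rfl

@[reassoc]
theorem ι_ψ (n : ULift.{u} ℕ) :
    Sigma.ι (fun n : ULift.{u} ℕ => CohIII.idealMul (I ^ n.down) F) n ≫ ψ I π j F hπ hj =
      U I π j F hπ hj (I ^ n.down) n.down le_rfl := by
  unfold ψ
  rw [Sigma.ι_desc]

omit [X.Over (Spec (CommRingCat.of A))] in
theorem sum_app {M N : X.Modules} {ι : Type*} (s : Finset ι) (φ : ι → (M ⟶ N)) (W : X.Opens) (x : Γ(M, W)) :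
    (∑ a ∈ s, φ a).app W x = ∑ a ∈ s, (φ a).app W x := by
  classical
  induction s using Finset.induction_on with
  | empty =>
    rw [Finset.sum_empty, Finset.sum_empty]
    rfl
  | insert a s ha ih =>
    rw [Finset.sum_insert ha, Finset.sum_insert ha, ← ih]
    rfl

open Groth.Agent.Lib.Helper17.PbDict in
include hπ hj in
theorem ψ_app_surjective [F.IsQuasicoherent] {W : X.Opens} (hW : IsAffineOpen W) :
    Function.Surjective ((ψ I π j F hπ hj).app W) := by
  haveI : IsAffineHom j := MorphismProperty.of_isPullback (P := @IsAffineHom) hj.flip inferInstance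
  intro y
  have hy := mem_closure_of_isAffineOpen π j F hπ hW y
  have hle : AddSubgroup.closure {z : Γ(P π j F, W) | ∃ (β : RB I) (n : Γ(F, W)),
      z = (ρ π j F (Coh.toGlobal (X' ↘ Spec (CommRingCat.of (RB I))) β)).app W ((κ π j F).app W n)} ≤
      AddMonoidHom.range ((ψ I π j F hπ hj).app W).hom := by
    rw [AddSubgroup.closure_le]
    rintro z ⟨β, n, rfl⟩
    rw [rees_eq_sum I β, map_sum, ρ_sum, sum_app]
    refine sum_mem (fun k _ => ?_)
    refine ⟨(Sigma.ι (fun n : ULift.{u} ℕ => CohIII.idealMul (I ^ n.down) F) (ULift.up k)).app W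
      ((fti (I ^ k) F).app W ((Sigma.ι (fun _ : ↥(I ^ k) => F) ⟨β.1.coeff k, β.2 k⟩).app W n)), ?_⟩
    have h1 := congrArg (fun φ => φ.app W n)
      (ι_fac_uu π j F (Groth.Agent.S0034.hι A (RB I) X X' π hπ)
        (Groth.Agent.S0034.hι (RB I) A[X] X' X'' j hj) (I ^ k) (cJ I (I ^ k) k le_rfl) (tt A ^ k)
        (hcJ I (I ^ k) k le_rfl) ⟨β.1.coeff k, β.2 k⟩)
    have h2 := congrArg (fun φ => φ.app W
      ((fti (I ^ k) F).app W ((Sigma.ι (fun _ : ↥(I ^ k) => F) ⟨β.1.coeff k, β.2 k⟩).app W n)))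
      (ι_ψ I π j F hπ hj (ULift.up k))
    exact h2.trans h1
  exact hle hy

include hπ hj in
theorem U_rr_app [F.IsQuasicoherent] [IsAffineHom (j ≫ π)] (k n : ℕ) (W : X.Opens)
    (y : Γ(CohIII.idealMul (I ^ n) F, W)) :
    ((rr π j F (isPullback_comp I π j hπ hj) (lcoeff A k)).hom.app (op W)).hom
        ((U I π j F hπ hj (I ^ n) n le_rfl).app W y) =
      if k = n then (CohIII.idealMulι (I ^ n) F).app W y else 0 := by
  have h := uu_rr_app π j F (isPullback_comp I π j hπ hj) (lcoeff A k)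
    (Groth.Agent.S0034.hι A (RB I) X X' π hπ) (Groth.Agent.S0034.hι (RB I) A[X] X' X'' j hj)
    (I ^ n) (cJ I (I ^ n) n le_rfl) (tt A ^ n) (hcJ I (I ^ n) n le_rfl) W y
  refine h.trans ?_
  have hc : (lcoeff A k) (tt A ^ n) = if k = n then 1 else 0 := by
    change (Polynomial.X ^ n : A[X]).coeff k = _
    rw [coeff_X_pow]
  rw [hc]
  split_ifs with hkn
  · rw [map_one, Coh.smulAb_one]
    rfl
  · rw [map_zero, Coh.smulAb_zero]
    rfl

include hπ hj in
theorem ψ_app_injective [F.IsQuasicoherent] {W : X.Opens} (hW : IsAffineOpen W) :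
    Function.Injective ((ψ I π j F hπ hj).app W) := by
  classical
  haveI : IsAffineHom (j ≫ π) := MorphismProperty.of_isPullback (P := @IsAffineHom)
    (isPullback_comp I π j hπ hj).flip inferInstance
  rw [injective_iff_map_eq_zero]
  intro x hx
  obtain ⟨s, y, rfl⟩ := exists_finset_sum_sections' hW.isCompact hW.isQuasiSeparated
    (fun n : ULift.{u} ℕ => CohIII.idealMul (I ^ n.down) F) x
  have h1 : ∑ n ∈ s, (U I π j F hπ hj (I ^ n.down) n.down le_rfl).app W (y n) = 0 := by
    rw [map_sum] at hx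
    refine Eq.trans (Finset.sum_congr rfl (fun n _ => ?_)) hx
    exact (congrArg (fun φ => φ.app W (y n)) (ι_ψ I π j F hπ hj n)).symm
  refine Finset.sum_eq_zero (fun k hk => ?_)
  have h2 : ∑ n ∈ s, ((rr π j F (isPullback_comp I π j hπ hj) (lcoeff A k.down)).hom.app (op W)).hom
      ((U I π j F hπ hj (I ^ n.down) n.down le_rfl).app W (y n)) = 0 :=
    (map_sum ((rr π j F (isPullback_comp I π j hπ hj) (lcoeff A k.down)).hom.app (op W)).hom _ s).symm.trans
      ((congrArg ((rr π j F (isPullback_comp I π j hπ hj) (lcoeff A k.down)).hom.app (op W)).hom h1).trans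
        (map_zero _))
  have h2' := (Finset.sum_congr (s₁ := s) rfl
    (fun n _ => (U_rr_app I π j F hπ hj k.down n.down W (y n)).symm)).trans h2
  rw [Finset.sum_eq_single k] at h2'
  · rw [if_pos rfl] at h2'
    have h3 : y k = 0 := by
      apply Groth.Agent.Lib.Helper29.QCohStalk.injective_app_of_mono (CohIII.idealMulι (I ^ k.down) F)
        (inferInstanceAs (Mono (Limits.image.ι (Formal.smulFamily (I ^ k.down) F)))) W
      exact h2'.trans (map_zero _).symm
    rw [h3, map_zero]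
  · intro n _ hnk
    rw [if_neg (fun h => hnk (ULift.ext _ _ h.symm))]
    rfl
  · intro h
    exact absurd hk h

include hπ hj in
/-- **the direct image of the Rees module is the direct sum of the `Iⁿ F`** -/
theorem isIso_ψ [F.IsQuasicoherent] : IsIso (ψ I π j F hπ hj) :=
  Groth.Agent.Lib.Helper28.TensorIso.isIso_of_bijective_on_basis (ψ I π j F hπ hj) (fun W => IsAffineOpen W)
    (fun W x hx => by
      obtain ⟨_, ⟨V, hV, rfl⟩, hxV, hVW⟩ := X.isBasis_affineOpens.exists_subset_of_mem_open hx W.2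
      exact ⟨V, hV, hxV, hVW⟩)
    (fun W hW => ⟨ψ_app_injective I π j F hπ hj hW, ψ_app_surjective I π j F hπ hj hW⟩)

end Groth.Agent.Lib.Helper17.Rees4
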