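import Groth.Agent.Lib.Helper17.Rees6
import Groth.Agent.Lib.Helper23.Formal.Completion
import Groth.Agent.Lib.Helper2.HLesLin
import Groth.Agent.Lib.Helper4.HLesFin1
import Mathlib
set_option backward.isDefEq.respectTransparency.types false
set_option autoImplicit false
universe u
open AlgebraicGeometry CategoryTheory CategoryTheory.Limits Opposite TopologicalSpace Abelian

/-!
# Dictionary between the two models of `I^n M` and consequences on cohomology (helper17)
-/

noncomputable section

namespace Groth.Agent.Lib.Helper17.Rees7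

open Groth.Agent.Lib.Helper17.Rees5 Groth.Agent.Lib.Helper17.Rees6
open Groth.Agent.Lib.Helper23.FQuot

variable {A : Type u} [CommRing A] {X : Scheme.{u}} [X.Over (Spec (CommRingCat.of A))]

instance mono_idealMulι (J : Ideal A) (M : X.Modules) : Mono (CohIII.idealMulι J M) :=
  inferInstanceAs (Mono (Limits.image.ι (Formal.smulFamily J M)))

theorem mulMap_ι (I J : Ideal A) (M : X.Modules) (a : I) :
    CohIII.mulMap I J M a ≫ CohIII.idealMulι (I * J) M =
      CohIII.idealMulι J M ≫ Formal.smulMod A M a :=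
  Limits.image.map_ι (CohIII.mulSq I J M a)

/-- the canonical epimorphism `∐ M ⟶ J M` -/
def toIdealMul (J : Ideal A) (M : X.Modules) : (∐ fun _ : J => M) ⟶ CohIII.idealMul J M :=
  factorThruImage (Formal.smulFamily J M)

theorem toIdealMul_ι (J : Ideal A) (M : X.Modules) :
    toIdealMul J M ≫ CohIII.idealMulι J M = Formal.smulFamily J M :=
  Limits.image.fac _

instance epi_toIdealMul (J : Ideal A) (M : X.Modules) : Epi (toIdealMul J M) :=
  inferInstanceAs (Epi (factorThruImage (Formal.smulFamily J M)))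

/-- multiplication by `a ∈ J` as a map `M ⟶ J M` -/
def smul0 (J : Ideal A) (M : X.Modules) (a : J) : M ⟶ CohIII.idealMul J M :=
  Sigma.ι (fun _ : J => M) a ≫ toIdealMul J M

theorem smul0_ι (J : Ideal A) (M : X.Modules) (a : J) :
    smul0 J M a ≫ CohIII.idealMulι J M = Formal.smulMod A M (a : A) := by
  unfold smul0
  rw [Category.assoc, toIdealMul_ι, ι_smulFamily]

/-- the inclusion `J' M ⟶ J M` for `J' ≤ J` -/
def inclJ {J' J : Ideal A} (h : J' ≤ J) (M : X.Modules) : CohIII.idealMul J' M ⟶ CohIII.idealMul J M :=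
  Limits.image.lift
    { I := CohIII.idealMul J M
      m := CohIII.idealMulι J M
      e := Sigma.desc (fun b : J' => smul0 J M ⟨b, h b.2⟩)
      fac := by
        apply Sigma.hom_ext
        intro b
        rw [Sigma.ι_desc_assoc, smul0_ι, ι_smulFamily] }

@[reassoc]
theorem inclJ_ι {J' J : Ideal A} (h : J' ≤ J) (M : X.Modules) :
    inclJ h M ≫ CohIII.idealMulι J M = CohIII.idealMulι J' M :=
  Limits.image.lift_fac _

theorem inclJ_refl (J : Ideal A) (M : X.Modules) : inclJ (le_refl J) M = 𝟙 _ := by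
  rw [← cancel_mono (CohIII.idealMulι J M), inclJ_ι, Category.id_comp]

theorem inclJ_comp {J'' J' J : Ideal A} (h : J'' ≤ J') (h' : J' ≤ J) (M : X.Modules) :
    inclJ h M ≫ inclJ h' M = inclJ (h.trans h') M := by
  rw [← cancel_mono (CohIII.idealMulι J M), Category.assoc, inclJ_ι, inclJ_ι, inclJ_ι]

theorem mulMap_inclJ (I J J'' : Ideal A) (M : X.Modules) (a : I) (h : I * J ≤ J'') (h' : J ≤ J'') :
    CohIII.mulMap I J M a ≫ inclJ h M = inclJ h' M ≫ Formal.smulMod A (CohIII.idealMul J'' M) a := by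
  rw [← cancel_mono (CohIII.idealMulι J'' M), Category.assoc, inclJ_ι, mulMap_ι, Category.assoc,
    smulMod_naturality, inclJ_ι_assoc]

theorem mulMap_inclJ' (I J : Ideal A) (M : X.Modules) (a : I) (h : I * J ≤ I) :
    CohIII.mulMap I J M a ≫ inclJ h M = CohIII.idealMulι J M ≫ smul0 I M a := by
  rw [← cancel_mono (CohIII.idealMulι I M), Category.assoc, inclJ_ι, mulMap_ι, Category.assoc, smul0_ι]

theorem idealMulι_modPowπ (I J : Ideal A) (n : ℕ) (h : J ≤ I ^ n) (M : X.Modules) :
    CohIII.idealMulι J M ≫ Formal.modPowπ I n M = 0 := by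
  rw [← cancel_epi (toIdealMul J M), ← Category.assoc, toIdealMul_ι, comp_zero]
  exact Formal.smulFamily_π_of_le h M

/-- the comparison of the two models of `I^n M` -/
def ePow (I : Ideal A) (n : ℕ) (M : X.Modules) :
    Formal2.idealPowMod I n M ≅ CohIII.idealMul (I ^ n) M :=
  Abelian.imageIsoImage (Formal.smulFamily (I ^ n) M)

@[reassoc]
theorem ePow_hom_ι (I : Ideal A) (n : ℕ) (M : X.Modules) :
    (ePow I n M).hom ≫ CohIII.idealMulι (I ^ n) M = Formal2.idealPowModι I n M :=
  Abelian.imageIsoImage_hom_comp_image_ι _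

@[reassoc]
theorem ePow_inv_ι (I : Ideal A) (n : ℕ) (M : X.Modules) :
    (ePow I n M).inv ≫ Formal2.idealPowModι I n M = CohIII.idealMulι (I ^ n) M := by
  rw [← ePow_hom_ι, Iso.inv_hom_id_assoc]

@[reassoc]
theorem idealPowIncl_ι (I : Ideal A) {m n : ℕ} (h : m ≤ n) (M : X.Modules) :
    Formal2.idealPowIncl I h M ≫ Formal2.idealPowModι I m M = Formal2.idealPowModι I n M :=
  kernel.lift_ι _ _ _

theorem idealPowIncl_ePow (I : Ideal A) {m n : ℕ} (h : m ≤ n) (M : X.Modules) :
    Formal2.idealPowIncl I h M ≫ (ePow I m M).hom =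
      (ePow I n M).hom ≫ inclJ (Ideal.pow_le_pow_right h) M := by
  rw [← cancel_mono (CohIII.idealMulι (I ^ m) M), Category.assoc, Category.assoc, ePow_hom_ι,
    idealPowIncl_ι, inclJ_ι, ePow_hom_ι]

/-! ### cohomology level -/

theorem Hmap_smulMod (M : X.Modules) (a : A) (p : ℕ) (x : Coh.HH X M p) :
    Hmap (Formal.smulMod A M a) p x = a • x := rfl

theorem Hmap_smul {M N : X.Modules} (φ : M ⟶ N) (p : ℕ) (a : A) (x : Coh.HH X M p) :
    Hmap φ p (a • x) = a • Hmap φ p x := (Canon.HHlin A φ p).map_smul a x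

theorem Hmap_zero {M N : X.Modules} (p : ℕ) (x : Coh.HH X M p) : Hmap (0 : M ⟶ N) p x = 0 := by
  unfold Hmap
  have e : (SheafOfModules.toSheaf X.ringCatSheaf).map (0 : M ⟶ N) = 0 := Functor.map_zero _ _ _
  refine (congrArg (fun h => Sheaf.H.map h p x) e).trans ?_
  change ((Sheaf.functorH _ p).map (0 : Coh.toAb M ⟶ Coh.toAb N)).hom x = 0
  rw [Functor.map_zero]
  rfl

theorem Hmap_congr {M N : X.Modules} {φ ψ : M ⟶ N} (h : φ = ψ) (p : ℕ) (x : Coh.HH X M p) :
    Hmap φ p x = Hmap ψ p x := by rw [h]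

theorem castH_eq_Hmap (F : X.Modules) (p : ℕ) {J J' : Ideal A} (e : J = J')
    (x : Coh.HH X (CohIII.idealMul J F) p) :
    castH A X F p e x = Hmap (inclJ (le_of_eq e) F) p x := by
  subst e
  rw [Hmap_congr (inclJ_refl J F), Hmap_id]
  rfl

theorem Hmap_inclJ_castH (F : X.Modules) (p : ℕ) {J J' J'' : Ideal A} (e : J = J') (h : J' ≤ J'')
    (x : Coh.HH X (CohIII.idealMul J F) p) :
    Hmap (inclJ h F) p (castH A X F p e x) = Hmap (inclJ (e ▸ h : J ≤ J'') F) p x := by
  subst e
  rfl

/-- the short complex `I^n M → M → M/I^n M` -/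
def Spow (I : Ideal A) (n : ℕ) (M : X.Modules) : ShortComplex (SheafOfModules.{u} X.ringCatSheaf) :=
  ShortComplex.mk (Formal2.idealPowModι I n M) (Formal.modPowπ I n M)
    (kernel.condition (Formal.modPowπ I n M))

theorem shortExact_Spow (I : Ideal A) (n : ℕ) (M : X.Modules) : (Spow I n M).ShortExact := by
  haveI : Epi (Formal.modPowπ I n M) :=
    inferInstanceAs (Epi (cokernel.π (Formal.smulFamily (I ^ n) M)))
  haveI : Epi (Spow I n M).g := inferInstanceAs (Epi (Formal.modPowπ I n M))
  haveI : Mono (Spow I n M).f := inferInstanceAs (Mono (kernel.ι (Formal.modPowπ I n M)))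
  exact { exact := ShortComplex.exact_of_f_is_kernel _ (kernelIsKernel _) }

open Groth.Agent.Lib.Helper2.HLes Groth.Agent.Lib.Helper2.HLesLin in
/-- exactness in the middle: the kernel of `H^p(M) → H^p(M/I^nM)` is the image of `H^p(I^n M)` -/
theorem exists_of_modPowπ_eq_zero (I : Ideal A) (n : ℕ) (M : X.Modules) (p : ℕ) (x : Coh.HH X M p)
    (h : Hmap (Formal.modPowπ I n M) p x = 0) :
    ∃ w : Coh.HH X (CohIII.idealMul (I ^ n) M) p, Hmap (CohIII.idealMulι (I ^ n) M) p w = x := by
  obtain ⟨w, hw⟩ := exact₂ (shortExact_Sab (Spow I n M) (shortExact_Spow I n M)) p x h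
  refine ⟨Hmap (ePow I n M).hom p w, ?_⟩
  rw [← Hmap_comp, Hmap_congr (ePow_hom_ι I n M)]
  exact hw

theorem modPowπ_Hmap_ι (I J : Ideal A) (n : ℕ) (h : J ≤ I ^ n) (M : X.Modules) (p : ℕ)
    (w : Coh.HH X (CohIII.idealMul J M) p) :
    Hmap (Formal.modPowπ I n M) p (Hmap (CohIII.idealMulι J M) p w) = 0 := by
  rw [← Hmap_comp, Hmap_congr (idealMulι_modPowπ I J n h M), Hmap_zero]

open Groth.Agent.Lib.Helper2.HLes Groth.Agent.Lib.Helper2.HLesLin in
/-- naturality of the connecting homomorphism -/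
theorem δ_naturality {S S' : ShortComplex (SheafOfModules.{u} X.ringCatSheaf)} (hS : S.ShortExact)
    (hS' : S'.ShortExact) (φ : S ⟶ S') (p : ℕ) (x : Coh.HH X S.X₃ p) :
    δ (shortExact_Sab S' hS') p (Sheaf.H.map ((SheafOfModules.toSheaf X.ringCatSheaf).map φ.τ₃) p x) =
      Sheaf.H.map ((SheafOfModules.toSheaf X.ringCatSheaf).map φ.τ₁) (p + 1)
        (δ (shortExact_Sab S hS) p x) := by
  have hnat := ShortComplex.ShortExact.extClass_naturality (shortExact_Sab S hS)
    (shortExact_Sab S' hS') ((SheafOfModules.toSheaf X.ringCatSheaf).mapShortComplex.map φ)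
  change ((x.comp (Ext.mk₀ ((SheafOfModules.toSheaf X.ringCatSheaf).map φ.τ₃)) (add_zero p)).comp
      (shortExact_Sab S' hS').extClass rfl) =
    ((x.comp (shortExact_Sab S hS).extClass rfl).comp
      (Ext.mk₀ ((SheafOfModules.toSheaf X.ringCatSheaf).map φ.τ₁)) (add_zero (p + 1)))
  rw [Ext.comp_assoc_of_second_deg_zero, Ext.comp_assoc_of_third_deg_zero]
  congr 1
  exact hnat.symm

theorem modPowπ_completion_map (I : Ideal A) (M : X.Modules) {n k : ℕ} (h : n ≤ k) :
    Formal.modPowπ I (k + 1) M ≫ (Formal.completion I M).map (homOfLE h).op =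
      Formal.modPowπ I (n + 1) M := by
  induction k, h using Nat.le_induction with
  | base =>
    have e : (homOfLE (le_refl n)).op = 𝟙 (op n) := rfl
    have e2 : (Formal.completion I M).map (homOfLE (le_refl n)).op = 𝟙 _ := by
      rw [e]
      exact CategoryTheory.Functor.map_id _ _
    exact (congrArg (fun t => Formal.modPowπ I (n + 1) M ≫ t) e2).trans (Category.comp_id _)
  | succ k h ih =>
    have e : (homOfLE (h.trans (Nat.le_succ k))).op =
        (homOfLE (Nat.le_succ k)).op ≫ (homOfLE h).op := rfl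
    have e2 : (Formal.completion I M).map (homOfLE (h.trans (Nat.le_succ k))).op =
        Formal.modPowTrans I (k + 1) M ≫ (Formal.completion I M).map (homOfLE h).op := by
      rw [e, CategoryTheory.Functor.map_comp, completion_map_succ]
      rfl
    refine (congrArg (fun t => Formal.modPowπ I (k + 1 + 1) M ≫ t) e2).trans ?_
    refine (Category.assoc _ _ _).symm.trans ?_
    exact (congrArg (fun t => t ≫ (Formal.completion I M).map (homOfLE h).op)
      (Formal.modPowπ_trans I (k + 1) M)).trans ih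

/-- an additive map sends the closure of `S` into a submodule as soon as it does so on `S` -/
theorem map_mem_of_mem_closure {G H R : Type*} [AddCommGroup G] [AddCommGroup H] [Ring R] [Module R H]
    (Φ : G →+ H) (S : Set G) (T : Submodule R H) (h : ∀ y ∈ S, Φ y ∈ T) (z : G)
    (hz : z ∈ AddSubgroup.closure S) : Φ z ∈ T := by
  induction hz using AddSubgroup.closure_induction with
  | mem y hy => exact h y hy
  | zero => rw [map_zero]; exact zero_mem _
  | add x y _ _ hx hy => rw [map_add]; exact add_mem hx hy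
  | neg x _ hx => rw [map_neg]; exact neg_mem hx

/-- the image of a product under `J M ⟶ M` -/
theorem Hmap_ι_HmulMap (I J : Ideal A) (M : X.Modules) (a : I) (p : ℕ)
    (v : Coh.HH X (CohIII.idealMul J M) p) :
    Hmap (CohIII.idealMulι (I * J) M) p (CohIII.HmulMap I J M a p v) =
      (a : A) • Hmap (CohIII.idealMulι J M) p v := by
  change Hmap _ p (Hmap (CohIII.mulMap _ _ M a) p v) = _
  rw [← Hmap_comp, Hmap_congr (mulMap_ι _ _ M a), Hmap_comp, Hmap_smulMod]

end Groth.Agent.Lib.Helper17.Rees7
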