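import Groth.Agent.Lib.Helper17.TowD
import Groth.Agent.Lib.Helper4.RelAmpleVan
import Groth.Agent.Lib.Helper6.RpushCompAffine
import Groth.Agent.Lib.Helper26.PushComp
import Groth.Agent.Lib.Helper28.AmpleBaseChange
import Groth.Agent.Lib.Helper28.ProjAmple
import Groth.Agent.Lib.Helper28.CounitSerre
import Groth.Agent.Lib.Helper17.PullbackBC
import Mathlib
set_option backward.isDefEq.respectTransparency.types false
set_option autoImplicit false

/-!
# Twists of direct images along an affine base change: vanishing and relative global generation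
-/

universe u
open CategoryTheory CategoryTheory.Limits AlgebraicGeometry Opposite TopologicalSpace

namespace Groth.Agent.Lib.Helper17.RelTw

open Groth.Agent.Lib.Helper17.Tow Groth.Agent.Lib.Helper17.H0Neg Groth.Agent.Lib.Helper28
  Groth.Agent.Lib.Helper28.GenLocus Groth.Agent.Lib.Helper28.PullbackInv

section vanish

variable {X Y X' Y' : Scheme.{u}}

/-- higher direct images of a direct image along an affine morphism, through a commutative square with affine
right vertical map -/
theorem isZero_RpushAb_push (f : X ⟶ Y) (g : Y' ⟶ Y) [IsAffineHom g] (g' : X' ⟶ X) [IsAffineHom g']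
    (f' : X' ⟶ Y') [QuasiCompact f'] [QuasiSeparated f'] (w : g' ≫ f = f' ≫ g)
    (H : X'.Modules) [H.IsQuasicoherent] (p : ℕ)
    (hz : IsZero ((Coh.RpushAb f' p).obj (Coh.toAb H))) :
    IsZero ((Coh.RpushAb f p).obj (Coh.toAb ((Scheme.Modules.pushforward g').obj H))) := by
  obtain ⟨a⟩ := Groth.Agent.S11319.result f ((Scheme.Modules.pushforward g').obj H) p
  obtain ⟨b⟩ := Groth.Agent.Lib.Helper26.PushComp.nonempty_Rpush_comp_iso g' f H p
  have key : ∀ (k : X' ⟶ Y) (_ : k = f' ≫ g), IsZero ((Coh.Rpush k p).obj H) := by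
    intro k hk
    subst hk
    obtain ⟨c⟩ := Groth.Agent.S11319.result (f' ≫ g) H p
    obtain ⟨d⟩ := Groth.Agent.Lib.Helper6.RpushCompAffine.main f' g H p
    have h1 : IsZero ((Coh.pushAb g).obj ((Coh.RpushAb f' p).obj (Coh.toAb H))) :=
      (Coh.pushAb g).map_isZero hz
    exact Groth.Agent.Lib.Helper26.PushComp.isZero_of_isZero_toAb _ ((h1.of_iso d).of_iso c)
  have h2 := (key (g' ≫ f) w).of_iso b
  exact ((SheafOfModules.toSheaf Y.ringCatSheaf).map_isZero h2).of_iso a.symm

/-- relative ampleness is stable under base change (arbitrary cartesian square) -/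
theorem isRelAmple_of_isPullback (f : X ⟶ Y) [QuasiCompact f] (g : Y' ⟶ Y) (g' : X' ⟶ X) (f' : X' ⟶ Y')
    (hsq : IsPullback g' f' f g) (L : X.Modules) (hamp : RelAmple.IsRelAmple f L) :
    RelAmple.IsRelAmple f' ((Scheme.Modules.pullback g').obj L) := by
  have h0 := Groth.Agent.Lib.Helper28.AmpleLocal.isRelAmple_baseChange f g L hamp
  have h1 := isRelAmple_pullback_of_isEmbedding (pullback.snd f g) hsq.isoPullback.hom
    (hsq.isoPullback.hom.homeomorph.isEmbedding) _ h0
  have key : ∀ (k : X' ⟶ Y') (_ : k = f') (M : X'.Modules), RelAmple.IsRelAmple k M →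
      RelAmple.IsRelAmple f' M := by
    intro k hk M hM
    subst hk
    exact hM
  have h2 := key _ hsq.isoPullback_hom_snd _ h1
  have e : (Scheme.Modules.pullback hsq.isoPullback.hom).obj ((Scheme.Modules.pullback (pullback.fst f g)).obj L) ≅
      (Scheme.Modules.pullback g').obj L :=
    (Scheme.Modules.pullbackComp hsq.isoPullback.hom (pullback.fst f g)).app L ≪≫
      (Scheme.Modules.pullbackCongr hsq.isoPullback_hom_fst).app L
  exact ⟨h2.1, fun V => Groth.Agent.Lib.Helper28.AmpleIso.isAmple_of_iso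
    ((Scheme.Modules.restrictFunctor (f' ⁻¹ᵁ V.1).ι).mapIso e) (h2.2 V)⟩

/-- the twists of the direct image of a coherent module along an affine base change have vanishing higher
direct images -/
theorem exists_forall_isZero [IsNoetherian Y] [IsNoetherian Y'] (f : X ⟶ Y) [IsProper f]
    (L : X.Modules) (hL : PicF.IsInvertible L) (hamp : RelAmple.IsRelAmple f L)
    (g : Y' ⟶ Y) [IsAffineHom g] (g' : X' ⟶ X) (f' : X' ⟶ Y')
    (hsq : IsPullback g' f' f g) (G : X'.Modules) (hG : Coh.IsCoh G) :
    ∃ N : ℕ, ∀ n : ℕ, N ≤ n → ∀ p : ℕ, 0 < p →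
      IsZero ((Coh.RpushAb f p).obj (Coh.toAb
        (CohB1.tensorMod ((Coh.push g').obj G) (CohB1.tensorPow L n)))) := by
  have hL' : PicF.IsInvertible ((Scheme.Modules.pullback g').obj L) := isInvertible_pullback (f := g') hL
  have hamp' : RelAmple.IsRelAmple f' ((Scheme.Modules.pullback g').obj L) :=
    isRelAmple_of_isPullback f g g' f' hsq L hamp
  haveI : IsProper f' := MorphismProperty.of_isPullback (P := @IsProper) hsq inferInstance
  obtain ⟨n₀, hn₀⟩ := Groth.Agent.Lib.Helper4.RelAmpleVan.exists_isZero_RpushAb f'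
    ((Scheme.Modules.pullback g').obj L) hL' (fun W hW => hamp'.2 ⟨W, hW⟩) G hG
  refine ⟨n₀, fun n hn p hp => ?_⟩
  haveI : G.IsQuasicoherent := hG.1
  haveI : IsAffineHom g' := MorphismProperty.of_isPullback (P := @IsAffineHom) hsq.flip inferInstance
  haveI : (Pn G ((Scheme.Modules.pullback g').obj L) n).IsQuasicoherent :=
    (isTwist_Pn G _ n).isQuasicoherent hL'
  have h1 := isZero_RpushAb_push f g g' f' hsq.w
    (Pn G ((Scheme.Modules.pullback g').obj L) n) p (hn₀ n hn p hp)
  obtain ⟨ψ⟩ := nonempty_push_Pn_iso g' G L hL n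
  exact h1.of_iso (((SheafOfModules.toSheaf X.ringCatSheaf) ⋙ Coh.RpushAb f p).mapIso ψ.symm)

end vanish

section counit

open Groth.Agent.Lib.Helper28.QCohLoc Groth.Agent.Lib.Helper17.PullbackBC

/-- the direct image of an epimorphism of quasi-coherent modules along an affine morphism is an epimorphism -/
theorem epi_push_of_isAffineHom {Z X : Scheme.{u}} (k : Z ⟶ X) [IsAffineHom k] {A B : Z.Modules}
    [A.IsQuasicoherent] [B.IsQuasicoherent] (φ : A ⟶ B) [Epi φ] :
    Epi ((Scheme.Modules.pushforward k).map φ) := by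
  refine epi_of_locally_in_range _ fun U x pt hpt => ?_
  obtain ⟨W, hW, hptW, hWU⟩ := Opens.isBasis_iff_nbhd.mp X.isBasis_affineOpens hpt
  have hW' : IsAffineOpen (k ⁻¹ᵁ W) := hW.preimage k
  obtain ⟨y, hy⟩ := Groth.Agent.Lib.Helper23.Tower.surj_sections_of_epi φ hW'
    (res B (k.preimage_mono hWU) (show Γ(B, k ⁻¹ᵁ U) from x))
  exact ⟨W, hWU, hptW, y, hy⟩

/-- the counit at `M` is an epimorphism as soon as `M` is a quotient of a pulled back module -/
theorem epi_counit_of_epi {X Y : Scheme.{u}} (f : X ⟶ Y) {Q : Y.Modules} {M : X.Modules}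
    (κ : (Scheme.Modules.pullback f).obj Q ⟶ M) [Epi κ] :
    Epi ((Scheme.Modules.pullbackPushforwardAdjunction f).counit.app M) := by
  have h1 : (Scheme.Modules.pullback f).map
      ((Scheme.Modules.pullbackPushforwardAdjunction f).homEquiv Q M κ) ≫
      (Scheme.Modules.pullbackPushforwardAdjunction f).counit.app M = κ :=
    ((Scheme.Modules.pullbackPushforwardAdjunction f).homEquiv_counit (X := Q) (Y := M)
      (g := (Scheme.Modules.pullbackPushforwardAdjunction f).homEquiv Q M κ)).symm.trans
      (((Scheme.Modules.pullbackPushforwardAdjunction f).homEquiv Q M).symm_apply_apply κ)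
  exact epi_of_epi_fac h1

variable {X Y X' Y' : Scheme.{u}}

/-- the twists of the direct image of a coherent module along an affine base change are relatively globally
generated -/
theorem exists_forall_epi_counit [CompactSpace Y'] (f : X ⟶ Y) [QuasiCompact f] [QuasiSeparated f]
    (L : X.Modules) (hL : PicF.IsInvertible L) (hamp : RelAmple.IsRelAmple f L)
    (g : Y' ⟶ Y) [IsAffineHom g] (g' : X' ⟶ X) (f' : X' ⟶ Y')
    (hsq : IsPullback g' f' f g) (G : X'.Modules) (hG : Coh.IsCoh G) :
    ∃ N : ℕ, ∀ n : ℕ, N ≤ n →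
      Epi ((Scheme.Modules.pullbackPushforwardAdjunction f).counit.app
        (CohB1.tensorMod ((Coh.push g').obj G) (CohB1.tensorPow L n))) := by
  have hL' : PicF.IsInvertible ((Scheme.Modules.pullback g').obj L) := isInvertible_pullback (f := g') hL
  have hamp' : RelAmple.IsRelAmple f' ((Scheme.Modules.pullback g').obj L) :=
    Groth.Agent.Lib.Helper17.RelTw.isRelAmple_of_isPullback f g g' f' hsq L hamp
  haveI : QuasiCompact f' := hamp'.1
  haveI : QuasiSeparated f' := MorphismProperty.of_isPullback (P := @QuasiSeparated) hsq inferInstance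
  obtain ⟨N, hN⟩ := Groth.Agent.Lib.Helper28.CounitSerre.exists_forall_epi_counit f'
    ((Scheme.Modules.pullback g').obj L) hamp' G hG
  refine ⟨N, fun n hn => ?_⟩
  haveI : G.IsQuasicoherent := hG.1
  haveI : IsAffineHom g' := MorphismProperty.of_isPullback (P := @IsAffineHom) hsq.flip inferInstance
  haveI hHq : (Pn G ((Scheme.Modules.pullback g').obj L) n).IsQuasicoherent :=
    (isTwist_Pn G _ n).isQuasicoherent hL'
  haveI hepi : Epi ((Scheme.Modules.pullbackPushforwardAdjunction f').counit.app
      (Pn G ((Scheme.Modules.pullback g').obj L) n)) := hN n hn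
  haveI hNq : ((Scheme.Modules.pushforward f').obj (Pn G ((Scheme.Modules.pullback g').obj L) n)).IsQuasicoherent :=
    isQuasicoherent_pushforward f' _
  haveI hiso := isIso_pbLift_bcV g f f' g' hsq.flip
    ((Scheme.Modules.pushforward f').obj (Pn G ((Scheme.Modules.pullback g').obj L) n))
  haveI hq3 : ((Scheme.Modules.pushforward f' ⋙ Scheme.Modules.pullback f').obj
      (Pn G ((Scheme.Modules.pullback g').obj L) n)).IsQuasicoherent :=
    Groth.Agent.Lib.Helper17.ModPullback.isQuasicoherent_pullback f'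
      ((Scheme.Modules.pushforward f').obj (Pn G ((Scheme.Modules.pullback g').obj L) n))
  haveI hq4 : ((𝟭 X'.Modules).obj (Pn G ((Scheme.Modules.pullback g').obj L) n)).IsQuasicoherent := hHq
  haveI hepi2 := epi_push_of_isAffineHom g' ((Scheme.Modules.pullbackPushforwardAdjunction f').counit.app
      (Pn G ((Scheme.Modules.pullback g').obj L) n))
  obtain ⟨ψ⟩ := nonempty_push_Pn_iso g' G L hL n
  exact epi_counit_of_epi f (pbLift f (bcV g f f' g' hsq.flip
    ((Scheme.Modules.pushforward f').obj (Pn G ((Scheme.Modules.pullback g').obj L) n))) ≫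
    (Scheme.Modules.pushforward g').map ((Scheme.Modules.pullbackPushforwardAdjunction f').counit.app
      (Pn G ((Scheme.Modules.pullback g').obj L) n)) ≫ ψ.hom)

/-- **twists of direct images along an affine base change**: vanishing of higher direct images and relative
global generation for all large twists -/
theorem main [IsNoetherian Y] (f : X ⟶ Y) (hf : RelProj.IsProjective f)
    (L : X.Modules) (hL : PicF.IsInvertible L) (hamp : RelAmple.IsRelAmple f L)
    (g : Y' ⟶ Y) [IsAffineHom g] [LocallyOfFiniteType g] (g' : X' ⟶ X) (f' : X' ⟶ Y')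
    (hsq : IsPullback g' f' f g) (G : X'.Modules) (hG : Coh.IsCoh G) :
    ∃ N : ℕ, ∀ n : ℕ, N ≤ n →
      (∀ p : ℕ, 0 < p →
        IsZero ((Coh.RpushAb f p).obj (Coh.toAb (CohB1.tensorMod ((Coh.push g').obj G) (CohB1.tensorPow L n))))) ∧
      Epi ((Scheme.Modules.pullbackPushforwardAdjunction f).counit.app
        (CohB1.tensorMod ((Coh.push g').obj G) (CohB1.tensorPow L n))) := by
  haveI : IsProper f := Groth.Agent.Lib.Helper28.ProjAmple.isProper_of_isProjective f hf
  haveI : IsLocallyNoetherian Y' := LocallyOfFiniteType.isLocallyNoetherian g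
  haveI : CompactSpace Y' := QuasiCompact.compactSpace_of_compactSpace g
  haveI : IsNoetherian Y' := ⟨⟩
  obtain ⟨N₁, h₁⟩ := Groth.Agent.Lib.Helper17.RelTw.exists_forall_isZero f L hL hamp g g' f' hsq G hG
  obtain ⟨N₂, h₂⟩ := exists_forall_epi_counit f L hL hamp g g' f' hsq G hG
  exact ⟨max N₁ N₂, fun n hn => ⟨h₁ n (le_trans (le_max_left _ _) hn), h₂ n (le_trans (le_max_right _ _) hn)⟩⟩

end counit

end Groth.Agent.Lib.Helper17.RelTw
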