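import Mathlib
import Groth.Agent.S5498
import Groth.Agent.Lib.lead.RootDD

namespace Groth.Agent.Lib.Helper17.RootDIrr

open RootD

variable {ι M N : Type*} [AddCommGroup M] [AddCommGroup N] {P : RootPairing ι ℤ M N}

/-- ℓ -/
noncomputable def ell [Fintype ι] (P : RootPairing ι ℤ M N) (k : ι) : ℤ :=
  P.RootForm (P.root k) (P.root k)

lemma ell_pos [Fintype ι] (i : ι) : 0 < ell P i :=
  P.rootForm_pos_of_ne_zero (Submodule.subset_span ⟨i, rfl⟩) (P.ne_zero i)

lemma ell_refl [Fintype ι] (j k : ι) : ell P (P.reflectionPerm j k) = ell P k := by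
  unfold ell
  rw [P.root_reflectionPerm, P.rootForm_reflection_reflection_apply]

lemma pairing_mul_ell [Fintype ι] (i j : ι) : P.pairing j i * ell P i = P.pairing i j * ell P j := by
  have e1 := P.toInvariantForm.pairing_mul_eq_pairing_mul_swap i j
  simp only [RootPairing.toInvariantForm_form] at e1
  exact e1

lemma pairing_reflectionPerm_left (c a d : ι) :
    P.pairing (P.reflectionPerm c a) d = P.pairing a d - P.pairing a c * P.pairing c d := by
  have : P.pairing (P.reflectionPerm c a) d =
      P.toLinearMap (P.root (P.reflectionPerm c a)) (P.coroot d) := rfl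
  rw [this, P.root_reflectionPerm, P.reflection_apply_root, map_sub, map_smul, LinearMap.sub_apply,
    LinearMap.smul_apply, smul_eq_mul]
  rfl

/-- in an irreducible system, any root has a conjugate (same length) non-orthogonal to any given root -/
theorem exists_same_length_nonorth [Fintype ι]
    (hirr : ∀ R' : Set ι, RootD.IsClosedSub P R' → RootD.IsSymmSub P R' → RootD.IsClosedSub P R'ᶜ →
      RootD.IsSymmSub P R'ᶜ → R' = ∅ ∨ R' = Set.univ) (i j : ι) :
    ∃ a, ell P a = ell P i ∧ P.pairing a j ≠ 0 := by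
  have h := Groth.Agent.S5498.linked_univ P hirr i j
  induction h with
  | refl => exact ⟨i, rfl, by rw [P.pairing_same]; norm_num⟩
  | @tail c d _ hcd ih =>
    obtain ⟨a, ha, hac⟩ := ih
    by_cases had : P.pairing a d = 0
    · refine ⟨P.reflectionPerm c a, by rw [ell_refl, ha], ?_⟩
      rw [pairing_reflectionPerm_left, had, zero_sub, neg_ne_zero]
      exact mul_ne_zero hac hcd
    · exact ⟨a, ha, had⟩

theorem dvd_of_nonorth [Fintype ι] (a j : ι) (hne : P.pairing a j ≠ 0) (hle : ell P a ≤ ell P j) :
    ell P a ∣ ell P j := by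
  have hmem := P.pairingIn_pairingIn_mem_set_of_isCrystallographic a j
  rw [Groth.Agent.S5498.pairingIn_eq, Groth.Agent.S5498.pairingIn_eq] at hmem
  have hsw : P.pairing j a * ell P a = P.pairing a j * ell P j := pairing_mul_ell a j
  have ha := ell_pos (P := P) a
  have hj := ell_pos (P := P) j
  generalize P.pairing a j = x at *
  generalize P.pairing j a = y at *
  generalize ell P a = la at *
  generalize ell P j = lj at *
  simp only [Set.mem_insert_iff, Set.mem_singleton_iff, Prod.mk.injEq] at hmem
  have h3 : x = 1 ∨ x = -1 ∨ x = y := by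
    rcases hmem with h | h | h | h | h | h | h | h | h | h | h | h | h | h | h | h | h <;>
    · obtain ⟨rfl, rfl⟩ := h
      omega
  rcases h3 with rfl | rfl | rfl
  · exact ⟨y, by linarith⟩
  · exact ⟨-y, by linarith⟩
  · have : la = lj := mul_left_cancel₀ hne hsw
    rw [this]

theorem ell_min_dvd [Fintype ι]
    (hirr : ∀ R' : Set ι, RootD.IsClosedSub P R' → RootD.IsSymmSub P R' → RootD.IsClosedSub P R'ᶜ →
      RootD.IsSymmSub P R'ᶜ → R' = ∅ ∨ R' = Set.univ) (i₀ : ι)
    (hmin : ∀ i : ι, ell P i₀ ≤ ell P i) (j : ι) : ell P i₀ ∣ ell P j := by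
  obtain ⟨a, ha, haj⟩ := exists_same_length_nonorth hirr i₀ j
  rw [← ha]
  exact dvd_of_nonorth a j haj (by rw [ha]; exact hmin j)

end Groth.Agent.Lib.Helper17.RootDIrr
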