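import Groth.Agent.S5489
import Groth.Agent.Lib.Helper4.RootD

/-!
Helper library (helper17) for `RootD`: supports of coefficient vectors and orthogonal decompositions of
a system of simple roots.
-/

set_option autoImplicit false

namespace Groth.Agent.Lib.Helper17.RootD

open _root_.RootD
open Groth.Agent.Lib.Helper4.RD

section
variable {ι M N : Type*} [AddCommGroup M] [AddCommGroup N] {P : RootPairing ι ℤ M N}

/-- pairing of a root with a coroot computed from coefficients -/
theorem pairing_eq_sum_coef {Δ : Set ι} (hΔ : IsSimpleSys P Δ) (k b : ι) :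
    P.pairing k b = (coef hΔ k).sum fun l z => z * P.pairing l b := by
  have h1 : P.pairing k b = P.toLinearMap.flip (P.coroot b) (lc P Δ (coef hΔ k)) := by
    rw [lc_coef]; rfl
  rw [h1, lc, Finsupp.linearCombination_apply, map_finsuppSum]
  apply Finsupp.sum_congr
  intro l _
  rw [map_smul]; rfl

theorem mixed_false [Finite ι] {Δ : Set ι} (hΔ : IsSimpleSys P Δ) (A : Set ι)
    (k k' : ι) (b : Δ) (hbA : (b : ι) ∉ A)
    (hsupp : ∀ l : Δ, coef hΔ k' l ≠ 0 → (l : ι) ∈ A)
    (hpos : ∀ l, 0 ≤ coef hΔ k' l)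
    (horth : ∀ a ∈ A, P.pairing a b = 0)
    (hk : P.root k = P.root k' + P.root b) : False := by
  classical
  have hpair' : P.pairing k' b = 0 := by
    rw [pairing_eq_sum_coef hΔ]
    apply Finset.sum_eq_zero
    intro l hl
    change coef hΔ k' l * P.pairing l b = 0
    rw [horth l (hsupp l (Finsupp.mem_support_iff.mp hl)), mul_zero]
  have hpair : P.pairing k b = 2 := by
    have : P.pairing k b = P.pairing k' b + P.pairing b b := by
      change P.toLinearMap (P.root k) (P.coroot b) = P.toLinearMap (P.root k') (P.coroot b) +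
        P.toLinearMap (P.root b) (P.coroot b)
      rw [hk, map_add, LinearMap.add_apply]
    rw [this, hpair', P.pairing_same, zero_add]
  have hck : coef hΔ k = coef hΔ k' + Finsupp.single b 1 := by
    apply coef_eq_of_lc_eq
    rw [map_add, lc_coef, lc_single, one_smul, hk]
  have hck'' : coef hΔ (P.reflectionPerm b k) = coef hΔ k' - Finsupp.single b 1 := by
    rw [coef_reflectionPerm, hpair, hck]
    ext l
    simp only [Finsupp.coe_sub, Finsupp.coe_add, Pi.sub_apply, Pi.add_apply, Finsupp.single_apply]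
    split_ifs <;> ring
  have hb0 : coef hΔ k' b = 0 := by
    by_contra h
    exact hbA (hsupp b h)
  have hneg : coef hΔ (P.reflectionPerm b k) b = -1 := by
    rw [hck'']; simp [hb0]
  obtain ⟨a, ha⟩ : ∃ a, coef hΔ k' a ≠ 0 := by
    by_contra h
    push Not at h
    exact coef_ne_zero hΔ k' (Finsupp.ext h)
  have hab : a ≠ b := fun h => ha (h ▸ hb0)
  have hposa : 0 < coef hΔ (P.reflectionPerm b k) a := by
    rw [hck'']
    simp only [Finsupp.coe_sub, Pi.sub_apply, Finsupp.single_apply, if_neg (Ne.symm hab), sub_zero]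
    exact lt_of_le_of_ne (hpos a) (Ne.symm ha)
  rcases coef_sign hΔ (P.reflectionPerm b k) with h | h
  · have := h b; omega
  · have := h a; omega
end

section
variable {ι M N : Type*} [AddCommGroup M] [AddCommGroup N] {P : RootPairing ι ℤ M N}

/-- sum of coefficients -/
noncomputable def ht (Δ : Set ι) : (Δ →₀ ℤ) →+ ℤ := Finsupp.liftAddHom (fun _ => AddMonoidHom.id ℤ)

theorem ht_single (Δ : Set ι) (b : Δ) (z : ℤ) : ht Δ (Finsupp.single b z) = z := by
  simp [ht]

theorem ht_nonneg (Δ : Set ι) (c : Δ →₀ ℤ) (hc : ∀ l, 0 ≤ c l) : 0 ≤ ht Δ c := by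
  simp only [ht, Finsupp.liftAddHom_apply, AddMonoidHom.id_apply]
  exact Finset.sum_nonneg fun l _ => hc l

/-- the support dichotomy -/
def Q {Δ : Set ι} (hΔ : IsSimpleSys P Δ) (Δ' : Set ι) (k : ι) : Prop :=
  (∀ l : Δ, coef hΔ k l ≠ 0 → (l : ι) ∈ Δ') ∨ (∀ l : Δ, coef hΔ k l ≠ 0 → (l : ι) ∉ Δ')

theorem Q_pos [Finite ι] {Δ Δ' : Set ι} (hΔ : IsSimpleSys P Δ)
    (horth : ∀ i ∈ Δ', ∀ j ∈ Δ \ Δ', P.IsOrthogonal i j) :
    ∀ (n : ℕ) (k : ι), (∀ l, 0 ≤ coef hΔ k l) → ht Δ (coef hΔ k) = n → Q hΔ Δ' k := by
  classical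
  intro n
  induction n with
  | zero =>
    intro k hpos hht
    exfalso
    apply coef_ne_zero hΔ k
    ext l
    have h1 : ∀ l ∈ (coef hΔ k).support, (coef hΔ k) l = 0 := by
      have hsum : ∑ l ∈ (coef hΔ k).support, (coef hΔ k) l = 0 := by
        simpa [ht, Finsupp.sum] using hht
      exact (Finset.sum_eq_zero_iff_of_nonneg fun l _ => hpos l).mp hsum
    by_contra h
    exact h (h1 l (Finsupp.mem_support_iff.mpr h))
  | succ n ih =>
    intro k hpos hht
    by_cases hkΔ : k ∈ Δ
    · have hc : coef hΔ k = Finsupp.single ⟨k, hkΔ⟩ 1 := coef_simple hΔ ⟨k, hkΔ⟩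
      by_cases hk' : k ∈ Δ'
      · left
        intro l hl
        rw [hc, Finsupp.single_apply] at hl
        split_ifs at hl with h
        · rw [← h]; exact hk'
        · exact absurd rfl hl
      · right
        intro l hl
        rw [hc, Finsupp.single_apply] at hl
        split_ifs at hl with h
        · rw [← h]; exact hk'
        · exact absurd rfl hl
    · -- not simple: use S5489
      set s := (coef hΔ k).support with hs
      let e : Fin s.card ≃ s := s.equivFin.symm
      have hk1 : (1 : ℕ) • P.root k = ∑ l : Fin s.card, ((coef hΔ k) (e l)).toNat • P.root ((e l : Δ) : ι) := by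
        rw [one_smul, ← lc_coef hΔ k, lc, Finsupp.linearCombination_apply, Finsupp.sum,
          ← Finset.sum_coe_sort s, ← Equiv.sum_comp e]
        apply Finset.sum_congr rfl
        intro l _
        rw [← natCast_zsmul, Int.toNat_of_nonneg (hpos _)]
      obtain ⟨l, hml, -, k', hk'⟩ := Groth.Agent.S5489.result P (fun l => ((e l : Δ) : ι))
        (fun l => ((coef hΔ k) (e l)).toNat) k (fun l h => hkΔ (h ▸ (e l : Δ).2)) 1 one_pos hk1
      set b : Δ := (e l : Δ) with hb
      have hbpos : 1 ≤ coef hΔ k b := by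
        have : ((coef hΔ k) b).toNat ≠ 0 := hml
        omega
      have hroot : P.root k = P.root k' + P.root b := by rw [hk']; abel
      have hck' : coef hΔ k' = coef hΔ k - Finsupp.single b 1 := by
        apply coef_eq_of_lc_eq
        rw [map_sub, lc_coef, lc_single, one_smul, hk']
      have hck : coef hΔ k = coef hΔ k' + Finsupp.single b 1 := by rw [hck']; abel
      have hpos' : ∀ l, 0 ≤ coef hΔ k' l := by
        intro x
        rw [hck']
        simp only [Finsupp.coe_sub, Pi.sub_apply, Finsupp.single_apply]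
        split_ifs with h
        · rw [← h]; omega
        · simpa using hpos x
      have hht' : ht Δ (coef hΔ k') = n := by
        rw [hck', map_sub, ht_single, hht]; push_cast; ring
      have hne : ∀ x : Δ, coef hΔ k x ≠ 0 → x = b ∨ coef hΔ k' x ≠ 0 := by
        intro x hx
        by_cases hxb : x = b
        · exact Or.inl hxb
        · right
          rw [hck']
          simpa [Finsupp.single_apply, Ne.symm hxb] using hx
      rcases ih k' hpos' hht' with hQ | hQ
      · by_cases hbΔ' : (b : ι) ∈ Δ'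
        · left
          intro x hx
          rcases hne x hx with h | h
          · rw [h]; exact hbΔ'
          · exact hQ x h
        · exfalso
          exact mixed_false hΔ Δ' k k' b hbΔ' hQ hpos'
            (fun a ha => (horth a ha b ⟨b.2, hbΔ'⟩).1) hroot
      · by_cases hbΔ' : (b : ι) ∈ Δ'
        · exfalso
          exact mixed_false hΔ (Δ \ Δ') k k' b (fun h => h.2 hbΔ') (fun x hx => ⟨x.2, hQ x hx⟩) hpos'
            (fun a ha => (horth b hbΔ' a ha).2) hroot
        · right
          intro x hx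
          rcases hne x hx with h | h
          · rw [h]; exact hbΔ'
          · exact hQ x h
end

section
variable {ι M N : Type*} [AddCommGroup M] [AddCommGroup N] {P : RootPairing ι ℤ M N}

theorem Q_all [Finite ι] {Δ Δ' : Set ι} (hΔ : IsSimpleSys P Δ)
    (horth : ∀ i ∈ Δ', ∀ j ∈ Δ \ Δ', P.IsOrthogonal i j) (k : ι) : Q hΔ Δ' k := by
  rcases coef_sign hΔ k with h | h
  · have h0 := ht_nonneg Δ _ h
    exact Q_pos hΔ horth (ht Δ (coef hΔ k)).toNat k h (Int.toNat_of_nonneg h0).symm
  · have hneg : ∀ l, 0 ≤ coef hΔ (P.reflectionPerm k k) l := by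
      intro l; rw [coef_neg]; simpa using h l
    have h0 := ht_nonneg Δ _ hneg
    have := Q_pos hΔ horth (ht Δ (coef hΔ (P.reflectionPerm k k))).toNat _ hneg
      (Int.toNat_of_nonneg h0).symm
    unfold Q at this ⊢
    simpa [coef_neg] using this

theorem mem_inSpan_of_supp {Δ : Set ι} (hΔ : IsSimpleSys P Δ) (A : Set ι) (k : ι)
    (h : ∀ l : Δ, coef hΔ k l ≠ 0 → (l : ι) ∈ A) : k ∈ inSpan P A := by
  change P.root k ∈ Submodule.span ℤ (P.root '' A)
  rw [← lc_coef hΔ k, lc, Finsupp.linearCombination_apply]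
  apply Submodule.sum_mem
  intro l hl
  apply Submodule.smul_mem
  exact Submodule.subset_span ⟨l, h l (Finsupp.mem_support_iff.mp hl), rfl⟩


end

end Groth.Agent.Lib.Helper17.RootD
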