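import Groth.Agent.S2953
import Groth.Agent.S5448
import Groth.Agent.Lib.Helper4.RootD

/-!
Helper library (helper17) for `RootD`: words in simple reflections for a system of simple roots
(`RootD.IsSimpleSys`, possibly non-reduced): the deletion-type lemma `exists_split'`.
-/

set_option autoImplicit false

namespace Groth.Agent.Lib.Helper17.RootDWord

open RootPairing
open _root_.RootD
open Groth.Agent.Lib.Helper4.RD Groth.Agent.S2953

section
variable {ι M N : Type*} [AddCommGroup M] [AddCommGroup N] {P : RootPairing ι ℤ M N}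

theorem isIndiv_reflectionPerm (i k : ι) (hk : IsIndiv P k) : IsIndiv P (P.reflectionPerm i k) := by
  intro j hj
  apply hk (P.reflectionPerm i j)
  have := congrArg (P.reflection i) hj
  rw [map_smul, ← P.root_reflectionPerm, ← P.root_reflectionPerm, P.reflectionPerm_self] at this
  exact this

/-- a positive indivisible root made non-positive by a simple reflection is that simple root -/
theorem eq_of_pos_of_reflection_not_pos [Finite ι] {Δ : Set ι} (hΔ : IsSimpleSys P Δ) (i : Δ) (k : ι)
    (hk : k ∈ posOf P Δ) (hind : IsIndiv P k) (hneg : P.reflectionPerm i k ∉ posOf P Δ) :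
    k = i := by
  classical
  have hpos := (mem_posOf_iff hΔ k).mp hk
  -- coef k is supported at i
  have hsupp : ∀ l : Δ, l ≠ i → coef hΔ k l = 0 := by
    intro l hl
    by_contra h
    apply hneg
    apply mem_posOf_of_pos hΔ _ l
    rw [coef_reflectionPerm]
    simp only [Finsupp.coe_sub, Pi.sub_apply, Finsupp.single_apply, if_neg (Ne.symm hl), sub_zero]
    exact lt_of_le_of_ne (hpos l) (Ne.symm h)
  have hck : coef hΔ k = Finsupp.single i (coef hΔ k i) := by
    ext l
    by_cases hl : l = i
    · rw [hl]; simp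
    · rw [hsupp l hl]; simp [Finsupp.single_apply, Ne.symm hl]
  set z := coef hΔ k i with hz
  have hroot : P.root k = z • P.root i := by
    rw [← lc_coef hΔ k, hck, lc_single]
  have hz0 : 0 < z := by
    refine lt_of_le_of_ne (hpos i) ?_
    intro h
    apply coef_ne_zero hΔ k
    rw [hck, ← h]; simp
  -- z divides 2
  have h2 : z * P.pairing i k = 2 := by
    have : P.pairing k k = z * P.pairing i k := by
      change P.toLinearMap (P.root k) (P.coroot k) = z * P.toLinearMap (P.root i) (P.coroot k)
      rw [hroot, map_smul, LinearMap.smul_apply, smul_eq_mul]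
    rw [← this, P.pairing_same]
  have hz2 : z = 1 ∨ z = 2 := by
    have hdvd : z ∣ 2 := ⟨_, h2.symm⟩
    have hle : z ≤ 2 := Int.le_of_dvd (by norm_num) hdvd
    omega
  rcases hz2 with h1 | h1
  · rw [h1, one_smul] at hroot
    exact P.root.injective hroot
  · exfalso
    rw [h1] at hroot
    exact hind i hroot.symm
end

section
variable {ι M N : Type*} [AddCommGroup M] [AddCommGroup N] {P : RootPairing ι ℤ M N}

theorem isIndiv_pr_smul (L : List ι) (k : ι) (hk : IsIndiv P k) : IsIndiv P (pr P L • k) := by
  induction L with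
  | nil => simpa [pr] using hk
  | cons j L ih =>
    rw [pr_cons, mul_smul, refl_smul]
    exact isIndiv_reflectionPerm j _ ih

theorem exists_split' [Finite ι] {Δ : Set ι} (hΔ : IsSimpleSys P Δ) (L : List ι) (hL : ∀ i ∈ L, i ∈ Δ)
    (β : ι) (hβ : β ∈ posOf P Δ) (hind : IsIndiv P β) (hneg : pr P L • β ∉ posOf P Δ) :
    ∃ L1 i L2, L = L1 ++ i :: L2 ∧ pr P L2 • β = i := by
  induction L with
  | nil => exact (hneg (by simpa [pr] using hβ)).elim
  | cons j L ih =>
    have hL' : ∀ i ∈ L, i ∈ Δ := fun i hi => hL i (List.mem_cons_of_mem _ hi)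
    have hj : j ∈ Δ := hL j List.mem_cons_self
    by_cases h : pr P L • β ∈ posOf P Δ
    · refine ⟨[], j, L, rfl, ?_⟩
      rw [pr_cons, mul_smul, refl_smul] at hneg
      exact eq_of_pos_of_reflection_not_pos hΔ ⟨j, hj⟩ _ h (isIndiv_pr_smul L β hind) hneg
    · obtain ⟨L1, i, L2, h1, h2⟩ := ih hL' h
      exact ⟨j :: L1, i, L2, by rw [h1]; rfl, h2⟩


end

end Groth.Agent.Lib.Helper17.RootDWord
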