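import Groth.Agent.Lib.Helper17.TwHom
import Groth.Agent.Lib.Helper28.SecPow
import Groth.Agent.Lib.Helper28.ModIsoApp
import Mathlib
set_option backward.isDefEq.respectTransparency.types false
set_option autoImplicit false

/-!
# The form on `M` attached to a section of `L^m` and a pairing `L^m ⊗ M^m ≅ O`
-/

universe u
open CategoryTheory CategoryTheory.Limits AlgebraicGeometry Opposite TopologicalSpace
noncomputable section

namespace Groth.Agent.Lib.Helper17.SForm

open Groth.Agent.Lib.Helper28 Groth.Agent.Lib.Helper28.QCohLoc Groth.Agent.Lib.Helper28.TensorGen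
  Groth.Agent.Lib.Helper28.GenLocus Groth.Agent.Lib.Helper28.InvTensor Groth.Agent.Lib.Helper17.TwHom

variable {X : Scheme.{u}} {L M : X.Modules} (m : ℕ)
  (e : CohB1.tensorMod (CohB1.tensorPow L m) (CohB1.tensorPow M m) ≅ Coh.structureModule X)
  (s : Coh.structureModule X ⟶ CohB1.tensorPow L m)

/-- the value of the section `s` on the `m`-th power of a local section of `M` -/
def sform (W : X.Opens) (g : Γ(M, W)) : Γ(X, W) :=
  (show Γ(X, W) from e.hom.app W (tmulSec (CohB1.tensorPow L m) (CohB1.tensorPow M m)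
    (res (CohB1.tensorPow L m) (le_top : W ≤ ⊤) (secOf s)) (gpow M g m)))

theorem isForm_sform : IsForm M m (sform m e s) where
  res W W' h g := by
    unfold sform
    have h1 := app_res e.hom h (tmulSec (CohB1.tensorPow L m) (CohB1.tensorPow M m)
      (res (CohB1.tensorPow L m) (le_top : W ≤ ⊤) (secOf s)) (gpow M g m))
    rw [tmulSec_res, res_res, gpow_res] at h1
    exact h1.symm
  hom W c g := by
    unfold sform
    rw [gpow_smul, tmulSec_smul_right]
    exact Scheme.Modules.Hom.app_smul e.hom (c ^ m) _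

/-- the pairing of two generators is a unit -/
theorem isUnit_pair {W : X.Opens} {γ : Γ(CohB1.tensorPow L m, W)} (hγ : IsGen (CohB1.tensorPow L m) W γ)
    {g : Γ(M, W)} (hg : IsGen M W g) :
    IsUnit (show Γ(X, W) from e.hom.app W (tmulSec (CohB1.tensorPow L m) (CohB1.tensorPow M m) γ (gpow M g m))) := by
  have hτ := isGen_tmulSec (CohB1.tensorPow L m) (CohB1.tensorPow M m) hγ (isGen_gpow hg m)
  have hb := app_bijective_of_isIso e.hom W
  have hτW := hτ W le_rfl
  obtain ⟨z, hz⟩ := hb.2 (show Γ(Coh.structureModule X, W) from (1 : Γ(X, W)))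
  obtain ⟨c, hc⟩ := hτW.2 z
  refine IsUnit.of_mul_eq_one c ?_
  rw [mul_comm]
  have h1 : e.hom.app W (c • tmulSec (CohB1.tensorPow L m) (CohB1.tensorPow M m) γ (gpow M g m) :
      Γ(CohB1.tensorMod (CohB1.tensorPow L m) (CohB1.tensorPow M m), W)) =
      (show Γ(Coh.structureModule X, W) from (1 : Γ(X, W))) := by
    rw [← hz]
    congr 1
    rw [← hc, res_self]
  rw [Scheme.Modules.Hom.app_smul] at h1
  exact h1

theorem sform_eq_mul {W : X.Opens} {γ : Γ(CohB1.tensorPow L m, W)} (g : Γ(M, W)) (r : Γ(X, W))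
    (hr : res (CohB1.tensorPow L m) (le_top : W ≤ ⊤) (secOf s) = (r • γ : Γ(CohB1.tensorPow L m, W))) :
    sform m e s W g = r * (show Γ(X, W) from
      e.hom.app W (tmulSec (CohB1.tensorPow L m) (CohB1.tensorPow M m) γ (gpow M g m))) := by
  unfold sform
  rw [hr, tmulSec_smul_left]
  exact Scheme.Modules.Hom.app_smul e.hom r _

/-- **the locus where `s` generates is, over an open with a generator `g` of `M`, the basic open of the form** -/
theorem mem_genLocus_iff (hL : PicF.IsInvertible L) {W : X.Opens} {g : Γ(M, W)} (hg : IsGen M W g) (y : X)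
    (hy : y ∈ W) :
    y ∈ CohB1.genLocus (CohB1.tensorPow L m) s ↔ y ∈ X.basicOpen (sform m e s W g) := by
  obtain ⟨U, γ, hyU, hγ⟩ := exists_isGen (CohB1.tensorPow L m) (isInvertible_tensorPow hL m) y
  have hW' : W ⊓ U ≤ W := inf_le_left
  have hγ' := hγ.res (inf_le_right : W ⊓ U ≤ U)
  have hg' := hg.res hW'
  set r : Γ(X, W ⊓ U) := hγ'.coef le_rfl (res (CohB1.tensorPow L m) (le_top : W ⊓ U ≤ ⊤) (secOf s)) with hrdef
  have hr : res (CohB1.tensorPow L m) (le_top : W ⊓ U ≤ ⊤) (secOf s) =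
      (r • res (CohB1.tensorPow L m) (inf_le_right : W ⊓ U ≤ U) γ : Γ(CohB1.tensorPow L m, W ⊓ U)) := by
    have := hγ'.coef_smul le_rfl (res (CohB1.tensorPow L m) (le_top : W ⊓ U ≤ ⊤) (secOf s))
    rw [res_self] at this
    exact this.symm
  have h1 := genLocus_inf_eq s (W ⊓ U) _ hγ' r hr
  have h2 := sform_eq_mul m e s (res M hW' g) r hr
  have h3 := isUnit_pair m e hγ' hg'
  have h4 : X.basicOpen (sform m e s (W ⊓ U) (res M hW' g)) = X.basicOpen r := by
    rw [h2, X.basicOpen_mul, X.basicOpen_of_isUnit h3]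
    exact inf_eq_left.2 (X.basicOpen_le r)
  have h5 : X.basicOpen (sform m e s (W ⊓ U) (res M hW' g)) = (W ⊓ U) ⊓ X.basicOpen (sform m e s W g) := by
    rw [← (isForm_sform m e s).res W (W ⊓ U) hW' g]
    exact Scheme.basicOpen_res _ _ _
  have hyWU : y ∈ W ⊓ U := ⟨hy, hyU⟩
  constructor
  · intro hyG
    have : y ∈ CohB1.genLocus (CohB1.tensorPow L m) s ⊓ (W ⊓ U) := ⟨hyG, hyWU⟩
    rw [h1, ← h4, h5] at this
    exact this.2
  · intro hyB
    have : y ∈ (W ⊓ U) ⊓ X.basicOpen (sform m e s W g) := ⟨hyWU, hyB⟩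
    rw [← h5, h4, ← h1] at this
    exact this.1

end Groth.Agent.Lib.Helper17.SForm
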