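import Groth.Agent.Lib.Helper17.PrinPartAff
import Mathlib
set_option backward.isDefEq.respectTransparency.types false
set_option autoImplicit false
universe u
open CategoryTheory CategoryTheory.Limits AlgebraicGeometry TopologicalSpace Opposite
noncomputable section
namespace Groth.Agent.Lib.Helper17.PrinPartAff

/-- a morphism with a surjective section is universally closed -/
theorem universallyClosed_of_section {P X : Scheme.{u}} (p : P ⟶ X) (t : X ⟶ P)
    [Surjective t] (h : t ≫ p = 𝟙 X) : UniversallyClosed p := by
  constructor
  intro P' X' i₁ i₂ p' hpb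
  let t' : X' ⟶ P' := hpb.lift (𝟙 X') (i₂ ≫ t) (by rw [Category.assoc, h, Category.comp_id, Category.id_comp])
  have ht'1 : t' ≫ p' = 𝟙 X' := hpb.lift_fst _ _ _
  have ht'2 : t' ≫ i₁ = i₂ ≫ t := hpb.lift_snd _ _ _
  have houter : IsPullback (t' ≫ p') i₂ i₂ (t ≫ p) := by
    rw [ht'1, h]
    exact IsPullback.of_horiz_isIso ⟨by simp⟩
  have hleft : IsPullback t' i₂ i₁ t := IsPullback.of_right houter ht'2 hpb
  have hsurj : Surjective t' := MorphismProperty.of_isPullback hleft.flip inferInstance
  show IsClosedMap p'
  intro C hC
  have : p' '' C = t' ⁻¹' C := by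
    ext y
    constructor
    · rintro ⟨z, hz, rfl⟩
      obtain ⟨y', rfl⟩ := hsurj.surj z
      show t' (p' (t' y')) ∈ C
      have h1 : p' (t' y') = y' := by
        rw [← Scheme.Hom.comp_apply, ht'1]; rfl
      rw [h1]
      exact hz
    · intro hy
      refine ⟨t' y, hy, ?_⟩
      rw [← Scheme.Hom.comp_apply, ht'1]
      rfl
  rw [this]
  exact hC.preimage t'.continuous

/-- a morphism with a section which is a surjective closed immersion is integral -/
theorem isIntegralHom_of_section {P X : Scheme.{u}} (p : P ⟶ X) (t : X ⟶ P) [IsClosedImmersion t]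
    (ht : Function.Surjective t) (h : t ≫ p = 𝟙 X) : IsIntegralHom p := by
  haveI : Surjective t := ⟨ht⟩
  exact IsIntegralHom.iff_universallyClosed_and_isAffineHom.2
    ⟨universallyClosed_of_section p t h, isAffineHom_of_section p t ht h⟩

/-- a morphism locally of finite type with a section which is a surjective closed immersion is finite -/
theorem isFinite_of_section {P X : Scheme.{u}} (p : P ⟶ X) [LocallyOfFiniteType p] (t : X ⟶ P)
    [IsClosedImmersion t] (ht : Function.Surjective t) (h : t ≫ p = 𝟙 X) : IsFinite p := by
  haveI := isIntegralHom_of_section p t ht h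
  exact (IsFinite.iff_isIntegralHom_and_locallyOfFiniteType p).2 ⟨inferInstance, inferInstance⟩

end Groth.Agent.Lib.Helper17.PrinPartAff
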