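import Groth.Agent.Lib.Helper17.DiscPic
import Mathlib

/-!
# An invertible module is trivial near any finite set of points of an affine open
-/

set_option autoImplicit false
set_option backward.isDefEq.respectTransparency.types false
universe u
open CategoryTheory CategoryTheory.Limits AlgebraicGeometry Opposite TopologicalSpace
noncomputable section
namespace Groth.Agent.Lib.Helper17.SemiLocalTriv

open Groth.Agent.Lib.Helper28 Groth.Agent.Lib.Helper28.QCohLoc Groth.Agent.Lib.Helper28.GenLocus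

/-- every point of a finite set of points of a scheme specializes to a point of the set which has no proper
specialization in the set -/
theorem exists_most_special (Y : Scheme.{u}) (T : Finset Y) (t : Y) (ht : t ∈ T) :
    ∃ w ∈ T, t ⤳ w ∧ ∀ v ∈ T, w ⤳ v → v = w := by
  classical
  let S : Y → Finset Y := fun w => T.filter (fun v => w ⤳ v)
  have hS : ∀ w v, v ∈ S w ↔ v ∈ T ∧ w ⤳ v := fun w v => by simp [S]
  have hne : (S t).Nonempty := ⟨t, (hS t t).2 ⟨ht, specializes_rfl⟩⟩
  obtain ⟨w, hw, hmin⟩ := Finset.exists_min_image (S t) (fun w => (S w).card) hne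
  have hwT := ((hS t w).1 hw).1
  have htw := ((hS t w).1 hw).2
  refine ⟨w, hwT, htw, fun v hvT hwv => ?_⟩
  by_contra hvw
  have hv : v ∈ S t := (hS t v).2 ⟨hvT, htw.trans hwv⟩
  have hsub : S v ⊂ S w := by
    refine Finset.ssubset_iff_subset_ne.2 ⟨fun z hz => ?_, fun heq => ?_⟩
    · exact (hS w z).2 ⟨((hS v z).1 hz).1, hwv.trans ((hS v z).1 hz).2⟩
    · have hwv' : w ∈ S v := by rw [heq]; exact (hS w w).2 ⟨hwT, specializes_rfl⟩
      have hvw' : v ⤳ w := ((hS v w).1 hwv').2
      exact hvw (hvw'.antisymm hwv).eq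
  exact absurd (hmin v hv) (not_le.2 (Finset.card_lt_card hsub))

/-- an invertible module is trivial on a basic open containing any given finite set of points of an affine open -/
theorem exists_basicOpen_trivial (Y : Scheme.{u}) (L : Y.Modules) (hL : PicF.IsInvertible L)
    {V : Y.Opens} (hV : IsAffineOpen V) (T : Finset Y) (hTV : ∀ x ∈ T, x ∈ V) :
    ∃ g : Γ(Y, V), (∀ x ∈ T, x ∈ Y.basicOpen g) ∧
      Nonempty (L.restrict (Y.basicOpen g).ι ≅ Coh.structureModule (↑(Y.basicOpen g) : Scheme.{u})) := by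
  classical
  let T' : Finset Y := T.filter (fun w => ∀ v ∈ T, w ⤳ v → v = w)
  have hT' : ∀ w, w ∈ T' ↔ w ∈ T ∧ ∀ v ∈ T, w ⤳ v → v = w := fun w => by simp [T']
  obtain ⟨g, hg, he⟩ := DiscPic.exists_basicOpen_trivial Y L hL hV T'
    (fun x hx => hTV x ((hT' x).1 hx).1)
    (fun z hz w hw hne hwz => hne (((hT' w).1 hw).2 z ((hT' z).1 hz).1 hwz))
  refine ⟨g, fun x hx => ?_, he⟩
  obtain ⟨w, hwT, hxw, hmin⟩ := exists_most_special Y T x hx
  exact hxw.mem_open (Y.basicOpen g).2 (hg w ((hT' w).2 ⟨hwT, hmin⟩))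

/-- an invertible module has a generator over an open containing any given finite set of points of an affine open -/
theorem exists_isGen_of_finite (Y : Scheme.{u}) (L : Y.Modules) (hL : PicF.IsInvertible L)
    {V : Y.Opens} (hV : IsAffineOpen V) (Z : Set Y) (hZ : Z.Finite) (hZV : Z ⊆ V) :
    ∃ (U : Y.Opens) (e : Γ(L, U)), Z ⊆ U ∧ U ≤ V ∧ IsGen L U e := by
  classical
  obtain ⟨g, hg, ⟨ε⟩⟩ := exists_basicOpen_trivial Y L hL hV hZ.toFinset
    (fun x hx => hZV (hZ.mem_toFinset.1 hx))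
  obtain ⟨ℓ, hℓ⟩ := exists_isGen_of_iso L (Y.basicOpen g) ε
  refine ⟨(Y.basicOpen g).ι ''ᵁ ⊤, ℓ, fun z hz => ?_, ?_, hℓ⟩
  · exact ⟨⟨z, hg z (hZ.mem_toFinset.2 hz)⟩, trivial, rfl⟩
  · rintro _ ⟨z, -, rfl⟩
    exact Y.basicOpen_le g z.2

end Groth.Agent.Lib.Helper17.SemiLocalTriv
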