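import Groth.Agent.Lib.Helper17.Serre3
import Groth.Prelude.Def_FlatMod2
import Mathlib
set_option backward.isDefEq.respectTransparency.types false
set_option autoImplicit false
universe u

namespace Groth.Agent.Lib.Helper17.Serre
open CategoryTheory CategoryTheory.Limits Opposite Abelian TopologicalSpace AlgebraicGeometry
open Groth.Agent.Lib.Helper28.QCohLoc

variable {X : Scheme.{u}}

/-- the hypothesis (c') of EGA II 5.2.1: global sections are right exact on short exact sequences of
quasi-coherent modules whose middle term embeds in a free module `O_X^n`. -/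
def SurjHyp₂ (X : Scheme.{u}) : Prop :=
  ∀ (S : ShortComplex X.Modules) (n : ℕ) (i₂ : S.X₂ ⟶ FlatMod.freeMod X n), S.ShortExact → Mono i₂ →
    S.X₂.IsQuasicoherent → S.X₃.IsQuasicoherent → Function.Surjective (S.g.app ⊤)

/-- projection of a finite free module onto a factor -/
noncomputable def freeProj (n : ℕ) (k : Fin n) : FlatMod.freeMod X n ⟶ Coh.structureModule X :=
  Sigma.desc (fun j : Fin n => if j = k then 𝟙 (Coh.structureModule X) else 0)

theorem ι_freeProj_self (n : ℕ) (k : Fin n) :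
    Sigma.ι (fun _ : Fin n => Coh.structureModule X) k ≫ freeProj n k = 𝟙 _ := by
  unfold freeProj
  rw [Sigma.ι_desc]
  simp

theorem ι_freeProj_ne (n : ℕ) (k l : Fin n) (h : k ≠ l) :
    Sigma.ι (fun _ : Fin n => Coh.structureModule X) k ≫ freeProj n l = 0 := by
  unfold freeProj
  rw [Sigma.ι_desc]
  simp [h]

theorem mono_ι_free (n : ℕ) (k : Fin n) : Mono (Sigma.ι (fun _ : Fin n => Coh.structureModule X) k) :=
  mono_of_mono_fac (ι_freeProj_self n k)

/-- `J ⊞ O_X` embeds in `O_X^2` when `J` embeds in `O_X`. -/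
noncomputable def biprodToFree (J : X.Modules) (ι : J ⟶ Coh.structureModule X) :
    J ⊞ Coh.structureModule X ⟶ FlatMod.freeMod X 2 :=
  biprod.desc (ι ≫ Sigma.ι (fun _ : Fin 2 => Coh.structureModule X) 0)
    (Sigma.ι (fun _ : Fin 2 => Coh.structureModule X) 1)

theorem mono_biprodToFree (J : X.Modules) (ι : J ⟶ Coh.structureModule X) [Mono ι] :
    Mono (biprodToFree J ι) := by
  refine Preadditive.mono_of_cancel_zero _ fun {P} g hg => ?_
  have h0 : g ≫ biprod.fst ≫ ι = 0 := by
    have := congrArg (fun ψ => ψ ≫ freeProj 2 0) hg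
    simp only [Category.assoc, zero_comp] at this
    rw [← this]
    congr 1
    unfold biprodToFree
    apply biprod.hom_ext'
    · rw [biprod.inl_desc_assoc, Category.assoc, ι_freeProj_self, Category.comp_id,
        biprod.inl_fst_assoc]
    · rw [biprod.inr_desc_assoc, ι_freeProj_ne 2 1 0 (by decide), biprod.inr_fst_assoc, zero_comp]
  have h1 : g ≫ biprod.snd = 0 := by
    have := congrArg (fun ψ => ψ ≫ freeProj 2 1) hg
    simp only [Category.assoc, zero_comp] at this
    rw [← this]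
    congr 1
    unfold biprodToFree
    apply biprod.hom_ext'
    · rw [biprod.inl_desc_assoc, Category.assoc, ι_freeProj_ne 2 0 1 (by decide), comp_zero,
        biprod.inl_snd]
    · rw [biprod.inr_desc_assoc, ι_freeProj_self, biprod.inr_snd]
  have h0' : g ≫ biprod.fst = 0 := by
    rw [← cancel_mono ι, Category.assoc, h0, zero_comp]
  apply biprod.hom_ext
  · rw [h0', zero_comp]
  · rw [h1, zero_comp]

theorem exists_basicOpen_mem_le'' (hserre : SurjHyp₂ X) (x : X) (hx : IsClosed ({x} : Set X))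
    (U : X.Opens) (hxU : x ∈ U) :
    ∃ f : Γ(X, ⊤), x ∈ X.basicOpen f ∧ X.basicOpen f ≤ U := by
  let Y' : Closeds X := ⟨(U : Set X)ᶜ ∪ {x}, U.isOpen.isClosed_compl.union hx⟩
  let I' := Scheme.IdealSheafData.vanishingIdeal Y'
  have hrange : Set.range I'.subschemeι = (U : Set X)ᶜ ∪ {x} := by
    have := Scheme.IdealSheafData.range_subschemeι I'
    rw [Scheme.IdealSheafData.coe_support_vanishingIdeal] at this
    exact this
  have hsurj : Function.Surjective ((ClSub.toSubscheme I').app ⊤) :=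
    hserre (idealSES I') 1 (Sigma.ι (fun _ : Fin 1 => Coh.structureModule X) 0) (idealSES_shortExact I')
      (mono_ι_free 1 0)
      (inferInstanceAs ((Coh.structureModule X).IsQuasicoherent))
      (inferInstanceAs ((ClSub.quotMod I').IsQuasicoherent))
  let V₁ : I'.subscheme.Opens := I'.subschemeι ⁻¹ᵁ U
  let V₂ : I'.subscheme.Opens := I'.subschemeι ⁻¹ᵁ ⟨({x} : Set X)ᶜ, hx.isOpen_compl⟩
  have hmem : ∀ z : I'.subscheme, I'.subschemeι z ∉ U ∨ I'.subschemeι z = x := by
    intro z
    have : I'.subschemeι z ∈ (U : Set X)ᶜ ∪ {x} := hrange ▸ ⟨z, rfl⟩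
    exact this
  have hsup : V₁ ⊔ V₂ = ⊤ := by
    rw [eq_top_iff]
    intro z _
    rcases hmem z with h | h
    · right
      change I'.subschemeι z ∈ ({x} : Set X)ᶜ
      intro h'
      exact h (h' ▸ hxU)
    · left
      change I'.subschemeι z ∈ U
      rw [h]; exact hxU
  have hinf : V₁ ⊓ V₂ = ⊥ := by
    rw [eq_bot_iff]
    rintro z ⟨h1, h2⟩
    rcases hmem z with h | h
    · exact absurd h1 h
    · exact absurd h h2
  obtain ⟨e, he1, he0⟩ := exists_indicator I'.subscheme V₁ V₂ hsup hinf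
  obtain ⟨f, hf⟩ := hsurj e
  have hpre : I'.subschemeι ⁻¹ᵁ X.basicOpen f = I'.subscheme.basicOpen e := by
    rw [Scheme.preimage_basicOpen]
    congr 1
  have hV1 : V₁ ≤ I'.subscheme.basicOpen e := by
    have h1 := I'.subscheme.basicOpen_res e (homOfLE (le_top : V₁ ≤ ⊤)).op
    rw [he1, Scheme.basicOpen_one] at h1
    rw [h1]
    exact inf_le_right
  have hV2 : V₂ ⊓ I'.subscheme.basicOpen e = ⊥ := by
    have h1 := I'.subscheme.basicOpen_res e (homOfLE (le_top : V₂ ≤ ⊤)).op
    rw [he0, Scheme.basicOpen_zero] at h1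
    exact h1.symm
  refine ⟨f, ?_, ?_⟩
  · obtain ⟨z, hz⟩ : x ∈ Set.range I'.subschemeι := by rw [hrange]; right; rfl
    have hz1 : z ∈ V₁ := by change I'.subschemeι z ∈ U; rw [hz]; exact hxU
    have : z ∈ I'.subschemeι ⁻¹ᵁ X.basicOpen f := hpre ▸ hV1 hz1
    rw [← hz]
    exact this
  · intro y hy
    by_contra hyU
    obtain ⟨z, hz⟩ : y ∈ Set.range I'.subschemeι := by rw [hrange]; left; exact hyU
    have hz2 : z ∈ V₂ := by
      change I'.subschemeι z ∈ ({x} : Set X)ᶜ
      rw [hz]
      intro h'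
      exact hyU (h' ▸ hxU)
    have hz3 : z ∈ I'.subscheme.basicOpen e := by
      rw [← hpre]
      change I'.subschemeι z ∈ X.basicOpen f
      rw [hz]; exact hy
    have : z ∈ V₂ ⊓ I'.subscheme.basicOpen e := ⟨hz2, hz3⟩
    rw [hV2] at this
    exact this

/-- under Serre's hypothesis on a quasi-compact scheme, the affine opens of the form `X_f` cover. -/
theorem exists_affine_basicOpen_mem'' [CompactSpace X] (hserre : SurjHyp₂ X) (y : X) :
    ∃ f : Γ(X, ⊤), IsAffineOpen (X.basicOpen f) ∧ y ∈ X.basicOpen f := by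
  let W : X.Opens := ⨆ f : {f : Γ(X, ⊤) // IsAffineOpen (X.basicOpen f)}, X.basicOpen f.1
  suffices hW : W = ⊤ by
    have hy : y ∈ W := hW ▸ trivial
    obtain ⟨f, hf⟩ := Opens.mem_iSup.1 hy
    exact ⟨f.1, f.2, hf⟩
  by_contra hne
  have hne' : ((W : Set X)ᶜ).Nonempty := by
    rw [Set.nonempty_compl]
    intro h
    exact hne (Opens.ext h)
  obtain ⟨x, hxW, hx⟩ := W.isOpen.isClosed_compl.exists_closed_singleton hne'
  obtain ⟨_, ⟨U, hU, rfl⟩, hxU, -⟩ :=
    X.isBasis_affineOpens.exists_subset_of_mem_open (Set.mem_univ x) isOpen_univ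
  obtain ⟨f, hxf, hfU⟩ := exists_basicOpen_mem_le'' hserre x hx U hxU
  have haff : IsAffineOpen (X.basicOpen f) := by
    have h1 := X.basicOpen_res f (homOfLE (le_top : U ≤ ⊤)).op
    rw [inf_eq_right.2 hfU] at h1
    rw [← h1]
    exact hU.basicOpen _
  exact hxW (Opens.mem_iSup.2 ⟨⟨f, haff⟩, hxf⟩)

open Groth.Agent.Lib.Helper17.CohKer in
/-- inductive step: enlarge a quasi-coherent ideal by one global function, keeping control of its
global sections. -/
theorem ideal_step'' (hserre : SurjHyp₂ X) (f : Γ(X, ⊤)) (T : Set Γ(X, ⊤))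
    (J : X.Modules) (ι : J ⟶ Coh.structureModule X) (hinj : ∀ V, Function.Injective (ι.app V))
    [J.IsQuasicoherent]
    (hspan : ∀ s : Γ(J, ⊤), (show Γ(X, ⊤) from ι.app ⊤ s) ∈ Ideal.span T)
    (hmem : ∀ g ∈ T, ∀ V : X.Opens, ∃ t : Γ(J, V),
      (show Γ(X, V) from ι.app V t) = resO (le_top : V ≤ ⊤) g) :
    ∃ (J' : X.Modules) (ι' : J' ⟶ Coh.structureModule X), (∀ V, Function.Injective (ι'.app V)) ∧
      J'.IsQuasicoherent ∧
      (∀ s : Γ(J', ⊤), (show Γ(X, ⊤) from ι'.app ⊤ s) ∈ Ideal.span (insert f T)) ∧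
      (∀ g ∈ insert f T, ∀ V : X.Opens, ∃ t : Γ(J', V),
        (show Γ(X, V) from ι'.app V t) = resO (le_top : V ≤ ⊤) g) := by
  let φ : J ⊞ Coh.structureModule X ⟶ Coh.structureModule X := biprod.desc ι (mulBy f)
  haveI hqc : (cokernel φ).IsQuasicoherent := isQuasicoherent_cokernel φ
  haveI hqJ' : (kernel (cokernel.π φ)).IsQuasicoherent := isQuasicoherent_kernel (cokernel.π φ)
  let p : J ⊞ Coh.structureModule X ⟶ kernel (cokernel.π φ) :=
    kernel.lift (cokernel.π φ) φ (cokernel.condition φ)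
  have hp : p ≫ kernel.ι (cokernel.π φ) = φ := kernel.lift_ι _ _ _
  have hp_app : ∀ (V : X.Opens) (t : Γ(J ⊞ Coh.structureModule X, V)),
      (kernel.ι (cokernel.π φ)).app V (p.app V t) = φ.app V t := fun V t =>
    congrArg (fun ψ : (J ⊞ Coh.structureModule X ⟶ Coh.structureModule X) => ψ.app V t) hp
  have hφ_app : ∀ (V : X.Opens) (t : Γ(J ⊞ Coh.structureModule X, V)),
      φ.app V t = ι.app V ((biprod.fst : J ⊞ Coh.structureModule X ⟶ J).app V t) +
        (mulBy f).app V ((biprod.snd : J ⊞ Coh.structureModule X ⟶ Coh.structureModule X).app V t) :=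
    fun V t => biprod_desc_app ι (mulBy f) V t
  haveI hepi : Epi p := inferInstanceAs (Epi (Abelian.factorThruImage φ))
  haveI hqK : (kernel p).IsQuasicoherent := isQuasicoherent_kernel p
  -- the kernel of `p` embeds into `O_X` by the second projection
  have hKinj : ∀ V, Function.Injective ((kernel.ι p ≫ (biprod.snd : J ⊞ Coh.structureModule X ⟶ _)).app V) := by
    intro V
    rw [injective_iff_map_eq_zero]
    intro k hk
    have hk' : (biprod.snd : J ⊞ Coh.structureModule X ⟶ _).app V ((kernel.ι p).app V k) = 0 := hk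
    have h1 : p.app V ((kernel.ι p).app V k) = 0 := app_kernel_ι_app p V k
    have h2 : φ.app V ((kernel.ι p).app V k) = 0 := by
      rw [← hp_app, h1, map_zero]
    rw [hφ_app, hk', map_zero, add_zero] at h2
    have h3 : (biprod.fst : J ⊞ Coh.structureModule X ⟶ J).app V ((kernel.ι p).app V k) = 0 := by
      apply hinj V
      rw [h2, map_zero]
    have h4 := biprod_total_app J (Coh.structureModule X) V ((kernel.ι p).app V k)
    rw [h3, hk', map_zero, map_zero, add_zero] at h4
    apply kernel_ι_app_injective p V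
    rw [h4, map_zero]
  let S : ShortComplex X.Modules := ShortComplex.mk (kernel.ι p) p (kernel.condition p)
  have hS : S.ShortExact :=
    { exact := ShortComplex.exact_of_f_is_kernel _ (kernelIsKernel p)
      mono_f := mono_of_injective _ (kernel_ι_app_injective p)
      epi_g := hepi }
  have hsurj : Function.Surjective (p.app ⊤) :=
    hserre S 2 (biprodToFree J ι) hS
      (haveI : Mono ι := mono_of_injective ι hinj; mono_biprodToFree J ι)
      (inferInstanceAs ((J ⊞ Coh.structureModule X).IsQuasicoherent)) hqJ'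
  refine ⟨kernel (cokernel.π φ), kernel.ι (cokernel.π φ), kernel_ι_app_injective _, hqJ', ?_, ?_⟩
  · intro s
    obtain ⟨t, rfl⟩ := hsurj s
    rw [hp_app, hφ_app]
    change (show Γ(X, ⊤) from ι.app ⊤ _) + (show Γ(X, ⊤) from (mulBy f).app ⊤ _) ∈ _
    refine Ideal.add_mem _ (Ideal.span_mono (Set.subset_insert f T) (hspan _)) ?_
    have := mulBy_app f ⊤ (show Γ(X, ⊤) from
      (biprod.snd : J ⊞ Coh.structureModule X ⟶ Coh.structureModule X).app ⊤ t)
    rw [this]
    refine Ideal.mul_mem_left _ _ (Ideal.subset_span ?_)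
    left
    unfold resO
    have : (homOfLE (le_top : (⊤ : X.Opens) ≤ ⊤)).op = 𝟙 (op ⊤) := rfl
    rw [this, X.presheaf.map_id]
    rfl
  · intro g hg V
    rcases hg with rfl | hg
    · refine ⟨p.app V ((biprod.inr : Coh.structureModule X ⟶ J ⊞ Coh.structureModule X).app V
        (show Γ(Coh.structureModule X, V) from (1 : Γ(X, V)))), ?_⟩
      rw [hp_app]
      have h1 : φ.app V ((biprod.inr : Coh.structureModule X ⟶ J ⊞ Coh.structureModule X).app V
          (show Γ(Coh.structureModule X, V) from (1 : Γ(X, V)))) =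
          (mulBy g).app V (show Γ(Coh.structureModule X, V) from (1 : Γ(X, V))) :=
        congrArg (fun ψ : (Coh.structureModule X ⟶ Coh.structureModule X) =>
          ψ.app V (show Γ(Coh.structureModule X, V) from (1 : Γ(X, V)))) (biprod.inr_desc ι (mulBy g))
      rw [h1]
      have := mulBy_app g V (1 : Γ(X, V))
      rw [one_mul] at this
      exact this
    · obtain ⟨t₀, ht₀⟩ := hmem g hg V
      refine ⟨p.app V ((biprod.inl : J ⟶ J ⊞ Coh.structureModule X).app V t₀), ?_⟩
      rw [hp_app]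
      have h1 : φ.app V ((biprod.inl : J ⟶ J ⊞ Coh.structureModule X).app V t₀) = ι.app V t₀ :=
        congrArg (fun ψ : (J ⟶ Coh.structureModule X) => ψ.app V t₀) (biprod.inl_desc ι (mulBy f))
      rw [h1]
      exact ht₀

open Groth.Agent.Lib.Helper17.CohKer in
theorem exists_ideal_of_finset'' (hserre : SurjHyp₂ X) (s : Finset Γ(X, ⊤)) :
    ∃ (J : X.Modules) (ι : J ⟶ Coh.structureModule X), (∀ V, Function.Injective (ι.app V)) ∧
      J.IsQuasicoherent ∧
      (∀ t : Γ(J, ⊤), (show Γ(X, ⊤) from ι.app ⊤ t) ∈ Ideal.span (s : Set Γ(X, ⊤))) ∧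
      (∀ g ∈ s, ∀ V : X.Opens, ∃ t : Γ(J, V),
        (show Γ(X, V) from ι.app V t) = resO (le_top : V ≤ ⊤) g) := by
  classical
  induction s using Finset.induction_on with
  | empty =>
    refine ⟨kernel (𝟙 (Coh.structureModule X)), kernel.ι _, kernel_ι_app_injective _,
      isQuasicoherent_kernel _, fun t => ?_, fun g hg => absurd hg (Finset.notMem_empty g)⟩
    have h := app_kernel_ι_app (𝟙 (Coh.structureModule X)) ⊤ t
    have h' : (kernel.ι (𝟙 (Coh.structureModule X))).app ⊤ t = 0 := h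
    rw [h']
    exact Ideal.zero_mem _
  | insert f s hfs ih =>
    obtain ⟨J, ι, hinj, hq, hspan, hmem⟩ := ih
    haveI := hq
    obtain ⟨J', ι', hinj', hq', hspan', hmem'⟩ := ideal_step'' hserre f (s : Set Γ(X, ⊤)) J ι hinj hspan
      (fun g hg => hmem g hg)
    refine ⟨J', ι', hinj', hq', fun t => ?_, fun g hg => ?_⟩
    · rw [Finset.coe_insert]
      exact hspan' t
    · exact hmem' g (by rw [Finset.mem_insert] at hg; exact hg)

/-- **Serre's criterion for affineness.** -/
theorem isAffine_of_surjHyp₂ [CompactSpace X] (hserre : SurjHyp₂ X) : IsAffine X := by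
  classical
  refine isAffine_of_isAffineOpen_basicOpen {f : Γ(X, ⊤) | IsAffineOpen (X.basicOpen f)} ?_
    (fun f hf => hf)
  -- a finite subfamily covers
  have hcov : ∀ y : X, ∃ f : Γ(X, ⊤), IsAffineOpen (X.basicOpen f) ∧ y ∈ X.basicOpen f :=
    exists_affine_basicOpen_mem'' hserre
  choose F hFaff hFmem using hcov
  obtain ⟨t, ht⟩ := isCompact_univ.elim_finite_subcover (fun y : X => (X.basicOpen (F y) : Set X))
    (fun y => (X.basicOpen (F y)).isOpen) (fun y _ => Set.mem_iUnion.2 ⟨y, hFmem y⟩)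
  let s : Finset Γ(X, ⊤) := t.image F
  obtain ⟨J, ι, hinj, hq, hspan, hmem⟩ := exists_ideal_of_finset'' hserre s
  -- `ι` is an epimorphism
  haveI hepi : Epi ι := by
    refine epi_of_locally_in_range ι ?_
    intro U r pt hpt
    obtain ⟨y, hyt, hy⟩ := Set.mem_iUnion₂.1 (ht (Set.mem_univ pt))
    let V : X.Opens := U ⊓ X.basicOpen (F y)
    have hVU : V ≤ U := inf_le_left
    obtain ⟨t₀, ht₀⟩ := hmem (F y) (Finset.mem_image_of_mem F hyt) V
    have hunit : IsUnit (resO (le_top : V ≤ ⊤) (F y)) := by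
      have h1 : V ≤ X.basicOpen (F y) := inf_le_right
      have h2 : resO (le_top : V ≤ ⊤) (F y) = resO h1 (resO (X.basicOpen_le (F y)) (F y)) :=
        (resO_resO _ _ _).symm
      rw [h2]
      exact (RingedSpace.isUnit_res_basicOpen _ (F y)).map _
    obtain ⟨u, hu⟩ := hunit
    refine ⟨V, hVU, ⟨hpt, hy⟩, ((resO hVU (show Γ(X, U) from r)) * (↑u⁻¹ : Γ(X, V))) • t₀, ?_⟩
    rw [Scheme.Modules.Hom.app_smul]
    change (resO hVU (show Γ(X, U) from r) * (↑u⁻¹ : Γ(X, V))) * (show Γ(X, V) from ι.app V t₀) = _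
    rw [ht₀, ← hu, mul_assoc, Units.inv_mul, mul_one]
    rfl
  haveI hmono : Mono ι := mono_of_injective ι hinj
  haveI hiso : IsIso ι := isIso_of_mono_of_epi ι
  have hbij : Function.Bijective (ι.app ⊤) :=
    (ConcreteCategory.isIso_iff_bijective _).1 (Scheme.Modules.Hom.isIso_iff_isIso_app.1 hiso ⊤)
  obtain ⟨t₁, ht₁⟩ := hbij.2 (show Γ(Coh.structureModule X, ⊤) from (1 : Γ(X, ⊤)))
  rw [Ideal.eq_top_iff_one]
  have h1 := hspan t₁
  rw [ht₁] at h1
  refine Ideal.span_mono ?_ h1
  intro g hg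
  obtain ⟨y, -, rfl⟩ := Finset.mem_image.1 hg
  exact hFaff y

end Groth.Agent.Lib.Helper17.Serre
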