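import Groth.Agent.Lib.Helper5.RegSmooth
import Groth.Agent.Lib.helper19.RegularLocal
import Groth.Agent.Lib.Helper1.FibGeom5
import Groth.Agent.Lib.Helper1.Inter17
import Groth.Agent.Lib.helper19.ArSec1
import Groth.Agent.Lib.Helper1.Inter11
import Groth.Agent.Lib.Helper1.VertDiv14
import Groth.Agent.Lib.Helper17.ExcIff
import Groth.Agent.Lib.Helper28.IdealDual
import Groth.Agent.Lib.Helper8.InvInverse
import Groth.Agent.Lib.Helper8.PtSupp
import Groth.Agent.Lib.Helper4.ProperFinal
import Mathlib
set_option backward.isDefEq.respectTransparency.types false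
set_option autoImplicit false
set_option linter.style.haveILetI false
set_option linter.unusedSectionVars false

universe u
open CategoryTheory CategoryTheory.Limits AlgebraicGeometry Opposite TopologicalSpace TensorProduct

noncomputable section
namespace Groth.Agent.Lib.Helper17.SmMin

section Alg

variable (R A : Type u) [CommRing R] [IsDomain R] [IsDiscreteValuationRing R]
  [CommRing A] [Algebra R A] [Algebra.Smooth R A]

/-- the closed fibre of a smooth algebra over a DVR is a regular ring -/
theorem isRegularRing_quot :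
    IsRegularRing (A ⧸ (IsLocalRing.maximalIdeal R).map (algebraMap R A)) := by
  set m := IsLocalRing.maximalIdeal R
  letI : Field (R ⧸ m) := Ideal.Quotient.field m
  haveI : Algebra.Smooth (R ⧸ m) ((R ⧸ m) ⊗[R] A) := inferInstance
  haveI : Algebra.Smooth (R ⧸ m) (A ⧸ m.map (algebraMap R A)) :=
    Algebra.Smooth.of_equiv (Algebra.TensorProduct.quotIdealMapEquivQuotTensor A m).symm
  exact Groth.Agent.Lib.Helper5.RegSmooth.isRegularRing_of_smooth (R ⧸ m) _

/-- in the localization of a smooth algebra over a DVR at a prime containing the uniformizer,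
the uniformizer generates a prime ideal -/
theorem span_isPrime (S : Type u) [CommRing S] [Algebra A S] (P : Ideal A) [P.IsPrime]
    [IsLocalization.AtPrime S P] (π : R) (hπ : Irreducible π) (hP : algebraMap R A π ∈ P) :
    (Ideal.span {algebraMap A S (algebraMap R A π)}).IsPrime := by
  set m := IsLocalRing.maximalIdeal R with hm
  set I := m.map (algebraMap R A) with hI
  have hIspan : I = Ideal.span {algebraMap R A π} := by
    rw [hI, hm, hπ.maximalIdeal_eq, Ideal.map_span, Set.image_singleton]
  have hIP : I ≤ P := by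
    rw [hIspan, Ideal.span_le, Set.singleton_subset_iff]
    exact hP
  haveI := isRegularRing_quot R A
  set B := A ⧸ I
  set Pb : Ideal B := P.map (Ideal.Quotient.mk I) with hPb
  haveI hPbprime : Pb.IsPrime :=
    Ideal.map_isPrime_of_surjective Ideal.Quotient.mk_surjective (by rwa [Ideal.mk_ker])
  have hcomap : Pb.comap (Ideal.Quotient.mk I) = P := by
    rw [hPb, Ideal.comap_map_of_surjective _ Ideal.Quotient.mk_surjective, ← RingHom.ker_eq_comap_bot,
      Ideal.mk_ker]
    exact sup_eq_left.mpr hIP
  haveI : IsDomain (Localization.AtPrime Pb) :=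
    Groth.Agent.Lib.helper19.isDomain_of_isRegularLocalRing _
  let φ : A →+* Localization.AtPrime Pb :=
    (algebraMap B (Localization.AtPrime Pb)).comp (Ideal.Quotient.mk I)
  have hφ : ∀ s : P.primeCompl, IsUnit (φ s) := by
    intro s
    apply IsLocalization.map_units (Localization.AtPrime Pb) (⟨Ideal.Quotient.mk I s, ?_⟩ : Pb.primeCompl)
    intro hs
    have : (s : A) ∈ Pb.comap (Ideal.Quotient.mk I) := hs
    rw [hcomap] at this
    exact s.2 this
  let ψ : S →+* Localization.AtPrime Pb := IsLocalization.lift hφ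
  have hker : RingHom.ker ψ = Ideal.span {algebraMap A S (algebraMap R A π)} := by
    apply le_antisymm
    · intro z hz
      obtain ⟨a, s, rfl⟩ := IsLocalization.exists_mk'_eq P.primeCompl z
      rw [RingHom.mem_ker, IsLocalization.lift_mk'_spec] at hz
      simp only [mul_zero] at hz
      have hz' : algebraMap B (Localization.AtPrime Pb) (Ideal.Quotient.mk I a) = 0 := hz
      rw [IsLocalization.map_eq_zero_iff Pb.primeCompl] at hz'
      obtain ⟨⟨t, ht⟩, htz⟩ := hz'
      obtain ⟨t', rfl⟩ := Ideal.Quotient.mk_surjective t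
      have ht' : t' ∉ P := by
        intro h
        apply ht
        exact Ideal.mem_map_of_mem _ h
      have h1 : t' * a ∈ I := by
        rw [← Ideal.Quotient.eq_zero_iff_mem, map_mul]
        exact htz
      rw [hIspan, Ideal.mem_span_singleton] at h1
      obtain ⟨c, hc⟩ := h1
      rw [IsLocalization.mk'_mem_iff]
      have hu : IsUnit (algebraMap A S t') :=
        IsLocalization.map_units S (⟨t', ht'⟩ : P.primeCompl)
      have h2 : algebraMap A S t' * algebraMap A S a ∈
          Ideal.span {algebraMap A S (algebraMap R A π)} := by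
        rw [← map_mul, hc, map_mul]
        exact Ideal.mul_mem_right _ _ (Ideal.mem_span_singleton_self _)
      obtain ⟨u, hu'⟩ := hu
      have h3 := Ideal.mul_mem_left _ (↑u⁻¹ : S) h2
      rwa [← mul_assoc, ← hu', Units.inv_mul, one_mul] at h3
    · rw [Ideal.span_le, Set.singleton_subset_iff]
      change ψ _ = 0
      rw [IsLocalization.lift_eq]
      change algebraMap B _ (Ideal.Quotient.mk I (algebraMap R A π)) = 0
      rw [Ideal.Quotient.eq_zero_iff_mem.mpr, map_zero]
      rw [hIspan]
      exact Ideal.mem_span_singleton_self _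
  rw [← hker]
  exact RingHom.ker_isPrime ψ

end Alg
section Geom

open Groth.Agent.Lib.Helper1.FibGeom Groth.Agent.Lib.Helper13.StalkSpecLoc

variable (R : Type u) [CommRing R] [IsDomain R] [IsDiscreteValuationRing R]
  (X : Over (Spec (CommRingCat.of R)))

theorem secHom_smooth [Smooth X.hom] (V : X.left.affineOpens) : (secHom R X V.1).Smooth := by
  have e : V.1 ≤ X.hom ⁻¹ᵁ (⊤ : (Spec (CommRingCat.of R)).Opens) := fun _ _ => trivial
  have h1 : RingHom.Smooth (X.hom.appLE ⊤ V.1 e).hom :=
    Smooth.smooth_appLE X.hom (isAffineOpen_top _) V.2 e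
  have h2 : RingHom.Smooth (Scheme.ΓSpecIso (CommRingCat.of R)).inv.hom :=
    RingHom.Smooth.of_bijective ((ConcreteCategory.isIso_iff_bijective _).1 inferInstance)
  exact h2.comp h1

theorem stalkHom_mem_maximalIdeal (x : X.left) (hx : x ∈ Models.specialFibreSet R X) (π : R)
    (hπ : π ∈ IsLocalRing.maximalIdeal R) :
    Models.stalkHom R X x π ∈ IsLocalRing.maximalIdeal (X.left.presheaf.stalk x) := by
  have h := (Groth.Agent.Lib.Helper19.ArSec1.mem_specialFibre_iff R X x
    (IsLocalRing.closedPoint (X.left.presheaf.stalk x))).mp (by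
      rw [Scheme.fromSpecStalk_closedPoint]; exact hx)
  exact h (Ideal.mem_map_of_mem _ hπ)

/-- on a smooth `R`-scheme, the uniformizer generates a prime ideal in the local ring of every point of
the closed fibre -/
theorem span_stalk_isPrime [Smooth X.hom] (x : X.left) (hx : x ∈ Models.specialFibreSet R X) {π : R}
    (hπ : Irreducible π) : (Ideal.span {Models.stalkHom R X x π}).IsPrime := by
  obtain ⟨_, ⟨(V : X.left.Opens), hV, rfl⟩, hxV, -⟩ :=
    X.left.isBasis_affineOpens.exists_subset_of_mem_open (Set.mem_univ x) isOpen_univ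
  letI := (secHom R X V).toAlgebra
  haveI : Algebra.Smooth R Γ(X.left, V) := secHom_smooth R X ⟨V, hV⟩
  letI ax := X.left.presheaf.algebra_section_stalk (⟨x, hxV⟩ : V)
  haveI := hV.isLocalization_stalk ⟨x, hxV⟩
  have hmem : algebraMap R Γ(X.left, V) π ∈ (hV.primeIdealOf ⟨x, hxV⟩).asIdeal := by
    rw [← IsLocalization.AtPrime.to_map_mem_maximal_iff (X.left.presheaf.stalk x)
      (hV.primeIdealOf ⟨x, hxV⟩).asIdeal]
    have h1 : algebraMap Γ(X.left, V) (X.left.presheaf.stalk x) (algebraMap R Γ(X.left, V) π) =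
        Models.stalkHom R X x π := germ_secHom R X V x hxV π
    rw [h1]
    exact stalkHom_mem_maximalIdeal R X x hx π hπ.not_isUnit
  have h := span_isPrime R Γ(X.left, V) (X.left.presheaf.stalk x) (hV.primeIdealOf ⟨x, hxV⟩).asIdeal
    π hπ hmem
  have h1 : algebraMap Γ(X.left, V) (X.left.presheaf.stalk x) (algebraMap R Γ(X.left, V) π) =
      Models.stalkHom R X x π := germ_secHom R X V x hxV π
  rwa [h1] at h

/-- the uniformizer lies in the stalk ideal of every vertical prime divisor -/
theorem span_le_compPrime (Γ : ArSurf.VertComp R X) (y : X.left) {π : R} (hπ : Irreducible π) :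
    Ideal.span {Models.stalkHom R X y π} ≤ compPrime R X y Γ := by
  by_cases h : Models.genPtOf R X Γ ⤳ y
  · rw [compPrime_of_specializes R X y Γ h]
    have hI : Ideal.map (Models.stalkHom R X y) (IsLocalRing.maximalIdeal R) =
        Ideal.span {Models.stalkHom R X y π} := map_stalkHom_maximalIdeal R X y hπ
    have hF : ∀ a : Spec (X.left.presheaf.stalk y),
        (X.left.fromSpecStalk y) a ∈ Models.specialFibreSet R X ↔
          Ideal.span {Models.stalkHom R X y π} ≤ a.asIdeal := by
      intro a
      rw [← hI]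
      exact Groth.Agent.Lib.Helper19.ArSec1.mem_specialFibre_iff R X y a
    refine (mem_iff_le_primeOf y (Models.specialFibreSet R X) _ hF h).mp ?_
    exact Groth.Agent.Lib.Helper1.Inter.range_subset_specialFibreSet' R X Γ
      ⟨genericPoint Γ.curve.left, rfl⟩
  · rw [compPrime_of_not_specializes R X y Γ h]
    exact le_top

theorem secHom_mem_ker (Γ : ArSurf.VertComp R X) (U : X.left.affineOpens) {π : R} (hπ : Irreducible π) :
    secHom R X U.1 π ∈ Γ.ι.ker.ideal U := by
  have h : Ideal.span {secHom R X U.1 π} ≤ Γ.ι.ker.ideal U := by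
    rw [U.2.ideal_le_iff]
    intro y hy
    rw [map_ker_ideal_germ R X Γ U y hy, Ideal.map_span, Set.image_singleton, germ_secHom]
    exact span_le_compPrime R X Γ y hπ
  exact h (Ideal.mem_span_singleton_self _)

/-- near a point of an effective Cartier vertical prime divisor on a smooth model, the closed fibre
coincides with the divisor -/
theorem exists_open_inter_subset [Smooth X.hom]
    (hreg : ∀ x : X.left, IsRegularLocalRing (X.left.presheaf.stalk x)) (hflat : Flat X.hom)
    (Γ : ArSurf.VertComp R X) (hcart : BlowUp.IsEffCartierIdeal Γ.ι.ker) (x : X.left)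
    (hx : x ∈ Set.range (Γ.ι.base : Γ.curve.left → X.left)) :
    ∃ W : X.left.Opens, x ∈ W ∧
      (W : Set X.left) ∩ Models.specialFibreSet R X ⊆ Set.range (Γ.ι.base : Γ.curve.left → X.left) := by
  obtain ⟨U, hxU, f, hf, hIU⟩ := hcart x
  obtain ⟨π, hπ⟩ := IsDiscreteValuationRing.exists_irreducible R
  haveI := hreg x
  haveI : IsDomain (X.left.presheaf.stalk x) :=
    Groth.Agent.Lib.helper19.isDomain_of_isRegularLocalRing _
  have hxF : x ∈ Models.specialFibreSet R X :=
    Groth.Agent.Lib.Helper1.Inter.range_subset_specialFibreSet' R X Γ hx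
  have hspec : Models.genPtOf R X Γ ⤳ x := by
    rw [range_eq_closure_genPtOf] at hx
    exact specializes_iff_mem_closure.mpr hx
  set ϖ := Models.stalkHom R X x π with hϖdef
  have hϖ0 : ϖ ≠ 0 := stalkHom_ne_zero R X hflat x hπ.ne_zero
  have hQ : (Ideal.span {ϖ}).IsPrime := span_stalk_isPrime R X x hxF hπ
  set fx := (X.left.presheaf.germ U.1 x hxU).hom f with hfx
  have hP : compPrime R X x Γ = Ideal.span {fx} := by
    rw [← map_ker_ideal_germ R X Γ U x hxU, hIU, Ideal.map_span, Set.image_singleton]
  have hPprime : (Ideal.span {fx}).IsPrime := by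
    rw [← hP, compPrime_of_specializes R X x Γ hspec]
    infer_instance
  -- `ϖ ∈ (f)` on `U`
  have hmem := secHom_mem_ker R X Γ U hπ
  rw [hIU, Ideal.mem_span_singleton'] at hmem
  obtain ⟨b, hb⟩ := hmem
  set bx := (X.left.presheaf.germ U.1 x hxU).hom b with hbx
  have hbf : bx * fx = ϖ := by
    rw [hbx, hfx, ← map_mul, hb, germ_secHom]
  -- `bx` is a unit
  have hbu : IsUnit bx := by
    have h1 : bx * fx ∈ Ideal.span {ϖ} := by rw [hbf]; exact Ideal.mem_span_singleton_self _
    rcases hQ.mem_or_mem h1 with h2 | h2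
    · exfalso
      rw [Ideal.mem_span_singleton'] at h2
      obtain ⟨d, hd⟩ := h2
      have h3 : (d * fx) * ϖ = 1 * ϖ := by
        rw [one_mul]
        calc d * fx * ϖ = (d * ϖ) * fx := by ring
          _ = ϖ := by rw [hd, hbf]
      have h4 : d * fx = 1 := mul_right_cancel₀ hϖ0 h3
      have h5 : (1 : X.left.presheaf.stalk x) ∈ Ideal.span {fx} := by
        rw [← h4]; exact Ideal.mul_mem_left _ _ (Ideal.mem_span_singleton_self _)
      exact hPprime.ne_top ((Ideal.eq_top_iff_one _).mpr h5)
    · rw [Ideal.mem_span_singleton'] at h2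
      obtain ⟨d, hd⟩ := h2
      have h3 : (bx * d) * ϖ = 1 * ϖ := by
        rw [one_mul]
        calc bx * d * ϖ = bx * (d * ϖ) := by ring
          _ = ϖ := by rw [hd, hbf]
      have h4 : bx * d = 1 := mul_right_cancel₀ hϖ0 h3
      exact IsUnit.of_mul_eq_one _ h4
  refine ⟨X.left.basicOpen b, ?_, ?_⟩
  · rw [Scheme.mem_basicOpen X.left b x hxU]
    exact hbu
  · rintro y ⟨hyW, hyF⟩
    have hyU : y ∈ U.1 := X.left.basicOpen_le b hyW
    have hbyu : IsUnit ((X.left.presheaf.germ U.1 y hyU).hom b) := by
      rw [← Scheme.mem_basicOpen X.left b y hyU]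
      exact hyW
    have hϖy := stalkHom_mem_maximalIdeal R X y hyF π hπ.not_isUnit
    have hby : (X.left.presheaf.germ U.1 y hyU).hom b * (X.left.presheaf.germ U.1 y hyU).hom f =
        Models.stalkHom R X y π := by
      rw [← map_mul, hb, germ_secHom]
    rw [← hby] at hϖy
    have hfy : (X.left.presheaf.germ U.1 y hyU).hom f ∈
        IsLocalRing.maximalIdeal (X.left.presheaf.stalk y) := by
      rcases (IsLocalRing.maximalIdeal.isMaximal _).isPrime.mem_or_mem hϖy with h | h
      · exact absurd hbyu ((IsLocalRing.mem_maximalIdeal _).mp h)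
      · exact h
    by_contra hy
    have hns : ¬ Models.genPtOf R X Γ ⤳ y := by
      intro h
      apply hy
      rw [range_eq_closure_genPtOf]
      exact specializes_iff_mem_closure.mp h
    have h1 := map_ker_ideal_germ R X Γ U y hyU
    rw [compPrime_of_not_specializes R X y Γ hns, hIU, Ideal.map_span, Set.image_singleton,
      Ideal.span_singleton_eq_top] at h1
    exact ((IsLocalRing.mem_maximalIdeal _).mp hfy) h1

/-- on a smooth model with connected closed fibre, an effective Cartier vertical prime divisor is the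
whole closed fibre -/
theorem specialFibreSet_subset_range [Smooth X.hom]
    (hreg : ∀ x : X.left, IsRegularLocalRing (X.left.presheaf.stalk x)) (hflat : Flat X.hom)
    (Γ : ArSurf.VertComp R X) (hcart : BlowUp.IsEffCartierIdeal Γ.ι.ker)
    (hconn : _root_.IsPreconnected (Models.specialFibreSet R X)) :
    Models.specialFibreSet R X ⊆ Set.range (Γ.ι.base : Γ.curve.left → X.left) := by
  classical
  set A := Set.range (Γ.ι.base : Γ.curve.left → X.left) with hA
  have hAc : IsClosed A := Groth.Agent.Lib.Helper1.Inter.isClosed_range R X Γ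
  have hAF : A ⊆ Models.specialFibreSet R X :=
    Groth.Agent.Lib.Helper1.Inter.range_subset_specialFibreSet' R X Γ
  choose W hW1 hW2 using fun x : A => exists_open_inter_subset R X hreg hflat Γ hcart x.1 x.2
  set O : Set X.left := ⋃ x : A, (W x : Set X.left) with hO
  have hOo : IsOpen O := isOpen_iUnion fun x => (W x).2
  have hAO : A ⊆ O := fun x hx => Set.mem_iUnion.mpr ⟨⟨x, hx⟩, hW1 ⟨x, hx⟩⟩
  have hOF : O ∩ Models.specialFibreSet R X ⊆ A := by
    rintro y ⟨hyO, hyF⟩
    obtain ⟨x, hx⟩ := Set.mem_iUnion.mp hyO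
    exact hW2 x ⟨hx, hyF⟩
  by_contra hne
  rw [Set.not_subset] at hne
  obtain ⟨z, hzF, hzA⟩ := hne
  have hAne : A.Nonempty := ⟨_, ⟨genericPoint Γ.curve.left, rfl⟩⟩
  obtain ⟨a, haA⟩ := hAne
  obtain ⟨y, hyF, hyO, hyA⟩ := hconn O Aᶜ hOo hAc.isOpen_compl
    (fun w _ => by
      by_cases hw : w ∈ A
      · exact Or.inl (hAO hw)
      · exact Or.inr hw)
    ⟨a, hAF haA, hAO haA⟩ ⟨z, hzF, hzA⟩
  exact hyA (hOF ⟨hyO, hyF⟩)

theorem wdeg_pos [IsProper X.hom] (Γ : ArSurf.VertComp R X) : 0 < Models.wdeg R X Γ := by
  unfold Models.wdeg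
  haveI := Groth.Agent.Lib.Helper17.ExcIff.isProper_curve' R X Γ
  have hcO : Coh.IsCoh (Coh.structureModule Γ.curve.left) :=
    Groth.Agent.Lib.Helper6.DevRed.isCoh_structureModule
  haveI := Groth.Agent.Lib.Helper4.ProperFinal.finite_HH (IsLocalRing.ResidueField R) Γ.curve.left _ hcO 0
  haveI : Nontrivial (Coh.HH Γ.curve.left (Coh.structureModule Γ.curve.left) 0) := by
    haveI : Nonempty (⊤ : Γ.curve.left.Opens) := ⟨⟨genericPoint Γ.curve.left, trivial⟩⟩
    haveI h0 : Nontrivial Γ(Γ.curve.left, ⊤) := inferInstance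
    haveI : Nontrivial ↑Γ(Coh.structureModule Γ.curve.left, ⊤) := h0
    exact (Groth.Agent.Lib.Helper8.PtSupp.e0 (Coh.structureModule Γ.curve.left)).toEquiv.nontrivial
  exact Module.finrank_pos

/-- **a smooth proper model with connected closed fibre has no exceptional curve** -/
theorem not_isExcCurve [Smooth X.hom] [IsProper X.hom]
    (hreg : ∀ x : X.left, IsRegularLocalRing (X.left.presheaf.stalk x)) (hflat : Flat X.hom)
    (hft : LocallyOfFiniteType X.hom)
    (hconn : _root_.IsPreconnected (Models.specialFibreSet R X))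
    (Γ : ArSurf.VertComp R X) : ¬ Models.IsExcCurve Γ.ι := by
  intro hexc
  have hcart := hexc.1
  have hsub := specialFibreSet_subset_range R X hreg hflat Γ hcart hconn
  have hlist : Models.IsComponentList R X (fun _ : Fin 1 => Γ) := by
    apply Groth.Agent.Lib.Helper1.Inter.isComponentList_of_cover
    · intro i j _
      exact Subsingleton.elim i j
    · intro x hx
      exact ⟨0, hsub hx⟩
  have hinv := Groth.Agent.Lib.Helper28.IdealDual.isInvertible_idealMod _ hcart
  obtain ⟨L, -, hL⟩ := Groth.Agent.Lib.Helper8.InvInverse.exists_isInverseOf hinv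
  have hsum := Groth.Agent.Lib.Helper1.Inter.sum_mult_mul_inter_eq_zero R X (fun _ : Fin 1 => Γ) hlist
    hflat hft hreg (fun _ => L) (fun _ => hL) 0
  rw [Fin.sum_univ_one] at hsum
  have hm := Groth.Agent.Lib.Helper1.VertDiv.mult_pos R X (fun _ : Fin 1 => Γ) hlist hflat hreg 0
  have hint : ArSurf.inter R X L Γ = 0 := by
    rcases mul_eq_zero.mp hsum with h | h
    · exact absurd (by exact_mod_cast h) hm.ne'
    · exact h
  have hfw := (Groth.Agent.Lib.Helper17.ExcIff.forward R X Γ L hL hexc).2
  have hw := wdeg_pos R X Γ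
  rw [hint] at hfw
  omega

end Geom

end Groth.Agent.Lib.Helper17.SmMin
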