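import Groth.Agent.Lib.Helper17.SmMin
import Groth.Agent.S4991
import Mathlib
set_option backward.isDefEq.respectTransparency.types false
set_option autoImplicit false
set_option linter.style.haveILetI false
set_option linter.unusedSectionVars false

/-!
# A smooth proper model of a curve over a DVR is a minimal model
-/

universe u
open CategoryTheory CategoryTheory.Limits AlgebraicGeometry

namespace Groth.Agent.Lib.Helper17.SmMin

theorem regular_spec (R : Type u) [CommRing R] [IsDomain R] [IsDiscreteValuationRing R]
    (y : Spec (CommRingCat.of R)) : IsRegularLocalRing ((Spec (CommRingCat.of R)).presheaf.stalk y) := by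
  haveI : IsRegularRing R := inferInstance
  haveI : IsRegularLocalRing (Localization.AtPrime y.asIdeal) := inferInstance
  have e : Localization.AtPrime y.asIdeal ≃+* ((Spec (CommRingCat.of R)).presheaf.stalk y) :=
    (StructureSheaf.stalkIso R y).toRingEquiv
  exact IsRegularLocalRing.of_ringEquiv e

/-- a scheme smooth over a DVR is regular -/
theorem regular_of_smooth (R : Type u) [CommRing R] [IsDomain R] [IsDiscreteValuationRing R]
    {X : Scheme.{u}} (p : X ⟶ Spec (CommRingCat.of R)) [Smooth p] (x : X) :
    IsRegularLocalRing (X.presheaf.stalk x) := by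
  haveI : IsLocallyNoetherian (Spec (CommRingCat.of R)) := inferInstance
  refine (Groth.Agent.S4991.result p x ⟨⊤, trivial, ?_⟩).2 (regular_spec R _)
  infer_instance

theorem isMinimalModel (R : Type u) [CommRing R] [IsDomain R] [IsDiscreteValuationRing R]
    (C X : Scheme.{u}) (f : C ⟶ Spec (CommRingCat.of (FractionRing R))) (p : X ⟶ Spec (CommRingCat.of R))
    (hH0 : IsIso f.appTop)
    (hX : Models.IsModel R X p C f) [IsProper p] [Smooth p] :
    Models.IsMinimalModel R X p C f := by
  have hX' := hX
  obtain ⟨hflat, hft, hqc, g, hg⟩ := hX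
  haveI : Flat p := hflat
  have hreg : ∀ x : X, IsRegularLocalRing (X.presheaf.stalk x) := regular_of_smooth R p
  refine ⟨⟨hX', inferInstance, hreg⟩, ?_⟩
  intro Γ
  haveI : IsProper (Over.mk p).hom := ‹IsProper p›
  haveI : Smooth (Over.mk p).hom := ‹Smooth p›
  have hconn := Groth.Agent.Lib.Helper1.Inter.isPreconnected_specialFibreSet R f p g hg hH0
  exact not_isExcCurve R (Over.mk p) hreg hflat hft hconn Γ

end Groth.Agent.Lib.Helper17.SmMin
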