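import Mathlib

/-!
# Pointwise descent of formal smoothness along a base change that is flat at the point
-/
set_option autoImplicit false
set_option backward.isDefEq.respectTransparency.types false
universe u
open TensorProduct IsLocalRing

namespace Groth.Agent.Lib.Helper17.SmoothBaseChange

section L1
attribute [local instance] Algebra.TensorProduct.rightAlgebra

variable {R T A : Type u} [CommRing R] [CommRing T] [CommRing A] [Algebra R T] [Algebra R A]

/-- B-linear form of flat base change for `H1Cotangent`. -/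
theorem bijective_liftBaseChange_H1Cotangent_map [Module.Flat R T] :
    Function.Bijective ((Algebra.H1Cotangent.map R T A (T ⊗[R] A)).liftBaseChange (T ⊗[R] A)) := by
  set B := T ⊗[R] A
  set M := Algebra.H1Cotangent R A
  let c : B ⊗[A] M ≃ₗ[T] T ⊗[R] M := Algebra.IsPushout.cancelBaseChange R T A B M
  let τ : T ⊗[R] M ≃ₗ[T] Algebra.H1Cotangent T B := Algebra.tensorH1CotangentOfFlat R A T
  have key : ∀ z : T ⊗[R] M,
      (Algebra.H1Cotangent.map R T A B).liftBaseChange B (c.symm z) = τ z := by
    intro z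
    induction z with
    | zero => simp
    | add x y hx hy => simp only [map_add, hx, hy]
    | tmul t m =>
      rw [Algebra.IsPushout.cancelBaseChange_symm_tmul, LinearMap.liftBaseChange_tmul,
        Algebra.tensorH1CotangentOfFlat_tmul, algebraMap_smul]
  have : ⇑((Algebra.H1Cotangent.map R T A B).liftBaseChange B) = τ ∘ c := by
    ext z
    obtain ⟨z, rfl⟩ := c.symm.surjective z
    rw [key, Function.comp_apply, LinearEquiv.apply_symm_apply]
  rw [this]
  exact τ.bijective.comp c.bijective


/-- Pointwise descent of formal smoothness along flat base change (literal tensor product). -/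
theorem formallySmooth_localization_of_tensorProduct [Module.Flat R T] [Algebra.EssFiniteType R A]
    (q' : Ideal (T ⊗[R] A)) [q'.IsPrime]
    [Algebra.FormallySmooth T (Localization.AtPrime q')]
    (q : Ideal A) [q.IsPrime] (hq : q = q'.comap (algebraMap A (T ⊗[R] A))) :
    Algebra.FormallySmooth R (Localization.AtPrime q) := by
  set B := T ⊗[R] A with hB
  have : q'.LiesOver q := ⟨hq⟩
  let A₀ := Localization.AtPrime q
  let B₀ := Localization.AtPrime q'
  letI := Localization.AtPrime.algebraOfLiesOver q q'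
  have : Module.Flat A B := by
    have hp : Algebra.IsPushout R A T B := inferInstance
    exact Module.Flat.isBaseChange R A T B hp.out
  have : Module.Flat A₀ B₀ := inferInstance
  have : IsLocalHom (algebraMap A₀ B₀) := by
    rw [RingHom.algebraMap_toAlgebra]
    exact Localization.isLocalHom_localRingHom q q' (algebraMap A B) Ideal.LiesOver.over
  have : Module.FaithfullyFlat A₀ B₀ := Module.FaithfullyFlat.of_flat_of_isLocalHom
  -- general transfer chain for an `A`-module `M`
  have chain : ∀ (M : Type u) [AddCommGroup M] [Module A M],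
      (B₀ ⊗[B] (B ⊗[A] M)) ≃ₗ[B₀] (B₀ ⊗[A₀] (A₀ ⊗[A] M)) := fun M _ _ =>
    (AlgebraTensorModule.cancelBaseChange A B B₀ B₀ M) ≪≫ₗ
      (AlgebraTensorModule.cancelBaseChange A A₀ B₀ B₀ M).symm
  refine ⟨?_, ?_⟩
  · -- Ω projective
    have f1 : B₀ ⊗[B] Ω[B⁄T] ≃ₗ[B₀] Ω[B₀⁄T] :=
      KaehlerDifferential.tensorKaehlerEquivOfFormallyEtale T B B₀
    have f2 : B ⊗[A] Ω[A⁄R] ≃ₗ[B] Ω[B⁄T] := KaehlerDifferential.tensorKaehlerEquiv R T A B
    have f5 : A₀ ⊗[A] Ω[A⁄R] ≃ₗ[A₀] Ω[A₀⁄R] :=
      KaehlerDifferential.tensorKaehlerEquivOfFormallyEtale R A A₀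
    have h1 : Module.Flat B₀ (B₀ ⊗[B] Ω[B⁄T]) := Module.Flat.of_linearEquiv f1
    have h2 : Module.Flat B₀ (B₀ ⊗[B] (B ⊗[A] Ω[A⁄R])) :=
      Module.Flat.of_linearEquiv (AlgebraTensorModule.congr (LinearEquiv.refl B₀ B₀) f2)
    have h3 : Module.Flat B₀ (B₀ ⊗[A₀] (A₀ ⊗[A] Ω[A⁄R])) :=
      Module.Flat.of_linearEquiv (chain Ω[A⁄R]).symm
    have h4 : Module.Flat A₀ (A₀ ⊗[A] Ω[A⁄R]) := Module.Flat.of_flat_tensorProduct A₀ _ B₀
    have h5 : Module.Flat A₀ Ω[A₀⁄R] := Module.Flat.of_linearEquiv f5.symm
    have : Algebra.EssFiniteType A A₀ := .of_isLocalization _ q.primeCompl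
    have : Algebra.EssFiniteType R A₀ := .comp _ A _
    have : Module.Free A₀ Ω[A₀⁄R] := Module.free_of_flat_of_isLocalRing
    infer_instance
  · -- H1Cotangent vanishes
    have e1 : B₀ ⊗[B] Algebra.H1Cotangent T B ≃ₗ[B₀] Algebra.H1Cotangent T B₀ :=
      Algebra.tensorH1CotangentOfIsLocalization T B₀ q'.primeCompl
    have e2 : B ⊗[A] Algebra.H1Cotangent R A ≃ₗ[B] Algebra.H1Cotangent T B :=
      LinearEquiv.ofBijective _ bijective_liftBaseChange_H1Cotangent_map
    have e5 : A₀ ⊗[A] Algebra.H1Cotangent R A ≃ₗ[A₀] Algebra.H1Cotangent R A₀ :=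
      Algebra.tensorH1CotangentOfIsLocalization R A₀ q.primeCompl
    have h1 : Subsingleton (B₀ ⊗[B] Algebra.H1Cotangent T B) := e1.subsingleton
    have h2 : Subsingleton (B₀ ⊗[B] (B ⊗[A] Algebra.H1Cotangent R A)) :=
      (AlgebraTensorModule.congr (LinearEquiv.refl B₀ B₀) e2).subsingleton
    have h3 : Subsingleton (B₀ ⊗[A₀] (A₀ ⊗[A] Algebra.H1Cotangent R A)) :=
      (chain (Algebra.H1Cotangent R A)).symm.subsingleton
    have h4 : Subsingleton (A₀ ⊗[A] Algebra.H1Cotangent R A) :=
      Module.FaithfullyFlat.lTensor_reflects_triviality A₀ B₀ _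
    exact e5.symm.subsingleton

end L1

section L2
attribute [local instance] Algebra.TensorProduct.rightAlgebra
variable {R T A B : Type u} [CommRing R] [CommRing T] [CommRing A] [CommRing B]
  [Algebra R T] [Algebra R A] [Algebra R B] [Algebra A B] [Algebra T B]
  [IsScalarTower R A B] [IsScalarTower R T B]

/-- Pointwise descent of formal smoothness along flat base change (`IsPushout` form). -/
theorem formallySmooth_localization_of_isPushout [Algebra.IsPushout R T A B]
    [Module.Flat R T] [Algebra.EssFiniteType R A]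
    (q' : Ideal B) [q'.IsPrime] [Algebra.FormallySmooth T (Localization.AtPrime q')]
    (q : Ideal A) [q.IsPrime] (hq : q = q'.comap (algebraMap A B)) :
    Algebra.FormallySmooth R (Localization.AtPrime q) := by
  let e : T ⊗[R] A ≃ₐ[T] B := Algebra.IsPushout.equiv R T A B
  let ql : Ideal (T ⊗[R] A) := q'.comap (e : T ⊗[R] A →+* B)
  have : ql.IsPrime := Ideal.comap_isPrime _ _
  have H : Submonoid.map e ql.primeCompl = q'.primeCompl := by
    ext x
    constructor
    · rintro ⟨y, hy, rfl⟩
      exact hy
    · intro hx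
      refine ⟨e.symm x, ?_, e.apply_symm_apply x⟩
      show e.symm x ∉ ql
      intro h
      apply hx
      have : e (e.symm x) ∈ q' := h
      rwa [e.apply_symm_apply] at this
  let E : Localization.AtPrime ql ≃ₐ[T] Localization.AtPrime q' :=
    IsLocalization.algEquivOfAlgEquiv (Localization.AtPrime ql) (Localization.AtPrime q') e H
  have : Algebra.FormallySmooth T (Localization.AtPrime ql) := .of_equiv E.symm
  refine formallySmooth_localization_of_tensorProduct (R := R) (T := T) (A := A) ql q ?_
  rw [hq]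
  ext a
  simp only [Ideal.mem_comap, ql]
  have : e (algebraMap A (T ⊗[R] A) a) = algebraMap A B a := by
    rw [Algebra.TensorProduct.right_algebraMap_apply, Algebra.IsPushout.equiv_tmul, map_one, one_mul]
  rw [← this]
  rfl

end L2

section L3
variable {R S A B : Type u} [CommRing R] [CommRing S] [CommRing A] [CommRing B]
  [Algebra R S] [Algebra R A] [Algebra R B] [Algebra A B] [Algebra S B]
  [IsScalarTower R A B] [IsScalarTower R S B]

/-- Pointwise descent of formal smoothness along a base change which is flat at the point. -/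
theorem formallySmooth_localization_of_isPushout_of_flat_localization [Algebra.IsPushout R S A B]
    [Algebra.EssFiniteType R A]
    (q' : Ideal B) [q'.IsPrime] (P' : Ideal S) [P'.IsPrime] [q'.LiesOver P']
    [Module.Flat R (Localization.AtPrime P')]
    [Algebra.FormallySmooth S (Localization.AtPrime q')]
    (q : Ideal A) [q.IsPrime] (hq : q = q'.comap (algebraMap A B)) :
    Algebra.FormallySmooth R (Localization.AtPrime q) := by
  let T := Localization.AtPrime P'
  let B₁ := Localization (Algebra.algebraMapSubmonoid B P'.primeCompl)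
  let Bq := Localization.AtPrime q'
  let := Localization.AtPrime.algebraOfLiesOver P' q'
  let f : B₁ →ₐ[B] Bq := IsLocalization.liftAlgHom (M := Algebra.algebraMapSubmonoid B P'.primeCompl)
        (f := Algebra.ofId _ _) (by
      rintro ⟨_, x, hx, rfl⟩
      simpa using! IsLocalization.map_units (M := q'.primeCompl) Bq ⟨algebraMap _ _ x,
        by simp_all [q'.over_def P']⟩)
  algebraize [f.toRingHom]
  have : IsScalarTower S B₁ Bq := .to₁₃₄ _ B _ _
  have : IsScalarTower A B₁ Bq := .to₁₃₄ _ B _ _
  have : IsScalarTower T B₁ Bq := .of_algebraMap_eq' <| by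
    apply IsLocalization.ringHom_ext P'.primeCompl
    simp only [RingHom.comp_assoc, ← IsScalarTower.algebraMap_eq]
  have : IsLocalization (Algebra.algebraMapSubmonoid B₁ q'.primeCompl) Bq :=
    .isLocalization_of_submonoid_le _ _ (Algebra.algebraMapSubmonoid B P'.primeCompl) _
    (by rintro _ ⟨x, hx, rfl⟩; simp_all [q'.over_def P'])
  have hpo1 : Algebra.IsPushout S T B B₁ :=
    .symm <| Algebra.isPushout_of_isLocalization P'.primeCompl _ _ _
  have : IsScalarTower R T B₁ := .to₁₃₄ _ S _ _
  have hpo : Algebra.IsPushout R T A B₁ := (Algebra.IsPushout.comp_iff R S A B).mpr hpo1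
  -- the prime of `B₁`
  let q₁ : Ideal B₁ := (maximalIdeal Bq).comap (algebraMap B₁ Bq)
  have hq₁ : q₁.IsPrime := Ideal.comap_isPrime _ _
  have hloc : IsLocalization.AtPrime Bq q₁ := by
    refine IsLocalization.of_le (M := Algebra.algebraMapSubmonoid B₁ q'.primeCompl) _ ?_ ?_
    · rintro _ ⟨x, hx, rfl⟩
      show algebraMap B B₁ x ∉ q₁
      intro hmem
      have h1 : algebraMap B₁ Bq (algebraMap B B₁ x) ∈ maximalIdeal Bq := hmem
      rw [← IsScalarTower.algebraMap_apply] at h1
      exact (IsLocalRing.mem_maximalIdeal _).mp h1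
        (IsLocalization.map_units (M := q'.primeCompl) Bq ⟨x, hx⟩)
    · intro r hr
      by_contra hu
      exact hr ((IsLocalRing.mem_maximalIdeal _).mpr hu)
  have hsm0 : Algebra.FormallySmooth S Bq := inferInstance
  have hsm : Algebra.FormallySmooth T Bq :=
    (Algebra.FormallySmooth.iff_restrictScalars (R := S) (A := T) (B := Bq)).mp hsm0
  have : Algebra.FormallySmooth T (Localization.AtPrime q₁) :=
    .of_equiv ((IsLocalization.algEquiv q₁.primeCompl Bq (Localization.AtPrime q₁)).restrictScalars T)
  refine formallySmooth_localization_of_isPushout (R := R) (T := T) (A := A) (B := B₁) q₁ q ?_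
  rw [hq]
  ext a
  simp only [Ideal.mem_comap, q₁]
  rw [← IsScalarTower.algebraMap_apply A B₁ Bq, IsScalarTower.algebraMap_apply A B Bq]
  have h0 := IsLocalization.AtPrime.comap_maximalIdeal Bq q'
  have h1 : algebraMap B Bq (algebraMap A B a) ∈ maximalIdeal Bq ↔
      algebraMap A B a ∈ (maximalIdeal Bq).comap (algebraMap B Bq) := Iff.rfl
  rw [h1]
  exact (Ideal.ext_iff.mp h0 _).symm

end L3
end Groth.Agent.Lib.Helper17.SmoothBaseChange
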