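import Groth.Agent.Lib.Helper17.UFDVal
import Mathlib

/-!
# Sections of `Spec A` (`A` a domain) inside the function field

`gam W hξ : Γ(Spec A, W) →+* K(Spec A)` for an open `W` containing the generic point; it is injective, compatible with
restrictions and `A`-linear, and on a basic open `D(f)` its image is `A[1/f]`.
-/

set_option autoImplicit false
set_option backward.isDefEq.respectTransparency.types false
universe u
open CategoryTheory AlgebraicGeometry TopologicalSpace Opposite

namespace Groth.Agent.Lib.Helper17.SpecDomGerm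

open Groth.Agent.Lib.Helper17.UFDVal

variable (A : CommRingCat.{u}) [IsDomain A]

noncomputable instance algSec (W : (Spec A).Opens) : Algebra A Γ(Spec A, W) :=
  inferInstanceAs (Algebra A ((Spec.structureSheaf A).obj.obj (op W)))

noncomputable instance locAway (f : A) : IsLocalization.Away f Γ(Spec A, PrimeSpectrum.basicOpen f) :=
  inferInstanceAs (IsLocalization.Away f ((Spec.structureSheaf A).obj.obj (op (PrimeSpectrum.basicOpen f))))

/-- the generic point of `Spec A` -/
noncomputable abbrev xi : Spec A := genericPoint (Spec A)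

theorem xi_mem_basicOpen {f : A} (hf : f ≠ 0) : xi A ∈ (PrimeSpectrum.basicOpen f : (Spec A).Opens) := by
  show genericPoint (Spec A) ∈ (PrimeSpectrum.basicOpen f : (Spec A).Opens)
  rw [genericPoint_eq_bot_of_affine]
  show f ∉ (⊥ : PrimeSpectrum A).asIdeal
  intro h
  exact hf (by simpa using h)

/-- sections over an open containing the generic point, inside the function field -/
noncomputable def gam (W : (Spec A).Opens) (hξ : xi A ∈ W) : Γ(Spec A, W) →+* (Spec A).functionField :=
  ((Spec A).presheaf.germ W (xi A) hξ).hom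

theorem gam_injective (W : (Spec A).Opens) (hξ : xi A ∈ W) : Function.Injective (gam A W hξ) :=
  germ_injective_of_isIntegral (Spec A) (xi A) hξ

theorem gam_res {W W' : (Spec A).Opens} (h : W' ≤ W) (hξ' : xi A ∈ W') (s : Γ(Spec A, W)) :
    gam A W' hξ' ((Spec A).presheaf.map (homOfLE h).op s) = gam A W (h hξ') s :=
  (Spec A).presheaf.germ_res_apply (homOfLE h) (xi A) hξ' s

theorem gam_algebraMap (W : (Spec A).Opens) (hξ : xi A ∈ W) (r : A) :
    gam A W hξ (algebraMap A Γ(Spec A, W) r) = algebraMap A (Spec A).functionField r := by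
  have := StructureSheaf.algebraMap_germ (R := A) W (genericPoint (Spec A)) hξ
  exact congrArg (fun φ => φ.hom r) this

theorem gam_inAway (f : A) (W : (Spec A).Opens) (hW : W = PrimeSpectrum.basicOpen f) (hξ : xi A ∈ W)
    (s : Γ(Spec A, W)) : InAway f (gam A W hξ s) := by
  subst hW
  obtain ⟨⟨a, m⟩, hm⟩ := IsLocalization.surj (Submonoid.powers f) s
  obtain ⟨n, hn⟩ := m.2
  refine ⟨a, n, ?_⟩
  have := congrArg (gam A _ hξ) hm
  rw [map_mul, gam_algebraMap, gam_algebraMap] at this
  have hn' : f ^ n = (m : A) := hn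
  rw [hn']
  exact this

theorem exists_gam_eq (f : A) (hf : f ≠ 0) (W : (Spec A).Opens) (hW : W = PrimeSpectrum.basicOpen f) (hξ : xi A ∈ W)
    (u : (Spec A).functionField) (hu : InAway f u) : ∃ s : Γ(Spec A, W), gam A W hξ s = u := by
  subst hW
  obtain ⟨a, n, han⟩ := hu
  refine ⟨IsLocalization.mk' _ a (⟨f ^ n, n, rfl⟩ : Submonoid.powers f), ?_⟩
  have h1 : IsLocalization.mk' Γ(Spec A, PrimeSpectrum.basicOpen f) a (⟨f ^ n, n, rfl⟩ : Submonoid.powers f) *
      algebraMap A _ (f ^ n) = algebraMap A _ a := IsLocalization.mk'_spec _ a _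
  have h2 := congrArg (gam A _ hξ) h1
  rw [map_mul, gam_algebraMap, gam_algebraMap] at h2
  have hfn : algebraMap A (Spec A).functionField (f ^ n) ≠ 0 :=
    (map_ne_zero_iff _ (IsFractionRing.injective A (Spec A).functionField)).2 (pow_ne_zero n hf)
  exact mul_right_cancel₀ hfn (h2.trans han.symm)

theorem gam_unitAway (f : A) (W : (Spec A).Opens) (hW : W = PrimeSpectrum.basicOpen f) (hξ : xi A ∈ W)
    (s : Γ(Spec A, W)) (hs : IsUnit s) : UnitAway f (gam A W hξ s) := by
  obtain ⟨t, hst⟩ := hs.exists_right_inv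
  have h1 : gam A W hξ s * gam A W hξ t = 1 := by rw [← map_mul, hst, map_one]
  have h0 : gam A W hξ s ≠ 0 := left_ne_zero_of_mul_eq_one h1
  refine ⟨h0, gam_inAway A f W hW hξ s, ?_⟩
  have : (gam A W hξ s)⁻¹ = gam A W hξ t := (eq_inv_of_mul_eq_one_right h1).symm
  rw [this]
  exact gam_inAway A f W hW hξ t

theorem exists_unit_gam_eq (f : A) (hf : f ≠ 0) (W : (Spec A).Opens) (hW : W = PrimeSpectrum.basicOpen f)
    (hξ : xi A ∈ W) (u : (Spec A).functionField) (hu : UnitAway f u) :
    ∃ s : Γ(Spec A, W), IsUnit s ∧ gam A W hξ s = u := by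
  obtain ⟨s, hs⟩ := exists_gam_eq A f hf W hW hξ u hu.2.1
  obtain ⟨t, ht⟩ := exists_gam_eq A f hf W hW hξ u⁻¹ hu.2.2
  refine ⟨s, ?_, hs⟩
  refine IsUnit.of_mul_eq_one t ?_
  apply gam_injective A W hξ
  rw [map_mul, hs, ht, map_one, mul_inv_cancel₀ hu.1]

end Groth.Agent.Lib.Helper17.SpecDomGerm
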