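import Groth.Agent.Lib.Helper28.TrivExt
import Groth.Agent.Lib.Helper27.ConeVertex
import Groth.Agent.Lib.Helper28.RelSpecCover
import Groth.Agent.Lib.Helper28.SymAlgSmooth
import Groth.Agent.Lib.Helper17.ClosedUnit
import Groth.Agent.Lib.Helper28.TensorIso
import Groth.Agent.S8255
import Groth.Agent.Lib.Helper28.InvQC
import Groth.Agent.Lib.Helper6.K0Op
import Mathlib

set_option backward.isDefEq.respectTransparency.types false
set_option autoImplicit false
set_option linter.style.haveILetI false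
set_option linter.unusedSectionVars false
universe u
open CategoryTheory CategoryTheory.Limits AlgebraicGeometry Opposite TopologicalSpace
noncomputable section

namespace Groth.Agent.Lib.Helper17.SplitRibbon

open Groth.Agent.Lib.Helper28 Groth.Agent.Lib.Helper28.QCohLoc Groth.Agent.Lib.Helper28.TraceAlg
open Groth.Agent.Lib.Helper28.TrivExt Groth.Agent.Lib.Helper27.ConeVertex

variable {D : Scheme.{u}} (M : D.Modules) [M.IsQuasicoherent]

attribute [local instance] TrivExt.modOp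

/-- the augmentation `O ⊕ M ⟶ O` -/
def aug : TrivExt.alg M ⟶ RelSpec.QCAlg.unit D where
  hom :=
    { app := fun U => CommRingCat.ofHom (TrivSqZeroExt.fstHom Γ(D, U.unop) Γ(D, U.unop) Γ(M, U.unop)).toRingHom
      naturality := fun U V i => by
        apply CommRingCat.hom_ext
        refine RingHom.ext fun x => ?_
        exact resT_fst M (leOfHom i.unop) x }
  comm := by
    ext U a
    rfl

theorem aug_app (U : D.Opens) (x : TS M U) : ((aug M).hom.app (op U)).hom x = x.fst := rfl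

/-- the ribbon -/
abbrev C : Scheme.{u} := (TrivExt.alg M).spec

abbrev π : C M ⟶ D := (TrivExt.alg M).π

/-- the zero section -/
def z : D ⟶ C M := sectionOf (TrivExt.alg M) (aug M)

theorem z_π : z M ≫ π M = 𝟙 D := sectionOf_π _ _

instance : IsClosedImmersion (z M) := by
  haveI : IsClosedImmersion (z M ≫ π M) := by rw [z_π]; infer_instance
  exact IsClosedImmersion.of_comp (z M) (π M)


theorem finite_inl {U : D.Opens} {n : ℕ} (b : Module.Basis (Fin n) Γ(D, U) Γ(M, U)) :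
    (TrivSqZeroExt.inlHom Γ(D, U) Γ(M, U)).Finite := by
  haveI : Module.Finite Γ(D, U) Γ(M, U) := Module.Finite.of_basis b
  have h : Module.Finite Γ(D, U) (TS M U) :=
    inferInstanceAs (Module.Finite Γ(D, U) (Γ(D, U) × Γ(M, U)))
  have h2 := RingHom.finite_algebraMap.2 h
  exact h2

theorem locallyOfFiniteType_π (hlf : FlatMod.IsFinLocFree M) : LocallyOfFiniteType (π M) := by
  refine RelSpecCover.prop_of_charts (TrivExt.alg M) @LocallyOfFiniteType (fun x => ?_)
  obtain ⟨U, hU, n, hxU, ⟨b⟩⟩ := SymAlg.exists_affine_basisMod hlf x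
  refine ⟨U, hU, hxU, ?_⟩
  rw [HasRingHomProperty.Spec_iff (P := @LocallyOfFiniteType)]
  exact RingHom.FiniteType.of_finite (finite_inl M b)


section Chart

variable (U : D.Opens) (hU : IsAffineOpen U)

theorem z_preimage : z M ⁻¹ᵁ (π M ⁻¹ᵁ U) = U := by
  rw [← Scheme.Hom.comp_preimage, z_π]
  rfl

include hU in
theorem top_le_fromSpec : (⊤ : (Spec Γ(D, U)).Opens) ≤ hU.fromSpec ⁻¹ᵁ U := by
  rw [hU.fromSpec_preimage_self]

theorem appLE_congr_hom {X Y : Scheme.{u}} {f g : X ⟶ Y} (h : f = g) (V : Y.Opens) (W : X.Opens)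
    (e : W ≤ f ⁻¹ᵁ V) : f.appLE V W e = g.appLE V W (h ▸ e) := by
  subst h
  rfl

theorem fromSpec_z : hU.fromSpec ≫ z M = Spec.map ((aug M).hom.app (op U)) ≫ (alg M).ι U hU :=
  fromSpec_sectionOf (alg M) (aug M) U hU

theorem key : (z M).appLE (π M ⁻¹ᵁ U) U (z_preimage M U).ge ≫
      hU.fromSpec.appLE U ⊤ (top_le_fromSpec U hU) =
    (alg M).gammaAff U hU ≫ (aug M).hom.app (op U) ≫ (Scheme.ΓSpecIso Γ(D, U)).inv := by
  rw [Scheme.Hom.appLE_comp_appLE]
  rw [appLE_congr_hom (fromSpec_z M U hU)]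
  have h1 := Scheme.Hom.appLE_comp_appLE (Spec.map ((aug M).hom.app (op U))) ((alg M).ι U hU)
    ((alg M).π ⁻¹ᵁ U) ⊤ ⊤ ((alg M).top_le_preimage U hU) le_top
  refine h1.symm.trans ?_
  unfold RelSpec.QCAlg.gammaAff
  rw [Category.assoc]
  congr 1
  have h2 := Scheme.ΓSpecIso_naturality ((aug M).hom.app (op U))
  rw [← reassoc_of% h2]
  erw [Iso.hom_inv_id, Category.comp_id]
  rfl

theorem isIso_fromSpec_appLE : IsIso (hU.fromSpec.appLE U ⊤ (top_le_fromSpec U hU)) := by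
  rw [Scheme.Hom.appLE, hU.fromSpec_app_self]
  have h1 : IsIso ((Spec Γ(D, U)).presheaf.map (homOfLE (top_le_fromSpec U hU)).op) := by
    have : (homOfLE (top_le_fromSpec U hU)).op = eqToHom (by rw [hU.fromSpec_preimage_self]) :=
      Subsingleton.elim _ _
    rw [this, eqToHom_map]
    infer_instance
  infer_instance

theorem isIso_res_z : IsIso (D.presheaf.map (homOfLE (z_preimage M U).ge).op) := by
  have : (homOfLE (z_preimage M U).ge).op = eqToHom (by rw [z_preimage]) := Subsingleton.elim _ _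
  rw [this, eqToHom_map]
  infer_instance

theorem z_app_eq_zero_iff (s : Γ(C M, π M ⁻¹ᵁ U)) :
    ((z M).app (π M ⁻¹ᵁ U)).hom s = 0 ↔ (((alg M).gammaAff U hU).hom s : TS M U).fst = 0 := by
  have hk := key M U hU
  have h1 : (z M).appLE (π M ⁻¹ᵁ U) U (z_preimage M U).ge =
      (z M).app (π M ⁻¹ᵁ U) ≫ D.presheaf.map (homOfLE (z_preimage M U).ge).op := rfl
  haveI := isIso_res_z M U
  haveI := isIso_fromSpec_appLE U hU
  have inj1 : Function.Injective (D.presheaf.map (homOfLE (z_preimage M U).ge).op).hom :=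
    (ConcreteCategory.bijective_of_isIso _).1
  have inj2 : Function.Injective (hU.fromSpec.appLE U ⊤ (top_le_fromSpec U hU)).hom :=
    (ConcreteCategory.bijective_of_isIso _).1
  have inj3 : Function.Injective (Scheme.ΓSpecIso Γ(D, U)).inv.hom :=
    (ConcreteCategory.bijective_of_isIso _).1
  have h2 : (hU.fromSpec.appLE U ⊤ (top_le_fromSpec U hU)).hom
      ((D.presheaf.map (homOfLE (z_preimage M U).ge).op).hom (((z M).app (π M ⁻¹ᵁ U)).hom s)) =
      (Scheme.ΓSpecIso Γ(D, U)).inv.hom ((((alg M).gammaAff U hU).hom s : TS M U).fst) := by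
    have := congrArg (fun t => t.hom s) hk
    exact this
  constructor
  · intro h0
    rw [h0, map_zero, map_zero] at h2
    exact inj3 (by rw [← h2, map_zero])
  · intro h0
    rw [h0, map_zero] at h2
    apply inj1
    apply inj2
    rw [h2, map_zero, map_zero]

end Chart


/-- the ideal of the zero section -/
def I : (C M).IdealSheafData := (z M).ker

/-- the affine opens `π⁻¹U` -/
def aff (U : D.affineOpens) : (C M).affineOpens := ⟨π M ⁻¹ᵁ U.1, U.2.preimage (π M)⟩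

theorem iSup_aff : ⨆ U : D.affineOpens, (aff M U).1 = ⊤ := by
  rw [eq_top_iff]
  intro x _
  obtain ⟨_, ⟨W, hW, rfl⟩, hxW, -⟩ := D.isBasis_affineOpens.exists_subset_of_mem_open
    (show (π M) x ∈ (⊤ : D.Opens) from trivial) (⊤ : D.Opens).isOpen
  exact Opens.mem_iSup.2 ⟨⟨W, hW⟩, hxW⟩

theorem mem_I_iff (U : D.affineOpens) (s : Γ(C M, π M ⁻¹ᵁ U.1)) :
    s ∈ (I M).ideal (aff M U) ↔ (((alg M).gammaAff U.1 U.2).hom s : TS M U.1).fst = 0 := by
  unfold I
  rw [Scheme.Hom.ker_apply]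
  exact z_app_eq_zero_iff M U.1 U.2 s

theorem gammaAff_injective (U : D.affineOpens) :
    Function.Injective ((alg M).gammaAff U.1 U.2).hom := by
  haveI := Groth.Agent.S8255.isIso_gammaAff (alg M) U.1 U.2
  exact (ConcreteCategory.bijective_of_isIso _).1

theorem gammaAff_surjective (U : D.affineOpens) :
    Function.Surjective ((alg M).gammaAff U.1 U.2).hom := by
  haveI := Groth.Agent.S8255.isIso_gammaAff (alg M) U.1 U.2
  exact (ConcreteCategory.bijective_of_isIso _).2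

theorem ts_mul_eq_zero {U : D.Opens} (x y : TS M U) (hx : x.fst = 0) (hy : y.fst = 0) : x * y = 0 := by
  refine TrivSqZeroExt.ext ?_ ?_
  · rw [TrivSqZeroExt.fst_mul, hx, zero_mul, TrivSqZeroExt.fst_zero]
  · rw [snd_mul', hx, hy, zero_smul, zero_smul, add_zero, TrivSqZeroExt.snd_zero]

theorem mul_eq_zero_of_mem_I (U : D.affineOpens) (a b : Γ(C M, π M ⁻¹ᵁ U.1))
    (ha : a ∈ (I M).ideal (aff M U)) (hb : b ∈ (I M).ideal (aff M U)) : a * b = 0 := by
  rw [mem_I_iff] at ha hb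
  apply gammaAff_injective M U
  rw [map_mul, map_zero]
  exact ts_mul_eq_zero M _ _ ha hb

theorem I_sq : I M ^ 2 = ⊥ := by
  rw [eq_bot_iff]
  refine Scheme.IdealSheafData.le_of_iSup_eq_top (aff M) (iSup_aff M) (fun U => ?_)
  rw [Scheme.IdealSheafData.ideal_pow, Pi.pow_apply, pow_two, Ideal.mul_le]
  intro a ha b hb
  have h : a * b = 0 := mul_eq_zero_of_mem_I M U a b ha hb
  exact h.symm ▸ Ideal.zero_mem _


section Conormal

open Groth.Agent.Lib.Helper17.CohKer

/-- the ideal module -/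
abbrev K : (C M).Modules := ClSub.idealMod (I M)

/-- the map `π_* K ⟶ M` -/
def ψ : (Scheme.Modules.pushforward (π M)).obj (K M) ⟶ M :=
  (Scheme.Modules.pushforward (π M)).map (ClSub.idealModι (I M)) ≫
    (show (Scheme.Modules.pushforward (π M)).obj (Coh.structureModule (C M)) ⟶ (alg M).toModule from
      RelSpec.QCAlg.Hom.toModuleMap (alg M).gammaHom) ≫ sndHom M

theorem ψ_app (U : D.affineOpens) (k : Γ(K M, π M ⁻¹ᵁ U.1)) :
    (ψ M).app U.1 k = (((alg M).gammaAff U.1 U.2).hom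
      (show Γ(C M, π M ⁻¹ᵁ U.1) from (ClSub.idealModι (I M)).app (π M ⁻¹ᵁ U.1) k) : TS M U.1).snd := by
  rw [← (alg M).gammaMap_app U.1 U.2]
  rfl

theorem ι_mem_I (W : (C M).affineOpens) (k : Γ(K M, W.1)) :
    (show Γ(C M, W.1) from (ClSub.idealModι (I M)).app W.1 k) ∈ (I M).ideal W := by
  rw [← Scheme.IdealSheafData.ker_subschemeι_app, RingHom.mem_ker]
  have h := app_kernel_ι_app (ClSub.toSubscheme (I M)) W.1 k
  exact h

theorem exists_of_mem_I (W : (C M).affineOpens) (s : Γ(C M, W.1)) (hs : s ∈ (I M).ideal W) :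
    ∃ k : Γ(K M, W.1), (ClSub.idealModι (I M)).app W.1 k = s := by
  rw [← Scheme.IdealSheafData.ker_subschemeι_app, RingHom.mem_ker] at hs
  exact exists_kernel_app_eq (ClSub.toSubscheme (I M)) W.1 s hs

theorem ψ_bijective (U : D.affineOpens) : Function.Bijective ((ψ M).app U.1) := by
  constructor
  · rw [injective_iff_map_eq_zero]
    intro k hk
    have hk' : (ψ M).app U.1 (show Γ(K M, π M ⁻¹ᵁ U.1) from k) = 0 := hk
    rw [ψ_app] at hk'
    have h1 := (mem_I_iff M U _).1 (ι_mem_I M (aff M U) k)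
    have h2 : ((alg M).gammaAff U.1 U.2).hom
        (show Γ(C M, π M ⁻¹ᵁ U.1) from (ClSub.idealModι (I M)).app (π M ⁻¹ᵁ U.1) k) = 0 :=
      TrivSqZeroExt.ext h1 hk'
    have h3 : (ClSub.idealModι (I M)).app (π M ⁻¹ᵁ U.1) k = 0 := by
      apply gammaAff_injective M U
      exact h2.trans (map_zero ((alg M).gammaAff U.1 U.2).hom).symm
    apply kernel_ι_app_injective (ClSub.toSubscheme (I M)) (π M ⁻¹ᵁ U.1)
    exact h3.trans (map_zero ((kernel.ι (ClSub.toSubscheme (I M))).app (π M ⁻¹ᵁ U.1)).hom).symm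
  · intro m
    obtain ⟨s, hs⟩ := gammaAff_surjective M U (TrivSqZeroExt.inr m : TS M U.1)
    have hsI : s ∈ (I M).ideal (aff M U) := by
      rw [mem_I_iff, hs, TrivSqZeroExt.fst_inr]
    obtain ⟨k, hk⟩ := exists_of_mem_I M (aff M U) s hsI
    refine ⟨k, ?_⟩
    have := ψ_app M U k
    rw [this]
    have hk' : (show Γ(C M, π M ⁻¹ᵁ U.1) from (ClSub.idealModι (I M)).app (π M ⁻¹ᵁ U.1) k) = s := hk
    rw [hk', hs, TrivSqZeroExt.snd_inr]

instance isIso_ψ : IsIso (ψ M) := by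
  refine Groth.Agent.Lib.Helper28.TensorIso.isIso_of_bijective_on_basis (ψ M) (fun U => IsAffineOpen U) ?_ ?_
  · intro U x hx
    obtain ⟨_, ⟨W, hW, rfl⟩, hxW, hWU⟩ := D.isBasis_affineOpens.exists_subset_of_mem_open hx U.isOpen
    exact ⟨W, hW, hxW, hWU⟩
  · intro W hW
    exact ψ_bijective M ⟨W, hW⟩

theorem killed (W : (C M).affineOpens) (a : Γ(C M, W.1)) (ha : a ∈ (z M).ker.ideal W)
    (s : Γ(K M, W.1)) : a • s = 0 := by
  apply kernel_ι_app_injective (ClSub.toSubscheme (I M)) W.1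
  have h1 : (kernel.ι (ClSub.toSubscheme (I M))).app W.1 (a • s) =
      a • (kernel.ι (ClSub.toSubscheme (I M))).app W.1 s := Scheme.Modules.Hom.app_smul _ _ _
  refine h1.trans (Eq.trans ?_ (map_zero ((kernel.ι (ClSub.toSubscheme (I M))).app W.1).hom).symm)
  have h2 := ι_mem_I M W s
  have h3 : a * (show Γ(C M, W.1) from (ClSub.idealModι (I M)).app W.1 s) ∈ (I M ^ 2).ideal W := by
    rw [Scheme.IdealSheafData.ideal_pow, Pi.pow_apply, pow_two]
    exact Ideal.mul_mem_mul ha h2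
  rw [I_sq] at h3
  exact h3

instance isIso_unit : IsIso ((Scheme.Modules.pullbackPushforwardAdjunction (z M)).unit.app (K M)) :=
  Groth.Agent.Lib.Helper17.ClosedUnit.isIso_unit_of_killed (z M) (K M) (killed M)

/-- **the conormal module of the zero section is `M`** -/
def conormalIso : (Scheme.Modules.pullback (z M)).obj (K M) ≅ M :=
  ((Scheme.Modules.pushforwardId D).symm.app _) ≪≫
  ((Scheme.Modules.pushforwardCongr (z_π M)).symm.app _) ≪≫
  ((Scheme.Modules.pushforwardComp (z M) (π M)).symm.app _) ≪≫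
  ((Scheme.Modules.pushforward (π M)).mapIso
    (asIso ((Scheme.Modules.pullbackPushforwardAdjunction (z M)).unit.app (K M))).symm) ≪≫
  asIso (ψ M)

end Conormal


theorem exists_split_ribbon {S : Scheme.{u}} (D : Scheme.{u}) (sD : D ⟶ S) [LocallyOfFiniteType sD]
    (𝓛 : D.Modules) (h𝓛 : PicF.IsInvertible 𝓛) :
    ∃ (C : Scheme.{u}) (sC : C ⟶ S) (I : C.IdealSheafData) (φ : I.subscheme ≅ D) (r : C ⟶ I.subscheme),
      LocallyOfFiniteType sC ∧ I ^ 2 = ⊥ ∧ φ.hom ≫ sD = I.subschemeι ≫ sC ∧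
        I.subschemeι ≫ r = 𝟙 I.subscheme ∧ r ≫ I.subschemeι ≫ sC = sC ∧
        Nonempty ((Scheme.Modules.pullback (φ.inv ≫ I.subschemeι)).obj (ClSub.idealMod I) ≅ 𝓛) := by
  haveI : 𝓛.IsQuasicoherent := Groth.Agent.Lib.Helper28.InvQC.isQuasicoherent_of_isInvertible 𝓛 h𝓛
  have hlf : FlatMod.IsFinLocFree 𝓛 := fun x => by
    obtain ⟨W, hxW, e⟩ := Groth.Agent.Lib.Helper6.K0Op.isFinLocFreeOfRank_one_of_isInvertible _ h𝓛 x
    exact ⟨W, 1, hxW, e⟩
  haveI := locallyOfFiniteType_π 𝓛 hlf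
  have hti : (z 𝓛).toImage ≫ (z 𝓛).imageι = z 𝓛 := (z 𝓛).toImage_imageι
  have hιπ : (z 𝓛).imageι ≫ π 𝓛 = inv (z 𝓛).toImage := by
    rw [← cancel_epi (z 𝓛).toImage, reassoc_of% hti, z_π, IsIso.hom_inv_id]
  refine ⟨C 𝓛, π 𝓛 ≫ sD, (z 𝓛).ker, (asIso (z 𝓛).toImage).symm, π 𝓛 ≫ (z 𝓛).toImage,
    inferInstance, I_sq 𝓛, ?_, ?_, ?_, ?_⟩
  · show inv (z 𝓛).toImage ≫ sD = (z 𝓛).imageι ≫ π 𝓛 ≫ sD
    rw [reassoc_of% hιπ]
  · show (z 𝓛).imageι ≫ π 𝓛 ≫ (z 𝓛).toImage = 𝟙 _
    rw [reassoc_of% hιπ, IsIso.inv_hom_id]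
  · show (π 𝓛 ≫ (z 𝓛).toImage) ≫ (z 𝓛).imageι ≫ π 𝓛 ≫ sD = π 𝓛 ≫ sD
    rw [Category.assoc, reassoc_of% hti, reassoc_of% (z_π 𝓛)]
  · have he : (asIso (z 𝓛).toImage).symm.inv ≫ (z 𝓛).imageι = z 𝓛 := hti
    exact ⟨(Scheme.Modules.pullbackCongr he).app _ ≪≫ conormalIso 𝓛⟩

end Groth.Agent.Lib.Helper17.SplitRibbon
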