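import Groth.Agent.Lib.Helper17.SqZeroA
import Groth.Agent.Lib.Helper17.H0NegA
import Groth.Agent.Lib.Helper2.Bridge2
import Groth.Agent.Lib.Helper4.VanClass
import Groth.Agent.Lib.Helper28.VeryAmpleImm
import Groth.Agent.Lib.Helper28.PullbackInv2
import Groth.Agent.Lib.Helper28.InvQC
import Mathlib
set_option backward.isDefEq.respectTransparency.types false
set_option autoImplicit false
universe u
open AlgebraicGeometry CategoryTheory Opposite TopologicalSpace CategoryTheory.Limits

namespace Groth.Agent.Lib.Helper17.SqZero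
open Scheme.Modules
open Groth.Agent.Lib.Helper17.PullbackBC Groth.Agent.Lib.Helper17.H0Neg
open Groth.Agent.Lib.Helper28.PullbackInv Groth.Agent.Lib.Helper28.QCohLoc
open Groth.Agent.Lib.Helper28.GenLocus

section Triv

variable {Z : Scheme.{u}} (M L : Z.Modules) (ε : L ≅ Coh.structureModule Z)

theorem isUnit_app_of_isGen {W : Z.Opens} {g : Γ(L, W)} (hg : IsGen L W g) :
    IsUnit (show Γ(Z, W) from ε.hom.app W g) := by
  have h1 := Groth.Agent.Lib.Helper28.VeryAmpleImm.isGen_app_iso ε hg
  refine Groth.Agent.Lib.Helper17.InvDescLoc.isUnit_of_isGen_smul (isGen_oneSec W) _ ?_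
  rw [smul_oneSec]
  exact h1

theorem isTwist_triv :
    IsTwist M L 1 M (fun W g x => ((show Γ(Z, W) from ε.hom.app W g) • x : Γ(M, W))) where
  bij W g hg := by
    obtain ⟨u, hu⟩ := isUnit_app_of_isGen L ε hg
    simp only [← hu]
    constructor
    · intro x y hxy
      have := congrArg (fun z => ((↑u⁻¹ : Γ(Z, W)) • z : Γ(M, W))) hxy
      simp only [← mul_smul, Units.inv_mul, one_smul] at this
      exact this
    · intro y
      refine ⟨((↑u⁻¹ : Γ(Z, W)) • y : Γ(M, W)), ?_⟩
      simp only [← mul_smul, Units.mul_inv, one_smul]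
  add W g x y := smul_add _ _ _
  smul W g a x := smul_comm _ _ _
  res W W' h g x := by
    simp only []
    rw [res_smul, app_res]
    rfl
  hom W c g x := by
    simp only []
    rw [Scheme.Modules.Hom.app_smul, pow_one]
    exact mul_smul _ _ _

include ε in
theorem nonempty_Pn_one_iso (hL : PicF.IsInvertible L) : Nonempty (Pn M L 1 ≅ M) := by
  obtain ⟨ψ, -⟩ := ((isTwist_Pn M L 1).congr_deg (zero_add 1)).exists_iso (isTwist_triv M L ε) hL
  exact ⟨ψ⟩

end Triv

variable {X : Scheme.{u}} (I : X.IdealSheafData) (N : X.Modules)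

theorem nonempty_KK_iso (hN : PicF.IsInvertible N) : Nonempty (KK I N ≅ Pn (ClSub.idealMod I) N 1) := by
  obtain ⟨ψ, -⟩ := (isTwist_Θ I N).exists_iso ((isTwist_Pn (ClSub.idealMod I) N 1).congr_deg (zero_add 1)) hN
  exact ⟨ψ⟩

theorem nonempty_pullback_KK_iso (hN : PicF.IsInvertible N)
    (ε : (Scheme.Modules.pullback I.subschemeι).obj N ≅ Coh.structureModule I.subscheme) :
    Nonempty ((Scheme.Modules.pullback I.subschemeι).obj (KK I N) ≅
      (Scheme.Modules.pullback I.subschemeι).obj (ClSub.idealMod I)) := by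
  obtain ⟨a⟩ := nonempty_KK_iso I N hN
  obtain ⟨b⟩ := Groth.Agent.Lib.Helper17.PullTwist.nonempty_pullback_Pn_iso I.subschemeι (ClSub.idealMod I) N 1 hN
  obtain ⟨c⟩ := nonempty_Pn_one_iso ((Scheme.Modules.pullback I.subschemeι).obj (ClSub.idealMod I))
    ((Scheme.Modules.pullback I.subschemeι).obj N) ε (isInvertible_pullback I.subschemeι hN)
  exact ⟨(Scheme.Modules.pullback I.subschemeι).mapIso a ≪≫ b ≪≫ c⟩

end Groth.Agent.Lib.Helper17.SqZero
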