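import Groth.Agent.Lib.Helper17.SqZeroC
import Groth.Agent.Lib.Helper6.InvDual
import Mathlib
set_option backward.isDefEq.respectTransparency.types false
set_option autoImplicit false
universe u
open AlgebraicGeometry CategoryTheory Opposite TopologicalSpace CategoryTheory.Limits

namespace Groth.Agent.Lib.Helper17.SqZero
open Scheme.Modules
open Groth.Agent.Lib.Helper28 Groth.Agent.Lib.Helper28.HomMod

/-- **uniqueness of lifts of invertible modules along a square-zero thickening** -/
theorem main (X : Scheme.{u}) (I : X.IdealSheafData) (hI : I ^ 2 = ⊥)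
    (h1 : Subsingleton (Coh.HH I.subscheme
      ((Scheme.Modules.pullback I.subschemeι).obj (ClSub.idealMod I)) 1))
    (L L' : X.Modules) (hL : PicF.IsInvertible L) (hL' : PicF.IsInvertible L')
    (e : (Scheme.Modules.pullback I.subschemeι).obj L ≅ (Scheme.Modules.pullback I.subschemeι).obj L') :
    Nonempty (L ≅ L') := by
  have hK : PicF.IsInvertible (dual L) := isInvertible_dual hL
  have hN : PicF.IsInvertible (CohB1.tensorMod L' (dual L)) :=
    Groth.Agent.Lib.Helper28.GenLocus.isInvertible_tensorMod hL' hK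
  obtain ⟨ν⟩ := Groth.Agent.Lib.Helper6.InvDual.nonempty_pullback_tensor_dual_iso I.subschemeι L L' hL hL' ⟨e⟩
  obtain ⟨θ⟩ := nonempty_iso_structureModule I _ hI hN ν h1
  obtain ⟨ρ⟩ := Groth.Agent.Lib.Helper6.InvDual.nonempty_pullback_iso_of_tensor_dual (𝟙 X) L L' hL hL'
    ⟨(Scheme.Modules.pullbackId X).app _ ≪≫ θ⟩
  exact ⟨((Scheme.Modules.pullbackId X).app L).symm ≪≫ ρ ≪≫ (Scheme.Modules.pullbackId X).app L'⟩

end Groth.Agent.Lib.Helper17.SqZero
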