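import Groth.Agent.Lib.Helper28.FTApprox3
import Groth.Agent.Lib.Helper28.ModIsoCover
import Groth.Agent.Lib.Helper17.SigmaHH
import Groth.Agent.Lib.Helper17.AnnIdeal
import Groth.Agent.Lib.Helper17.CohKer
import Groth.Agent.Lib.Helper17.ModPullback
import Groth.Agent.Lib.Helper16.QCohSigma
import Groth.Agent.Lib.Helper8.CurveVan
import Groth.Agent.Lib.Helper8.GGCoh
import Groth.Agent.Lib.Helper29.QCohStalk2
import Groth.Agent.Lib.Helper4.VanIdeal
import Groth.Agent.Lib.Helper28.QCohPush
import Groth.Agent.S0016
import Groth.Agent.S0007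
import Groth.Agent.S0012
import Groth.Agent.S0796
import Mathlib
set_option backward.isDefEq.respectTransparency.types false
set_option autoImplicit false
universe u
open AlgebraicGeometry CategoryTheory CategoryTheory.Limits Opposite TopologicalSpace

/-! # Helper17 — vanishing of cohomology of quasi-coherent modules supported on a closed subset, from the vanishing
on all closed subschemes supported there (no Noetherian hypothesis; Stacks 0F2X, the support step) -/

noncomputable section
namespace Groth.Agent.Lib.Helper17.SuppVan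

open Groth.Agent.Lib.Helper28.QCohLoc Groth.Agent.Lib.Helper29.QCohStalk

variable {X : Scheme.{u}}

/-- the module has no sections over the affine opens inside `U` -/
def VanOn (U : X.Opens) (G : X.Modules) : Prop :=
  ∀ W : X.affineOpens, W.1 ≤ U → Subsingleton Γ(G, W.1)

theorem vanOn_of_support (U : X.Opens) (G : X.Modules) (h : CohB1.support G ⊆ ((U : Set X))ᶜ) :
    VanOn U G := by
  intro W hW
  refine ⟨fun a b => ?_⟩
  have key : ∀ m : Γ(G, W.1), m = 0 := by
    intro m
    refine Groth.Agent.Lib.Helper29.QCohStalk.eq_zero_of_forall_gm_eq_zero (F := G) W.1 m (fun x hx => ?_)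
    have hx' : x ∉ CohB1.support G := fun h' => h h' (hW hx)
    have : Subsingleton (G.presheaf.stalk x) := by
      by_contra hc
      exact hx' hc
    exact Subsingleton.elim _ _
  rw [key a, key b]

theorem support_subset_of_vanOn (U : X.Opens) (G : X.Modules) [G.IsQuasicoherent] (h : VanOn U G) :
    CohB1.support G ⊆ ((U : Set X))ᶜ := by
  intro x hx hxU
  obtain ⟨W, hW, hxW, hWU⟩ := Opens.isBasis_iff_nbhd.mp X.isBasis_affineOpens (show x ∈ U from hxU)
  have := h ⟨W, hW⟩ hWU
  rw [mem_support_iff (F := G) hW (isLocOn_of_isQuasicoherent G hW) x hxW] at hx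
  obtain ⟨m, hm⟩ := hx
  have hm0 : m = 0 := Subsingleton.elim _ _
  have h1 : (1 : Γ(X, W)) ∈ ann (R := Γ(X, W)) m := by
    rw [mem_ann, hm0, smul_zero]
  have h2 := hm h1
  have hp : (germPrime W x hxW).IsPrime := inferInstance
  exact hp.ne_top ((Ideal.eq_top_iff_one _).2 h2)

theorem vanOn_of_mono (U : X.Opens) {A B : X.Modules} (φ : A ⟶ B) [Mono φ] (h : VanOn U B) : VanOn U A := by
  intro W hW
  have := h W hW
  exact (Groth.Agent.Lib.Helper4.VanIdeal.app_injective_of_mono φ W.1).subsingleton


open Groth.Agent.Lib.Helper17.SigmaHH in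
theorem vanOn_sigma (U : X.Opens) {α : Type u} (G : α → X.Modules) (h : ∀ a, VanOn U (G a)) :
    VanOn U (∐ G) := by
  intro W hW
  haveI : PrespectralSpace X := inferInstance
  refine ⟨fun a b => ?_⟩
  have key : ∀ x : (∐ G).val.obj (op W.1), x = 0 := by
    intro x
    obtain ⟨s, y, hy⟩ := exists_finset_sum_sections X (U := W.1) W.2.isCompact W.2.isQuasiSeparated G x
    rw [hy]
    refine Finset.sum_eq_zero (fun a _ => ?_)
    have := h a W hW
    have hy0 : y a = 0 := Subsingleton.elim (α := Γ(G a, W.1)) _ _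
    rw [hy0]
    exact map_zero _
  exact (key a).trans (key b).symm

open Groth.Agent.Lib.Helper17.SigmaHH in
theorem subsingleton_HH_sigma [CompactSpace X] [QuasiSeparatedSpace X] {α : Type u} (G : α → X.Modules) (p : ℕ)
    (h : ∀ a, Subsingleton (Coh.HH X (G a) p)) : Subsingleton (Coh.HH X (∐ G) p) := by
  refine ⟨fun a b => ?_⟩
  have key : ∀ x : Coh.HH X (∐ G) p, x = 0 := by
    intro x
    obtain ⟨s, y, hy⟩ := exists_finset_sum_HH X G p x
    rw [hy]
    refine Finset.sum_eq_zero (fun a _ => ?_)
    have := h a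
    rw [Subsingleton.elim (y a) 0]
    exact map_zero _
  exact (key a).trans (key b).symm

/-- the hypothesis: quasi-coherent cohomology vanishes above degree `m` on every closed subscheme missing `U` -/
def HypZ (U : X.Opens) (m : ℕ) : Prop :=
  ∀ (Z' : Scheme.{u}) (i : Z' ⟶ X) [IsClosedImmersion i], Set.range i ⊆ ((U : Set X))ᶜ →
    ∀ M : Z'.Modules, Coh.IsQCoh M → ∀ p, m < p → Subsingleton (Coh.HH Z' M p)

open Groth.Agent.Lib.Helper17.AnnIdeal in
theorem subsingleton_HH_of_finiteType (U : X.Opens) (m : ℕ) (hZ : HypZ U m)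
    (E : X.Modules) [E.IsQuasicoherent] [SheafOfModules.IsFiniteType.{u} (R := X.ringCatSheaf) E]
    (hE : VanOn U E) (p : ℕ) (hp : m < p) : Subsingleton (Coh.HH X E p) := by
  let I := annIdeal E
  let i := I.subschemeι
  have hr : Set.range i ⊆ ((U : Set X))ᶜ := by
    rw [I.range_subschemeι, support_annIdeal]
    exact support_subset_of_vanOn U E hE
  haveI := isIso_unit_annIdeal E
  let e : E ≅ (Scheme.Modules.pushforward i).obj ((Scheme.Modules.pullback i).obj E) :=
    asIso ((Scheme.Modules.pullbackPushforwardAdjunction i).unit.app E)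
  haveI hq : Coh.IsQCoh ((Scheme.Modules.pullback i).obj E) :=
    Groth.Agent.Lib.Helper17.ModPullback.isQuasicoherent_pullback i E
  have h1 := hZ _ i hr ((Scheme.Modules.pullback i).obj E) hq p hp
  obtain ⟨eq⟩ := Groth.Agent.S0012.result i ((Scheme.Modules.pullback i).obj E) p
  have h2 : Subsingleton (Coh.HH X ((Coh.push i).obj ((Scheme.Modules.pullback i).obj E)) p) :=
    eq.symm.toEquiv.subsingleton
  exact Groth.Agent.Lib.Helper8.GGCoh.subsingleton_HH_of_iso e p h2

open Groth.Agent.Lib.Helper28.FTApprox Groth.Agent.Lib.Helper17.CohKer in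
/-- **the support lemma**: if quasi-coherent cohomology vanishes above degree `m` on every closed subscheme of the
quasi-compact quasi-separated scheme `X` missing the open `U`, it vanishes above degree `m` for every quasi-coherent
module on `X` without sections over the affine opens inside `U`. -/
theorem subsingleton_HH_of_vanOn [CompactSpace X] [QuasiSeparatedSpace X] (U : X.Opens) (m : ℕ) (hZ : HypZ U m)
    (G : X.Modules) (hG : G.IsQuasicoherent) (hGU : VanOn U G) (p : ℕ) (hp : m < p) :
    Subsingleton (Coh.HH X G p) := by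
  obtain ⟨d, hd⟩ := Groth.Agent.S0016.result X
  have main : ∀ k : ℕ, ∀ p : ℕ, m < p → d ≤ p + k → ∀ G : X.Modules, G.IsQuasicoherent → VanOn U G →
      Subsingleton (Coh.HH X G p) := by
    intro k
    induction k with
    | zero =>
      intro p _ hdp G hG _
      exact hd G hG p (by omega)
    | succ k ih =>
      intro p hp hdp G hG hGU
      have ih' := ih (p + 1) (by omega) (by omega)
      haveI := hG
      let α : Type u := Σ V : X.affineOpens, Γ(G, V.1)
      have hex : ∀ a : α, ∃ (E : X.Modules) (ι : E ⟶ G), Mono ι ∧ E.IsQuasicoherent ∧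
          SheafOfModules.IsFiniteType.{u} (R := X.ringCatSheaf) E ∧ ∃ e : Γ(E, a.1.1), ι.app a.1.1 e = a.2 := by
        intro a
        obtain ⟨E, ι, h1, h2, h3, h4⟩ := exists_ft_sub_family G (K := PUnit.{u + 1}) (fun _ => a.1.1)
          (fun _ => a.1.2) (fun _ => {a.2})
        exact ⟨E, ι, h1, h2, h3, h4 PUnit.unit a.2 (Finset.mem_singleton_self _)⟩
      choose E ι hmono hqc hft e he using hex
      let π : ∐ E ⟶ G := Sigma.desc ι
      haveI : ∀ a, (E a).IsQuasicoherent := hqc
      haveI hS : (∐ E).IsQuasicoherent := Groth.Agent.Lib.Helper16.QCohSigma.isQuasicoherent_sigma E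
      have hEU : ∀ a, VanOn U (E a) := fun a => by
        haveI := hmono a
        exact vanOn_of_mono U (ι a) hGU
      have hEp : ∀ a, Subsingleton (Coh.HH X (E a) p) := fun a => by
        haveI := hft a
        exact subsingleton_HH_of_finiteType U m hZ (E a) (hEU a) p hp
      have hSp : Subsingleton (Coh.HH X (∐ E) p) := subsingleton_HH_sigma E p hEp
      have hSU : VanOn U (∐ E) := vanOn_sigma U E hEU
      haveI hπ : Epi π := by
        refine epi_of_affine_cover π (fun V : X.affineOpens => V.1) (fun V => V.2) ?cov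
          (fun V => isLocOn_of_isQuasicoherent G V.2) (fun V s => ?_)
        case cov =>
          intro x
          obtain ⟨W, hW, hxW, -⟩ := Opens.isBasis_iff_nbhd.mp X.isBasis_affineOpens
            (show x ∈ (⊤ : X.Opens) from trivial)
          exact ⟨⟨W, hW⟩, hxW⟩
        · refine ⟨(Sigma.ι E ⟨V, s⟩).app V.1 (e ⟨V, s⟩), ?_⟩
          have h1 : Sigma.ι E ⟨V, s⟩ ≫ π = ι ⟨V, s⟩ := Sigma.ι_desc _ _
          have h2 := congrArg (fun φ : E ⟨V, s⟩ ⟶ G => φ.app V.1 (e ⟨V, s⟩)) h1
          exact h2.trans (he ⟨V, s⟩)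
      haveI hR : (kernel π).IsQuasicoherent := isQuasicoherent_kernel π
      have hRU : VanOn U (kernel π) := vanOn_of_mono U (kernel.ι π) hSU
      have hR1 := ih' (kernel π) hR hRU
      let S : ShortComplex X.Modules := ShortComplex.mk (kernel.ι π) π (kernel.condition π)
      have hSe : S.ShortExact :=
        ShortComplex.ShortExact.mk' (ShortComplex.exact_of_f_is_kernel _ (kernelIsKernel π))
          (inferInstanceAs (Mono (kernel.ι π))) hπ
      exact Groth.Agent.Lib.Helper8.CurveVan.subsingleton_HH₃ S hSe p hSp hR1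
  exact main d p hp (by omega) G hG hGU


open Groth.Agent.Lib.Helper8.CurveVan Groth.Agent.Lib.Helper17.CohKer in
/-- **the inductive step for affine stratifications**: if `U` is an affine open of the quasi-compact
quasi-separated scheme `X` with affine inclusion, and quasi-coherent cohomology vanishes above degree `n` on
every closed subscheme of `X` missing `U`, then quasi-coherent cohomology of `X` vanishes above degree `n + 1`. -/
theorem subsingleton_HH_step [CompactSpace X] [QuasiSeparatedSpace X] (U : X.Opens) (hU : IsAffineOpen U)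
    [IsAffineHom U.ι] (n : ℕ) (hZ : HypZ U n) (F : X.Modules) (hF : F.IsQuasicoherent) (p : ℕ)
    (hp : n + 1 < p) : Subsingleton (Coh.HH X F p) := by
  haveI := hF
  haveI : IsAffine (U : Scheme.{u}) := hU
  obtain ⟨q, rfl⟩ : ∃ q, p = q + 2 := ⟨p - 2, by omega⟩
  haveI hjq : ((Scheme.Modules.restrictFunctor U.ι).obj F).IsQuasicoherent :=
    inferInstanceAs ((F.restrict U.ι).IsQuasicoherent)
  haveI hjj : (jj U F).IsQuasicoherent := isQuasicoherent_pushforward U.ι _
  have hG : ∀ k : ℕ, Subsingleton (Coh.HH X (jj U F) (k + 1)) := by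
    intro k
    haveI : Coh.IsQCoh ((Scheme.Modules.restrictFunctor U.ι).obj F) := hjq
    obtain ⟨e⟩ := Groth.Agent.S0012.result U.ι ((Scheme.Modules.restrictFunctor U.ι).obj F) (k + 1)
    haveI := Groth.Agent.S0007.result (U : Scheme.{u}) ((Scheme.Modules.restrictFunctor U.ι).obj F)
      (k + 1) (Nat.succ_pos k)
    exact e.symm.toEquiv.subsingleton
  haveI hKq : (kernel (unitMap U F)).IsQuasicoherent := isQuasicoherent_kernel _
  haveI hCq : (cokernel (unitMap U F)).IsQuasicoherent := isQuasicoherent_cokernel _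
  have hK : Subsingleton (Coh.HH X (kernel (unitMap U F)) (q + 2)) :=
    subsingleton_HH_of_vanOn U n hZ _ hKq (vanOn_of_support U _ (support_kernel_unitMap_subset U F)) _ (by omega)
  have hC : Subsingleton (Coh.HH X (cokernel (unitMap U F)) (q + 1)) :=
    subsingleton_HH_of_vanOn U n hZ _ hCq (vanOn_of_support U _ (support_cokernel_unitMap_subset U F)) _
      (by omega)
  have hI : Subsingleton (Coh.HH X (Abelian.image (unitMap U F)) (q + 2)) :=
    subsingleton_HH₁ _ (Groth.Agent.Lib.Helper6.DevStep.sc2_shortExact (unitMap U F)) (q + 1)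
      hC (hG (q + 1))
  exact subsingleton_HH₂ _ (shortExact_kernel_image (unitMap U F)) (q + 2) hK hI

end Groth.Agent.Lib.Helper17.SuppVan
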