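import Groth.Agent.Lib.Helper29.TildeBridge
import Groth.Agent.Lib.Helper29.FreeIso6
import Groth.Prelude.Def_ProjUP
import Mathlib

/-!
# Invertibility of `tilde M` for `M` finite projective of rank one, and generation by global sections
-/
set_option autoImplicit false
set_option backward.isDefEq.respectTransparency.types false
universe u
open CategoryTheory CategoryTheory.Limits AlgebraicGeometry Opposite TopologicalSpace
noncomputable section
namespace Groth.Agent.Lib.Helper17.TildeInv

open Groth.Agent.Lib.Helper28.QCohLoc Groth.Agent.Lib.Helper29.QCohStalk Groth.Agent.Lib.Helper29.TildeBridge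
open Groth.Agent.Lib.Helper29.FreeIso

/-- a basis of one localization of a module gives a basis of any other localization (over any other model of the
localized ring) -/
theorem nonempty_basis_of_isLocalizedModule {R : Type*} [CommRing R] (S : Submonoid R) {R₁ R₂ M M₁ M₂ : Type*}
    [CommRing R₁] [CommRing R₂] [Algebra R R₁] [Algebra R R₂] [IsLocalization S R₁] [IsLocalization S R₂]
    [AddCommGroup M] [Module R M] [AddCommGroup M₁] [Module R M₁] [Module R₁ M₁] [IsScalarTower R R₁ M₁]
    [AddCommGroup M₂] [Module R M₂] [Module R₂ M₂] [IsScalarTower R R₂ M₂] (f₁ : M →ₗ[R] M₁) (f₂ : M →ₗ[R] M₂)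
    [IsLocalizedModule S f₁] [IsLocalizedModule S f₂] {ι : Type*} (b : Module.Basis ι R₁ M₁) :
    Nonempty (Module.Basis ι R₂ M₂) := by
  let e := IsLocalization.algEquiv S R₁ R₂
  letI : Module R₁ M₂ := Module.compHom M₂ (e : R₁ →+* R₂)
  haveI : IsScalarTower R R₁ M₂ := ⟨fun a c x => by
    show e (a • c) • x = a • (e c • x)
    rw [map_smul, smul_assoc]⟩
  let E : M₁ ≃ₗ[R₁] M₂ :=
    LinearEquiv.extendScalarsOfIsLocalization S R₁ (IsLocalizedModule.linearEquiv S f₁ f₂)
  exact ⟨(b.map E).mapCoeffs e.toRingEquiv (fun c x => rfl)⟩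

variable {R : CommRingCat.{u}}

/-- the basic open `D(g)` of `Spec R` as an open of the scheme -/
abbrev D (g : R) : (Spec R).Opens := PrimeSpectrum.basicOpen g

theorem isAffineOpen_D (g : R) : IsAffineOpen (D g) := by
  have h := (isAffineOpen_top (Spec R)).basicOpen ((Scheme.ΓSpecIso R).inv g)
  rwa [basicOpen_eq_of_affine] at h

/-- the localization map `M → Γ(tilde M, D(g))` -/
def φ (M : ModuleCat.{u} R) (g : R) : M →ₗ[R] Γ(tilde M, D g) :=
  (tilde.toOpen M (D g)).hom

instance (M : ModuleCat.{u} R) (g : R) : IsLocalizedModule.Away g (φ M g) :=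
  inferInstanceAs (IsLocalizedModule.Away g (tilde.toOpen M (PrimeSpectrum.basicOpen g)).hom)

/-- `tilde M` is invertible when `M` is finitely presented, flat and of rank one at every prime -/
theorem isInvertible_tilde (M : ModuleCat.{u} R) [Module.FinitePresentation R M] [Module.Flat R M]
    (hrank : ∀ p : PrimeSpectrum R, Module.finrank (Localization.AtPrime p.asIdeal)
      (LocalizedModule p.asIdeal.primeCompl M) = 1) : PicF.IsInvertible (tilde M) := by
  intro x
  haveI : x.asIdeal.IsPrime := x.isPrime
  haveI : Module.Free (Localization.AtPrime x.asIdeal) (LocalizedModule x.asIdeal.primeCompl M) :=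
    Module.free_of_flat_of_isLocalRing
  obtain ⟨r, hr, hfree, hfr⟩ := Module.FinitePresentation.exists_free_localizedModule_powers
    x.asIdeal.primeCompl (LocalizedModule.mkLinearMap x.asIdeal.primeCompl M)
    (Localization.AtPrime x.asIdeal)
  rw [hrank ⟨x.asIdeal, x.isPrime⟩] at hfr
  haveI : Module.Finite (Localization (Submonoid.powers r)) (LocalizedModule.Away r M) :=
    Module.Finite.of_isLocalizedModule (Submonoid.powers r) (Rₚ := Localization (Submonoid.powers r))
      (LocalizedModule.mkLinearMap (Submonoid.powers r) M)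
  haveI : Nontrivial (Localization (Submonoid.powers r)) :=
    (show Localization (Submonoid.powers r) →+* Localization.AtPrime x.asIdeal from
      IsLocalization.map (M := Submonoid.powers r) (T := x.asIdeal.primeCompl) _
        (RingHom.id _) (Submonoid.powers_le.mpr hr)).domain_nontrivial
  let b0 : Module.Basis (Fin 1) (Localization (Submonoid.powers r)) (LocalizedModule.Away r M) :=
    Module.finBasisOfFinrankEq _ _ hfr
  obtain ⟨b⟩ := nonempty_basis_of_isLocalizedModule (Submonoid.powers r)
    (R₁ := Localization (Submonoid.powers r)) (R₂ := Γ(Spec R, D r))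
    (LocalizedModule.mkLinearMap (Submonoid.powers r) M) (φ M r) b0
  have hB : IsBasisOn (tilde M) (D r) (fun j => b j) :=
    isBasisOn_of_basis (tilde M) (isAffineOpen_D r) (isLocOn_of_isQuasicoherent (tilde M) (isAffineOpen_D r))
      (fun j => b j) b.linearIndependent b.span_eq
  obtain ⟨e⟩ := hB.nonempty_iso
  exact ⟨D r, hr, ⟨e ≪≫ coproductUniqueIso (fun _ : Fin 1 => Coh.structureModule (↑(D r) : Scheme.{u}))⟩⟩

/-- the restriction of the global section attached to `m` is the localization map -/
theorem res_e (M : ModuleCat.{u} R) (g : R) (m : M) :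
    res (tilde M) (le_top : D g ≤ ⊤) (e M m) = φ M g m := rfl

/-- generators of `M` give global sections generating `tilde M` -/
theorem generatedBy_tilde (M : ModuleCat.{u} R) {r : ℕ} (m : Fin r → M)
    (hspan : Submodule.span R (Set.range m) = ⊤) :
    ProjUP.GeneratedBy (tilde M) (fun j => e M (m j)) := by
  intro x
  refine span_germ_of_gen (F := tilde M) (U := ⊤) (τ := fun j => e M (m j)) ?_ x trivial
  intro T hT t pt hpt
  obtain ⟨_, ⟨_, ⟨g, rfl⟩, rfl⟩, hpg, hgT⟩ :=
    PrimeSpectrum.isBasis_basic_opens.exists_subset_of_mem_open hpt T.2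
  have hgT' : D g ≤ T := hgT
  refine ⟨D g, hgT', hpg, ?_⟩
  obtain ⟨⟨m0, s⟩, hy⟩ := IsLocalizedModule.mk'_surjective (Submonoid.powers g) (φ M g) (res (tilde M) hgT' t)
  have hm0 : m0 ∈ Submodule.span R (Set.range m) := by rw [hspan]; trivial
  obtain ⟨a, ha⟩ := (Submodule.mem_span_range_iff_exists_fun _).1 hm0
  have h1 : res (tilde M) hgT' t = IsLocalization.mk' Γ(Spec R, D g) (1 : R) s • φ M g m0 := by
    rw [← hy]
    have h2 := IsLocalizedModule.mk'_smul_mk' (S := Submonoid.powers g) Γ(Spec R, D g) (φ M g) (1 : R) m0 s 1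
    rw [IsLocalizedModule.mk'_one, one_smul, mul_one] at h2
    exact h2.symm
  refine ⟨fun j => IsLocalization.mk' Γ(Spec R, D g) (1 : R) s * algebraMap R Γ(Spec R, D g) (a j), ?_⟩
  rw [h1, ← ha, map_sum, Finset.smul_sum]
  refine Finset.sum_congr rfl fun j _ => ?_
  rw [map_smul, mul_smul, algebraMap_smul]
  rfl

end Groth.Agent.Lib.Helper17.TildeInv
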