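import Groth.Agent.Lib.Helper17.TowC
import Groth.Agent.Lib.Helper17.H0NegA
import Groth.Agent.Lib.Helper28.AmpleIso
import Groth.Agent.Lib.Helper2.Bridge2
import Groth.Agent.Lib.Helper4.VanClass
import Mathlib
set_option backward.isDefEq.respectTransparency.types false
set_option autoImplicit false

/-!
# Cohomology of twists along the tower
-/

universe u
open CategoryTheory CategoryTheory.Limits AlgebraicGeometry Opposite TopologicalSpace

namespace Groth.Agent.Lib.Helper17.Tow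

open Groth.Agent.Lib.Helper28 Groth.Agent.Lib.Helper28.QCohLoc Groth.Agent.Lib.Helper28.TensorGen
  Groth.Agent.Lib.Helper28.GenLocus Groth.Agent.Lib.Helper28.PullbackInv
  Groth.Agent.Lib.Helper17.H0Neg Groth.Agent.Lib.Helper4.VanClass

section step

variable {Y Y' : Scheme.{u}} (i : Y ⟶ Y')

/-- the direct image of a twist is a twist -/
theorem isTwist_push {G G' : Y.Modules} {L' : Y'.Modules} {d : ℕ}
    {Θ : ∀ W : Y.Opens, Γ((Scheme.Modules.pullback i).obj L', W) → Γ(G, W) → Γ(G', W)}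
    (h : IsTwist G ((Scheme.Modules.pullback i).obj L') d G' Θ) :
    IsTwist ((Scheme.Modules.pushforward i).obj G) L' d ((Scheme.Modules.pushforward i).obj G')
      (fun V g x => Θ (i ⁻¹ᵁ V) (pbs i L' V g) x) where
  bij V g hg := h.bij (i ⁻¹ᵁ V) (pbs i L' V g) (isGen_pbs (f := i) hg)
  add V g x y := h.add (i ⁻¹ᵁ V) (pbs i L' V g) x y
  smul V g a x := h.smul (i ⁻¹ᵁ V) (pbs i L' V g) (i.app V a) x
  res V V' hle g x := by
    show res G' (i.preimage_mono hle) (Θ (i ⁻¹ᵁ V) (pbs i L' V g) x) = _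
    rw [h.res _ _ (i.preimage_mono hle), ← pbs_res]
    rfl
  hom V c g x := by
    show Θ (i ⁻¹ᵁ V) (pbs i L' V (c • g : Γ(L', V))) x = _
    rw [pbs_smul, h.hom]
    show _ = ((i.app V (c ^ d)) • Θ (i ⁻¹ᵁ V) (pbs i L' V g) x : Γ(G', i ⁻¹ᵁ V))
    rw [map_pow]

/-- **projection formula for twists** -/
theorem nonempty_push_Pn_iso (M : Y.Modules) (L' : Y'.Modules) (hL' : PicF.IsInvertible L') (d : ℕ) :
    Nonempty ((Scheme.Modules.pushforward i).obj (Pn M ((Scheme.Modules.pullback i).obj L') d) ≅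
      Pn ((Scheme.Modules.pushforward i).obj M) L' d) := by
  have h1 := isTwist_push i (isTwist_Pn M ((Scheme.Modules.pullback i).obj L') d)
  have h2 := isTwist_Pn ((Scheme.Modules.pushforward i).obj M) L' d
  obtain ⟨ψ, -⟩ := h1.exists_iso h2 hL'
  exact ⟨ψ⟩

/-- the cohomology of a twist of a direct image along an affine morphism -/
theorem subsingleton_HH_push [IsAffineHom i] (M : Y.Modules) [M.IsQuasicoherent] (L' : Y'.Modules)
    (hL' : PicF.IsInvertible L') (L : Y.Modules) (φ : (Scheme.Modules.pullback i).obj L' ≅ L) (d q : ℕ)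
    (h : Subsingleton (Coh.HH Y (Pn M L d) q)) :
    Subsingleton (Coh.HH Y' (Pn ((Scheme.Modules.pushforward i).obj M) L' d) q) := by
  obtain ⟨ψ⟩ := nonempty_push_Pn_iso i M L' hL' d
  let e1 : Pn M ((Scheme.Modules.pullback i).obj L') d ≅ Pn M L d :=
    PicGrp.tensorModIso (Iso.refl M) (Groth.Agent.Lib.Helper28.AmpleIso.tensorPowIso φ d)
  have h1 : Subsingleton (Coh.HH Y (Pn M ((Scheme.Modules.pullback i).obj L') d) q) :=
    subsingleton_HH_of_iso e1.symm q h
  have hpb : PicF.IsInvertible ((Scheme.Modules.pullback i).obj L') :=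
    Groth.Agent.Lib.Helper28.PullbackInv.isInvertible_pullback (f := i) hL'
  have hq : (Pn M ((Scheme.Modules.pullback i).obj L') d).IsQuasicoherent :=
    (isTwist_Pn M _ d).isQuasicoherent hpb
  obtain ⟨e, -⟩ := Groth.Agent.Lib.Helper2.Bridge2.exists_natural_equiv i q
  have h2 : Subsingleton (Coh.HH Y' ((Scheme.Modules.pushforward i).obj
      (Pn M ((Scheme.Modules.pullback i).obj L') d)) q) := (e _ hq).toEquiv.subsingleton
  exact subsingleton_HH_of_iso ψ q h2

end step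

section tower

variable {A : Type u} [CommRing A] {J : Ideal A} {Xs : ℕ → Scheme.{u}}
  [∀ k, (Xs k).Over (Spec (CommRingCat.of A))] {i : ∀ k, Xs k ⟶ Xs (k + 1)}
  [∀ k, IsClosedImmersion (i k)]

theorem isQuasicoherent_Pi (M : (Xs 0).Modules) [M.IsQuasicoherent] :
    ∀ k, ((Pi Xs i k).obj M).IsQuasicoherent
  | 0 => inferInstanceAs M.IsQuasicoherent
  | k + 1 => by
    haveI := isQuasicoherent_Pi M k
    exact isQuasicoherent_pushforward (i k) ((Pi Xs i k).obj M)

variable (L : ∀ k, (Xs k).Modules) (hL : ∀ k, PicF.IsInvertible (L k))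
  (φ : ∀ k, (Scheme.Modules.pullback (i k)).obj (L (k + 1)) ≅ L k)

include hL φ in
theorem subsingleton_HH_Pi (M : (Xs 0).Modules) [M.IsQuasicoherent] (d q : ℕ)
    (h : Subsingleton (Coh.HH (Xs 0) (Pn M (L 0) d) q)) :
    ∀ k, Subsingleton (Coh.HH (Xs k) (Pn ((Pi Xs i k).obj M) (L k) d) q)
  | 0 => h
  | k + 1 => by
    haveI := isQuasicoherent_Pi (i := i) M k
    exact subsingleton_HH_push (i k) ((Pi Xs i k).obj M) (L (k + 1)) (hL (k + 1)) (L k) (φ k) d q
      (subsingleton_HH_Pi M d q h k)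

end tower

section unit

open Groth.Agent.Lib.Helper23.FQuot Groth.Agent.Lib.Helper21.ThickDict Groth.Agent.Lib.Helper17.ClosedUnit

variable {A : Type u} [CommRing A] {J : Ideal A} {Xs : ℕ → Scheme.{u}}
  [∀ k, (Xs k).Over (Spec (CommRingCat.of A))] {i : ∀ k, Xs k ⟶ Xs (k + 1)}
  [∀ k, IsClosedImmersion (i k)]

/-- sections of a module killed by `J'` are killed by the ideal generated by `J'` -/
theorem smul_eq_zero_of_mem_map {Y : Scheme.{u}} [Y.Over (Spec (CommRingCat.of A))] (J' : Ideal A)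
    (N : Y.Modules) (hN : Formal.KilledBy J' N) (U : Y.Opens) (r : Γ(Y, U))
    (hr : r ∈ Ideal.map (phiU (Y ↘ Spec (CommRingCat.of A)) U) J') (s : Γ(N, U)) :
    (r • s : Γ(N, U)) = 0 := by
  induction hr using Submodule.span_induction with
  | mem x hx =>
    obtain ⟨c, hc, rfl⟩ := hx
    have h := hN c hc
    have h2 := congrArg (fun φ : N ⟶ N => φ.app U s) h
    exact h2
  | zero => rw [zero_smul]
  | add x z _ _ hx hz => rw [add_smul, hx, hz, add_zero]
  | smul c x _ hx =>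
    have h1 : ((c • x : Γ(Y, U)) • s : Γ(N, U)) = (c • (x • s : Γ(N, U)) : Γ(N, U)) := by
      rw [smul_eq_mul, mul_smul]
    rw [h1, hx, smul_zero]

/-- the unit of the adjunction between a level and the base level is an isomorphism on quasi-coherent
modules killed by `J` -/
theorem isIso_unit_adj
    (hi : ∀ k, i k ≫ (Xs (k + 1) ↘ Spec (CommRingCat.of A)) = Xs k ↘ Spec (CommRingCat.of A))
    (hker : ∀ (k : ℕ) (U : (Xs (k + 1)).Opens), IsAffineOpen U → ∀ r : Γ(Xs (k + 1), U),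
      ((i k).app U).hom r = 0 → r ∈ Ideal.map (phiU (Xs (k + 1) ↘ Spec (CommRingCat.of A)) U) J) :
    ∀ (k : ℕ) (N : (Xs k).Modules) [N.IsQuasicoherent], Formal.KilledBy J N →
      IsIso ((adj Xs i k).unit.app N)
  | 0, N, _, _ => by
    show IsIso (𝟙 N)
    infer_instance
  | k + 1, N, _, hN => by
    rw [adj_succ, Adjunction.comp_unit_app]
    have h0 : IsIso ((Scheme.Modules.pullbackPushforwardAdjunction (i k)).unit.app N) := by
      refine isIso_unit_of_killed (i k) N fun U a ha s => ?_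
      rw [Scheme.Hom.ker_apply, RingHom.mem_ker] at ha
      exact smul_eq_zero_of_mem_map J N hN U.1 a (hker k U.1 U.2 a ha) s
    have h1 := isIso_unit_adj hi hker k ((Scheme.Modules.pullback (i k)).obj N)
      (killedBy_pullback (i k) (hi k) hN)
    have h2 : IsIso ((Scheme.Modules.pushforward (i k)).map
        ((adj Xs i k).unit.app ((Scheme.Modules.pullback (i k)).obj N))) :=
      @Functor.map_isIso _ _ _ _ _ _ _ _ h1
    exact @IsIso.comp_isIso _ _ _ _ _ _ _ h0 h2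

end unit

section main

open Groth.Agent.Lib.Helper23.FQuot Groth.Agent.Lib.Helper21.ThickDict Groth.Agent.Lib.Helper17.Graded

variable {A : Type u} [CommRing A] {J : Ideal A} {Xs : ℕ → Scheme.{u}}
  [∀ k, (Xs k).Over (Spec (CommRingCat.of A))] {i : ∀ k, Xs k ⟶ Xs (k + 1)}
  [∀ k, IsClosedImmersion (i k)] (𝒯 : TowSys J Xs i)

omit [∀ k, IsClosedImmersion (i k)] in
theorem TowSys.killedBy_K (n : ℕ) : Formal.KilledBy J (𝒯.K n) := by
  intro c hc
  obtain ⟨f, hf⟩ := 𝒯.exists_abar (fun _ : Fin 1 => c) (fun _ => hc) 0 n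
  rw [← cancel_mono (kernel.ι (𝒯.u n)), zero_comp, smulMod_naturality, ← hf, ← Category.assoc,
    kernel.condition, zero_comp]

/-- **uniform vanishing along a tower of thickenings** -/
theorem TowSys.uniform_vanishing [IsNoetherian (Xs 0)] (hJ : J.FG)
    (hcoh : ∀ k, Coh.IsCoh (𝒯.F k))
    (hker : ∀ (k : ℕ) (U : (Xs (k + 1)).Opens), IsAffineOpen U → ∀ r : Γ(Xs (k + 1), U),
      ((i k).app U).hom r = 0 → r ∈ Ideal.map (phiU (Xs (k + 1) ↘ Spec (CommRingCat.of A)) U) J)
    (L : ∀ k, (Xs k).Modules) (hL : ∀ k, PicF.IsInvertible (L k))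
    (φ : ∀ k, (Scheme.Modules.pullback (i k)).obj (L (k + 1)) ≅ L k)
    (hS : ∀ M : (Xs 0).Modules, Coh.IsCoh M → Van (L 0) M) :
    ∃ d₀ : ℕ, ∀ d : ℕ, d₀ ≤ d → ∀ k q : ℕ, 0 < q →
      Subsingleton (Coh.HH (Xs k) (Pn (𝒯.F k) (L k) d) q) := by
  haveI hqc : ∀ k, (𝒯.F k).IsQuasicoherent := fun k => (hcoh k).1
  obtain ⟨r, a, hspan⟩ := Submodule.fg_iff_exists_fin_generating_family.1 hJ
  have hspan' : Ideal.span (Set.range a) = J := hspan
  have ha : ∀ j, a j ∈ J := fun j => hspan' ▸ Ideal.subset_span ⟨j, rfl⟩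
  have hFG := 𝒯.isFG_Gsys a ha hcoh hspan'
  obtain ⟨d₁, hd₁⟩ := uvan_of_isFG (hL 0) hS r (𝒯.Gsys a ha) hFG
  obtain ⟨d₂, hd₂⟩ := hS (𝒯.F 0) (hcoh 0)
  refine ⟨max d₁ d₂, fun d hd k => ?_⟩
  have hd₁' : d₁ ≤ d := (le_max_left _ _).trans hd
  have hd₂' : d₂ ≤ d := (le_max_right _ _).trans hd
  induction k with
  | zero => exact fun q hq => hd₂ d hd₂' q hq
  | succ k ih =>
    intro q hq
    let S : ShortComplex (Xs (k + 1)).Modules :=
      ShortComplex.mk (kernel.ι (𝒯.u k)) (𝒯.u k) (kernel.condition _)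
    have hSe : S.ShortExact :=
      { exact := ShortComplex.exact_of_f_is_kernel _ (kernelIsKernel (𝒯.u k))
        mono_f := inferInstanceAs (Mono (kernel.ι (𝒯.u k)))
        epi_g := inferInstanceAs (Epi (𝒯.u k)) }
    refine twist_X₂ (hL (k + 1)) d S hSe q ?_ ?_
    · -- the kernel
      haveI hG : ((𝒯.Gsys a ha).K k).IsQuasicoherent := (hFG.coh k).1
      have h1 := subsingleton_HH_Pi (i := i) L hL φ ((𝒯.Gsys a ha).K k) d q (hd₁ d hd₁' k q hq) (k + 1)
      have hiso : IsIso ((adj Xs i (k + 1)).unit.app (𝒯.K k)) :=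
        isIso_unit_adj 𝒯.hi hker (k + 1) (𝒯.K k) (𝒯.killedBy_K k)
      let e : 𝒯.K k ≅ (Pi Xs i (k + 1)).obj ((𝒯.Gsys a ha).K k) :=
        @asIso _ _ _ _ ((adj Xs i (k + 1)).unit.app (𝒯.K k)) hiso
      exact subsingleton_HH_of_iso (PicGrp.tensorModIso e.symm (Iso.refl _)) q h1
    · -- the quotient
      exact subsingleton_HH_push (i k) (𝒯.F k) (L (k + 1)) (hL (k + 1)) (L k) (φ k) d q (ih q hq)

end main

end Groth.Agent.Lib.Helper17.Tow
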