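import Groth.Agent.Lib.Helper17.TowD
import Groth.Agent.Lib.Helper4.AmpleSerre
import Mathlib
set_option backward.isDefEq.respectTransparency.types false
set_option autoImplicit false

/-!
# Uniform vanishing on the levels of an adic system of schemes
-/

universe u
open CategoryTheory CategoryTheory.Limits AlgebraicGeometry Opposite TopologicalSpace

namespace Groth.Agent.Lib.Helper17.Tow

open Groth.Agent.Lib.Helper23.FQuot Groth.Agent.Lib.Helper21.ThickDict
  Groth.Agent.Lib.Helper17.H0Neg Groth.Agent.Lib.Helper4.VanClass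

section general

variable {A : Type u} [CommRing A]

/-- a morphism through `Spec (A/J')` kills `J'` -/
theorem toGlobal_eq_zero {Y : Scheme.{u}} (J' : Ideal A) (p : Y ⟶ Spec (CommRingCat.of (A ⧸ J')))
    (c : A) (hc : c ∈ J') :
    Coh.toGlobal (p ≫ Spec.map (CommRingCat.ofHom (Ideal.Quotient.mk J'))) c = 0 := by
  have h4 := Scheme.ΓSpecIso_inv_naturality (CommRingCat.ofHom (Ideal.Quotient.mk J'))
  have h5 : (Spec.map (CommRingCat.ofHom (Ideal.Quotient.mk J'))).appTop
      ((Scheme.ΓSpecIso (CommRingCat.of A)).inv c) =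
      (Scheme.ΓSpecIso (CommRingCat.of (A ⧸ J'))).inv (Ideal.Quotient.mk J' c) := by
    exact congr($h4 c).symm
  show (p ≫ Spec.map (CommRingCat.ofHom (Ideal.Quotient.mk J'))).appTop
    ((Scheme.ΓSpecIso (CommRingCat.of A)).inv c) = 0
  rw [Scheme.Hom.comp_appTop, CommRingCat.comp_apply, h5, Ideal.Quotient.eq_zero_iff_mem.mpr hc,
    map_zero, map_zero]

/-- the ideal of a base change of `Spec (A/J') ⟶ Spec A` is generated by `J'` on affine opens -/
theorem mem_map_of_isPullback {Y Y₀ : Scheme.{u}} (J' : Ideal A) (f : Y ⟶ Spec (CommRingCat.of A))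
    (ι : Y₀ ⟶ Y) (p : Y₀ ⟶ Spec (CommRingCat.of (A ⧸ J')))
    (hpb : IsPullback ι p f (Spec.map (CommRingCat.ofHom (Ideal.Quotient.mk J'))))
    (U : Y.Opens) (hU : IsAffineOpen U) (r : Γ(Y, U)) (hr : (ι.app U).hom r = 0) :
    r ∈ Ideal.map (phiU f U) J' := by
  refine mem_map_of_thickι_app_eq_zero J' f U hU r ?_
  have h1 : hpb.isoPullback.hom ≫ thickι J' f = ι := hpb.isoPullback_hom_fst
  have h2 := Scheme.Hom.congr_app h1 U
  have h3 : (hpb.isoPullback.hom ≫ thickι J' f).app U r = 0 := by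
    rw [h2, CommRingCat.comp_apply]
    have : (ι.app U) r = 0 := hr
    rw [this, map_zero]
  rw [Scheme.Hom.comp_app] at h3
  have h3' : hpb.isoPullback.hom.app ((thickι J' f) ⁻¹ᵁ U) ((thickι J' f).app U r) = 0 := h3
  have hinj : Function.Injective (hpb.isoPullback.hom.app ((thickι J' f) ⁻¹ᵁ U)) :=
    (ConcreteCategory.bijective_of_isIso _).1
  exact hinj (h3'.trans (map_zero _).symm)

end general

section adic

variable (A : Type u) [CommRing A] [IsNoetherianRing A] (J : Ideal A)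

/-- **uniform vanishing of the cohomology of the twists on the levels of an adic system** -/
theorem adic_uniform_vanishing
    (Xs : ℕ → Scheme.{u}) (p : (k : ℕ) → (Xs k ⟶ Spec (CommRingCat.of (A ⧸ J ^ (k + 1)))))
    (i : (k : ℕ) → (Xs k ⟶ Xs (k + 1)))
    (hcart : ∀ k, IsPullback (i k) (p k) (p (k + 1)) (CohB1.specQuotTrans J k)) (hp : IsProper (p 0))
    (L : (k : ℕ) → (Xs k).Modules) (hL : ∀ k, PicF.IsInvertible (L k))
    (φ : ∀ k, Nonempty ((Scheme.Modules.pullback (i k)).obj (L (k + 1)) ≅ L k)) (ha : CohB1.IsAmple (L 0))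
    (F : (k : ℕ) → (Xs k).Modules) (hF : ∀ k, Coh.IsCoh (F k))
    (ψ : ∀ k, Nonempty ((Scheme.Modules.pullback (i k)).obj (F (k + 1)) ≅ F k)) :
    ∃ n₀ : ℕ, ∀ n : ℕ, n₀ ≤ n → ∀ k : ℕ, ∀ q : ℕ, 0 < q →
      Subsingleton (Coh.HH (Xs k) (CohB1.tensorMod (F k) (CohB1.tensorPow (L k) n)) q) := by
  letI : ∀ k, (Xs k).Over (Spec (CommRingCat.of A)) := fun k => ⟨p k ≫ CohB1.specQuot J k⟩
  have hover : ∀ k, (Xs k ↘ Spec (CommRingCat.of A)) = p k ≫ CohB1.specQuot J k := fun k => rfl
  have hi : ∀ k, i k ≫ (Xs (k + 1) ↘ Spec (CommRingCat.of A)) = Xs k ↘ Spec (CommRingCat.of A) := by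
    intro k
    rw [hover, hover, ← Category.assoc, (hcart k).w, Category.assoc, CohB1.specQuotTrans_specQuot]
  have htr : ∀ k, IsClosedImmersion (CohB1.specQuotTrans J k) := fun k =>
    IsClosedImmersion.spec_of_surjective _
      (Ideal.Quotient.factor_surjective (Ideal.pow_le_pow_right (Nat.le_succ (k + 1))))
  haveI hci : ∀ k, IsClosedImmersion (i k) := fun k =>
    MorphismProperty.of_isPullback (P := @IsClosedImmersion) (hcart k).flip (htr k)
  have hq1 : ∀ k, IsClosedImmersion (CohB1.specQuot J k) := fun k =>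
    IsClosedImmersion.spec_of_surjective _ Ideal.Quotient.mk_surjective
  have hmono : ∀ k, IsPullback (CohB1.specQuotTrans J k) (𝟙 _) (CohB1.specQuot J (k + 1))
      (CohB1.specQuot J k) := by
    intro k
    haveI := hq1 (k + 1)
    have h1 : IsPullback (CohB1.specQuotTrans J k) (𝟙 _) (𝟙 _) (CohB1.specQuotTrans J k) :=
      IsPullback.of_vert_isIso ⟨by simp⟩
    have h2 : IsPullback (𝟙 _) (𝟙 _) (CohB1.specQuot J (k + 1)) (CohB1.specQuot J (k + 1)) :=
      IsKernelPair.id_of_mono _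
    have h3 := h1.paste_horiz h2
    rw [Category.comp_id, CohB1.specQuotTrans_specQuot] at h3
    exact h3
  have hpb : ∀ k, IsPullback (i k) (p k) (Xs (k + 1) ↘ Spec (CommRingCat.of A))
      (CohB1.specQuot J k) := by
    intro k
    have h := (hcart k).paste_vert (hmono k)
    rw [Category.comp_id] at h
    exact h
  have hker' : ∀ (k : ℕ) (U : (Xs (k + 1)).Opens), IsAffineOpen U → ∀ r : Γ(Xs (k + 1), U),
      ((i k).app U).hom r = 0 →
      r ∈ Ideal.map (phiU (Xs (k + 1) ↘ Spec (CommRingCat.of A)) U) (J ^ (k + 1)) :=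
    fun k U hU r hr => mem_map_of_isPullback (J ^ (k + 1)) _ (i k) (p k) (hpb k) U hU r hr
  have hzero : ∀ (k : ℕ), ∀ c ∈ J ^ (k + 1), ∀ N : (Xs k).Modules, Formal.smulMod A N c = 0 := by
    intro k c hc N
    unfold Formal.smulMod
    have h0 : Coh.toGlobal (Xs k ↘ Spec (CommRingCat.of A)) c = 0 :=
      toGlobal_eq_zero (J ^ (k + 1)) (p k) c hc
    rw [h0]
    exact KLin.smulModΓ_zero N
  haveI hqc : ∀ k, (F k).IsQuasicoherent := fun k => (hF k).1
  have hfg : ∀ k : ℕ, (J ^ (k + 1)).FG := fun k => IsNoetherian.noetherian _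
  let 𝒯 : TowSys J Xs i :=
    { hi := hi
      hcl := fun k => (i k).isClosedEmbedding
      F := F
      u := fun k => (Scheme.Modules.pullbackPushforwardAdjunction (i k)).unit.app (F (k + 1)) ≫
        (Scheme.Modules.pushforward (i k)).map (ψ k).some.hom
      hu := fun k => IsQuot.comp_iso
        (isQuot_unit (i k) (hi k) (J ^ (k + 1)) (hfg k) (hker' k) (hzero k) (F (k + 1)))
      hkill := fun k c hc => hzero k c hc (F k) }
  haveI : IsLocallyNoetherian (Xs 0) := LocallyOfFiniteType.isLocallyNoetherian (p 0)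
  haveI : CompactSpace (Xs 0) := by
    have := (quasiCompact_iff_compactSpace (p 0)).1 inferInstance
    exact this
  haveI : IsNoetherian (Xs 0) := ⟨⟩
  have hS : ∀ M : (Xs 0).Modules, Coh.IsCoh M → Van (L 0) M := fun M hM =>
    Groth.Agent.Lib.Helper4.AmpleSerre.vanishing_of_isAmple (A ⧸ J ^ (0 + 1)) (Xs 0) (p 0) (L 0) ha M hM
  have hker : ∀ (k : ℕ) (U : (Xs (k + 1)).Opens), IsAffineOpen U → ∀ r : Γ(Xs (k + 1), U),
      ((i k).app U).hom r = 0 →
      r ∈ Ideal.map (phiU (Xs (k + 1) ↘ Spec (CommRingCat.of A)) U) J :=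
    fun k U hU r hr => Ideal.map_mono (Ideal.pow_le_self (Nat.succ_ne_zero k)) (hker' k U hU r hr)
  exact 𝒯.uniform_vanishing (IsNoetherian.noetherian J) hF hker L hL (fun k => (φ k).some) hS

end adic

end Groth.Agent.Lib.Helper17.Tow
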