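import Groth.Agent.Lib.Helper17.TowE
import Groth.Agent.Lib.Helper17.GGDescent
import Groth.Agent.Lib.Helper17.Serre
import Groth.Agent.Lib.Helper8.GGKill
import Groth.Agent.Lib.Helper23.ProjF.ProjMap
import Groth.Agent.Lib.Helper28.TwistGG
import Mathlib
set_option backward.isDefEq.respectTransparency.types false
set_option autoImplicit false

/-!
# Uniform global generation on the levels of an adic system of schemes
-/

universe u
open CategoryTheory CategoryTheory.Limits AlgebraicGeometry Opposite TopologicalSpace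

namespace Groth.Agent.Lib.Helper17.Tow

open Groth.Agent.Lib.Helper23.FQuot Groth.Agent.Lib.Helper21.ThickDict
  Groth.Agent.Lib.Helper17.H0Neg Groth.Agent.Lib.Helper4.VanClass Groth.Agent.Lib.Lead.FormalA
  Groth.Agent.Lib.Helper2.Bridge7 Groth.Agent.Lib.Helper8.GGKill

attribute [local instance] Abelian.hasFiniteBiproducts

section push

variable {Y Y' : Scheme.{u}} (i : Y ⟶ Y') [IsClosedImmersion i]

/-- the direct image of a globally generated module along a closed immersion is globally generated -/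
theorem isGloballyGenerated_push (M : Y.Modules) (hM : Curv2.IsGloballyGenerated M) :
    Curv2.IsGloballyGenerated ((Scheme.Modules.pushforward i).obj M) := by
  obtain ⟨ι, p, hp⟩ := hM
  haveI := hp
  let e := Groth.Agent.Lib.Helper17.GGDescent.pullbackFreeIso i ι
  have h1 : Epi ((Scheme.Modules.pullbackPushforwardAdjunction i).unit.app
      (SheafOfModules.free ι : Y'.Modules)) := epi_unit i _
  haveI : Epi (e.hom ≫ p) := @epi_comp _ _ _ _ _ e.hom inferInstance p hp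
  have h2 : Epi ((Scheme.Modules.pushforward i).map (e.hom ≫ p)) :=
    epi_push_map i i.isClosedEmbedding (e.hom ≫ p)
  exact ⟨ι, (Scheme.Modules.pullbackPushforwardAdjunction i).unit.app
      (SheafOfModules.free ι : Y'.Modules) ≫ (Scheme.Modules.pushforward i).map (e.hom ≫ p),
    @epi_comp _ _ _ _ _ _ h1 _ h2⟩

end push

section nakayama

variable {A : Type u} [CommRing A] {Y : Scheme.{u}} [Y.Over (Spec (CommRingCat.of A))]

/-- **a Nakayama step for global generation** -/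
theorem isGloballyGenerated_of_nilpotent_kernel (S : ShortComplex Y.Modules) (hS : S.ShortExact)
    (h3 : Curv2.IsGloballyGenerated S.X₃) (h1 : Subsingleton (Coh.HH Y S.X₁ 1))
    {s : ℕ} (c : Fin s → A) (m : ∀ l, S.X₂ ⟶ S.X₁)
    (hm : ∀ l, m l ≫ S.f = Formal.smulMod A S.X₂ (c l))
    (hjoint : ∀ {T : Y.Modules} (g : S.X₁ ⟶ T), (∀ l, m l ≫ g = 0) → g = 0)
    (hnil : ∀ l l', Formal.smulMod A S.X₂ (c l * c l') = 0) :
    Curv2.IsGloballyGenerated S.X₂ := by
  obtain ⟨ι, pQ, hpQ⟩ := h3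
  haveI := hpQ
  haveI := hS.epi_g
  haveI := hS.mono_f
  have hsurj := Groth.Agent.Lib.Helper17.Serre.surjective_app_top_of_H1 S hS h1
  obtain ⟨pG, hpG⟩ := Groth.Agent.Lib.Helper17.GGDescent.exists_lift_free S.g hsurj pQ
  refine ⟨ι, pG, ?_⟩
  let π := cokernel.π pG
  -- (1) `S.f ≫ π` is an epimorphism
  have h1' : ∀ {T : Y.Modules} (g : cokernel pG ⟶ T), S.f ≫ π ≫ g = 0 → g = 0 := by
    intro T g hg
    -- `π ≫ g` factors through `S.g`
    have hker : S.f ≫ (π ≫ g) = 0 := hg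
    obtain ⟨h, hh⟩ : ∃ h : S.X₃ ⟶ T, S.g ≫ h = π ≫ g :=
      ⟨hS.exact.desc (π ≫ g) hker, hS.exact.g_desc _ _⟩
    have h0 : pQ ≫ h = 0 := by
      have e1 : pQ ≫ h = pG ≫ (S.g ≫ h) := by rw [← Category.assoc, hpG]
      have e2 : pG ≫ (π ≫ g) = 0 := by rw [← Category.assoc, cokernel.condition, zero_comp]
      exact e1.trans ((congrArg (fun t => pG ≫ t) hh).trans e2)
    have hh0 : h = 0 := (cancel_epi pQ).1 (h0.trans comp_zero.symm)
    rw [hh0, comp_zero] at hh
    exact (cancel_epi π).1 (hh.symm.trans comp_zero.symm)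
  -- (4) multiplication by the `c l` is jointly epimorphic on the cokernel
  have h4 : ∀ {T : Y.Modules} (g : cokernel pG ⟶ T),
      (∀ l, Formal.smulMod A (cokernel pG) (c l) ≫ g = 0) → g = 0 := by
    intro T g hg
    refine h1' g (hjoint _ fun l => ?_)
    have e1 : m l ≫ S.f ≫ π ≫ g = (Formal.smulMod A S.X₂ (c l) ≫ π) ≫ g := by
      rw [← Category.assoc, hm, Category.assoc]
    have e2 : (Formal.smulMod A S.X₂ (c l) ≫ π) ≫ g = π ≫ (Formal.smulMod A (cokernel pG) (c l) ≫ g) :=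
      (congrArg (fun t => t ≫ g) (smulMod_naturality π (c l))).trans (Category.assoc _ _ _)
    exact e1.trans (e2.trans ((congrArg (fun t => π ≫ t) (hg l)).trans comp_zero))
  -- (5) products of the `c l` kill the cokernel
  have h5 : ∀ l l', Formal.smulMod A (cokernel pG) (c l) ≫ Formal.smulMod A (cokernel pG) (c l') = 0 := by
    intro l l'
    refine (smulMod_mul _ _ _).symm.trans ((cancel_epi π).1 ((smulMod_naturality π _).symm.trans ?_))
    rw [hnil, zero_comp]
    exact comp_zero.symm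
  have h6 : ∀ l', Formal.smulMod A (cokernel pG) (c l') = 0 := fun l' => h4 _ fun l => h5 l l'
  have h7 : (𝟙 (cokernel pG)) = 0 := h4 _ fun l => by rw [h6, zero_comp]
  have h8 : π = 0 := by rw [← Category.comp_id π, h7, comp_zero]
  exact Abelian.epi_of_cokernel_π_eq_zero _ h8

end nakayama

section step

open Groth.Agent.Lib.Helper2.GSplit2 Groth.Agent.Lib.Helper17.Graded Groth.Agent.Lib.Helper17.GrFormal

variable {A : Type u} [CommRing A]

theorem TL_map_smulMod {Y : Scheme.{u}} [Y.Over (Spec (CommRingCat.of A))] (E M : Y.Modules) (c : A) :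
    (TL E).map (Formal.smulMod A M c) = Formal.smulMod A ((TL E).obj M) c := by
  unfold Formal.smulMod
  exact TL_map_smulModΓ E M _

variable {J : Ideal A} {Xs : ℕ → Scheme.{u}}
  [∀ k, (Xs k).Over (Spec (CommRingCat.of A))] {i : ∀ k, Xs k ⟶ Xs (k + 1)}
  (𝒯 : TowSys J Xs i)

/-- multiplication by generators of `J^(n+1)` maps onto the `n`-th kernel -/
theorem TowSys.eq_zero_of_ell₀_comp_gen {n s : ℕ} (c : Fin s → A) (hc : ∀ l, c l ∈ J ^ (n + 1))
    (hspan : Ideal.span (Set.range c) = J ^ (n + 1)) {T : (Xs (n + 1)).Modules} (g : 𝒯.K n ⟶ T)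
    (hx : ∀ l, 𝒯.ell₀ (c l) (hc l) ≫ g = 0) : g = 0 := by
  refine eq_zero_of_kernel_lift_smulMod_comp (𝒯.u n) (𝒯.hu n) g fun b hb => ?_
  have hb' : b ∈ Ideal.span (Set.range c) := by rw [hspan]; exact hb
  obtain ⟨e, rfl⟩ := Ideal.mem_span_range_iff_exists_fun.1 hb'
  have h1 : kernel.lift (𝒯.u n) (Formal.smulMod A (𝒯.F (n + 1)) (∑ l, e l * c l))
      ((𝒯.hu n).zero _ hb) = ∑ l, Formal.smulMod A (𝒯.F (n + 1)) (e l) ≫ 𝒯.ell₀ (c l) (hc l) := by
    rw [← cancel_mono (kernel.ι (𝒯.u n)), kernel.lift_ι, Preadditive.sum_comp, smulMod_sum]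
    refine Finset.sum_congr rfl fun l _ => ?_
    unfold TowSys.ell₀
    rw [Category.assoc, kernel.lift_ι, ← smulMod_mul]
  rw [h1, Preadditive.sum_comp]
  refine Finset.sum_eq_zero fun l _ => ?_
  rw [Category.assoc, hx, comp_zero]

variable [∀ k, IsClosedImmersion (i k)]

omit [∀ k, IsClosedImmersion (i k)] in
/-- the inductive step: global generation passes from level `k` to level `k + 1` -/
theorem TowSys.gg_step (hJ : J.FG) (k : ℕ) (L' : (Xs (k + 1)).Modules) (hL' : PicF.IsInvertible L')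
    (n : ℕ) (h3 : Curv2.IsGloballyGenerated (Pn ((𝒯.P k).obj (𝒯.F k)) L' n))
    (h1 : Subsingleton (Coh.HH (Xs (k + 1)) (Pn (𝒯.K k) L' n) 1)) :
    Curv2.IsGloballyGenerated (Pn (𝒯.F (k + 1)) L' n) := by
  obtain ⟨s, c, hspan⟩ := Submodule.fg_iff_exists_fin_generating_family.1 (hJ.pow (n := k + 1))
  have hspan' : Ideal.span (Set.range c) = J ^ (k + 1) := hspan
  have hc : ∀ l, c l ∈ J ^ (k + 1) := fun l => hspan' ▸ Ideal.subset_span ⟨l, rfl⟩
  let E := CohB1.tensorPow L' n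
  let S : ShortComplex (Xs (k + 1)).Modules :=
    ShortComplex.mk (kernel.ι (𝒯.u k)) (𝒯.u k) (kernel.condition _)
  have hSe : S.ShortExact :=
    { exact := ShortComplex.exact_of_f_is_kernel _ (kernelIsKernel (𝒯.u k))
      mono_f := inferInstanceAs (Mono (kernel.ι (𝒯.u k)))
      epi_g := inferInstanceAs (Epi (𝒯.u k)) }
  have hS' : (S.map (TL E)).ShortExact := shortExact_twist hL' n S hSe
  let σ : (⨁ fun _ : Fin s => 𝒯.F (k + 1)) ⟶ 𝒯.K k := biproduct.desc fun l => 𝒯.ell₀ (c l) (hc l)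
  haveI hσ : Epi σ := by
    apply Preadditive.epi_of_cancel_zero
    intro T g hg
    refine 𝒯.eq_zero_of_ell₀_comp_gen c hc hspan' g fun l => ?_
    have h1 := congrArg (fun t => biproduct.ι (fun _ : Fin s => 𝒯.F (k + 1)) l ≫ t) hg
    simp only [comp_zero] at h1
    rw [← Category.assoc, biproduct.ι_desc] at h1
    exact h1
  have hσ' : Epi ((TL E).map σ) := by
    let Sσ : ShortComplex (Xs (k + 1)).Modules := ShortComplex.mk (kernel.ι σ) σ (kernel.condition _)
    have hSσ : Sσ.ShortExact :=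
      { exact := ShortComplex.exact_of_f_is_kernel _ (kernelIsKernel σ)
        mono_f := inferInstanceAs (Mono (kernel.ι σ))
        epi_g := hσ }
    exact (shortExact_twist hL' n Sσ hSσ).epi_g
  have hσeq : (TL E).map σ = ∑ l, (TL E).map (biproduct.π (fun _ : Fin s => 𝒯.F (k + 1)) l) ≫
      (TL E).map (𝒯.ell₀ (c l) (hc l)) := by
    have h0 : σ = ∑ l, biproduct.π (fun _ : Fin s => 𝒯.F (k + 1)) l ≫ 𝒯.ell₀ (c l) (hc l) :=
      biproduct.desc_eq
    rw [h0, Functor.map_sum]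
    exact Finset.sum_congr rfl fun l _ => Functor.map_comp _ _ _
  refine isGloballyGenerated_of_iso (twistIso L' n (𝒯.F (k + 1))) ?_
  refine isGloballyGenerated_of_nilpotent_kernel (S.map (TL E)) hS' ?_ ?_ c
    (fun l => (TL E).map (𝒯.ell₀ (c l) (hc l))) ?_ ?_ ?_
  · exact isGloballyGenerated_of_iso (twistIso L' n _).symm h3
  · exact subsingleton_HH_of_iso (twistIso L' n (𝒯.K k)).symm 1 h1
  · intro l
    show (TL E).map (𝒯.ell₀ (c l) (hc l)) ≫ (TL E).map (kernel.ι (𝒯.u k)) = _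
    rw [← Functor.map_comp]
    unfold TowSys.ell₀
    rw [kernel.lift_ι]
    exact TL_map_smulMod E _ _
  · intro T g hg
    have hg' : ∀ l, (TL E).map (𝒯.ell₀ (c l) (hc l)) ≫ (g : (TL E).obj (𝒯.K k) ⟶ T) = 0 := hg
    have h0 : (TL E).map σ ≫ (g : (TL E).obj (𝒯.K k) ⟶ T) = 0 := by
      rw [hσeq, Preadditive.sum_comp]
      refine Finset.sum_eq_zero fun l _ => ?_
      rw [Category.assoc, hg' l, comp_zero]
    exact (cancel_epi ((TL E).map σ)).1 (h0.trans comp_zero.symm)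
  · intro l l'
    show Formal.smulMod A ((TL E).obj (𝒯.F (k + 1))) (c l * c l') = 0
    have hmem : c l * c l' ∈ J ^ (k + 1 + 1) := by
      have h := Ideal.mul_mem_mul (hc l) (hc l')
      rw [← pow_add] at h
      exact Ideal.pow_le_pow_right (by omega) h
    rw [← TL_map_smulMod, 𝒯.hkill (k + 1) _ hmem, Functor.map_zero]

/-- **uniform global generation along a tower of thickenings** -/
theorem TowSys.uniform_gg [IsNoetherian (Xs 0)] (hJ : J.FG)
    (hcoh : ∀ k, Coh.IsCoh (𝒯.F k))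
    (hker : ∀ (k : ℕ) (U : (Xs (k + 1)).Opens), IsAffineOpen U → ∀ r : Γ(Xs (k + 1), U),
      ((i k).app U).hom r = 0 → r ∈ Ideal.map (phiU (Xs (k + 1) ↘ Spec (CommRingCat.of A)) U) J)
    (L : ∀ k, (Xs k).Modules) (hL : ∀ k, PicF.IsInvertible (L k))
    (φ : ∀ k, (Scheme.Modules.pullback (i k)).obj (L (k + 1)) ≅ L k)
    (hS : ∀ M : (Xs 0).Modules, Coh.IsCoh M → Van (L 0) M)
    (hGG : ∃ N₀ : ℕ, ∀ n : ℕ, N₀ ≤ n → Curv2.IsGloballyGenerated (Pn (𝒯.F 0) (L 0) n)) :
    ∃ N : ℕ, ∀ n : ℕ, N ≤ n → ∀ k : ℕ, Curv2.IsGloballyGenerated (Pn (𝒯.F k) (L k) n) := by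
  haveI hqc : ∀ k, (𝒯.F k).IsQuasicoherent := fun k => (hcoh k).1
  obtain ⟨r, a, hspan⟩ := Submodule.fg_iff_exists_fin_generating_family.1 hJ
  have hspan' : Ideal.span (Set.range a) = J := hspan
  have ha : ∀ j, a j ∈ J := fun j => hspan' ▸ Ideal.subset_span ⟨j, rfl⟩
  have hFG := 𝒯.isFG_Gsys a ha hcoh hspan'
  obtain ⟨d₁, hd₁⟩ := uvan_of_isFG (hL 0) hS r (𝒯.Gsys a ha) hFG
  obtain ⟨N₀, hN₀⟩ := hGG
  refine ⟨max d₁ N₀, fun n hn k => ?_⟩
  have hd₁' : d₁ ≤ n := (le_max_left _ _).trans hn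
  have hN₀' : N₀ ≤ n := (le_max_right _ _).trans hn
  induction k with
  | zero => exact hN₀ n hN₀'
  | succ k ih =>
    refine 𝒯.gg_step hJ k (L (k + 1)) (hL (k + 1)) n ?_ ?_
    · obtain ⟨ψ⟩ := nonempty_push_Pn_iso (i k) (𝒯.F k) (L (k + 1)) (hL (k + 1)) n
      let e1 : Pn (𝒯.F k) ((Scheme.Modules.pullback (i k)).obj (L (k + 1))) n ≅ Pn (𝒯.F k) (L k) n :=
        PicGrp.tensorModIso (Iso.refl _) (Groth.Agent.Lib.Helper28.AmpleIso.tensorPowIso (φ k) n)
      have h2 := isGloballyGenerated_of_iso e1.symm ih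
      have h3 := isGloballyGenerated_push (i k) _ h2
      exact isGloballyGenerated_of_iso ψ h3
    · haveI hG : ((𝒯.Gsys a ha).K k).IsQuasicoherent := (hFG.coh k).1
      have h1 := subsingleton_HH_Pi (i := i) L hL φ ((𝒯.Gsys a ha).K k) n 1
        (hd₁ n hd₁' k 1 Nat.one_pos) (k + 1)
      have hiso : IsIso ((adj Xs i (k + 1)).unit.app (𝒯.K k)) :=
        isIso_unit_adj 𝒯.hi hker (k + 1) (𝒯.K k) (𝒯.killedBy_K k)
      let e : 𝒯.K k ≅ (Pi Xs i (k + 1)).obj ((𝒯.Gsys a ha).K k) :=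
        @asIso _ _ _ _ ((adj Xs i (k + 1)).unit.app (𝒯.K k)) hiso
      exact subsingleton_HH_of_iso (PicGrp.tensorModIso e.symm (Iso.refl _)) 1 h1

end step

section adic

variable (A : Type u) [CommRing A] [IsNoetherianRing A] (J : Ideal A)

/-- **uniform global generation of the twists on the levels of an adic system** -/
theorem adic_uniform_gg
    (Xs : ℕ → Scheme.{u}) (p : (k : ℕ) → (Xs k ⟶ Spec (CommRingCat.of (A ⧸ J ^ (k + 1)))))
    (i : (k : ℕ) → (Xs k ⟶ Xs (k + 1)))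
    (hcart : ∀ k, IsPullback (i k) (p k) (p (k + 1)) (CohB1.specQuotTrans J k)) (hp : IsProper (p 0))
    (L : (k : ℕ) → (Xs k).Modules) (hL : ∀ k, PicF.IsInvertible (L k))
    (φ : ∀ k, Nonempty ((Scheme.Modules.pullback (i k)).obj (L (k + 1)) ≅ L k)) (ha : CohB1.IsAmple (L 0))
    (F : (k : ℕ) → (Xs k).Modules) (hF : ∀ k, Coh.IsCoh (F k))
    (ψ : ∀ k, Nonempty ((Scheme.Modules.pullback (i k)).obj (F (k + 1)) ≅ F k)) :
    ∃ N : ℕ, ∀ n : ℕ, N ≤ n → ∀ k : ℕ,
      Curv2.IsGloballyGenerated (CohB1.tensorMod (F k) (CohB1.tensorPow (L k) n)) := by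
  letI : ∀ k, (Xs k).Over (Spec (CommRingCat.of A)) := fun k => ⟨p k ≫ CohB1.specQuot J k⟩
  have hover : ∀ k, (Xs k ↘ Spec (CommRingCat.of A)) = p k ≫ CohB1.specQuot J k := fun k => rfl
  have hi : ∀ k, i k ≫ (Xs (k + 1) ↘ Spec (CommRingCat.of A)) = Xs k ↘ Spec (CommRingCat.of A) := by
    intro k
    rw [hover, hover, ← Category.assoc, (hcart k).w, Category.assoc, CohB1.specQuotTrans_specQuot]
  have htr : ∀ k, IsClosedImmersion (CohB1.specQuotTrans J k) := fun k =>
    IsClosedImmersion.spec_of_surjective _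
      (Ideal.Quotient.factor_surjective (Ideal.pow_le_pow_right (Nat.le_succ (k + 1))))
  haveI hci : ∀ k, IsClosedImmersion (i k) := fun k =>
    MorphismProperty.of_isPullback (P := @IsClosedImmersion) (hcart k).flip (htr k)
  have hq1 : ∀ k, IsClosedImmersion (CohB1.specQuot J k) := fun k =>
    IsClosedImmersion.spec_of_surjective _ Ideal.Quotient.mk_surjective
  have hmono : ∀ k, IsPullback (CohB1.specQuotTrans J k) (𝟙 _) (CohB1.specQuot J (k + 1))
      (CohB1.specQuot J k) := by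
    intro k
    haveI := hq1 (k + 1)
    have h1 : IsPullback (CohB1.specQuotTrans J k) (𝟙 _) (𝟙 _) (CohB1.specQuotTrans J k) :=
      IsPullback.of_vert_isIso ⟨by simp⟩
    have h2 : IsPullback (𝟙 _) (𝟙 _) (CohB1.specQuot J (k + 1)) (CohB1.specQuot J (k + 1)) :=
      IsKernelPair.id_of_mono _
    have h3 := h1.paste_horiz h2
    rw [Category.comp_id, CohB1.specQuotTrans_specQuot] at h3
    exact h3
  have hpb : ∀ k, IsPullback (i k) (p k) (Xs (k + 1) ↘ Spec (CommRingCat.of A))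
      (CohB1.specQuot J k) := by
    intro k
    have h := (hcart k).paste_vert (hmono k)
    rw [Category.comp_id] at h
    exact h
  have hker' : ∀ (k : ℕ) (U : (Xs (k + 1)).Opens), IsAffineOpen U → ∀ r : Γ(Xs (k + 1), U),
      ((i k).app U).hom r = 0 →
      r ∈ Ideal.map (phiU (Xs (k + 1) ↘ Spec (CommRingCat.of A)) U) (J ^ (k + 1)) :=
    fun k U hU r hr => mem_map_of_isPullback (J ^ (k + 1)) _ (i k) (p k) (hpb k) U hU r hr
  have hzero : ∀ (k : ℕ), ∀ c ∈ J ^ (k + 1), ∀ N : (Xs k).Modules, Formal.smulMod A N c = 0 := by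
    intro k c hc N
    unfold Formal.smulMod
    have h0 : Coh.toGlobal (Xs k ↘ Spec (CommRingCat.of A)) c = 0 :=
      toGlobal_eq_zero (J ^ (k + 1)) (p k) c hc
    rw [h0]
    exact KLin.smulModΓ_zero N
  haveI hqc : ∀ k, (F k).IsQuasicoherent := fun k => (hF k).1
  have hfg : ∀ k : ℕ, (J ^ (k + 1)).FG := fun k => IsNoetherian.noetherian _
  let 𝒯 : TowSys J Xs i :=
    { hi := hi
      hcl := fun k => (i k).isClosedEmbedding
      F := F
      u := fun k => (Scheme.Modules.pullbackPushforwardAdjunction (i k)).unit.app (F (k + 1)) ≫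
        (Scheme.Modules.pushforward (i k)).map (ψ k).some.hom
      hu := fun k => IsQuot.comp_iso
        (isQuot_unit (i k) (hi k) (J ^ (k + 1)) (hfg k) (hker' k) (hzero k) (F (k + 1)))
      hkill := fun k c hc => hzero k c hc (F k) }
  haveI : IsLocallyNoetherian (Xs 0) := LocallyOfFiniteType.isLocallyNoetherian (p 0)
  haveI : CompactSpace (Xs 0) := by
    have := (quasiCompact_iff_compactSpace (p 0)).1 inferInstance
    exact this
  haveI : IsNoetherian (Xs 0) := ⟨⟩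
  have hS : ∀ M : (Xs 0).Modules, Coh.IsCoh M → Van (L 0) M := fun M hM =>
    Groth.Agent.Lib.Helper4.AmpleSerre.vanishing_of_isAmple (A ⧸ J ^ (0 + 1)) (Xs 0) (p 0) (L 0) ha M hM
  have hker : ∀ (k : ℕ) (U : (Xs (k + 1)).Opens), IsAffineOpen U → ∀ r : Γ(Xs (k + 1), U),
      ((i k).app U).hom r = 0 →
      r ∈ Ideal.map (phiU (Xs (k + 1) ↘ Spec (CommRingCat.of A)) U) J :=
    fun k U hU r hr => Ideal.map_mono (Ideal.pow_le_self (Nat.succ_ne_zero k)) (hker' k U hU r hr)
  have hGG := Groth.Agent.Lib.Helper28.GenLocus.exists_forall_isGloballyGenerated ha (F 0) (hF 0)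
  exact 𝒯.uniform_gg (IsNoetherian.noetherian J) hF hker L hL (fun k => (φ k).some) hS hGG

end adic

end Groth.Agent.Lib.Helper17.Tow
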