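import Groth.Agent.Lib.Helper17.HypEll
import Groth.Agent.Lib.Helper28.QCohGen
import Groth.Agent.Lib.Helper6.DevCore
import Groth.Agent.Lib.Helper6.DevRed
import Groth.Agent.S2501
import Groth.Prelude.Def_FinCov
import Mathlib

set_option backward.isDefEq.respectTransparency.types false
set_option autoImplicit false
set_option linter.style.haveILetI false
set_option linter.unusedSectionVars false
universe u
open CategoryTheory CategoryTheory.Limits AlgebraicGeometry Opposite TopologicalSpace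
noncomputable section

namespace Groth.Agent.Lib.Helper17.TraceDeg

open Groth.Agent.Lib.Helper28 Groth.Agent.Lib.Helper28.QCohLoc Groth.Agent.Lib.Helper17.NormFLF
open Groth.Agent.Lib.Helper8.EulerK Groth.Agent.Lib.Helper17.HypEll

section Epi

variable {X Y : Scheme.{u}} (π : X ⟶ Y) [IsFinite π] [Flat π] [LocallyOfFinitePresentation π]
  (τ : (Scheme.Modules.pushforward π).obj (Coh.structureModule X) ⟶ Coh.structureModule Y)
  (hτ : FinCov.IsTraceHom π τ) (d : ℕ) (hd : ∀ y, π.finrank y = d)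

attribute [local instance] Groth.Agent.Lib.Helper17.NormFLF.algApp

include hτ hd in
/-- over a good open the trace of a function from the base is `d` times it -/
theorem trace_app {W : Y.Opens} (hW : Good π W) (y : Y) (hy : y ∈ W) (c : Γ(Y, W)) :
    τ.app W (show Γ((Scheme.Modules.pushforward π).obj (Coh.structureModule X), W) from
      (π.app W).hom c) = (show Γ(Coh.structureModule Y, W) from (d • c : Γ(Y, W))) := by
  haveI : Nonempty W := ⟨⟨y, hy⟩⟩
  haveI : Nontrivial Γ(Y, W) := Scheme.component_nontrivial Y W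
  have key : ∀ (φ : Γ(Y, W) →+* Γ(X, π ⁻¹ᵁ W)), φ = (π.appLE W (π ⁻¹ᵁ W) le_rfl).hom →
      (letI := φ.toAlgebra
       Module.Free Γ(Y, W) Γ(X, π ⁻¹ᵁ W) ∧ Module.Finite Γ(Y, W) Γ(X, π ⁻¹ᵁ W) ∧
        Module.finrank Γ(Y, W) Γ(X, π ⁻¹ᵁ W) = d) := by
    rintro φ rfl
    exact ⟨hW.2, finite_app π hW.1, finrank_eq π hW hd y hy⟩
  have he : (π.app W).hom = (π.appLE W (π ⁻¹ᵁ W) le_rfl).hom := by rw [Scheme.Hom.app_eq_appLE]
  obtain ⟨h1, h2, h3⟩ := key (π.app W).hom he
  have h4 := hτ W hW.1 h1 h2 ((π.app W).hom c)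
  letI := (π.app W).hom.toAlgebra
  have h5 : Algebra.trace Γ(Y, W) Γ(X, π ⁻¹ᵁ W) (algebraMap Γ(Y, W) Γ(X, π ⁻¹ᵁ W) c) =
      Module.finrank Γ(Y, W) Γ(X, π ⁻¹ᵁ W) • c := Algebra.trace_algebraMap c
  rw [h3] at h5
  exact h4.trans h5

include hτ hd in
/-- the trace is an epimorphism when the degree is invertible -/
theorem epi_trace (i2 : ∀ V : Y.Opens, Γ(Y, V)) (hi2 : ∀ V : Y.Opens, (d : Γ(Y, V)) * i2 V = 1) : Epi τ := by
  refine epi_of_locally_in_range τ ?_
  intro U x pt hpt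
  obtain ⟨W, hW, hptW⟩ := exists_good π pt
  obtain ⟨f, hfU, hptf⟩ := hW.1.exists_basicOpen_le (V := U) ⟨pt, hpt⟩ hptW
  have hV : Good π (Y.basicOpen f) := good_basicOpen π f hW
  refine ⟨Y.basicOpen f, hfU, hptf, ?_⟩
  let c : Γ(Y, Y.basicOpen f) := (show Γ(Y, Y.basicOpen f) from res (Coh.structureModule Y) hfU x) *
    i2 (Y.basicOpen f)
  refine ⟨(show Γ((Scheme.Modules.pushforward π).obj (Coh.structureModule X), Y.basicOpen f) from
      (π.app (Y.basicOpen f)).hom c), ?_⟩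
  rw [trace_app π τ hτ d hd hV pt hptf c]
  show (d • c : Γ(Y, Y.basicOpen f)) = _
  rw [nsmul_eq_mul]
  show (d : Γ(Y, Y.basicOpen f)) * ((show Γ(Y, Y.basicOpen f) from
    res (Coh.structureModule Y) hfU x) * i2 (Y.basicOpen f)) = _
  rw [mul_left_comm, hi2, mul_one]

end Epi


section Main

variable (k : Type u) [Field k]

/-- the structure map `k → Γ(Y, V)` for a `k`-scheme -/
def ρ (Y : Scheme.{u}) (q : Y ⟶ Spec (CommRingCat.of k)) (V : Y.Opens) : k →+* Γ(Y, V) :=
  ((Scheme.ΓSpecIso (CommRingCat.of k)).inv ≫ q.appTop ≫ Y.presheaf.map (homOfLE le_top).op).hom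

theorem deg_kernel_trace [IsAlgClosed k] (h2 : (2 : k) ≠ 0) (X : Scheme.{u})
    [X.Over (Spec (CommRingCat.of k))] [IsProper (X ↘ Spec (CommRingCat.of k))]
    [Smooth (X ↘ Spec (CommRingCat.of k))] [ConnectedSpace ↥X] (hX : topologicalKrullDim ↥X = 1)
    (h : X ⟶ CohB1.ProjSpace 1 k) (hh : h ≫ CohB1.ProjSpace.toSpec 1 k = X ↘ Spec (CommRingCat.of k))
    [IsFinite h] [Flat h] [LocallyOfFinitePresentation h]
    (hr : ∀ y : ↥(CohB1.ProjSpace 1 k), h.finrank y = 2)
    (τ : (Scheme.Modules.pushforward h).obj (Coh.structureModule X) ⟶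
      Coh.structureModule (CohB1.ProjSpace 1 k))
    (hτ : FinCov.IsTraceHom h τ) :
    Curv2.deg k (CohB1.ProjSpace 1 k) (kernel τ) 1 = -((Curv2.genus k X : ℤ) + 1) := by
  haveI hP : IsProper (CohB1.ProjSpace.toSpec 1 k) := Groth.Agent.Lib.Helper28.ProjSpaceBasic.isProper_toSpec 1 k
  haveI hP' : IsProper (CohB1.ProjSpace 1 k ↘ Spec (CommRingCat.of k)) := hP
  haveI : IsLocallyNoetherian (CohB1.ProjSpace 1 k) :=
    LocallyOfFiniteType.isLocallyNoetherian (CohB1.ProjSpace.toSpec 1 k)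
  -- the trace is an epimorphism
  have hepi : Epi τ := by
    refine epi_trace h τ hτ 2 hr (fun V => ρ k _ (CohB1.ProjSpace.toSpec 1 k) V ((2 : k)⁻¹)) (fun V => ?_)
    have : ((2 : ℕ) : Γ(CohB1.ProjSpace 1 k, V)) = ρ k _ (CohB1.ProjSpace.toSpec 1 k) V (2 : k) := by
      rw [map_ofNat]; rfl
    rw [this, ← map_mul, mul_inv_cancel₀ h2, map_one]
  -- the short exact sequence
  have hE := isFinLocFreeOfRank_pushforward h 2 hr
  have hcE := Groth.Agent.Lib.Helper2.GSplit5.isCoh_of_isFinLocFreeOfRank _ hE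
  have hcO : Coh.IsCoh (Coh.structureModule (CohB1.ProjSpace 1 k)) :=
    Groth.Agent.Lib.Helper6.DevRed.isCoh_structureModule
  have hcK := Groth.Agent.Lib.Helper6.DevCore.isCoh_kernel τ hcE hcO
  let S : ShortComplex (CohB1.ProjSpace 1 k).Modules := ShortComplex.mk (kernel.ι τ) τ (kernel.condition τ)
  have hS : S.ShortExact :=
    { exact := ShortComplex.exact_of_f_is_kernel _ (kernelIsKernel τ)
      mono_f := inferInstanceAs (Mono (kernel.ι τ))
      epi_g := hepi }
  have hadd := euler_add k (CohB1.ProjSpace 1 k) S hS hcK hcE hcO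
  -- χ(O_X)
  haveI := geometricallyReduced_of_smooth k (X ↘ Spec (CommRingCat.of k))
  haveI := Groth.Agent.S2501.result (X ↘ Spec (CommRingCat.of k))
  have hH0 := Groth.Agent.S1536.result k X
  haveI : IsNoetherian X := Groth.Agent.Lib.Helper8.CurveRR.isNoetherian k X
  have hχX : Curv2.euler k X (Coh.structureModule X) = 1 - (Curv2.genus k X : ℤ) := by
    rw [euler_eq_sum k X (Coh.structureModule X) 2 (fun p hp => by
      obtain ⟨q, rfl⟩ : ∃ q, p = q + 2 := ⟨p - 2, by omega⟩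
      exact Groth.Agent.Lib.Helper8.GGCoh.subsingleton_HH_add_two (le_of_eq hX) _ q)]
    rw [Finset.sum_range_succ, Finset.sum_range_one, hH0]
    unfold Curv2.genus
    simp
    ring
  have hpush := Groth.Agent.Lib.Helper8.AffPush.euler_push k h hh (Coh.structureModule X) inferInstance
  -- χ(O_P) = 1
  obtain ⟨z0⟩ := Groth.Agent.Lib.Helper28.TwistCov.nonempty_twist_zero_iso (CohB1.polyGrading 1 k)
    (Groth.Agent.Lib.Helper28.VeryAmpleImm.projSpace_cover 1 k)
  have z0' : Twist.twistProjSpace 1 k 0 ≅ Coh.structureModule (CohB1.ProjSpace 1 k) := z0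
  have hχP : Curv2.euler k (CohB1.ProjSpace 1 k) (Coh.structureModule (CohB1.ProjSpace 1 k)) = 1 := by
    rw [← euler_congr k z0', Groth.Agent.Lib.Helper17.P1Pic.euler_twist]
    ring
  unfold Curv2.deg
  have hadd' : Curv2.euler k (CohB1.ProjSpace 1 k)
      ((Scheme.Modules.pushforward h).obj (Coh.structureModule X)) =
      Curv2.euler k (CohB1.ProjSpace 1 k) (kernel τ) +
        Curv2.euler k (CohB1.ProjSpace 1 k) (Coh.structureModule (CohB1.ProjSpace 1 k)) := hadd
  rw [hpush, hχX, hχP] at hadd'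
  rw [hχP]
  push_cast
  linarith

end Main

end Groth.Agent.Lib.Helper17.TraceDeg
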