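import Groth.Agent.Lib.Helper17.AdicFlatE
import Groth.Agent.Lib.Helper17.USES
import Groth.Agent.Lib.Helper29.UnitIso
import Mathlib
set_option backward.isDefEq.respectTransparency.types false
set_option autoImplicit false
set_option linter.style.haveILetI false
set_option linter.unusedSectionVars false

universe u
open CategoryTheory CategoryTheory.Limits AlgebraicGeometry Opposite TopologicalSpace Abelian

noncomputable section
namespace Groth.Agent.Lib.Helper17.UBase

open Groth.Agent.Lib.Helper17.AdicFlat Groth.Agent.Lib.Helper17.USES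
open Groth.Agent.Lib.Helper17.Tow Groth.Agent.Lib.Helper21.ThickDict

theorem unitToPush_eq {X Y : Scheme.{u}} (f : X ⟶ Y) :
    ClSub.unitToPush f = (Scheme.Modules.pullbackPushforwardAdjunction f).unit.app (Coh.structureModule Y) ≫
      (Scheme.Modules.pushforward f).map (Groth.Agent.Lib.Helper16.RS.pullbackUnitIso f).hom := by
  have h2 := SheafOfModules.pullbackPushforwardAdjunction_homEquiv_pullbackObjUnitToUnit
      f.toRingCatSheafHom
  rw [Adjunction.homEquiv_unit] at h2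
  refine Eq.trans ?_ h2.symm
  rfl

/-- the ideal module of `t` is the kernel of the unit at `O_Y` -/
def IIiso {Y Z : Scheme.{u}} (t : Z ⟶ Y) :
    II t ≅ kernel ((Scheme.Modules.pullbackPushforwardAdjunction t).unit.app (Coh.structureModule Y)) :=
  kernelIsoOfEq (unitToPush_eq t) ≪≫ kernelCompMono _ _


section Base

variable (R : Type u) [CommRing R] {Y : Scheme.{u}} [Y.Over (Spec (CommRingCat.of R))]
  {Z : Scheme.{u}} (ι : Z ⟶ Y) [IsClosedImmersion ι] (J : Ideal R)
  (p : Z ⟶ Spec (CommRingCat.of (R ⧸ J)))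
  (hpb : IsPullback ι p (Y ↘ Spec (CommRingCat.of R))
    (Spec.map (CommRingCat.ofHom (Ideal.Quotient.mk J))))

include hpb in
theorem sqZ_of_mul_eq_zero (hJJ : ∀ a ∈ J, ∀ b ∈ J, a * b = 0) : SqZ ι := by
  intro U r s hr hs
  have hr' := mem_map_of_isPullback J _ ι p hpb U.1 U.2 r hr
  have hs' := mem_map_of_isPullback J _ ι p hpb U.1 U.2 s hs
  have hrs := Ideal.mul_mem_mul hr' hs'
  rw [← Ideal.map_mul] at hrs
  have hz : J * J = ⊥ := by
    rw [eq_bot_iff, Ideal.mul_le]
    intro a ha b hb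
    exact (Ideal.mem_bot).2 (hJJ a ha b hb)
  rw [hz, Ideal.map_bot] at hrs
  exact hrs

include hpb in
/-- **units lift in cohomology along a small thickening of a flat scheme** -/
theorem surjective_H_comap [Flat (Y ↘ Spec (CommRingCat.of R))] (hJ : J.FG)
    {Y₀ : Scheme.{u}} (j : Y₀ ⟶ Y) [IsClosedImmersion j] (𝔪 : Ideal R) [𝔪.IsMaximal]
    (p₀ : Y₀ ⟶ Spec (CommRingCat.of (R ⧸ 𝔪)))
    (hpb₀ : IsPullback j p₀ (Y ↘ Spec (CommRingCat.of R))
      (Spec.map (CommRingCat.ofHom (Ideal.Quotient.mk 𝔪))))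
    (hk : ∀ a ∈ 𝔪, ∀ b ∈ J, a * b = 0) (hJ𝔪 : J ≤ 𝔪) (q : ℕ)
    (h : Subsingleton (Coh.HH Y₀ (Coh.structureModule Y₀) (q + 1))) :
    Function.Surjective (Sheaf.H.map (UnitsSh.comap ι) q) := by
  have hsq : SqZ ι := sqZ_of_mul_eq_zero R ι J p hpb (fun a ha b hb => hk a (hJ𝔪 ha) b hb)
  have hS := USES.shortExact hsq
  have h1 := subsingleton_HH_kernel_unit' R ι J hJ p hpb j 𝔪 p₀ hpb₀ hk (q + 1) h
  have h2 : Subsingleton (Coh.HH Y (II ι) (q + 1)) :=
    Groth.Agent.Lib.Helper4.VanClass.subsingleton_HH_of_iso (IIiso ι).symm (q + 1) h1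
  intro x₃
  obtain ⟨x₂, hx₂⟩ := Ext.covariant_sequence_exact₃ _ hS x₃ rfl (h2.elim _ _)
  exact ⟨x₂, hx₂⟩

end Base

end Groth.Agent.Lib.Helper17.UBase
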