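import Groth.Agent.Lib.Helper17.UCSpan
import Groth.Agent.Lib.Helper28.AmpleSep
import Groth.Agent.Lib.Helper28.RestrictAmple
import Mathlib
set_option backward.isDefEq.respectTransparency.types false
set_option autoImplicit false
universe u
open CategoryTheory CategoryTheory.Limits AlgebraicGeometry Opposite TopologicalSpace
noncomputable section
namespace Groth.Agent.Lib.Helper17.UCAmple

open Groth.Agent.Lib.Helper28 Groth.Agent.Lib.Helper28.QCohLoc Groth.Agent.Lib.Helper28.TensorGen
  Groth.Agent.Lib.Helper28.InvTensor Groth.Agent.Lib.Helper28.AmpleUnit Groth.Agent.Lib.Helper28.TwistAmple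
  Groth.Agent.Lib.Helper28.GenLocus

variable {X S : Scheme.{u}}

theorem isAffineOpen_genLocus (f : X ⟶ S) [UniversallyClosed f] [IsAffine S]
    (L : X.Modules) (hL : CohB1.IsAmple L) (s : Coh.structureModule X ⟶ L) :
    IsAffineOpen (CohB1.genLocus L s) := by
  have hLinv := hL.1
  haveI : CompactSpace X := hL.2.1
  haveI : IsAffineHom (CohB1.genLocus L s).ι := isAffineHom_genLocus_ι hLinv s
  haveI : CompactSpace (↑(CohB1.genLocus L s) : Scheme.{u}) :=
    QuasiCompact.compactSpace_of_compactSpace (CohB1.genLocus L s).ι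
  choose n t hxt haff using hL.2.2
  have hσ : ∀ x, CohB1.genLocus _ (spow s (n x + 1)) = CohB1.genLocus L s := fun x =>
    genLocus_spow hLinv s (n x + 1) (Nat.succ_pos _)
  choose u v huB huv using fun x => exists_pair_functions (spow s (n x + 1)) (t x)
  let g : X → Γ(X, CohB1.genLocus L s) := fun x => resO (hσ x).ge (u x)
  have hkey : ∀ (x : X) (O' : X.Opens) (h1 : O' ≤ CohB1.genLocus _ (spow s (n x + 1)))
      (h2 : O' ≤ CohB1.genLocus _ (t x)), resO h1 (u x) * resO h2 (v x) = 1 := by
    intro x O' h1 h2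
    have := congrArg (resO (le_inf h1 h2)) (huv x)
    rw [resO_mul, resO_resO, resO_resO] at this
    rw [this]
    exact map_one _
  refine isAffineOpen_of_isAffineOpen_basicOpen _ (Set.range g) ?_ ?_
  · let g' : X → Γ((↑(CohB1.genLocus L s) : Scheme.{u}), ⊤) := fun x =>
      (show Γ(X, (CohB1.genLocus L s).ι ''ᵁ ⊤) from
        resO ((CohB1.genLocus L s).ι_image_top.le.trans (hσ x).ge) (u x))
    have hspan' : Ideal.span (Set.range g') = ⊤ := by
      refine UCSpan.span_eq_top f (CohB1.genLocus L s).ι (fun x => CohB1.genLocus _ (t x))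
        (fun x => ⟨x, hxt x⟩) v g' ?_
      intro x
      rw [Scheme.Opens.ι_app, Scheme.Opens.toScheme_presheaf_map, mul_comm]
      have hle1 : (CohB1.genLocus L s).ι ''ᵁ ((CohB1.genLocus L s).ι ⁻¹ᵁ CohB1.genLocus _ (t x)) ≤
          CohB1.genLocus _ (spow s (n x + 1)) :=
        ((CohB1.genLocus L s).ι_image_le _).trans (hσ x).ge
      have hle2 : (CohB1.genLocus L s).ι ''ᵁ ((CohB1.genLocus L s).ι ⁻¹ᵁ CohB1.genLocus _ (t x)) ≤
          CohB1.genLocus _ (t x) := (CohB1.genLocus L s).ι.image_preimage_le _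
      have h3 := hkey x _ hle1 hle2
      refine Eq.trans ?_ h3
      congr 1
      show X.presheaf.map _ (X.presheaf.map _ (u x)) = X.presheaf.map _ (u x)
      rw [← CommRingCat.comp_apply, ← Functor.map_comp]
      rfl
    have h4 := congrArg (Ideal.map (CohB1.genLocus L s).topIso.hom.hom) hspan'
    rw [Ideal.map_span, Ideal.map_top] at h4
    rw [← h4]
    congr 1
    ext y
    constructor
    · rintro ⟨x, rfl⟩
      refine ⟨g' x, ⟨x, rfl⟩, ?_⟩
      show X.presheaf.map _ (X.presheaf.map _ (u x)) = X.presheaf.map _ (u x)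
      rw [← CommRingCat.comp_apply, ← Functor.map_comp]
      rfl
    · rintro ⟨_, ⟨x, rfl⟩, rfl⟩
      refine ⟨x, ?_⟩
      symm
      show X.presheaf.map _ (X.presheaf.map _ (u x)) = X.presheaf.map _ (u x)
      rw [← CommRingCat.comp_apply, ← Functor.map_comp]
      rfl
  · rintro _ ⟨x, rfl⟩
    have h1 : X.basicOpen (g x) = CohB1.genLocus L s ⊓ CohB1.genLocus _ (t x) := by
      apply le_antisymm
      · refine le_inf (X.basicOpen_le _) ?_
        have : X.basicOpen (g x) ≤ X.basicOpen (u x) := by
          show X.basicOpen (resO (hσ x).ge (u x)) ≤ _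
          rw [Scheme.basicOpen_res]
          exact inf_le_right
        exact this.trans (huB x)
      · refine le_basicOpen_of_isUnit_resO (g x) inf_le_left ?_
        refine IsUnit.of_mul_eq_one (resO inf_le_right (v x)) ?_
        show resO _ (resO _ (u x)) * _ = 1
        rw [resO_resO]
        exact hkey x _ _ _
    rw [h1]
    exact isAffineOpen_genLocus_inf hLinv s (haff x)

end Groth.Agent.Lib.Helper17.UCAmple
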