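import Mathlib
set_option backward.isDefEq.respectTransparency.types false
set_option autoImplicit false
universe u
open CategoryTheory CategoryTheory.Limits AlgebraicGeometry Opposite TopologicalSpace
noncomputable section
namespace Groth.Agent.Lib.Helper17.UCSpan

variable {X S Y : Scheme.{u}}

/-- the affinization of a quasi-compact scheme has dense image -/
theorem mem_closure_range_toSpecΓ [CompactSpace Y] (pt : Spec Γ(Y, ⊤)) :
    pt ∈ closure (Set.range Y.toSpecΓ) := by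
  rw [mem_closure_iff]
  intro o ho hpt
  obtain ⟨_, ⟨b, rfl⟩, hb, hbo⟩ := PrimeSpectrum.isTopologicalBasis_basic_opens.exists_subset_of_mem_open hpt ho
  have hne : Y.basicOpen b ≠ ⊥ := by
    intro hbot
    have hnil : IsNilpotent b := (Scheme.isNilpotent_iff_basicOpen_eq_bot b).2 hbot
    have : b ∈ pt.asIdeal := by
      obtain ⟨n, hn⟩ := hnil
      exact pt.isPrime.mem_of_pow_mem n (hn ▸ pt.asIdeal.zero_mem)
    exact hb this
  obtain ⟨y, hy⟩ : ∃ y, y ∈ Y.basicOpen b := by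
    by_contra hcon
    exact hne (by ext y; simpa using fun hy => hcon ⟨y, hy⟩)
  rw [← Scheme.toSpecΓ_preimage_basicOpen] at hy
  exact ⟨Y.toSpecΓ y, hbo hy, ⟨y, rfl⟩⟩

theorem appLE_congr_hom {A B : Scheme.{u}} (k k' : A ⟶ B) (hk : k = k') (U : B.Opens) (V : A.Opens)
    (e : V ≤ k ⁻¹ᵁ U) : k.appLE U V e = k'.appLE U V (hk ▸ e) := by
  subst hk; rfl

/-- in a local ring, if `b` is not a unit then `a * b - 1` is a unit -/
theorem isUnit_mul_sub_one {R : Type*} [CommRing R] [IsLocalRing R] (a b : R) (hb : ¬ IsUnit b) :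
    IsUnit (a * b - 1) := by
  have h1 : a * b ∈ nonunits R := fun h => hb (isUnit_of_mul_isUnit_right h)
  have h2 : IsUnit (1 - a * b) := IsLocalRing.isUnit_one_sub_self_of_mem_nonunits _ h1
  have : a * b - 1 = -(1 - a * b) := by ring
  rw [this]
  exact h2.neg

theorem span_eq_top (f : X ⟶ S) [UniversallyClosed f] [IsAffine S] (j : Y ⟶ X) [CompactSpace Y]
    {ι : Type*} (W : ι → X.Opens) (hW : ∀ x : X, ∃ i, x ∈ W i)
    (a : ∀ i, Γ(X, W i)) (g : ι → Γ(Y, ⊤))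
    (h : ∀ i, j.app (W i) (a i) * Y.presheaf.map (homOfLE (le_top : j ⁻¹ᵁ W i ≤ ⊤)).op (g i) = 1) :
    Ideal.span (Set.range g) = ⊤ := by
  by_contra hne
  obtain ⟨𝔪, h𝔪, hle⟩ := Ideal.exists_le_maximal _ hne
  let pt : Spec Γ(Y, ⊤) := ⟨𝔪, h𝔪.isPrime⟩
  let gS : Spec Γ(Y, ⊤) ⟶ S := Spec.map (j ≫ f).appTop ≫ S.isoSpec.inv
  have hcomm : j ≫ f = Y.toSpecΓ ≫ gS := by
    have h1 := Scheme.toSpecΓ_naturality (j ≫ f)
    show j ≫ f = Y.toSpecΓ ≫ Spec.map (j ≫ f).appTop ≫ S.isoSpec.inv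
    rw [← Category.assoc, ← h1, Category.assoc]
    have h2 : S.toSpecΓ ≫ S.isoSpec.inv = 𝟙 S := S.isoSpec.hom_inv_id
    rw [h2, Category.comp_id]
  let γ : Y ⟶ pullback f gS := pullback.lift j Y.toSpecΓ hcomm
  have hγ1 : γ ≫ pullback.fst f gS = j := pullback.lift_fst _ _ _
  have hγ2 : γ ≫ pullback.snd f gS = Y.toSpecΓ := pullback.lift_snd _ _ _
  -- the closed image
  have hclosed : IsClosed ((pullback.snd f gS) '' closure (Set.range γ)) :=
    (pullback.snd f gS).isClosedMap _ isClosed_closure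
  have hsub : Set.range Y.toSpecΓ ⊆ (pullback.snd f gS) '' closure (Set.range γ) := by
    rintro _ ⟨y, rfl⟩
    refine ⟨γ y, subset_closure ⟨y, rfl⟩, ?_⟩
    rw [← hγ2]; rfl
  obtain ⟨z, hz, hzpt⟩ := (closure_minimal hsub hclosed) (mem_closure_range_toSpecΓ pt)
  obtain ⟨i, hi⟩ := hW (pullback.fst f gS z)
  let Q : (pullback f gS).Opens := (pullback.fst f gS) ⁻¹ᵁ W i
  have hzQ : z ∈ Q := hi
  let α : Γ(pullback f gS, Q) := (pullback.fst f gS).app (W i) (a i)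
  let β : Γ(pullback f gS, Q) :=
    (pullback.snd f gS).appLE ⊤ Q le_top ((Scheme.ΓSpecIso Γ(Y, ⊤)).inv (g i))
  let φ : Γ(pullback f gS, Q) := α * β - 1
  have hzβ : z ∉ (pullback f gS).basicOpen β := by
    rw [Scheme.basicOpen_appLE]
    rintro ⟨-, hz2⟩
    rw [basicOpen_eq_of_affine] at hz2
    have hz3 : (pullback.snd f gS) z ∈ PrimeSpectrum.basicOpen (g i) := hz2
    rw [hzpt] at hz3
    exact hz3 (hle (Ideal.subset_span ⟨i, rfl⟩))
  have hzφ : z ∈ (pullback f gS).basicOpen φ := by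
    rw [Scheme.mem_basicOpen _ φ z hzQ]
    rw [Scheme.mem_basicOpen _ β z hzQ] at hzβ
    show IsUnit ((pullback f gS).presheaf.germ Q z hzQ (α * β - 1))
    rw [map_sub, map_mul, map_one]
    exact isUnit_mul_sub_one _ _ hzβ
  obtain ⟨_, hyφ, ⟨y, rfl⟩⟩ := mem_closure_iff.1 hz _ ((pullback f gS).basicOpen φ).isOpen hzφ
  have hpt1 : ∀ y' : Y, (pullback.fst f gS) (γ y') = j y' := by
    intro y'
    rw [← hγ1]; rfl
  have hyW : y ∈ j ⁻¹ᵁ W i := by
    have h1 : γ y ∈ Q := (pullback f gS).basicOpen_le φ hyφ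
    have h2 : (pullback.fst f gS) (γ y) ∈ W i := h1
    rw [hpt1] at h2
    exact h2
  have e : j ⁻¹ᵁ W i ≤ γ ⁻¹ᵁ Q := by
    intro y' hy'
    show (pullback.fst f gS) (γ y') ∈ W i
    rw [hpt1]
    exact hy'
  have hy2 : y ∈ Y.basicOpen (γ.appLE Q (j ⁻¹ᵁ W i) e φ) := by
    rw [Scheme.basicOpen_appLE]
    exact ⟨hyW, hyφ⟩
  have hα : γ.appLE Q (j ⁻¹ᵁ W i) e α = j.app (W i) (a i) := by
    show γ.appLE Q (j ⁻¹ᵁ W i) e ((pullback.fst f gS).app (W i) (a i)) = _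
    rw [Scheme.Hom.app_eq_appLE, ← CommRingCat.comp_apply, Scheme.Hom.appLE_comp_appLE,
      appLE_congr_hom _ _ hγ1, Scheme.Hom.appLE_eq_app]
  have hβ : γ.appLE Q (j ⁻¹ᵁ W i) e β = Y.presheaf.map (homOfLE (le_top : j ⁻¹ᵁ W i ≤ ⊤)).op (g i) := by
    show γ.appLE Q (j ⁻¹ᵁ W i) e ((pullback.snd f gS).appLE ⊤ Q le_top ((Scheme.ΓSpecIso Γ(Y, ⊤)).inv (g i))) = _
    rw [← CommRingCat.comp_apply, Scheme.Hom.appLE_comp_appLE, appLE_congr_hom _ _ hγ2]
    unfold Scheme.Hom.appLE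
    rw [CommRingCat.comp_apply]
    have h3 : Y.toSpecΓ.app ⊤ ((Scheme.ΓSpecIso Γ(Y, ⊤)).inv (g i)) = g i := by
      have := Scheme.toSpecΓ_appTop Y
      show Y.toSpecΓ.appTop _ = _
      rw [this, ← CommRingCat.comp_apply, Iso.inv_hom_id]; rfl
    rw [h3]
    rfl
  have hzero : γ.appLE Q (j ⁻¹ᵁ W i) e φ = 0 := by
    show γ.appLE Q (j ⁻¹ᵁ W i) e (α * β - 1) = 0
    rw [map_sub, map_mul, map_one, hα, hβ, h i, sub_self]
  rw [hzero, Scheme.basicOpen_zero] at hy2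
  exact hy2

end Groth.Agent.Lib.Helper17.UCSpan
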