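import Groth.Agent.Lib.Helper17.UStep
import Mathlib
set_option backward.isDefEq.respectTransparency.types false
set_option autoImplicit false
set_option linter.style.haveILetI false
set_option linter.unusedSectionVars false

universe u
open CategoryTheory CategoryTheory.Limits AlgebraicGeometry Opposite TopologicalSpace Abelian

noncomputable section
namespace Groth.Agent.Lib.Helper17.UDual

open Groth.Agent.Lib.Helper17.AdicFlat Groth.Agent.Lib.Helper17.USES
open Groth.Agent.Lib.Helper17.Tow Groth.Agent.Lib.Helper21.ThickDict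
open Groth.Agent.Lib.Helper17.UStep Groth.Agent.Lib.Helper17.UBase

section LES

variable {T : TopCat.{u}}

theorem H_map_zero {F G : CohTop.Ab T} (q : ℕ) (x : Sheaf.H F q) :
    Sheaf.H.map (0 : F ⟶ G) q x = 0 := by
  rw [Sheaf.H.map_apply, Ext.mk₀_zero, Ext.comp_zero]

/-- if all `H^q(g)` are surjective, the kernel of `H^q(g)` is `H^q` of the kernel -/
theorem nonempty_ker_equiv (S : ShortComplex (CohTop.Ab T)) (hS : S.ShortExact)
    (hsurj : ∀ q, Function.Surjective (Sheaf.H.map S.g q)) (q : ℕ) :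
    Nonempty ((Sheaf.H.map S.g q).ker ≃+ Sheaf.H S.X₁ q) := by
  have hinj : Function.Injective (Sheaf.H.map S.f q) := by
    rw [injective_iff_map_eq_zero]
    intro x hx
    cases q with
    | zero =>
      haveI := hS.mono_f
      apply Ext.postcomp_mk₀_injective_of_mono _ S.f
      exact hx.trans (map_zero _).symm
    | succ n =>
      obtain ⟨x₃, hx₃⟩ := Ext.covariant_sequence_exact₁ _ hS x hx rfl
      obtain ⟨x₂, hx₂⟩ := hsurj n x₃
      rw [← hx₃, ← hx₂, Sheaf.H.map_apply, Ext.comp_assoc_of_second_deg_zero, hS.comp_extClass,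
        Ext.comp_zero]
  have hmem : ∀ x, Sheaf.H.map S.f q x ∈ (Sheaf.H.map S.g q).ker := by
    intro x
    rw [AddMonoidHom.mem_ker, ← Sheaf.H.map_comp_apply, S.zero, H_map_zero]
  let α : Sheaf.H S.X₁ q →+ (Sheaf.H.map S.g q).ker := (Sheaf.H.map S.f q).codRestrict _ hmem
  have hα : Function.Bijective α := by
    constructor
    · intro x y hxy
      exact hinj (congrArg Subtype.val hxy)
    · rintro ⟨x₂, hx₂⟩
      obtain ⟨x₁, hx₁⟩ := Ext.covariant_sequence_exact₂ _ hS x₂ hx₂
      exact ⟨x₁, Subtype.ext hx₁⟩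
  exact ⟨(AddEquiv.ofBijective α hα).symm⟩

/-- isomorphic sheaves have isomorphic cohomology -/
def HequivOfIso {F G : CohTop.Ab T} (e : F ≅ G) (q : ℕ) : Sheaf.H F q ≃+ Sheaf.H G q where
  toFun := Sheaf.H.map e.hom q
  invFun := Sheaf.H.map e.inv q
  left_inv x := by rw [← Sheaf.H.map_comp_apply, e.hom_inv_id, Sheaf.H.map_id_apply]
  right_inv x := by rw [← Sheaf.H.map_comp_apply, e.inv_hom_id, Sheaf.H.map_id_apply]
  map_add' := map_add _

end LES

/-- isomorphic modules have isomorphic cohomology -/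
def HHequivOfIso {X : Scheme.{u}} {M N : X.Modules} (e : M ≅ N) (q : ℕ) :
    Coh.HH X M q ≃+ Coh.HH X N q :=
  HequivOfIso ((SheafOfModules.toSheaf X.ringCatSheaf).mapIso e) q


section DN

variable (k : Type u) [Field k]

/-- the augmentation `k[ε] → k` -/
abbrev φk : DualNumber k →+* k := (TrivSqZeroExt.fstHom k k k).toRingHom

theorem φk_surjective : Function.Surjective (φk k) :=
  fun a => ⟨TrivSqZeroExt.inl a, TrivSqZeroExt.fst_inl k a⟩

theorem mem_ker_φk (x : DualNumber k) : x ∈ RingHom.ker (φk k) ↔ x.fst = 0 := Iff.rfl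

theorem ker_φk_mul (a : DualNumber k) (ha : a ∈ RingHom.ker (φk k)) (b : DualNumber k)
    (hb : b ∈ RingHom.ker (φk k)) : a * b = 0 := by
  rw [mem_ker_φk] at ha hb
  apply TrivSqZeroExt.ext
  · rw [TrivSqZeroExt.fst_mul, ha, zero_mul, TrivSqZeroExt.fst_zero]
  · rw [TrivSqZeroExt.snd_mul, ha, hb]
    simp

theorem eps_mem : (DualNumber.eps : DualNumber k) ∈ RingHom.ker (φk k) := by
  rw [mem_ker_φk]; exact DualNumber.fst_eps

/-- `r ↦ r • ε` -/
def ψk : DualNumber k →ₗ[DualNumber k] RingHom.ker (φk k) :=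
  LinearMap.toSpanSingleton (DualNumber k) (RingHom.ker (φk k)) ⟨DualNumber.eps, eps_mem k⟩

theorem ψk_apply (r : DualNumber k) : ((ψk k r : RingHom.ker (φk k)) : DualNumber k) =
    TrivSqZeroExt.inr r.fst := by
  change r * DualNumber.eps = _
  apply TrivSqZeroExt.ext
  · simp
  · simp

theorem ker_ψk : LinearMap.ker (ψk k) = RingHom.ker (φk k) := by
  ext r
  rw [LinearMap.mem_ker, mem_ker_φk, ← Subtype.val_inj, ψk_apply]
  change TrivSqZeroExt.inr r.fst = (0 : DualNumber k) ↔ _
  constructor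
  · intro h
    have := congrArg TrivSqZeroExt.snd h
    simpa using this
  · intro h
    rw [h, TrivSqZeroExt.inr_zero]

theorem ψk_surjective : Function.Surjective (ψk k) := by
  rintro ⟨x, hx⟩
  rw [mem_ker_φk] at hx
  refine ⟨TrivSqZeroExt.inl x.snd, Subtype.ext ?_⟩
  rw [ψk_apply]
  apply TrivSqZeroExt.ext
  · simp [hx]
  · simp

/-- `k[ε]/(ε) ≅ (ε)` as `k[ε]`-modules -/
def quotIso : ModuleCat.of (DualNumber k) (DualNumber k ⧸ RingHom.ker (φk k)) ≅
    ModuleCat.of (DualNumber k) (RingHom.ker (φk k)) :=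
  ((Submodule.quotEquivOfEq _ _ (ker_ψk k).symm).trans
    ((ψk k).quotKerEquivOfSurjective (ψk_surjective k))).toModuleIso

end DN


section Geo

variable (k : Type u) [Field k] (X₀ : Scheme.{u}) [X₀.Over (Spec (CommRingCat.of k))]

abbrev sA : Spec (CommRingCat.of (DualNumber k)) ⟶ Spec (CommRingCat.of k) :=
  Spec.map (CommRingCat.ofHom (algebraMap k (DualNumber k)))

abbrev sφ : Spec (CommRingCat.of k) ⟶ Spec (CommRingCat.of (DualNumber k)) :=
  Spec.map (CommRingCat.ofHom (φk k))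

@[reassoc]
theorem sφ_sA : sφ k ≫ sA k = 𝟙 _ := by
  rw [← Spec.map_comp, ← CommRingCat.ofHom_comp]
  have : (φk k).comp (algebraMap k (DualNumber k)) = RingHom.id k := by
    ext a
    exact TrivSqZeroExt.fst_inl k a
  rw [this]
  exact Spec.map_id _

instance : Surjective (sφ k) := by
  constructor
  intro P
  have h1 := _root_.range_comap_of_surjective _ _ (φk_surjective k)
  have h2 : PrimeSpectrum.zeroLocus ((RingHom.ker (φk k) : Ideal (DualNumber k)) : Set (DualNumber k)) =
      Set.univ := by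
    rw [PrimeSpectrum.zeroLocus_eq_univ_iff]
    intro x hx
    have hx' : x.fst = 0 := hx
    change IsNilpotent x
    rw [TrivSqZeroExt.isNilpotent_iff_isNilpotent_fst, hx']
    exact IsNilpotent.zero
  have h3 : P ∈ Set.range (PrimeSpectrum.comap (φk k)) := by rw [h1, h2]; trivial
  obtain ⟨Q, hQ⟩ := h3
  exact ⟨Q, hQ⟩

/-- `X' = X₀ ×_k k[ε]` -/
abbrev X1 : Scheme.{u} := pullback (X₀ ↘ Spec (CommRingCat.of k)) (sA k)

abbrev g1 : X1 k X₀ ⟶ Spec (CommRingCat.of (DualNumber k)) := pullback.snd _ _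

/-- `X = X' ×_{k[ε]} k` -/
abbrev X2 : Scheme.{u} := pullback (g1 k X₀) (sφ k)

abbrev i2 : X2 k X₀ ⟶ X1 k X₀ := pullback.fst _ _

abbrev p2 : X2 k X₀ ⟶ Spec (CommRingCat.of k) := pullback.snd _ _

instance : IsClosedImmersion (i2 k X₀) :=
  MorphismProperty.pullback_fst _ _ (IsClosedImmersion.spec_of_surjective _ (φk_surjective k))

instance : Surjective (i2 k X₀) :=
  MorphismProperty.pullback_fst (P := @Surjective) _ _ inferInstance

/-- the endomorphism of `X'` induced by `k[ε] → k → k[ε]` -/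
def f1 : X1 k X₀ ⟶ X1 k X₀ :=
  pullback.lift (pullback.fst _ _) (g1 k X₀ ≫ sA k ≫ sφ k) (by
    rw [Category.assoc, Category.assoc, sφ_sA, Category.comp_id, pullback.condition])

/-- the retraction `X' ⟶ X` -/
def ρ : X1 k X₀ ⟶ X2 k X₀ :=
  pullback.lift (f1 k X₀) (g1 k X₀ ≫ sA k) (by
    unfold f1
    rw [pullback.lift_snd, Category.assoc])

theorem i2_ρ : i2 k X₀ ≫ ρ k X₀ = 𝟙 _ := by
  have hc : i2 k X₀ ≫ g1 k X₀ = p2 k X₀ ≫ sφ k := pullback.condition
  apply pullback.hom_ext
  · rw [Category.assoc, Category.id_comp]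
    unfold ρ
    rw [pullback.lift_fst]
    apply pullback.hom_ext
    · unfold f1
      rw [Category.assoc, pullback.lift_fst]
    · unfold f1
      rw [Category.assoc, pullback.lift_snd, ← Category.assoc, hc, Category.assoc, sφ_sA_assoc]
  · unfold ρ
    rw [Category.assoc, Category.id_comp, pullback.lift_snd, ← Category.assoc, hc, Category.assoc,
      sφ_sA, Category.comp_id]

end Geo


section IdComap

theorem bijective_comap_id_app (X : Scheme.{u}) (V : (Opens X)ᵒᵖ) :
    Function.Bijective ((UnitsSh.comap (𝟙 X)).hom.app V) :=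
  ⟨fun _ _ h => h, fun b => ⟨b, rfl⟩⟩

theorem isIso_comap_of_eq_id {X : Scheme.{u}} (f : X ⟶ X) (hf : f = 𝟙 X) :
    IsIso (UnitsSh.comap f) := by
  subst hf
  haveI : Mono (UnitsSh.comap (𝟙 X)) :=
    mono_of_injective_app _ fun V => (bijective_comap_id_app X V).1
  haveI : Epi (UnitsSh.comap (𝟙 X)) :=
    Groth.Agent.Lib.Helper6.CohTopPush.epi_of_sections_surjective _
      fun V => (bijective_comap_id_app X (op V)).2
  exact isIso_of_mono_of_epi _

theorem surjective_H_map_of_isIso {T : TopCat.{u}} {F G : CohTop.Ab T} (e : F ⟶ G) [IsIso e]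
    (q : ℕ) : Function.Surjective (Sheaf.H.map e q) := by
  intro y
  refine ⟨Sheaf.H.map (inv e) q y, ?_⟩
  rw [← Sheaf.H.map_comp_apply, IsIso.inv_hom_id, Sheaf.H.map_id_apply]

end IdComap


section Retract

open Groth.Agent.Lib.Helper2 Groth.Agent.Lib.Helper6

variable {X X' : Scheme.{u}} (i : X ⟶ X') (r : X' ⟶ X)

include r in
/-- a morphism with a retraction that is a topological closed embedding induces surjections on
the cohomology of units -/
theorem surjective_H_comap_of_retraction (hr : Topology.IsClosedEmbedding r.base)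
    (hir : i ≫ r = 𝟙 X) (q : ℕ) :
    Function.Surjective (Sheaf.H.map (UnitsSh.comap i) q) := by
  intro y
  have acyc : ∀ G, Bridge2.Acyc r G :=
    fun G => CohTopClosed.acyc_push_of_isClosedEmbedding r.base hr G
  let E := Bridge2.edgeEquiv r (UnitsSh.unitsAb X') (acyc _) q
  let E' := Bridge2.edgeEquiv r ((Coh.pushAb i).obj (UnitsSh.unitsAb X)) (acyc _) q
  haveI := isIso_comap_of_eq_id (i ≫ r) hir
  obtain ⟨z, hz⟩ := surjective_H_map_of_isIso (UnitsSh.comap (i ≫ r)) q (E'.symm y)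
  refine ⟨E (Sheaf.H.map (UnitsSh.comap r) q z), ?_⟩
  have nat := Bridge2.edge_naturality r (UnitsSh.comap i) q (Sheaf.H.map (UnitsSh.comap r) q z)
  have key := Sheaf.H.map_comp_apply (UnitsSh.comap r) ((Coh.pushAb r).map (UnitsSh.comap i)) z
    (n := q)
  have e := comap_comp i r
  have h1 : Sheaf.H.map ((Coh.pushAb r).map (UnitsSh.comap i)) q
      (Sheaf.H.map (UnitsSh.comap r) q z) = E'.symm y := by
    rw [← key]
    exact (congrArg (fun φ => Sheaf.H.map φ q z) e).symm.trans hz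
  rw [Bridge2.edgeEquiv_apply, ← nat, h1]
  exact E'.apply_symm_apply y

end Retract


section Main

variable (k : Type u) [Field k] (X₀ : Scheme.{u}) [X₀.Over (Spec (CommRingCat.of k))]

theorem isClosedEmbedding_ρ : Topology.IsClosedEmbedding (ρ k X₀).base := by
  have hi : Function.Surjective (i2 k X₀).base := (inferInstance : Surjective (i2 k X₀)).surj
  have hid : ∀ x, (ρ k X₀).base ((i2 k X₀).base x) = x := by
    intro x
    have := congrArg (fun f : X2 k X₀ ⟶ X2 k X₀ => f.base x) (i2_ρ k X₀)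
    simpa using this
  refine Topology.IsClosedEmbedding.of_continuous_injective_isClosedMap (ρ k X₀).continuous ?_ ?_
  · intro a b hab
    obtain ⟨a', rfl⟩ := hi a
    obtain ⟨b', rfl⟩ := hi b
    rw [hid, hid] at hab
    rw [hab]
  · intro C hC
    have : (ρ k X₀).base '' C = (i2 k X₀).base ⁻¹' C := by
      ext x
      constructor
      · rintro ⟨c, hc, rfl⟩
        obtain ⟨c', rfl⟩ := hi c
        rw [hid]; exact hc
      · intro hx
        exact ⟨(i2 k X₀).base x, hx, hid x⟩
    rw [this]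
    exact hC.preimage (i2 k X₀).continuous

theorem surjective_H_comap_i2 (q : ℕ) :
    Function.Surjective (Sheaf.H.map (UnitsSh.comap (i2 k X₀)) q) :=
  surjective_H_comap_of_retraction (i2 k X₀) (ρ k X₀) (isClosedEmbedding_ρ k X₀) (i2_ρ k X₀) q

/-- **tangent space of `H^q(-, O^×)`** -/
theorem main (q : ℕ) :
    Nonempty ((Sheaf.H.map (UnitsSh.comap (i2 k X₀)) q).ker ≃+
      Coh.HH (X2 k X₀) (Coh.structureModule (X2 k X₀)) q) := by
  letI : (X1 k X₀).Over (Spec (CommRingCat.of (DualNumber k))) := ⟨g1 k X₀⟩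
  haveI : Flat (X1 k X₀ ↘ Spec (CommRingCat.of (DualNumber k))) :=
    MorphismProperty.pullback_snd (P := @Flat) _ _ inferInstance
  obtain ⟨p', hp'⟩ := exists_isPullback_mk (φk k) (φk_surjective k) (g1 k X₀) (i2 k X₀) (p2 k X₀)
    (IsPullback.of_hasPullback _ _) (Iso.refl _)
  rw [Iso.refl_hom, Category.id_comp] at hp'
  have hsq : SqZ (i2 k X₀) := sqZ_of_mul_eq_zero (DualNumber k) (i2 k X₀) _ p' hp' (ker_φk_mul k)
  have hS := USES.shortExact hsq
  obtain ⟨e1⟩ := nonempty_ker_equiv _ hS (fun q => surjective_H_comap_i2 k X₀ q) q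
  obtain ⟨κ⟩ := nonempty_kernel_unit_iso' (DualNumber k) (i2 k X₀) _ p' hp'
  obtain ⟨e, -⟩ := exists_iso_push' (DualNumber k) (i2 k X₀) _ p' hp'
  obtain ⟨eq, -⟩ := Groth.Agent.Lib.Helper2.Bridge2.exists_natural_equiv (i2 k X₀) q
  let E : II (i2 k X₀) ≅ (Scheme.Modules.pushforward (i2 k X₀)).obj (Coh.structureModule (X2 k X₀)) :=
    IIiso (i2 k X₀) ≪≫ κ ≪≫ (TT (DualNumber k) (X := X1 k X₀)).mapIso (quotIso k).symm ≪≫ e ≪≫
      (Scheme.Modules.pushforward (i2 k X₀)).mapIso
        (Groth.Agent.Lib.Helper16.RS.pullbackUnitIso (i2 k X₀))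
  exact ⟨e1.trans ((HHequivOfIso E q).trans (eq _ inferInstance))⟩

end Main

end Groth.Agent.Lib.Helper17.UDual
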