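import Groth.Prelude.Def_Pic
import Groth.Agent.Lib.Helper17.SpecDomGerm
import Groth.Agent.Lib.Helper17.InvDescLoc
import Groth.Agent.Lib.Helper28.GenIso
import Groth.Agent.Lib.Helper28.TensorPowGen
import Mathlib
set_option backward.isDefEq.respectTransparency.types false

set_option autoImplicit false
universe u
open CategoryTheory CategoryTheory.Limits AlgebraicGeometry

namespace Groth.Agent.Lib.Helper17.UFDPic
open TopologicalSpace Opposite
open Groth.Agent.Lib.Helper28 Groth.Agent.Lib.Helper28.QCohLoc Groth.Agent.Lib.Helper28.GenLocus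
open Groth.Agent.Lib.Helper17.UFDVal Groth.Agent.Lib.Helper17.SpecDomGerm Groth.Agent.Lib.Helper17.InvDescLoc

section

variable (A : CommRingCat.{u}) [IsDomain A] (U : (Spec A).Opens)

theorem image_inf (V V' : (U : Scheme.{u}).Opens) : U.ι ''ᵁ (V ⊓ V') = U.ι ''ᵁ V ⊓ U.ι ''ᵁ V' := by
  apply Opens.ext
  show U.ι.base '' ((V : Set U) ∩ (V' : Set U)) = U.ι.base '' V ∩ U.ι.base '' V'
  exact Set.image_inter U.ι.injective

theorem image_mono {V V' : (U : Scheme.{u}).Opens} (h : V' ≤ V) : U.ι ''ᵁ V' ≤ U.ι ''ᵁ V :=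
  Scheme.Hom.image_mono _ h

/-- sections of the open subscheme inside the function field of `Spec A` -/
noncomputable def gamY (V : (U : Scheme.{u}).Opens) (hξ : xi A ∈ U.ι ''ᵁ V) :
    Γ((U : Scheme.{u}), V) →+* (Spec A).functionField :=
  gam A (U.ι ''ᵁ V) hξ

theorem gamY_injective (V : (U : Scheme.{u}).Opens) (hξ : xi A ∈ U.ι ''ᵁ V) : Function.Injective (gamY A U V hξ) :=
  gam_injective A _ hξ

theorem gamY_res {V V' : (U : Scheme.{u}).Opens} (h : V' ≤ V) (hξ' : xi A ∈ U.ι ''ᵁ V') (s : Γ((U : Scheme.{u}), V)) :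
    gamY A U V' hξ' (resO h s) = gamY A U V (image_mono A U h hξ') s :=
  gam_res A (image_mono A U h) hξ' s

variable (L : (U : Scheme.{u}).Modules)

/-- a trivialising chart whose image in `Spec A` is a basic open -/
structure Chart : Type u where
  V : (U : Scheme.{u}).Opens
  f : A
  hf : f ≠ 0
  hV : U.ι ''ᵁ V = PrimeSpectrum.basicOpen f
  s : Γ(L, V)
  hs : IsGen L V s

variable {A U L}

theorem Chart.xi_mem (x : Chart A U L) : xi A ∈ U.ι ''ᵁ x.V := by
  rw [x.hV]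
  exact xi_mem_basicOpen A x.hf

theorem Chart.image_inf (x y : Chart A U L) :
    U.ι ''ᵁ (x.V ⊓ y.V) = PrimeSpectrum.basicOpen (x.f * y.f) := by
  rw [Groth.Agent.Lib.Helper17.UFDPic.image_inf, x.hV, y.hV, PrimeSpectrum.basicOpen_mul]
  rfl

theorem Chart.xi_mem_inf (x y : Chart A U L) : xi A ∈ U.ι ''ᵁ (x.V ⊓ y.V) := by
  rw [x.image_inf y]
  exact xi_mem_basicOpen A (mul_ne_zero x.hf y.hf)

theorem exists_chart (hL : PicF.IsInvertible L) (p : (U : Scheme.{u})) : ∃ x : Chart A U L, p ∈ x.V := by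
  obtain ⟨V₀, s₀, hpV₀, hs₀⟩ := exists_isGen L hL p
  have hp : U.ι p ∈ U.ι ''ᵁ V₀ := ⟨p, hpV₀, rfl⟩
  obtain ⟨_, ⟨f, rfl⟩, hpf, hfV₀⟩ := (Opens.isBasis_iff_nbhd.1 (PrimeSpectrum.isBasis_basic_opens (R := A))) hp
  have hfU : (PrimeSpectrum.basicOpen f : (Spec A).Opens) ≤ U := by
    intro z hz
    obtain ⟨w, _, rfl⟩ := hfV₀ hz
    exact w.2
  have hle : U.ι ⁻¹ᵁ (PrimeSpectrum.basicOpen f : (Spec A).Opens) ≤ V₀ := by
    intro w hw
    obtain ⟨w', hw', hww'⟩ := hfV₀ hw
    have : w' = w := U.ι.injective hww'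
    exact this ▸ hw'
  refine ⟨⟨U.ι ⁻¹ᵁ (PrimeSpectrum.basicOpen f : (Spec A).Opens), f, ?_, ?_, res L hle s₀, hs₀.res hle⟩, hpf⟩
  · rintro rfl
    have : (PrimeSpectrum.basicOpen (0 : A) : (Spec A).Opens) = ⊥ := PrimeSpectrum.basicOpen_zero
    rw [this] at hpf
    exact hpf
  · rw [Scheme.Hom.image_preimage_eq_opensRange_inf, Scheme.Opens.opensRange_ι]
    exact inf_eq_right.2 hfU

theorem main [UniqueFactorizationMonoid A] (hL : PicF.IsInvertible L) :
    Nonempty (L ≅ Coh.structureModule (U : Scheme.{u})) := by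
  have hcov := exists_chart (A := A) (U := U) (L := L) hL
  -- the transition functions
  have hη : ∀ x y : Chart A U L, ∃ e : Γ((U : Scheme.{u}), x.V ⊓ y.V),
      res L (inf_le_left : x.V ⊓ y.V ≤ x.V) x.s = (e • res L (inf_le_right : x.V ⊓ y.V ≤ y.V) y.s : Γ(L, x.V ⊓ y.V)) :=
    fun x y => ((y.hs (x.V ⊓ y.V) inf_le_right).2 _).imp fun e he => he.symm
  choose η hη using hη
  have hηu : ∀ x y : Chart A U L, IsUnit (η x y) := by
    intro x y
    refine isUnit_of_isGen_smul (y.hs.res inf_le_right) (η x y) ?_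
    rw [← hη x y]
    exact x.hs.res inf_le_left
  by_cases hne : Nonempty (Chart A U L)
  swap
  · -- the scheme is empty
    obtain ⟨ψ, -⟩ := exists_iso_of_cocycle_gen (M := L) (N := Coh.structureModule (U : Scheme.{u}))
      (fun x : Chart A U L => x.V) (fun x => x.s) (fun x => oneSec _ x.V) (fun x => x.hs)
      (fun x => isGen_oneSec x.V) hcov (fun x => (hne ⟨x⟩).elim)
    exact ⟨ψ⟩
  obtain ⟨o⟩ := hne
  -- transitivity of the transition functions
  have htrans : ∀ x y z : Chart A U L,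
      resO (inf_le_inf_right z.V inf_le_left : x.V ⊓ y.V ⊓ z.V ≤ x.V ⊓ z.V) (η x z) =
        resO (inf_le_left : x.V ⊓ y.V ⊓ z.V ≤ x.V ⊓ y.V) (η x y) *
          resO (inf_le_inf_right z.V inf_le_right : x.V ⊓ y.V ⊓ z.V ≤ y.V ⊓ z.V) (η y z) := by
    intro x y z
    apply (z.hs (x.V ⊓ y.V ⊓ z.V) inf_le_right).1
    show ((resO _ (η x z)) • res L _ z.s : Γ(L, x.V ⊓ y.V ⊓ z.V)) = ((resO _ (η x y) * resO _ (η y z)) • res L _ z.s : Γ(L, x.V ⊓ y.V ⊓ z.V))
    have h1 := congrArg (res L (inf_le_inf_right z.V inf_le_left : x.V ⊓ y.V ⊓ z.V ≤ x.V ⊓ z.V)) (hη x z)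
    have h2 := congrArg (res L (inf_le_left : x.V ⊓ y.V ⊓ z.V ≤ x.V ⊓ y.V)) (hη x y)
    have h3 := congrArg (res L (inf_le_inf_right z.V inf_le_right : x.V ⊓ y.V ⊓ z.V ≤ y.V ⊓ z.V)) (hη y z)
    rw [res_smul, res_res, res_res] at h1 h2 h3
    rw [mul_smul, ← h3, ← h2, ← h1]
  -- the transition functions inside the function field
  let g : ∀ x y : Chart A U L, (Spec A).functionField := fun x y => gamY A U (x.V ⊓ y.V) (x.xi_mem_inf y) (η x y)
  have hg0 : ∀ x y, g x y ≠ 0 := fun x y => ((hηu x y).map (gamY A U (x.V ⊓ y.V) (x.xi_mem_inf y))).ne_zero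
  have hxi3 : ∀ x y z : Chart A U L, xi A ∈ U.ι ''ᵁ (x.V ⊓ y.V ⊓ z.V) := by
    intro x y z
    rw [Groth.Agent.Lib.Helper17.UFDPic.image_inf, Groth.Agent.Lib.Helper17.UFDPic.image_inf]
    exact ⟨⟨x.xi_mem, y.xi_mem⟩, z.xi_mem⟩
  have hgtrans : ∀ x y z, g x z = g x y * g y z := by
    intro x y z
    have := congrArg (gamY A U (x.V ⊓ y.V ⊓ z.V) (hxi3 x y z)) (htrans x y z)
    rw [map_mul, gamY_res, gamY_res, gamY_res] at this
    exact this
  have hgunit : ∀ x y, UnitAway (x.f * y.f) (g x y) := fun x y =>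
    gam_unitAway A (x.f * y.f) _ (x.image_inf y) (x.xi_mem_inf y) (η x y) (hηu x y)
  have hk : ∀ x y : Chart A U L, UnitAway (x.f * y.f) (g x o / g y o) := by
    intro x y
    have : g x o / g y o = g x y := by
      rw [hgtrans x y o]
      field_simp [hg0 y o]
    rw [this]
    exact hgunit x y
  obtain ⟨c, hc0, hc⟩ := exists_common_unit (K := (Spec A).functionField) (fun x : Chart A U L => x.f) (fun x => x.hf)
    (fun x => g x o) (fun x => hg0 x o) o hk
  have hh : ∀ x : Chart A U L, ∃ h : Γ((U : Scheme.{u}), x.V), IsUnit h ∧ gamY A U x.V x.xi_mem h = g x o / c :=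
    fun x => exists_unit_gam_eq A x.f x.hf _ x.hV x.xi_mem _ (hc x)
  choose h hhu hhg using hh
  have hcoc : ∀ x y : Chart A U L, ∃ e : Γ((U : Scheme.{u}), x.V ⊓ y.V),
      res L (inf_le_left : x.V ⊓ y.V ≤ x.V) x.s = (e • res L (inf_le_right : x.V ⊓ y.V ≤ y.V) y.s : Γ(L, x.V ⊓ y.V)) ∧
      res (Coh.structureModule (U : Scheme.{u})) (inf_le_left : x.V ⊓ y.V ≤ x.V)
          (h x • oneSec _ x.V : Γ(Coh.structureModule (U : Scheme.{u}), x.V)) =
        (e • res (Coh.structureModule (U : Scheme.{u})) (inf_le_right : x.V ⊓ y.V ≤ y.V)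
          (h y • oneSec _ y.V : Γ(Coh.structureModule (U : Scheme.{u}), y.V)) :
          Γ(Coh.structureModule (U : Scheme.{u}), x.V ⊓ y.V)) := by
    intro x y
    refine ⟨η x y, hη x y, ?_⟩
    rw [res_smul, res_smul, res_oneSec, res_oneSec, ← mul_smul]
    congr 1
    apply gamY_injective A U (x.V ⊓ y.V) (x.xi_mem_inf y)
    rw [map_mul, gamY_res, gamY_res, hhg, hhg]
    show g x o / c = g x y * (g y o / c)
    rw [hgtrans x y o]
    field_simp
  obtain ⟨ψ, -⟩ := exists_iso_of_cocycle_gen (M := L) (N := Coh.structureModule (U : Scheme.{u}))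
    (fun x : Chart A U L => x.V) (fun x => x.s)
    (fun x => (h x • oneSec _ x.V : Γ(Coh.structureModule (U : Scheme.{u}), x.V))) (fun x => x.hs)
    (fun x => IsGen.smul_unit (isGen_oneSec x.V) (h x) (hhu x)) hcov hcoc
  exact ⟨ψ⟩

end

/-- **Every invertible module on an open subscheme of the spectrum of a UFD is trivial.** -/
theorem nonempty_iso_structureModule (R : Type u) [CommRing R] [IsDomain R] [UniqueFactorizationMonoid R]
    (U : (Spec (CommRingCat.of R)).Opens) (L : (U : Scheme.{u}).Modules) (hL : PicF.IsInvertible L) :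
    Nonempty (L ≅ Coh.structureModule (U : Scheme.{u})) :=
  main (A := CommRingCat.of R) hL

end Groth.Agent.Lib.Helper17.UFDPic
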