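import Groth.Agent.Lib.Helper17.UnibranchEtale
import Mathlib

/-!
# Unramified + geometrically unibranch ⇒ étale: finitely presented, non-domain base

Variant of `UnibranchEtale.exists_etale_away` where only the local ring `R = A_p` is assumed
to be a domain, and `B` is finitely presented over `A`.
-/

set_option autoImplicit false
universe u

namespace Groth.Agent.Lib.Helper17.UnibranchEtaleFP

open TensorProduct Groth.Agent.S2136

/-- If `C` is étale over `A`, `φ : C → B_f` is surjective and a single `c` (a unit at `q`) kills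
`ker φ`, then `B_g` is étale over `A` for some `g ∉ q`. -/
theorem exists_etale_away_of_annihilator {A B : Type u} [CommRing A] [CommRing B] [Algebra A B]
    (q : Ideal B) [q.IsPrime] (f : B) (hfq : f ∉ q)
    (hfu : IsUnit (algebraMap B (Localization.AtPrime q) f))
    {C : Type u} [CommRing C] [Algebra A C] [Algebra.Etale A C]
    (φ : C →ₐ[A] Localization.Away f) (hφ : Function.Surjective φ)
    (c : C)
    (hcu : IsUnit (IsLocalization.Away.lift (S := Localization.Away f) f hfu (φ c)))
    (hc : ∀ j, φ j = 0 → c * j = 0) :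
    ∃ g : B, g ∉ q ∧ Algebra.Etale A (Localization.Away g) := by
  obtain ⟨u, hu⟩ := hφ (algebraMap B (Localization.Away f) f)
  obtain ⟨⟨b, ⟨_, n, rfl⟩⟩, hb⟩ := IsLocalization.surj (Submonoid.powers f) (φ c)
  simp only at hb
  have hφc' : φ (c * u ^ n) = algebraMap B (Localization.Away f) b := by
    rw [map_mul, map_pow, hu, ← map_pow, hb]
  have hbq : b ∉ q := by
    intro hmem
    have h1 : IsUnit (IsLocalization.Away.lift (S := Localization.Away f) f hfu
        (φ (c * u ^ n))) := by
      rw [map_mul, map_mul, map_pow, map_pow, hu, IsLocalization.Away.lift_eq]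
      exact hcu.mul (hfu.pow n)
    rw [hφc', IsLocalization.Away.lift_eq] at h1
    exact ((IsLocalization.AtPrime.isUnit_to_map_iff _ q b).mp h1) hmem
  have hc'j : ∀ j, φ j = 0 → (c * u ^ n) * j = 0 := by
    intro j hj
    rw [mul_right_comm, hc j hj, zero_mul]
  refine ⟨f * b, fun h => (Ideal.IsPrime.mem_or_mem ‹_› h).elim hfq hbq, ?_⟩
  haveI hloc : IsLocalization.Away (f * b) (Localization.Away (φ (c * u ^ n))) :=
    hφc'.symm ▸ IsLocalization.Away.mul' (Localization.Away f)
      (Localization.Away (algebraMap B (Localization.Away f) b)) f b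
  have hsurj : Function.Surjective (IsLocalization.Away.mapₐ (Localization.Away (c * u ^ n))
      (Localization.Away (φ (c * u ^ n))) φ (c * u ^ n)) :=
    IsLocalization.Away.mapₐ_surjective_of_surjective _ hφ
  have hinj' : Function.Injective (IsLocalization.Away.mapₐ (Localization.Away (c * u ^ n))
      (Localization.Away (φ (c * u ^ n))) φ (c * u ^ n)) := by
    rw [injective_iff_map_eq_zero]
    intro x hx
    obtain ⟨y, ⟨_, m, rfl⟩, rfl⟩ := IsLocalization.exists_mk'_eq (Submonoid.powers (c * u ^ n)) x
    rw [IsLocalization.Away.mapₐ_apply, IsLocalization.Away.map, IsLocalization.map_mk',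
      IsLocalization.mk'_eq_zero_iff] at hx
    obtain ⟨⟨_, k, rfl⟩, hk⟩ := hx
    have h1 : φ ((c * u ^ n) ^ k * y) = 0 := by
      rw [map_mul, map_pow]
      exact hk
    have h2 := hc'j _ h1
    rw [IsLocalization.mk'_eq_zero_iff]
    refine ⟨⟨(c * u ^ n) ^ (k + 1), k + 1, rfl⟩, ?_⟩
    show (c * u ^ n) ^ (k + 1) * y = 0
    rw [pow_succ', mul_assoc]
    exact h2
  have het1 : Algebra.Etale A (Localization.Away (c * u ^ n)) :=
    Algebra.Etale.comp A C (Localization.Away (c * u ^ n))
  have het2 : Algebra.Etale A (Localization.Away (φ (c * u ^ n))) :=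
    Algebra.Etale.of_equiv (AlgEquiv.ofBijective _ ⟨hinj', hsurj⟩)
  exact Algebra.Etale.of_equiv ((IsLocalization.algEquiv (Submonoid.powers (f * b))
    (Localization.Away (f * b)) (Localization.Away (φ (c * u ^ n)))).restrictScalars A).symm


open IsLocalRing in
/-- EGA IV 18.10.1 (algebra form) over a base `A` whose localization `R = A_p` is a geometrically
unibranch domain, `B` of finite presentation over `A`, unramified at `q`, `R → B_q` injective. -/
theorem exists_etale_away {A B : Type u} [CommRing A] [CommRing B]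
    [Algebra A B] (q : Ideal B) [q.IsPrime] (p : Ideal A) [p.IsPrime] [q.LiesOver p]
    (R : Type u) [CommRing R] [Algebra A R] [IsLocalization.AtPrime R p] [IsLocalRing R]
    [IsDomain R] (hR : CAlg2.IsGeomUnibranch R) [Algebra.FinitePresentation A B]
    [Algebra.IsUnramifiedAt A q]
    (ι : R →+* Localization.AtPrime q)
    (hι : ∀ a, ι (algebraMap A R a) = algebraMap A (Localization.AtPrime q) a)
    (hinj : Function.Injective ι) :
    ∃ g : B, g ∉ q ∧ Algebra.Etale A (Localization.Away g) := by
  obtain ⟨f, hfq, P, φ, hφ⟩ :=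
    Algebra.IsUnramifiedAt.exists_hasStandardEtaleSurjectionOn (R := A) q
  have hfu : IsUnit (algebraMap B (Localization.AtPrime q) f) :=
    IsLocalization.map_units _ (⟨f, hfq⟩ : q.primeCompl)
  -- θ : C →ₐ[A] B_q
  let θ : P.Ring →ₐ[A] Localization.AtPrime q :=
    { toRingHom := (IsLocalization.Away.lift f hfu).comp φ.toRingHom
      commutes' := fun a => by
        show IsLocalization.Away.lift f hfu (φ (algebraMap A P.Ring a)) = _
        rw [φ.commutes, IsScalarTower.algebraMap_apply A B (Localization.Away f),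
          IsLocalization.Away.lift_eq, ← IsScalarTower.algebraMap_apply] }
  have hθ : ∀ c, θ c = IsLocalization.Away.lift f hfu (φ c) := fun c => rfl
  let ιA : R →ₐ[A] Localization.AtPrime q := { toRingHom := ι, commutes' := hι }
  have hιA : ∀ r, ιA r = ι r := fun r => rfl
  let Θ : R ⊗[A] P.Ring →ₐ[A] Localization.AtPrime q := Algebra.TensorProduct.productMap ιA θ
  have hΘ : ∀ r c, Θ (r ⊗ₜ c) = ι r * θ c := fun r c => by
    rw [Algebra.TensorProduct.productMap_apply_tmul, hιA]
  have hAu : ∀ a : A, a ∉ p → IsUnit (algebraMap A (Localization.AtPrime q) a) := by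
    intro a ha
    rw [IsScalarTower.algebraMap_apply A B]
    refine (IsLocalization.AtPrime.isUnit_to_map_iff _ q _).mpr ?_
    intro hmem
    apply ha
    rw [q.over_def p]
    exact hmem
  -- the prime Q'
  haveI hQ'prime : ((maximalIdeal (Localization.AtPrime q)).comap Θ.toRingHom).IsPrime :=
    Ideal.comap_isPrime _ _
  have hΘu : ∀ x, x ∉ (maximalIdeal (Localization.AtPrime q)).comap Θ.toRingHom →
      IsUnit (Θ x) := by
    intro x hx
    by_contra hnu
    exact hx ((mem_maximalIdeal _).mpr hnu)
  have hover : ((maximalIdeal (Localization.AtPrime q)).comap Θ.toRingHom).comap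
      (algebraMap R (R ⊗[A] P.Ring)) = maximalIdeal R := by
    have h1 : (((maximalIdeal (Localization.AtPrime q)).comap Θ.toRingHom).comap
        (algebraMap R (R ⊗[A] P.Ring))).under A = p := by
      ext a
      rw [Ideal.under_def, Ideal.mem_comap, Ideal.mem_comap, Ideal.mem_comap, Algebra.TensorProduct.algebraMap_apply,
        Algebra.algebraMap_self, RingHom.id_apply]
      show Θ (algebraMap A R a ⊗ₜ[A] 1) ∈ _ ↔ _
      rw [hΘ, map_one, mul_one, hι, IsScalarTower.algebraMap_apply A B,
        IsLocalization.AtPrime.to_map_mem_maximal_iff _ q, q.over_def p]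
      rfl
    rw [← IsLocalization.map_comap p.primeCompl R
      (((maximalIdeal (Localization.AtPrime q)).comap Θ.toRingHom).comap
        (algebraMap R (R ⊗[A] P.Ring))), h1, IsLocalization.AtPrime.map_eq_maximalIdeal p R]
  haveI hdom : IsDomain (Localization.AtPrime
      ((maximalIdeal (Localization.AtPrime q)).comap Θ.toRingHom)) :=
    Groth.Agent.Lib.Helper17.Unibranch.isDomain_localization_of_etale_of_isGeomUnibranch hR _ hover
  -- ψ : D → B_q
  let ψ : Localization.AtPrime ((maximalIdeal (Localization.AtPrime q)).comap Θ.toRingHom) →+*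
      Localization.AtPrime q :=
    IsLocalization.lift (M := ((maximalIdeal (Localization.AtPrime q)).comap
      Θ.toRingHom).primeCompl) (g := Θ.toRingHom) (fun x => hΘu x.1 x.2)
  have hψ : ∀ x, ψ (algebraMap (R ⊗[A] P.Ring) _ x) = Θ x := fun x => IsLocalization.lift_eq _ _
  -- kernel elements die in D
  have hker : ∀ j, φ j = 0 → algebraMap (R ⊗[A] P.Ring) (Localization.AtPrime
      ((maximalIdeal (Localization.AtPrime q)).comap Θ.toRingHom)) (1 ⊗ₜ j) = 0 := by
    intro j hj
    by_contra hne
    have hmem : algebraMap (R ⊗[A] P.Ring) (Localization.AtPrime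
        ((maximalIdeal (Localization.AtPrime q)).comap Θ.toRingHom)) (1 ⊗ₜ j) ∈ RingHom.ker ψ := by
      rw [RingHom.mem_ker, hψ, hΘ, hθ, hj, map_zero, mul_zero]
    have halg : IsAlgebraic R (algebraMap (R ⊗[A] P.Ring) (Localization.AtPrime
        ((maximalIdeal (Localization.AtPrime q)).comap Θ.toRingHom)) (1 ⊗ₜ j)) :=
      (isAlgebraic_of_etale (A := R) ((1 : R) ⊗ₜ[A] j)).algebraMap
    have hne' := Ideal.comap_ne_bot_of_algebraic_mem (R := R) hne hmem halg
    obtain ⟨r, hr, hr0⟩ := Submodule.exists_mem_ne_zero_of_ne_bot hne'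
    apply hr0
    rw [Ideal.mem_comap, RingHom.mem_ker, IsScalarTower.algebraMap_apply R (R ⊗[A] P.Ring),
      hψ, Algebra.TensorProduct.algebraMap_apply, Algebra.algebraMap_self, RingHom.id_apply,
      hΘ, map_one, mul_one] at hr
    exact hinj (by rw [hr, map_zero])
  -- descend to P.Ring
  letI algC : Algebra P.Ring (R ⊗[A] P.Ring) := Algebra.TensorProduct.rightAlgebra
  haveI : IsLocalization (Algebra.algebraMapSubmonoid P.Ring p.primeCompl) (R ⊗[A] P.Ring) :=
    IsLocalization.tensorRight (S := P.Ring) (A := R) p.primeCompl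
  have halgC : ∀ c : P.Ring, algebraMap P.Ring (R ⊗[A] P.Ring) c = 1 ⊗ₜ c := fun c => rfl
  have hann : ∀ j, φ j = 0 → ∃ c : P.Ring, IsUnit (θ c) ∧ c * j = 0 := by
    intro j hj
    obtain ⟨⟨s', hs'⟩, hs'j⟩ := (IsLocalization.map_eq_zero_iff
      ((maximalIdeal (Localization.AtPrime q)).comap Θ.toRingHom).primeCompl _ _).mp (hker j hj)
    obtain ⟨⟨s, ⟨_, a, ha, rfl⟩⟩, hs⟩ :=
      IsLocalization.surj (Algebra.algebraMapSubmonoid P.Ring p.primeCompl) s'
    simp only at hs
    have h1 : algebraMap P.Ring (R ⊗[A] P.Ring) (s * j) = 0 := by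
      rw [map_mul, ← hs, halgC j, mul_right_comm, hs'j, zero_mul]
    obtain ⟨⟨_, a', ha', rfl⟩, h2⟩ := (IsLocalization.map_eq_zero_iff
      (Algebra.algebraMapSubmonoid P.Ring p.primeCompl) _ _).mp h1
    simp only at h2
    refine ⟨algebraMap A P.Ring a' * s, ?_, by rw [mul_assoc]; exact h2⟩
    rw [map_mul, θ.commutes]
    refine (hAu a' ha').mul ?_
    have h3 : Θ (algebraMap P.Ring (R ⊗[A] P.Ring) s) = θ s := by
      rw [halgC, hΘ, map_one, one_mul]
    rw [← h3, ← hs, map_mul]
    refine (hΘu s' hs').mul ?_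
    rw [halgC, hΘ, map_one, one_mul, θ.commutes]
    exact hAu a ha
  -- finitely many generators
  haveI : Algebra.FinitePresentation A (Localization.Away f) :=
    Algebra.FinitePresentation.trans A B (Localization.Away f)
  obtain ⟨T, hT⟩ := Algebra.FinitePresentation.ker_fG_of_surjective φ hφ
  have hT' : ∃ c : P.Ring, IsUnit (θ c) ∧ ∀ t ∈ T, c * t = 0 := by
    have hTk : ∀ t ∈ T, φ t = 0 := by
      intro t ht
      have : t ∈ RingHom.ker φ.toRingHom := hT ▸ Ideal.subset_span ht
      exact this
    clear hT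
    classical
    induction T using Finset.induction_on with
    | empty => exact ⟨1, by rw [map_one]; exact isUnit_one, by simp⟩
    | insert t T htT ih =>
      obtain ⟨c, hcu, hc⟩ := ih (fun t' ht' => hTk t' (Finset.mem_insert_of_mem ht'))
      obtain ⟨d, hdu, hd⟩ := hann t (hTk t (Finset.mem_insert_self _ _))
      refine ⟨c * d, by rw [map_mul]; exact hcu.mul hdu, ?_⟩
      intro t' ht'
      rcases Finset.mem_insert.mp ht' with rfl | ht'
      · rw [mul_assoc, hd, mul_zero]
      · rw [mul_right_comm, hc t' ht', zero_mul]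
  obtain ⟨c, hcu, hc⟩ := hT'
  have hcall : ∀ j, φ j = 0 → c * j = 0 := by
    intro j hj
    have hjm : j ∈ Ideal.span (T : Set P.Ring) := by
      rw [hT]
      exact hj
    clear hj
    induction hjm using Submodule.span_induction with
    | mem x hx => exact hc x hx
    | zero => exact mul_zero c
    | add x y _ _ hx hy => rw [mul_add, hx, hy, add_zero]
    | smul a x _ hx => rw [smul_eq_mul, mul_left_comm, hx, mul_zero]
  exact exists_etale_away_of_annihilator q f hfq hfu φ hφ c hcu hcall

end Groth.Agent.Lib.Helper17.UnibranchEtaleFP
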