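import Groth.Agent.Lib.Helper17.GeomUnibranchEtale
import Mathlib

/-!
# Étale over a (possibly non-reduced) geometrically unibranch local ring: unique minimal prime
-/

set_option autoImplicit false
set_option backward.isDefEq.respectTransparency.types false
universe u

namespace Groth.Agent.Lib.Helper17.UniqueMinimal

open TensorProduct IsLocalRing Groth.Agent.Lib.Helper17.Unibranch

/-- Unpacking the Prelude definition of geometric unibranchness for a general local ring `R`,
over the base `red R` (continuation-passing style). -/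
theorem of_isGeomUnibranch_red {R : Type u} [CommRing R] [IsLocalRing R]
    (h : CAlg2.IsGeomUnibranch R) (motive : Prop)
    (k : ∀ [IsDomain (CAlg2.red R)] [IsLocalRing (CAlg2.red R)]
      (R' : Type u) [CommRing R'] [IsDomain R'] [IsIntegrallyClosed R'] [Algebra (CAlg2.red R) R']
      [Algebra.IsIntegral (CAlg2.red R) R'] [IsLocalRing R'],
      Function.Injective (algebraMap (CAlg2.red R) R') →
      ∀ e : ℕ, (e = 1 ∨ (e.Prime ∧ (e : R') ∈ maximalIdeal R')) →
      (∀ r' : R', ∃ (n : ℕ) (r : CAlg2.red R),
        r' ^ (e ^ n) - algebraMap (CAlg2.red R) R' r ∈ maximalIdeal R') →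
      motive) : motive := by
  obtain ⟨⟨hdom, hloc⟩, hpi⟩ := h
  haveI := hdom
  haveI := hloc
  haveI : IsLocalRing (CAlg2.red R) :=
    IsLocalRing.of_surjective' (Ideal.Quotient.mk (nilradical R)) Ideal.Quotient.mk_surjective
  haveI : IsIntegrallyClosed (CAlg2.normRed R) :=
    integralClosure.isIntegrallyClosedOfFiniteExtension (FractionRing (CAlg2.red R))
  have hinj : Function.Injective (algebraMap (CAlg2.red R) (CAlg2.normRed R)) := by
    have h3 : Function.Injective (algebraMap (CAlg2.red R) (FractionRing (CAlg2.red R))) :=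
      IsFractionRing.injective _ _
    rw [IsScalarTower.algebraMap_eq (CAlg2.red R) (CAlg2.normRed R)
      (FractionRing (CAlg2.red R)), RingHom.coe_comp] at h3
    exact Function.Injective.of_comp h3
  have he : ringExpChar (CAlg2.normRed R ⧸ maximalIdeal (CAlg2.normRed R)) = 1 ∨
      ((ringExpChar (CAlg2.normRed R ⧸ maximalIdeal (CAlg2.normRed R))).Prime ∧
        ((ringExpChar (CAlg2.normRed R ⧸ maximalIdeal (CAlg2.normRed R)) : ℕ) :
          CAlg2.normRed R) ∈ maximalIdeal (CAlg2.normRed R)) := by
    letI : Field (CAlg2.normRed R ⧸ maximalIdeal (CAlg2.normRed R)) := Ideal.Quotient.field _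
    rcases expChar_is_prime_or_one (CAlg2.normRed R ⧸ maximalIdeal (CAlg2.normRed R))
      (ringExpChar (CAlg2.normRed R ⧸ maximalIdeal (CAlg2.normRed R))) with hp | h1
    · right
      refine ⟨hp, ?_⟩
      rw [← Ideal.Quotient.eq_zero_iff_mem, map_natCast]
      exact natCast_eq_zero_of_expChar_prime _ _ hp
    · left
      exact h1
  have hpi' : ∀ r' : CAlg2.normRed R, ∃ (n : ℕ) (r : CAlg2.red R),
      r' ^ ((ringExpChar (CAlg2.normRed R ⧸ maximalIdeal (CAlg2.normRed R))) ^ n) -
        algebraMap (CAlg2.red R) (CAlg2.normRed R) r ∈ maximalIdeal (CAlg2.normRed R) := by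
    intro r'
    obtain ⟨n, r, hr⟩ := hpi (maximalIdeal (CAlg2.normRed R))
      (Ideal.Quotient.mk (maximalIdeal (CAlg2.normRed R)) r')
    refine ⟨n, Ideal.Quotient.mk _ r, ?_⟩
    refine Ideal.Quotient.eq.mp ?_
    rw [RingHom.map_pow]
    exact hr.symm
  exact k (CAlg2.normRed R) hinj _ he hpi'

/-- Étale over a geometrically unibranch local ring (not necessarily reduced): the nilradical of
each local ring at a prime over the maximal ideal is prime (elementwise form). -/
theorem isNilpotent_or_of_etale {R : Type u} [CommRing R] [IsLocalRing R]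
    (h : CAlg2.IsGeomUnibranch R)
    {C : Type u} [CommRing C] [Algebra R C] [Algebra.Etale R C] (Q : Ideal C) [Q.IsPrime]
    (hQ : Q.comap (algebraMap R C) = maximalIdeal R) :
    ∀ a b : Localization.AtPrime Q, IsNilpotent (a * b) → IsNilpotent a ∨ IsNilpotent b := by
  refine of_isGeomUnibranch_red h _ (fun R' _ _ _ _ _ _ hinj e he hpi => ?_)
  haveI : Algebra.Etale (R ⧸ nilradical R) (C ⧸ (nilradical R).map (algebraMap R C)) :=
    Algebra.Etale.of_equiv
      (Algebra.TensorProduct.quotIdealMapEquivQuotTensor C (nilradical R)).symm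
  have hIC : (nilradical R).map (algebraMap R C) ≤ nilradical C := by
    rw [Ideal.map_le_iff_le_comap]
    intro r hr
    exact (mem_nilradical.mp hr).map (algebraMap R C)
  have hIQ : (nilradical R).map (algebraMap R C) ≤ Q :=
    hIC.trans (nilradical_le_prime Q)
  have hker : RingHom.ker (Ideal.Quotient.mk ((nilradical R).map (algebraMap R C))) ≤ Q := by
    rw [Ideal.mk_ker]
    exact hIQ
  haveI hQ₁prime : (Q.map (Ideal.Quotient.mk ((nilradical R).map (algebraMap R C)))).IsPrime :=
    Ideal.map_isPrime_of_surjective Ideal.Quotient.mk_surjective hker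
  have hcomap : (Q.map (Ideal.Quotient.mk ((nilradical R).map (algebraMap R C)))).comap
      (Ideal.Quotient.mk ((nilradical R).map (algebraMap R C))) = Q := by
    rw [Ideal.comap_map_of_surjective _ Ideal.Quotient.mk_surjective, ← RingHom.ker_eq_comap_bot]
    exact sup_eq_left.mpr hker
  have hmax : (maximalIdeal (R ⧸ nilradical R)).comap (Ideal.Quotient.mk (nilradical R)) =
      maximalIdeal R := by
    haveI : ((maximalIdeal (R ⧸ nilradical R)).comap (Ideal.Quotient.mk (nilradical R))).IsMaximal :=
      Ideal.comap_isMaximal_of_surjective _ Ideal.Quotient.mk_surjective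
    exact IsLocalRing.eq_maximalIdeal inferInstance
  have hQ₁ : (Q.map (Ideal.Quotient.mk ((nilradical R).map (algebraMap R C)))).comap
      (algebraMap (R ⧸ nilradical R) (C ⧸ (nilradical R).map (algebraMap R C))) =
      maximalIdeal (R ⧸ nilradical R) := by
    ext r
    obtain ⟨r, rfl⟩ := Ideal.Quotient.mk_surjective r
    rw [Ideal.mem_comap]
    have h1 : algebraMap (R ⧸ nilradical R) (C ⧸ (nilradical R).map (algebraMap R C))
        (Ideal.Quotient.mk _ r) = Ideal.Quotient.mk _ (algebraMap R C r) := rfl
    rw [h1, ← Ideal.mem_comap, hcomap, ← Ideal.mem_comap, hQ, ← Ideal.mem_comap, hmax]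
  haveI hdom : IsDomain (Localization.AtPrime
      (Q.map (Ideal.Quotient.mk ((nilradical R).map (algebraMap R C))))) :=
    isDomain_localization_of_etale R' hinj e he hpi _ hQ₁
  have hle : Q.primeCompl ≤ (Q.map (Ideal.Quotient.mk
      ((nilradical R).map (algebraMap R C)))).primeCompl.comap
      (Ideal.Quotient.mk ((nilradical R).map (algebraMap R C))) := by
    intro s hs hmem
    apply hs
    rw [← hcomap]
    exact hmem
  -- kernel of π consists of nilpotents
  have hkerπ : ∀ z : Localization.AtPrime Q,
      IsLocalization.map (Localization.AtPrime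
        (Q.map (Ideal.Quotient.mk ((nilradical R).map (algebraMap R C)))))
        (Ideal.Quotient.mk ((nilradical R).map (algebraMap R C))) hle z = 0 → IsNilpotent z := by
    intro z hz
    obtain ⟨c, s, rfl⟩ := IsLocalization.exists_mk'_eq Q.primeCompl z
    rw [IsLocalization.map_mk', IsLocalization.mk'_eq_zero_iff] at hz
    obtain ⟨⟨t, ht⟩, htc⟩ := hz
    obtain ⟨t, rfl⟩ := Ideal.Quotient.mk_surjective t
    simp only at htc
    rw [← map_mul, Ideal.Quotient.eq_zero_iff_mem] at htc
    obtain ⟨n, hn⟩ := mem_nilradical.mp (hIC htc)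
    have htQ : t ∉ Q := fun htQ => ht (Ideal.mem_map_of_mem _ htQ)
    refine ⟨n, ?_⟩
    rw [← IsLocalization.mk'_pow, IsLocalization.mk'_eq_zero_iff]
    refine ⟨⟨t ^ n, Q.primeCompl.pow_mem htQ n⟩, ?_⟩
    rw [← mul_pow]
    exact hn
  intro a b hab
  have h1 : IsNilpotent (IsLocalization.map (Localization.AtPrime
      (Q.map (Ideal.Quotient.mk ((nilradical R).map (algebraMap R C)))))
      (Ideal.Quotient.mk ((nilradical R).map (algebraMap R C))) hle (a * b)) := hab.map _
  rw [map_mul] at h1
  have h2 := isNilpotent_iff_eq_zero.mp h1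
  rcases mul_eq_zero.mp h2 with h3 | h3
  · exact Or.inl (hkerπ a h3)
  · exact Or.inr (hkerπ b h3)

end Groth.Agent.Lib.Helper17.UniqueMinimal
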