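import Groth.Agent.Lib.Helper17.WNormMod
import Groth.Agent.Lib.Helper28.PullbackInv2
import Groth.Agent.Lib.Helper28.GenIso
import Groth.Agent.Lib.Helper28.TensorPowGen
import Groth.Agent.Lib.Helper28.AmpleUnit
import Mathlib
set_option backward.isDefEq.respectTransparency.types false
set_option autoImplicit false
universe u
open CategoryTheory CategoryTheory.Limits AlgebraicGeometry Opposite TopologicalSpace

/-!
# Helper17 — WNormPb: norms of sections of an inverse image `π^* L` (copy of `NormPb` for a weak norm)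

For `π : X ⟶ Y` finite with a norm `Nm` of degree `d` and an invertible `O_Y`-module `L`, every global section `s`
of `π^* L` has a norm `t`, a global section of `L^{⊗ d}`, with `π⁻¹(Y_t) ⊆ X_s` and `y ∈ Y_t` whenever `π⁻¹(y) ⊆ X_s`
(the norm module of `π^* L` built in `NormMod` from inverse images of local generators of `L` is `L^{⊗ d}`).
-/

noncomputable section
namespace Groth.Agent.Lib.Helper17.WNormPb

open Groth.Agent.Lib.Helper28 Groth.Agent.Lib.Helper28.QCohLoc Groth.Agent.Lib.Helper28.GenLocus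
open Groth.Agent.Lib.Helper28.PullbackInv
open Groth.Agent.Lib.Helper17 Groth.Agent.Lib.Helper17.WNormMod

variable {X Y : Scheme.{u}} {π : X ⟶ Y} {d : ℕ}

/-- the norm of a global section of `M`, as a section of the norm module built from any trivialising cover -/
theorem normModule_spec [IsFinite π] (Nm : WNorm π d) {ι : Type u} (V : ι → Y.Opens) (M : X.Modules)
    (ℓ : ∀ i, Γ(M, π ⁻¹ᵁ V i)) (hℓ : ∀ i, IsGen M (π ⁻¹ᵁ V i) (ℓ i)) (hcov : ∀ y : Y, ∃ i, y ∈ V i)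
    (s : Coh.structureModule X ⟶ M) :
    ∃ t : Coh.structureModule Y ⟶ NN Nm V M ℓ hℓ,
      (∀ y : Y, π ⁻¹' {y} ⊆ CohB1.genLocus M s → y ∈ CohB1.genLocus _ t) ∧
      (∀ y : Y, y ∈ CohB1.genLocus _ t → ∃ x : X, π.base x = y ∧ x ∈ CohB1.genLocus M s) := by
  let t : Coh.structureModule Y ⟶ NN Nm V M ℓ hℓ :=
    TwistGen.ofSection _ (normSec Nm V M ℓ hℓ (secOf s))
  have ht : ∀ i : ι, CohB1.genLocus _ t ⊓ V i =
      Y.basicOpen (Nm.norm (V i) ((hℓ i).coef le_rfl (res M (le_top : π ⁻¹ᵁ (V i) ≤ ⊤) (secOf s)))) := by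
    intro i
    refine genLocus_inf_eq t (V i) (CocycleMod.gen V _ (eta_cocycle Nm V M ℓ hℓ) i)
      (CocycleMod.isGen_gen V _ (eta_cocycle Nm V M ℓ hℓ) (isUnit_eta Nm V M ℓ hℓ) i) _ ?_
    rw [secOf_ofSection]
    exact res_normSec Nm V M ℓ hℓ (secOf s) i
  have hs : ∀ i : ι, CohB1.genLocus M s ⊓ π ⁻¹ᵁ (V i) =
      X.basicOpen ((hℓ i).coef le_rfl (res M (le_top : π ⁻¹ᵁ (V i) ≤ ⊤) (secOf s))) :=
    fun i => genLocus_inf_eq_coef s (π ⁻¹ᵁ (V i)) (ℓ i) (hℓ i)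
  refine ⟨t, fun y hy => ?_, fun x hx => ?_⟩
  · obtain ⟨i, hyi⟩ := hcov y
    have h1 : π ⁻¹' {y} ⊆
        X.basicOpen ((hℓ i).coef le_rfl (res M (le_top : π ⁻¹ᵁ (V i) ≤ ⊤) (secOf s))) := by
      intro x hx
      rw [← hs i]
      refine ⟨hy hx, ?_⟩
      change π.base x ∈ V i
      rw [show π.base x = y from hx]
      exact hyi
    have h2 := mem_basicOpen_norm Nm (V i) _ y hyi h1
    rw [← ht i] at h2
    exact h2.1
  · obtain ⟨i, hxi⟩ := hcov x
    have h1 : x ∈ CohB1.genLocus _ t ⊓ V i := ⟨hx, hxi⟩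
    rw [ht i] at h1
    obtain ⟨x', hx'y, h2⟩ := Nm.norm_mem (V i) _ x h1
    rw [← hs i] at h2
    exact ⟨x', hx'y, h2.1⟩

/-- **norms of sections of an inverse image** -/
theorem exists_norm_section_pullback [IsFinite π] (Nm : WNorm π d) (L : Y.Modules)
    (hL : PicF.IsInvertible L) (s : Coh.structureModule X ⟶ (Scheme.Modules.pullback π).obj L) :
    ∃ t : Coh.structureModule Y ⟶ CohB1.tensorPow L d,
      (∀ y : Y, π ⁻¹' {y} ⊆ CohB1.genLocus _ s → y ∈ CohB1.genLocus _ t) ∧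
      (∀ y : Y, y ∈ CohB1.genLocus _ t → ∃ x : X, π.base x = y ∧ x ∈ CohB1.genLocus _ s) := by
  choose V e hyV he using exists_isGen L hL
  let M : X.Modules := (Scheme.Modules.pullback π).obj L
  let ℓ : ∀ y : Y, Γ(M, π ⁻¹ᵁ V y) := fun y => pbs π L (V y) (e y)
  have hℓ : ∀ y : Y, IsGen M (π ⁻¹ᵁ V y) (ℓ y) := fun y => isGen_pbs (he y)
  have hcov : ∀ y : Y, ∃ i, y ∈ V i := fun y => ⟨y, hyV y⟩
  obtain ⟨t₀, h1, h2⟩ := normModule_spec Nm V M ℓ hℓ hcov s
  have hcoc : ∀ i j : Y, ∃ u : Γ(Y, V i ⊓ V j),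
      res (NN Nm V M ℓ hℓ) inf_le_left (CocycleMod.gen V _ (eta_cocycle Nm V M ℓ hℓ) i) =
        (u • res (NN Nm V M ℓ hℓ) inf_le_right (CocycleMod.gen V _ (eta_cocycle Nm V M ℓ hℓ) j) :
          Γ(NN Nm V M ℓ hℓ, V i ⊓ V j)) ∧
      res (CohB1.tensorPow L d) inf_le_left (gpow L (e i) d) =
        (u • res (CohB1.tensorPow L d) inf_le_right (gpow L (e j) d) : Γ(CohB1.tensorPow L d, V i ⊓ V j)) := by
    intro i j
    refine ⟨eta Nm V M ℓ hℓ i j, CocycleMod.gen_rel V _ (eta_cocycle Nm V M ℓ hℓ) i j, ?_⟩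
    have hrel : res L (inf_le_left : V i ⊓ V j ≤ V i) (e i) =
        ((he j).coef inf_le_right (res L inf_le_left (e i)) • res L (inf_le_right : V i ⊓ V j ≤ V j) (e j) :
          Γ(L, V i ⊓ V j)) := ((he j).coef_smul _ _).symm
    have hgg : gg V M ℓ hℓ i j = π.app (V i ⊓ V j) ((he j).coef inf_le_right (res L inf_le_left (e i))) := by
      unfold gg
      apply (hℓ j).coef_eq
      have h3 := congrArg (pbs π L (V i ⊓ V j)) hrel
      rw [pbs_smul, pbs_res, pbs_res] at h3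
      exact h3.symm
    rw [gpow_res, gpow_res, hrel, gpow_smul]
    unfold eta
    rw [hgg, Nm.norm_app]
  obtain ⟨ψ, -⟩ := exists_iso_of_cocycle_gen V
    (fun i => CocycleMod.gen V _ (eta_cocycle Nm V M ℓ hℓ) i) (fun i => gpow L (e i) d)
    (fun i => CocycleMod.isGen_gen V _ (eta_cocycle Nm V M ℓ hℓ) (isUnit_eta Nm V M ℓ hℓ) i)
    (fun i => isGen_gpow (he i) d) hcov hcoc
  refine ⟨t₀ ≫ ψ.hom, fun y hy => ?_, fun x hx => ?_⟩
  · rw [AmpleUnit.genLocus_comp_iso]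
    exact h1 y hy
  · rw [AmpleUnit.genLocus_comp_iso] at hx
    exact h2 x hx

end Groth.Agent.Lib.Helper17.WNormPb
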